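import Cfsg.Agent.H1.PCode2

/-!
# Two-local data in the alternating group of degree eight
-/

set_option autoImplicit false
set_option maxRecDepth 100000
set_option linter.unusedSimpArgs false

namespace Cfsg.Agent.H1.A8

open Cfsg.Agent.L0 Cfsg.Agent.L0.Code Equiv Cfsg.Agent.H1.PC

theorem h8 : 8 ≤ 16 := by norm_num
abbrev A8 : Subgroup (Perm (Fin 8)) := alternatingGroup (Fin 8)
/-- The number of moved points. -/
def sp (a : A8) : ℕ := (a : Perm (Fin 8)).support.card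
theorem sp_eq (a : A8) : sp a = supc 8 (enc (a : Perm (Fin 8))) := card_support h8 _

/-- `(4 5)(6 7)` -/
noncomputable def v1 : A8 := ⟨dec 8 0x67453210, dec_mem_alt h8 (by decide +kernel) (by decide +kernel)⟩
theorem enc_v1 : enc (v1 : Perm (Fin 8)) = nat_lit 0x67453210 := enc_dec h8 (by decide +kernel)

/-- `(4 6)(5 7)` -/
noncomputable def v2 : A8 := ⟨dec 8 0x54763210, dec_mem_alt h8 (by decide +kernel) (by decide +kernel)⟩
theorem enc_v2 : enc (v2 : Perm (Fin 8)) = nat_lit 0x54763210 := enc_dec h8 (by decide +kernel)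

/-- `(0 1)(2 3)` -/
noncomputable def w1 : A8 := ⟨dec 8 0x76542301, dec_mem_alt h8 (by decide +kernel) (by decide +kernel)⟩
theorem enc_w1 : enc (w1 : Perm (Fin 8)) = nat_lit 0x76542301 := enc_dec h8 (by decide +kernel)

/-- `(0 2)(1 3)` -/
noncomputable def w2 : A8 := ⟨dec 8 0x76541032, dec_mem_alt h8 (by decide +kernel) (by decide +kernel)⟩
theorem enc_w2 : enc (w2 : Perm (Fin 8)) = nat_lit 0x76541032 := enc_dec h8 (by decide +kernel)

/-- `(0 1 2)` -/
noncomputable def z : A8 := ⟨dec 8 0x76543021, dec_mem_alt h8 (by decide +kernel) (by decide +kernel)⟩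
theorem enc_z : enc (z : Perm (Fin 8)) = nat_lit 0x76543021 := enc_dec h8 (by decide +kernel)

/-- `(0 1)(4 5)` -/
noncomputable def x : A8 := ⟨dec 8 0x76453201, dec_mem_alt h8 (by decide +kernel) (by decide +kernel)⟩
theorem enc_x : enc (x : Perm (Fin 8)) = nat_lit 0x76453201 := enc_dec h8 (by decide +kernel)

/-- `(0 1)(2 3)(4 5)(6 7)` -/
noncomputable def s0 : A8 := ⟨dec 8 0x67452301, dec_mem_alt h8 (by decide +kernel) (by decide +kernel)⟩
theorem enc_s0 : enc (s0 : Perm (Fin 8)) = nat_lit 0x67452301 := enc_dec h8 (by decide +kernel)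

/-- `(0 4)(1 5)(2 6)(3 7)` -/
noncomputable def sg : A8 := ⟨dec 8 0x32107654, dec_mem_alt h8 (by decide +kernel) (by decide +kernel)⟩
theorem enc_sg : enc (sg : Perm (Fin 8)) = nat_lit 0x32107654 := enc_dec h8 (by decide +kernel)

/-- `(0 2 4)(1 3 5)` -/
noncomputable def y0 : A8 := ⟨dec 8 0x76105432, dec_mem_alt h8 (by decide +kernel) (by decide +kernel)⟩
theorem enc_y0 : enc (y0 : Perm (Fin 8)) = nat_lit 0x76105432 := enc_dec h8 (by decide +kernel)

/-- `(5 6 7)` -/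
noncomputable def w : A8 := ⟨dec 8 0x57643210, dec_mem_alt h8 (by decide +kernel) (by decide +kernel)⟩
theorem enc_w : enc (w : Perm (Fin 8)) = nat_lit 0x57643210 := enc_dec h8 (by decide +kernel)

/-- Generators (0 1)(2 3), (0 2)(1 3). -/
def gW0 : List ℕ := [nat_lit 0x76542301, nat_lit 0x76541032]
def LW0 : List ℕ := [
  nat_lit 0x76540123, nat_lit 0x76541032, nat_lit 0x76542301, nat_lit 0x76543210]
/-- A group of order 4. -/
def W0 : Subgroup (Perm (Fin 8)) := cl 8 gW0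
theorem hW0 : Lists W0 LW0 :=
  lists_cl (by norm_num) _ _ (by decide +kernel) (by decide +kernel) (by decide +kernel)
    (by decide +kernel) (by decide +kernel) (by decide +kernel)
theorem card_W0 : Nat.card W0 = 4 := hW0.card_eq.trans (by decide +kernel)

theorem le_W : W0 ≤ A8 := hW0.le_alt (by decide +kernel)
abbrev W : Subgroup A8 := W0.subgroupOf A8
theorem card_W : Nat.card W = 4 := (hW0.card_sub le_W).trans (by decide +kernel)

/-- Generators (4 5)(6 7), (4 6)(5 7). -/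
def gV0 : List ℕ := [nat_lit 0x67453210, nat_lit 0x54763210]
def LV0 : List ℕ := [
  nat_lit 0x45673210, nat_lit 0x54763210, nat_lit 0x67453210, nat_lit 0x76543210]
/-- A group of order 4. -/
def V0 : Subgroup (Perm (Fin 8)) := cl 8 gV0
theorem hV0 : Lists V0 LV0 :=
  lists_cl (by norm_num) _ _ (by decide +kernel) (by decide +kernel) (by decide +kernel)
    (by decide +kernel) (by decide +kernel) (by decide +kernel)
theorem card_V0 : Nat.card V0 = 4 := hV0.card_eq.trans (by decide +kernel)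

theorem le_V : V0 ≤ A8 := hV0.le_alt (by decide +kernel)
abbrev V : Subgroup A8 := V0.subgroupOf A8
theorem card_V : Nat.card V = 4 := (hV0.card_sub le_V).trans (by decide +kernel)

/-- Generators (4 5)(6 7), (4 6)(5 7), (0 1)(2 3), (0 2)(1 3). -/
def gE0 : List ℕ := [nat_lit 0x67453210, nat_lit 0x54763210, nat_lit 0x76542301, nat_lit 0x76541032]
def LE0 : List ℕ := [
  nat_lit 0x45670123, nat_lit 0x54760123, nat_lit 0x67450123, nat_lit 0x45671032,
  nat_lit 0x45672301, nat_lit 0x76540123, nat_lit 0x54761032, nat_lit 0x54762301,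
  nat_lit 0x67451032, nat_lit 0x67452301, nat_lit 0x45673210, nat_lit 0x76541032,
  nat_lit 0x76542301, nat_lit 0x54763210, nat_lit 0x67453210, nat_lit 0x76543210]
/-- A group of order 16. -/
def E0 : Subgroup (Perm (Fin 8)) := cl 8 gE0
theorem hE0 : Lists E0 LE0 :=
  lists_cl (by norm_num) _ _ (by decide +kernel) (by decide +kernel) (by decide +kernel)
    (by decide +kernel) (by decide +kernel) (by decide +kernel)
theorem card_E0 : Nat.card E0 = 16 := hE0.card_eq.trans (by decide +kernel)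

theorem le_E : E0 ≤ A8 := hE0.le_alt (by decide +kernel)
abbrev E : Subgroup A8 := E0.subgroupOf A8
theorem card_E : Nat.card E = 16 := (hE0.card_sub le_E).trans (by decide +kernel)

/-- Generators (4 5)(6 7), (4 6)(5 7), (0 1)(2 3), (0 2)(1 3), (0 1)(4 5). -/
def gT10 : List ℕ := [nat_lit 0x67453210, nat_lit 0x54763210, nat_lit 0x76542301, nat_lit 0x76541032, nat_lit 0x76453201]
def LT10 : List ℕ := [
  nat_lit 0x45670123, nat_lit 0x54671023, nat_lit 0x54670132, nat_lit 0x54672310,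
  nat_lit 0x45761023, nat_lit 0x45760132, nat_lit 0x45762310, nat_lit 0x54760123,
  nat_lit 0x67541023, nat_lit 0x67540132, nat_lit 0x67542310, nat_lit 0x67450123,
  nat_lit 0x45671032, nat_lit 0x45672301, nat_lit 0x76451023, nat_lit 0x54673201,
  nat_lit 0x76450132, nat_lit 0x76452310, nat_lit 0x76540123, nat_lit 0x45763201,
  nat_lit 0x54761032, nat_lit 0x54762301, nat_lit 0x67543201, nat_lit 0x67451032,
  nat_lit 0x67452301, nat_lit 0x45673210, nat_lit 0x76453201, nat_lit 0x76541032,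
  nat_lit 0x76542301, nat_lit 0x54763210, nat_lit 0x67453210, nat_lit 0x76543210]
/-- A group of order 32. -/
def T10 : Subgroup (Perm (Fin 8)) := cl 8 gT10
theorem hT10 : Lists T10 LT10 :=
  lists_cl (by norm_num) _ _ (by decide +kernel) (by decide +kernel) (by decide +kernel)
    (by decide +kernel) (by decide +kernel) (by decide +kernel)
theorem card_T10 : Nat.card T10 = 32 := hT10.card_eq.trans (by decide +kernel)

theorem le_T1 : T10 ≤ A8 := hT10.le_alt (by decide +kernel)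
abbrev T1 : Subgroup A8 := T10.subgroupOf A8
theorem card_T1 : Nat.card T1 = 32 := (hT10.card_sub le_T1).trans (by decide +kernel)

/-- Generators (4 5)(6 7), (4 6)(5 7), (0 1)(2 3), (0 2)(1 3), (0 1)(4 5), (0 4)(1 5)(2 6)(3 7). -/
def gT0 : List ℕ := [nat_lit 0x67453210, nat_lit 0x54763210, nat_lit 0x76542301, nat_lit 0x76541032, nat_lit 0x76453201, nat_lit 0x32107654]
def LT0 : List ℕ := [
  nat_lit 0x01234567, nat_lit 0x10235467, nat_lit 0x10234576, nat_lit 0x10236754,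
  nat_lit 0x01325467, nat_lit 0x01324576, nat_lit 0x01326754, nat_lit 0x10324567,
  nat_lit 0x23105467, nat_lit 0x23104576, nat_lit 0x23106754, nat_lit 0x23014567,
  nat_lit 0x01235476, nat_lit 0x01236745, nat_lit 0x45670123, nat_lit 0x32015467,
  nat_lit 0x10237645, nat_lit 0x54671023, nat_lit 0x32014576, nat_lit 0x54670132,
  nat_lit 0x32016754, nat_lit 0x54672310, nat_lit 0x32104567, nat_lit 0x01327645,
  nat_lit 0x45761023, nat_lit 0x10325476, nat_lit 0x45760132, nat_lit 0x10326745,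
  nat_lit 0x45762310, nat_lit 0x54760123, nat_lit 0x23107645, nat_lit 0x67541023,
  nat_lit 0x23015476, nat_lit 0x67540132, nat_lit 0x23016745, nat_lit 0x67542310,
  nat_lit 0x67450123, nat_lit 0x01237654, nat_lit 0x45671032, nat_lit 0x45672301,
  nat_lit 0x32017645, nat_lit 0x76451023, nat_lit 0x54673201, nat_lit 0x32105476,
  nat_lit 0x76450132, nat_lit 0x32106745, nat_lit 0x76452310, nat_lit 0x76540123,
  nat_lit 0x10327654, nat_lit 0x45763201, nat_lit 0x54761032, nat_lit 0x54762301,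
  nat_lit 0x23017654, nat_lit 0x67543201, nat_lit 0x67451032, nat_lit 0x67452301,
  nat_lit 0x45673210, nat_lit 0x32107654, nat_lit 0x76453201, nat_lit 0x76541032,
  nat_lit 0x76542301, nat_lit 0x54763210, nat_lit 0x67453210, nat_lit 0x76543210]
/-- A group of order 64. -/
def T0 : Subgroup (Perm (Fin 8)) := cl 8 gT0
theorem hT0 : Lists T0 LT0 :=
  lists_cl (by norm_num) _ _ (by decide +kernel) (by decide +kernel) (by decide +kernel)
    (by decide +kernel) (by decide +kernel) (by decide +kernel)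
theorem card_T0 : Nat.card T0 = 64 := hT0.card_eq.trans (by decide +kernel)

theorem le_T : T0 ≤ A8 := hT0.le_alt (by decide +kernel)
abbrev T : Subgroup A8 := T0.subgroupOf A8
theorem card_T : Nat.card T = 64 := (hT0.card_sub le_T).trans (by decide +kernel)

theorem f_sp : sp v1 = 4 ∧ sp s0 = 8 ∧ sp v2 = 4 ∧ sp (v1 * v2) = 4 ∧ sp w1 = 4 ∧ sp (w1 * v1) = 8 ∧
    sp (v1 * w1) = 8 ∧ sp (v2 * w1) = 8 := by
  simp +contextual only [
    ne_eq, Subtype.ext_iff, Subgroup.coe_mul, Subgroup.coe_inv, Subgroup.coe_pow,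
    Subgroup.coe_one, Subgroup.mem_subgroupOf, eq_iff_enc h8, enc_mul h8, enc_inv h8, enc_one',
    enc_pow h8 enc_one', sp_eq, exists_prop, enc_v1, enc_v2, enc_w1, enc_s0]
  decide +kernel

theorem f_rel : v1 * v1 = 1 ∧ v2 * v2 = 1 ∧ w1 * w1 = 1 ∧ s0 * s0 = 1 ∧ v1 * v2 = v2 * v1 ∧ v1 * w1 = w1 * v1 ∧
    v2 * w1 = w1 * v2 ∧ x * v1 = v1 * x ∧ x * v2 ≠ v2 * x ∧ v1 ≠ 1 ∧ s0 ≠ 1 ∧ v2 ≠ 1 ∧ v2 ≠ v1 := by
  simp +contextual only [
    ne_eq, Subtype.ext_iff, Subgroup.coe_mul, Subgroup.coe_inv, Subgroup.coe_pow,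
    Subgroup.coe_one, Subgroup.mem_subgroupOf, eq_iff_enc h8, enc_mul h8, enc_inv h8, enc_one',
    enc_pow h8 enc_one', sp_eq, exists_prop, enc_v1, enc_v2, enc_w1, enc_x, enc_s0]
  decide +kernel

theorem f_rel2 : z ^ 3 = 1 ∧ y0 ^ 3 = 1 ∧ y0 ≠ 1 ∧ y0 * s0 = s0 * y0 ∧ z * v1 = v1 * z ∧
    sg * w1 * sg⁻¹ = v1 ∧ sg * w2 * sg⁻¹ = v2 ∧ sg * v1 * sg⁻¹ = w1 ∧ x * (v1 * v2) * x⁻¹ = v2 ∧ s0 = v1 * w1 ∧
    w1 * z * w1⁻¹ * z⁻¹ ≠ 1 ∧ (w1 * z * w1⁻¹ * z⁻¹) ^ 2 = 1 ∧ w ^ 3 = 1 := by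
  simp +contextual only [
    ne_eq, Subtype.ext_iff, Subgroup.coe_mul, Subgroup.coe_inv, Subgroup.coe_pow,
    Subgroup.coe_one, Subgroup.mem_subgroupOf, eq_iff_enc h8, enc_mul h8, enc_inv h8, enc_one',
    enc_pow h8 enc_one', sp_eq, exists_prop, enc_v1, enc_v2, enc_w1, enc_w2, enc_z, enc_x,
    enc_s0, enc_sg, enc_y0, enc_w]
  decide +kernel

theorem f_mem : v1 ∈ T ∧ v2 ∈ T ∧ w1 ∈ T ∧ x ∈ T ∧ v1 ∈ V ∧ v2 ∈ V ∧ w1 ∈ W ∧ w2 ∈ W ∧ v1 ∈ T1 := by
  simp +contextual only [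
    ne_eq, Subtype.ext_iff, Subgroup.coe_mul, Subgroup.coe_inv, Subgroup.coe_pow,
    Subgroup.coe_one, Subgroup.mem_subgroupOf, eq_iff_enc h8, enc_mul h8, enc_inv h8, enc_one',
    enc_pow h8 enc_one', sp_eq, exists_prop, hW0.encd, hV0.encd, hT10.encd, hT0.encd,
    hW0.mem_memF, hV0.mem_memF, hT10.mem_memF, hT0.mem_memF, enc_v1, enc_v2, enc_w1, enc_w2, enc_x]
  decide +kernel

theorem f_T : ∀ a ∈ T, sp a = 4 → ∀ b ∈ T, sp b = 4 → a * b = b * a → sp (a * b) = 4 →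
    ∀ c ∈ T, sp (a * c) = 8 → sp (b * c) = 8 → sp c = 4 → ∀ e ∈ T, e * a = a * e → e * b ≠ b * e →
    ∃ t ∈ T, t * a * t⁻¹ = v1 ∧ t * b * t⁻¹ = v2 := by
  simp only [hT0.sball le_T, hT0.sbex le_T]
  simp +contextual only [
    ne_eq, Subtype.ext_iff, Subgroup.coe_mul, Subgroup.coe_inv, Subgroup.coe_pow,
    Subgroup.coe_one, Subgroup.mem_subgroupOf, eq_iff_enc h8, enc_mul h8, enc_inv h8, enc_one',
    enc_pow h8 enc_one', sp_eq, exists_prop, hT0.encd, hT0.mem_memF, enc_v1, enc_v2]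
  decide +kernel

theorem f_C : ∀ a ∈ T, sp a = 4 → ∃ b ∈ T, a * b ≠ b * a := by
  simp only [hT0.sball le_T, hT0.sbex le_T]
  simp +contextual only [
    ne_eq, Subtype.ext_iff, Subgroup.coe_mul, Subgroup.coe_inv, Subgroup.coe_pow,
    Subgroup.coe_one, Subgroup.mem_subgroupOf, eq_iff_enc h8, enc_mul h8, enc_inv h8, enc_one',
    enc_pow h8 enc_one', sp_eq, exists_prop, hT0.encd, hT0.mem_memF]
  decide +kernel

theorem f_K1 : ∀ a ∈ T1, a * a = 1 → sp a = 4 → sp (v1 * a) = 4 →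
    a = v2 ∨ a = v1 * v2 ∨ (w1 * a = a * w1 ∧ sp (w1 * a) = 4) := by
  simp only [hT10.sball le_T1]
  simp +contextual only [
    ne_eq, Subtype.ext_iff, Subgroup.coe_mul, Subgroup.coe_inv, Subgroup.coe_pow,
    Subgroup.coe_one, Subgroup.mem_subgroupOf, eq_iff_enc h8, enc_mul h8, enc_inv h8, enc_one',
    enc_pow h8 enc_one', sp_eq, exists_prop, hT10.encd, hT10.mem_memF, enc_v1, enc_v2, enc_w1]
  decide +kernel

theorem f_K2 : ∀ b ∈ E, sp b = 4 → sp (b * v2) = 4 → sp (b * v1) ≠ 8 := by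
  simp only [hE0.sball le_E]
  simp +contextual only [
    ne_eq, Subtype.ext_iff, Subgroup.coe_mul, Subgroup.coe_inv, Subgroup.coe_pow,
    Subgroup.coe_one, Subgroup.mem_subgroupOf, eq_iff_enc h8, enc_mul h8, enc_inv h8, enc_one',
    enc_pow h8 enc_one', sp_eq, exists_prop, hE0.encd, hE0.mem_memF, enc_v1, enc_v2]
  decide +kernel

theorem f_E : ∀ b ∈ E, b ∈ T ∧ b * v1 = v1 * b ∧ b * v2 = v2 * b := by
  simp only [hE0.sball le_E]
  simp +contextual only [
    ne_eq, Subtype.ext_iff, Subgroup.coe_mul, Subgroup.coe_inv, Subgroup.coe_pow,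
    Subgroup.coe_one, Subgroup.mem_subgroupOf, eq_iff_enc h8, enc_mul h8, enc_inv h8, enc_one',
    enc_pow h8 enc_one', sp_eq, exists_prop, hE0.encd, hT0.encd, hE0.mem_memF, hT0.mem_memF,
    enc_v1, enc_v2]
  decide +kernel

theorem f_T1 : ∀ b ∈ T1, b * v1 = v1 * b := by
  simp only [hT10.sball le_T1]
  simp +contextual only [
    ne_eq, Subtype.ext_iff, Subgroup.coe_mul, Subgroup.coe_inv, Subgroup.coe_pow,
    Subgroup.coe_one, Subgroup.mem_subgroupOf, eq_iff_enc h8, enc_mul h8, enc_inv h8, enc_one',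
    enc_pow h8 enc_one', sp_eq, exists_prop, hT10.encd, hT10.mem_memF, enc_v1]
  decide +kernel

theorem f_Ts : ∀ b ∈ T, b * s0 = s0 * b := by
  simp only [hT0.sball le_T]
  simp +contextual only [
    ne_eq, Subtype.ext_iff, Subgroup.coe_mul, Subgroup.coe_inv, Subgroup.coe_pow,
    Subgroup.coe_one, Subgroup.mem_subgroupOf, eq_iff_enc h8, enc_mul h8, enc_inv h8, enc_one',
    enc_pow h8 enc_one', sp_eq, exists_prop, hT0.encd, hT0.mem_memF, enc_s0]
  decide +kernel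

theorem f_W : ∀ b ∈ W, b * v1 = v1 * b ∧ z * b * z⁻¹ ∈ W ∧ (b * z = z * b → b = 1) := by
  simp only [hW0.sball le_W]
  simp +contextual only [
    ne_eq, Subtype.ext_iff, Subgroup.coe_mul, Subgroup.coe_inv, Subgroup.coe_pow,
    Subgroup.coe_one, Subgroup.mem_subgroupOf, eq_iff_enc h8, enc_mul h8, enc_inv h8, enc_one',
    enc_pow h8 enc_one', sp_eq, exists_prop, hW0.encd, hW0.mem_memF, enc_v1, enc_z]
  decide +kernel

theorem f_V : ∀ b ∈ V, b * s0 = s0 * b ∧ b * b = 1 ∧ (∀ a ∈ V, a * b = b * a) ∧ (b = 1 ∨ b = v1 ∨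
    (w * b * w⁻¹ = v1 ∧ (w * v1 * w⁻¹ = v2 ∨ w * v1 * w⁻¹ = v1 * v2)) ∨
    (w⁻¹ * b * w⁻¹⁻¹ = v1 ∧ (w⁻¹ * v1 * w⁻¹⁻¹ = v2 ∨ w⁻¹ * v1 * w⁻¹⁻¹ = v1 * v2))) := by
  simp only [hV0.sball le_V]
  simp +contextual only [
    ne_eq, Subtype.ext_iff, Subgroup.coe_mul, Subgroup.coe_inv, Subgroup.coe_pow,
    Subgroup.coe_one, Subgroup.mem_subgroupOf, eq_iff_enc h8, enc_mul h8, enc_inv h8, enc_one',
    enc_pow h8 enc_one', sp_eq, exists_prop, hV0.encd, hV0.mem_memF, enc_v1, enc_v2, enc_s0, enc_w]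
  decide +kernel

theorem odd01 : dec 8 0x76543201 ∉ A8 ∧ dec 8 0x76543201 * v1 = v1 * dec 8 0x76543201 ∧
    dec 8 0x76543201 * s0 = s0 * dec 8 0x76543201 := by
  simp only [mem_alt_iff h8, eq_iff_enc h8, enc_mul h8, enc_v1, enc_s0,
    enc_dec (c := 0x76543201) h8 (by decide +kernel)]
  decide +kernel

end Cfsg.Agent.H1.A8
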