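import Cfsg.Agent.H1.A8Data

/-!
# Three-local data in the alternating group of degree eight
-/

set_option autoImplicit false
set_option maxRecDepth 100000
set_option linter.unusedSimpArgs false

namespace Cfsg.Agent.H1.A8

open Cfsg.Agent.L0 Cfsg.Agent.L0.Code Equiv Cfsg.Agent.H1.PC

/-- `(0 1 2)(5 6 7)` -/
noncomputable def y : A8 := ⟨dec 8 0x57643021, dec_mem_alt h8 (by decide +kernel) (by decide +kernel)⟩
theorem enc_y : enc (y : Perm (Fin 8)) = nat_lit 0x57643021 := enc_dec h8 (by decide +kernel)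

/-- `(0 5)(1 6)(2 7)(3 4)` -/
noncomputable def tau : A8 := ⟨dec 8 0x21034765, dec_mem_alt h8 (by decide +kernel) (by decide +kernel)⟩
theorem enc_tau : enc (tau : Perm (Fin 8)) = nat_lit 0x21034765 := enc_dec h8 (by decide +kernel)

/-- `(3 4 5 6 7)` -/
noncomputable def a5 : A8 := ⟨dec 8 0x37654210, dec_mem_alt h8 (by decide +kernel) (by decide +kernel)⟩
theorem enc_a5 : enc (a5 : Perm (Fin 8)) = nat_lit 0x37654210 := enc_dec h8 (by decide +kernel)

/-- `(1 5 7 3 6 4 2)` -/
noncomputable def uy : A8 := ⟨dec 8 0x34726150, dec_mem_alt h8 (by decide +kernel) (by decide +kernel)⟩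
theorem enc_uy : enc (uy : Perm (Fin 8)) = nat_lit 0x34726150 := enc_dec h8 (by decide +kernel)

/-- Generators (0 1 2), (0 1)(3 4), (0 1)(4 5), (0 1)(5 6), (0 1)(6 7). -/
def gK10 : List ℕ := [nat_lit 0x76543021, nat_lit 0x76534201, nat_lit 0x76453201, nat_lit 0x75643201, nat_lit 0x67543201]
def LK10 : List ℕ := [
  nat_lit 0x34567102, nat_lit 0x34567021, nat_lit 0x34576012, nat_lit 0x34567210,
  nat_lit 0x34657012, nat_lit 0x35467012, nat_lit 0x43567012, nat_lit 0x34576120,
  nat_lit 0x34657120, nat_lit 0x35467120, nat_lit 0x43567120, nat_lit 0x34576201,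
  nat_lit 0x34675102, nat_lit 0x35476102, nat_lit 0x43576102, nat_lit 0x34657201,
  nat_lit 0x35467201, nat_lit 0x43567201, nat_lit 0x34756102, nat_lit 0x35647102,
  nat_lit 0x43657102, nat_lit 0x36457102, nat_lit 0x45367102, nat_lit 0x53467102,
  nat_lit 0x34675021, nat_lit 0x35476021, nat_lit 0x43576021, nat_lit 0x34756021,
  nat_lit 0x35647021, nat_lit 0x43657021, nat_lit 0x36457021, nat_lit 0x45367021,
  nat_lit 0x53467021, nat_lit 0x34765012, nat_lit 0x34675210, nat_lit 0x35476210,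
  nat_lit 0x43576210, nat_lit 0x35674012, nat_lit 0x43675012, nat_lit 0x36475012,
  nat_lit 0x45376012, nat_lit 0x53476012, nat_lit 0x34756210, nat_lit 0x35647210,
  nat_lit 0x43657210, nat_lit 0x36457210, nat_lit 0x45367210, nat_lit 0x53467210,
  nat_lit 0x35746012, nat_lit 0x43756012, nat_lit 0x36547012, nat_lit 0x45637012,
  nat_lit 0x53647012, nat_lit 0x37456012, nat_lit 0x46357012, nat_lit 0x54367012,
  nat_lit 0x63457012, nat_lit 0x34765120, nat_lit 0x35674120, nat_lit 0x43675120,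
  nat_lit 0x36475120, nat_lit 0x45376120, nat_lit 0x53476120, nat_lit 0x35746120,
  nat_lit 0x43756120, nat_lit 0x36547120, nat_lit 0x45637120, nat_lit 0x53647120,
  nat_lit 0x37456120, nat_lit 0x46357120, nat_lit 0x54367120, nat_lit 0x63457120,
  nat_lit 0x34765201, nat_lit 0x35764102, nat_lit 0x43765102, nat_lit 0x35674201,
  nat_lit 0x43675201, nat_lit 0x36475201, nat_lit 0x45376201, nat_lit 0x53476201,
  nat_lit 0x36574102, nat_lit 0x45673102, nat_lit 0x53674102, nat_lit 0x37465102,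
  nat_lit 0x46375102, nat_lit 0x54376102, nat_lit 0x63475102, nat_lit 0x35746201,
  nat_lit 0x43756201, nat_lit 0x36547201, nat_lit 0x45637201, nat_lit 0x53647201,
  nat_lit 0x37456201, nat_lit 0x46357201, nat_lit 0x54367201, nat_lit 0x63457201,
  nat_lit 0x36745102, nat_lit 0x45736102, nat_lit 0x53746102, nat_lit 0x37546102,
  nat_lit 0x46537102, nat_lit 0x54637102, nat_lit 0x63547102, nat_lit 0x47356102,
  nat_lit 0x56347102, nat_lit 0x64357102, nat_lit 0x73456102, nat_lit 0x35764021,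
  nat_lit 0x43765021, nat_lit 0x36574021, nat_lit 0x45673021, nat_lit 0x53674021,
  nat_lit 0x37465021, nat_lit 0x46375021, nat_lit 0x54376021, nat_lit 0x63475021,
  nat_lit 0x36745021, nat_lit 0x45736021, nat_lit 0x53746021, nat_lit 0x37546021,
  nat_lit 0x46537021, nat_lit 0x54637021, nat_lit 0x63547021, nat_lit 0x47356021,
  nat_lit 0x56347021, nat_lit 0x64357021, nat_lit 0x73456021, nat_lit 0x35764210,
  nat_lit 0x43765210, nat_lit 0x36754012, nat_lit 0x45763012, nat_lit 0x53764012,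
  nat_lit 0x36574210, nat_lit 0x45673210, nat_lit 0x53674210, nat_lit 0x37465210,
  nat_lit 0x46375210, nat_lit 0x54376210, nat_lit 0x63475210, nat_lit 0x37564012,
  nat_lit 0x46573012, nat_lit 0x54673012, nat_lit 0x63574012, nat_lit 0x47365012,
  nat_lit 0x56374012, nat_lit 0x64375012, nat_lit 0x73465012, nat_lit 0x36745210,
  nat_lit 0x45736210, nat_lit 0x53746210, nat_lit 0x37546210, nat_lit 0x46537210,
  nat_lit 0x54637210, nat_lit 0x63547210, nat_lit 0x47356210, nat_lit 0x56347210,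
  nat_lit 0x64357210, nat_lit 0x73456210, nat_lit 0x37645012, nat_lit 0x46735012,
  nat_lit 0x54736012, nat_lit 0x63745012, nat_lit 0x47536012, nat_lit 0x56437012,
  nat_lit 0x64537012, nat_lit 0x73546012, nat_lit 0x57346012, nat_lit 0x65347012,
  nat_lit 0x74356012, nat_lit 0x36754120, nat_lit 0x45763120, nat_lit 0x53764120,
  nat_lit 0x37564120, nat_lit 0x46573120, nat_lit 0x54673120, nat_lit 0x63574120,
  nat_lit 0x47365120, nat_lit 0x56374120, nat_lit 0x64375120, nat_lit 0x73465120,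
  nat_lit 0x37645120, nat_lit 0x46735120, nat_lit 0x54736120, nat_lit 0x63745120,
  nat_lit 0x47536120, nat_lit 0x56437120, nat_lit 0x64537120, nat_lit 0x73546120,
  nat_lit 0x57346120, nat_lit 0x65347120, nat_lit 0x74356120, nat_lit 0x37654102,
  nat_lit 0x36754201, nat_lit 0x45763201, nat_lit 0x53764201, nat_lit 0x46753102,
  nat_lit 0x54763102, nat_lit 0x63754102, nat_lit 0x37564201, nat_lit 0x46573201,
  nat_lit 0x54673201, nat_lit 0x63574201, nat_lit 0x47365201, nat_lit 0x56374201,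
  nat_lit 0x64375201, nat_lit 0x73465201, nat_lit 0x47563102, nat_lit 0x56473102,
  nat_lit 0x64573102, nat_lit 0x73564102, nat_lit 0x57364102, nat_lit 0x65374102,
  nat_lit 0x74365102, nat_lit 0x37645201, nat_lit 0x46735201, nat_lit 0x54736201,
  nat_lit 0x63745201, nat_lit 0x47536201, nat_lit 0x56437201, nat_lit 0x64537201,
  nat_lit 0x73546201, nat_lit 0x57346201, nat_lit 0x65347201, nat_lit 0x74356201,
  nat_lit 0x47635102, nat_lit 0x56734102, nat_lit 0x64735102, nat_lit 0x73645102,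
  nat_lit 0x57436102, nat_lit 0x65437102, nat_lit 0x74536102, nat_lit 0x67345102,
  nat_lit 0x75346102, nat_lit 0x37654021, nat_lit 0x46753021, nat_lit 0x54763021,
  nat_lit 0x63754021, nat_lit 0x47563021, nat_lit 0x56473021, nat_lit 0x64573021,
  nat_lit 0x73564021, nat_lit 0x57364021, nat_lit 0x65374021, nat_lit 0x74365021,
  nat_lit 0x47635021, nat_lit 0x56734021, nat_lit 0x64735021, nat_lit 0x73645021,
  nat_lit 0x57436021, nat_lit 0x65437021, nat_lit 0x74536021, nat_lit 0x67345021,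
  nat_lit 0x75346021, nat_lit 0x37654210, nat_lit 0x47653012, nat_lit 0x46753210,
  nat_lit 0x54763210, nat_lit 0x63754210, nat_lit 0x56743012, nat_lit 0x64753012,
  nat_lit 0x73654012, nat_lit 0x47563210, nat_lit 0x56473210, nat_lit 0x64573210,
  nat_lit 0x73564210, nat_lit 0x57364210, nat_lit 0x65374210, nat_lit 0x74365210,
  nat_lit 0x57463012, nat_lit 0x65473012, nat_lit 0x74563012, nat_lit 0x67354012,
  nat_lit 0x75364012, nat_lit 0x47635210, nat_lit 0x56734210, nat_lit 0x64735210,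
  nat_lit 0x73645210, nat_lit 0x57436210, nat_lit 0x65437210, nat_lit 0x74536210,
  nat_lit 0x67345210, nat_lit 0x75346210, nat_lit 0x57634012, nat_lit 0x65734012,
  nat_lit 0x74635012, nat_lit 0x67435012, nat_lit 0x75436012, nat_lit 0x76345012,
  nat_lit 0x47653120, nat_lit 0x56743120, nat_lit 0x64753120, nat_lit 0x73654120,
  nat_lit 0x57463120, nat_lit 0x65473120, nat_lit 0x74563120, nat_lit 0x67354120,
  nat_lit 0x75364120, nat_lit 0x57634120, nat_lit 0x65734120, nat_lit 0x74635120,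
  nat_lit 0x67435120, nat_lit 0x75436120, nat_lit 0x76345120, nat_lit 0x47653201,
  nat_lit 0x57643102, nat_lit 0x56743201, nat_lit 0x64753201, nat_lit 0x73654201,
  nat_lit 0x65743102, nat_lit 0x74653102, nat_lit 0x57463201, nat_lit 0x65473201,
  nat_lit 0x74563201, nat_lit 0x67354201, nat_lit 0x75364201, nat_lit 0x67453102,
  nat_lit 0x75463102, nat_lit 0x76354102, nat_lit 0x57634201, nat_lit 0x65734201,
  nat_lit 0x74635201, nat_lit 0x67435201, nat_lit 0x75436201, nat_lit 0x76345201,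
  nat_lit 0x67534102, nat_lit 0x75634102, nat_lit 0x76435102, nat_lit 0x57643021,
  nat_lit 0x65743021, nat_lit 0x74653021, nat_lit 0x67453021, nat_lit 0x75463021,
  nat_lit 0x76354021, nat_lit 0x67534021, nat_lit 0x75634021, nat_lit 0x76435021,
  nat_lit 0x57643210, nat_lit 0x67543012, nat_lit 0x65743210, nat_lit 0x74653210,
  nat_lit 0x75643012, nat_lit 0x67453210, nat_lit 0x75463210, nat_lit 0x76354210,
  nat_lit 0x76453012, nat_lit 0x67534210, nat_lit 0x75634210, nat_lit 0x76435210,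
  nat_lit 0x76534012, nat_lit 0x67543120, nat_lit 0x75643120, nat_lit 0x76453120,
  nat_lit 0x76534120, nat_lit 0x76543102, nat_lit 0x67543201, nat_lit 0x75643201,
  nat_lit 0x76453201, nat_lit 0x76534201, nat_lit 0x76543021, nat_lit 0x76543210]
/-- A group of order 360. -/
def K10 : Subgroup (Perm (Fin 8)) := cl 8 gK10
theorem hK10 : Lists K10 LK10 :=
  lists_cl (by norm_num) _ _ (by decide +kernel) (by decide +kernel) (by decide +kernel)
    (by decide +kernel) (by decide +kernel) (by decide +kernel)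
theorem card_K10 : Nat.card K10 = 360 := hK10.card_eq.trans (by decide +kernel)

theorem le_K1 : K10 ≤ A8 := hK10.le_alt (by decide +kernel)
abbrev K1 : Subgroup A8 := K10.subgroupOf A8
theorem card_K1 : Nat.card K1 = 360 := (hK10.card_sub le_K1).trans (by decide +kernel)

/-- Generators (0 1 2), (5 6 7). -/
def gD0 : List ℕ := [nat_lit 0x76543021, nat_lit 0x57643210]
def LD0 : List ℕ := [
  nat_lit 0x65743102, nat_lit 0x65743021, nat_lit 0x57643102, nat_lit 0x65743210,
  nat_lit 0x57643021, nat_lit 0x76543102, nat_lit 0x57643210, nat_lit 0x76543021,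
  nat_lit 0x76543210]
/-- A group of order 9. -/
def D0 : Subgroup (Perm (Fin 8)) := cl 8 gD0
theorem hD0 : Lists D0 LD0 :=
  lists_cl (by norm_num) _ _ (by decide +kernel) (by decide +kernel) (by decide +kernel)
    (by decide +kernel) (by decide +kernel) (by decide +kernel)
theorem card_D0 : Nat.card D0 = 9 := hD0.card_eq.trans (by decide +kernel)

theorem le_D : D0 ≤ A8 := hD0.le_alt (by decide +kernel)
abbrev D : Subgroup A8 := D0.subgroupOf A8
theorem card_D : Nat.card D = 9 := (hD0.card_sub le_D).trans (by decide +kernel)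

/-- Generators (0 1 2), (5 6 7), (3 4)(5 6), (0 1)(3 4), (0 5)(1 6)(2 7)(3 4). -/
def gND0 : List ℕ := [nat_lit 0x76543021, nat_lit 0x57643210, nat_lit 0x75634210, nat_lit 0x76534201, nat_lit 0x21034765]
def LND0 : List ℕ := [
  nat_lit 0x01234567, nat_lit 0x12034567, nat_lit 0x10243567, nat_lit 0x01234675,
  nat_lit 0x12034675, nat_lit 0x10243675, nat_lit 0x01243657, nat_lit 0x12043657,
  nat_lit 0x10234657, nat_lit 0x20134567, nat_lit 0x01234756, nat_lit 0x56743012,
  nat_lit 0x02143567, nat_lit 0x12034756, nat_lit 0x67543012, nat_lit 0x10243756,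
  nat_lit 0x65734012, nat_lit 0x20134675, nat_lit 0x01243576, nat_lit 0x56743120,
  nat_lit 0x02143675, nat_lit 0x12043576, nat_lit 0x67543120, nat_lit 0x10234576,
  nat_lit 0x65734120, nat_lit 0x20143657, nat_lit 0x56734102, nat_lit 0x02134657,
  nat_lit 0x67534102, nat_lit 0x65743102, nat_lit 0x21043567, nat_lit 0x20134756,
  nat_lit 0x75643012, nat_lit 0x01243765, nat_lit 0x56743201, nat_lit 0x02143756,
  nat_lit 0x57634012, nat_lit 0x12043765, nat_lit 0x67543201, nat_lit 0x10234765,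
  nat_lit 0x65734201, nat_lit 0x21043675, nat_lit 0x20143576, nat_lit 0x75643120,
  nat_lit 0x56734021, nat_lit 0x02134576, nat_lit 0x57634120, nat_lit 0x67534021,
  nat_lit 0x65743021, nat_lit 0x21034657, nat_lit 0x75634102, nat_lit 0x57643102,
  nat_lit 0x21043756, nat_lit 0x76534012, nat_lit 0x20143765, nat_lit 0x75643201,
  nat_lit 0x56734210, nat_lit 0x02134765, nat_lit 0x57634201, nat_lit 0x67534210,
  nat_lit 0x65743210, nat_lit 0x21034576, nat_lit 0x76534120, nat_lit 0x75634021,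
  nat_lit 0x57643021, nat_lit 0x76543102, nat_lit 0x21034765, nat_lit 0x76534201,
  nat_lit 0x75634210, nat_lit 0x57643210, nat_lit 0x76543021, nat_lit 0x76543210]
/-- A group of order 72. -/
def ND0 : Subgroup (Perm (Fin 8)) := cl 8 gND0
theorem hND0 : Lists ND0 LND0 :=
  lists_cl (by norm_num) _ _ (by decide +kernel) (by decide +kernel) (by decide +kernel)
    (by decide +kernel) (by decide +kernel) (by decide +kernel)
theorem card_ND0 : Nat.card ND0 = 72 := hND0.card_eq.trans (by decide +kernel)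

theorem le_ND : ND0 ≤ A8 := hND0.le_alt (by decide +kernel)
abbrev ND : Subgroup A8 := ND0.subgroupOf A8
theorem card_ND : Nat.card ND = 72 := (hND0.card_sub le_ND).trans (by decide +kernel)

/-- Generators (4 5)(6 7), (4 6)(5 7), (0 1)(2 3), (0 2)(1 3), (0 1 2). -/
def gCV0 : List ℕ := [nat_lit 0x67453210, nat_lit 0x54763210, nat_lit 0x76542301, nat_lit 0x76541032, nat_lit 0x76543021]
def LCV0 : List ℕ := [
  nat_lit 0x45672013, nat_lit 0x45670231, nat_lit 0x45671320, nat_lit 0x54762013,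
  nat_lit 0x54760231, nat_lit 0x54761320, nat_lit 0x67452013, nat_lit 0x67450231,
  nat_lit 0x67451320, nat_lit 0x45673102, nat_lit 0x45671203, nat_lit 0x45672130,
  nat_lit 0x45670312, nat_lit 0x45670123, nat_lit 0x76542013, nat_lit 0x76540231,
  nat_lit 0x76541320, nat_lit 0x54763102, nat_lit 0x54761203, nat_lit 0x54762130,
  nat_lit 0x54760312, nat_lit 0x54760123, nat_lit 0x67453102, nat_lit 0x67451203,
  nat_lit 0x67452130, nat_lit 0x67450312, nat_lit 0x67450123, nat_lit 0x45673021,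
  nat_lit 0x45671032, nat_lit 0x45672301, nat_lit 0x76543102, nat_lit 0x76541203,
  nat_lit 0x76542130, nat_lit 0x76540312, nat_lit 0x76540123, nat_lit 0x54763021,
  nat_lit 0x54761032, nat_lit 0x54762301, nat_lit 0x67453021, nat_lit 0x67451032,
  nat_lit 0x67452301, nat_lit 0x45673210, nat_lit 0x76543021, nat_lit 0x76541032,
  nat_lit 0x76542301, nat_lit 0x54763210, nat_lit 0x67453210, nat_lit 0x76543210]
/-- A group of order 48. -/
def CV0 : Subgroup (Perm (Fin 8)) := cl 8 gCV0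
theorem hCV0 : Lists CV0 LCV0 :=
  lists_cl (by norm_num) _ _ (by decide +kernel) (by decide +kernel) (by decide +kernel)
    (by decide +kernel) (by decide +kernel) (by decide +kernel)
theorem card_CV0 : Nat.card CV0 = 48 := hCV0.card_eq.trans (by decide +kernel)

theorem le_CV : CV0 ≤ A8 := hCV0.le_alt (by decide +kernel)
abbrev CV : Subgroup A8 := CV0.subgroupOf A8
theorem card_CV : Nat.card CV = 48 := (hCV0.card_sub le_CV).trans (by decide +kernel)

theorem g_rel : uy * y0 * uy⁻¹ = y ∧ uy * s0 * uy⁻¹ = tau ∧ a5 * z = z * a5 ∧ a5 ^ 5 = 1 ∧ a5 ≠ 1 ∧ z ≠ 1 ∧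
    z * v2 = v2 * z ∧ z * w = w * z ∧ z ∈ D ∧ w ∈ D ∧ y ^ 3 = 1 ∧ tau * z * tau⁻¹ = w ∧ z ∈ CV := by
  simp +contextual only [
    ne_eq, Subtype.ext_iff, Subgroup.coe_mul, Subgroup.coe_inv, Subgroup.coe_pow,
    Subgroup.coe_one, Subgroup.mem_subgroupOf, eq_iff_enc h8, enc_mul h8, enc_inv h8, enc_one',
    enc_pow h8 enc_one', sp_eq, exists_prop, hD0.encd, hCV0.encd, hD0.mem_memF, hCV0.mem_memF,
    enc_v2, enc_z, enc_s0, enc_y0, enc_w, enc_y, enc_tau, enc_a5, enc_uy]
  decide +kernel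

theorem g_5 : ∀ b ∈ ND, b ^ 5 = 1 → b = 1 := by
  simp only [hND0.sball le_ND]
  simp +contextual only [
    ne_eq, Subtype.ext_iff, Subgroup.coe_mul, Subgroup.coe_inv, Subgroup.coe_pow,
    Subgroup.coe_one, Subgroup.mem_subgroupOf, eq_iff_enc h8, enc_mul h8, enc_inv h8, enc_one',
    enc_pow h8 enc_one', sp_eq, exists_prop, hND0.encd, hND0.mem_memF]
  decide +kernel

theorem g_cD : ∀ k ∈ K1, k * z = z * k → k * w = w * k → k * k = 1 → k = 1 := by
  simp only [hK10.sball le_K1]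
  simp +contextual only [
    ne_eq, Subtype.ext_iff, Subgroup.coe_mul, Subgroup.coe_inv, Subgroup.coe_pow,
    Subgroup.coe_one, Subgroup.mem_subgroupOf, eq_iff_enc h8, enc_mul h8, enc_inv h8, enc_one',
    enc_pow h8 enc_one', sp_eq, exists_prop, hK10.encd, hK10.mem_memF, enc_z, enc_w]
  decide +kernel

theorem g_D : ∀ d ∈ D, (∀ e ∈ D, d * e = e * d) ∧ d ^ 3 = 1 ∧ (∀ v ∈ V, d * v * d⁻¹ ∈ V) ∧
    (d = 1 ∨ ∃ u ∈ ND, u * d * u⁻¹ = z ∨ u * d * u⁻¹ = y) := by
  simp only [hV0.sball le_V, hD0.sball le_D, hND0.sbex le_ND]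
  simp +contextual only [
    ne_eq, Subtype.ext_iff, Subgroup.coe_mul, Subgroup.coe_inv, Subgroup.coe_pow,
    Subgroup.coe_one, Subgroup.mem_subgroupOf, eq_iff_enc h8, enc_mul h8, enc_inv h8, enc_one',
    enc_pow h8 enc_one', sp_eq, exists_prop, hV0.encd, hD0.encd, hND0.encd, hV0.mem_memF,
    hD0.mem_memF, hND0.mem_memF, enc_z, enc_y]
  decide +kernel

theorem g_inv : ∀ k ∈ K1, k * v1 = v1 * k → k * v2 = v2 * k → k * z * k⁻¹ ≠ z⁻¹ := by
  simp only [hK10.sball le_K1]
  simp +contextual only [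
    ne_eq, Subtype.ext_iff, Subgroup.coe_mul, Subgroup.coe_inv, Subgroup.coe_pow,
    Subgroup.coe_one, Subgroup.mem_subgroupOf, eq_iff_enc h8, enc_mul h8, enc_inv h8, enc_one',
    enc_pow h8 enc_one', sp_eq, exists_prop, hK10.encd, hK10.mem_memF, enc_v1, enc_v2, enc_z]
  decide +kernel

theorem g_M1 : ∀ k ∈ K1, k * z = z * k → k ^ 40 = 1 → ∀ u ∈ ND, u⁻¹ * k * u * v1 = v1 * (u⁻¹ * k * u) →
    u⁻¹ * k * u * v2 = v2 * (u⁻¹ * k * u) → u⁻¹ * k * u ∈ E := by
  simp only [hK10.sball le_K1, hND0.sball le_ND]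
  simp +contextual only [
    ne_eq, Subtype.ext_iff, Subgroup.coe_mul, Subgroup.coe_inv, Subgroup.coe_pow,
    Subgroup.coe_one, Subgroup.mem_subgroupOf, eq_iff_enc h8, enc_mul h8, enc_inv h8, enc_one',
    enc_pow h8 enc_one', sp_eq, exists_prop, hE0.encd, hK10.encd, hND0.encd, hE0.mem_memF,
    hK10.mem_memF, hND0.mem_memF, enc_v1, enc_v2, enc_z]
  decide +kernel

theorem g_M2 : ∀ k ∈ ND, k * y = y * k → k ^ 40 = 1 → ∀ u ∈ ND, u⁻¹ * k * u * v1 = v1 * (u⁻¹ * k * u) →
    u⁻¹ * k * u * v2 = v2 * (u⁻¹ * k * u) → u⁻¹ * k * u ∈ E := by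
  simp only [hND0.sball le_ND]
  simp +contextual only [
    ne_eq, Subtype.ext_iff, Subgroup.coe_mul, Subgroup.coe_inv, Subgroup.coe_pow,
    Subgroup.coe_one, Subgroup.mem_subgroupOf, eq_iff_enc h8, enc_mul h8, enc_inv h8, enc_one',
    enc_pow h8 enc_one', sp_eq, exists_prop, hE0.encd, hND0.encd, hE0.mem_memF, hND0.mem_memF,
    enc_v1, enc_v2, enc_y]
  decide +kernel

theorem g_E : ∀ e ∈ E, e ∈ CV := by
  simp only [hE0.sball le_E]
  simp +contextual only [
    ne_eq, Subtype.ext_iff, Subgroup.coe_mul, Subgroup.coe_inv, Subgroup.coe_pow,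
    Subgroup.coe_one, Subgroup.mem_subgroupOf, eq_iff_enc h8, enc_mul h8, enc_inv h8, enc_one',
    enc_pow h8 enc_one', sp_eq, exists_prop, hE0.encd, hCV0.encd, hE0.mem_memF, hCV0.mem_memF]
  decide +kernel

theorem g_odd : ∀ k ∈ CV, k * w1 = w1 * k → k * k = 1 := by
  simp only [hCV0.sball le_CV]
  simp +contextual only [
    ne_eq, Subtype.ext_iff, Subgroup.coe_mul, Subgroup.coe_inv, Subgroup.coe_pow,
    Subgroup.coe_one, Subgroup.mem_subgroupOf, eq_iff_enc h8, enc_mul h8, enc_inv h8, enc_one',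
    enc_pow h8 enc_one', sp_eq, exists_prop, hCV0.encd, hCV0.mem_memF, enc_w1]
  decide +kernel

theorem g_cz : ∀ k ∈ K1, k * z = z * k → k * v1 = v1 * k → k ^ 45 = 1 → k = 1 ∨ k = z ∨ k = z⁻¹ := by
  simp only [hK10.sball le_K1]
  simp +contextual only [
    ne_eq, Subtype.ext_iff, Subgroup.coe_mul, Subgroup.coe_inv, Subgroup.coe_pow,
    Subgroup.coe_one, Subgroup.mem_subgroupOf, eq_iff_enc h8, enc_mul h8, enc_inv h8, enc_one',
    enc_pow h8 enc_one', sp_eq, exists_prop, hK10.encd, hK10.mem_memF, enc_v1, enc_z]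
  decide +kernel

theorem g_cy : ∀ k ∈ ND, k * y = y * k → k * tau = tau * k → (k = 1 ∨ k = tau) ∨
    (k * y⁻¹ = 1 ∨ k * y⁻¹ = tau) ∨ (k * y = 1 ∨ k * y = tau) := by
  simp only [hND0.sball le_ND]
  simp +contextual only [
    ne_eq, Subtype.ext_iff, Subgroup.coe_mul, Subgroup.coe_inv, Subgroup.coe_pow,
    Subgroup.coe_one, Subgroup.mem_subgroupOf, eq_iff_enc h8, enc_mul h8, enc_inv h8, enc_one',
    enc_pow h8 enc_one', sp_eq, exists_prop, hND0.encd, hND0.mem_memF, enc_y, enc_tau]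
  decide +kernel

end Cfsg.Agent.H1.A8
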