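import Cfsg.Agent.H1.A8Data2

/-!
# Data in the normalizer of a three-cycle in the alternating group of degree eight
-/

set_option autoImplicit false
set_option maxRecDepth 100000
set_option synthInstance.maxSize 100000
set_option synthInstance.maxHeartbeats 1000000
set_option linter.unusedSimpArgs false

namespace Cfsg.Agent.H1.A8K

open Cfsg.Agent.L0 Cfsg.Agent.L0.Code Equiv Cfsg.Agent.H1.PC

open Cfsg.Agent.H1.A8 (h8 K10 LK10 hK10 sp_eq)

/-- `(0 1 2)` -/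
noncomputable def z : K10 := ⟨dec 8 0x76543021, hK10.memd le_rfl (by decide +kernel)⟩
theorem enc_z : enc (z : Perm (Fin 8)) = nat_lit 0x76543021 := enc_dec h8 (by decide +kernel)

/-- `(5 6 7)` -/
noncomputable def w : K10 := ⟨dec 8 0x57643210, hK10.memd le_rfl (by decide +kernel)⟩
theorem enc_w : enc (w : Perm (Fin 8)) = nat_lit 0x57643210 := enc_dec h8 (by decide +kernel)

/-- `(0 1 2)(5 6 7)` -/
noncomputable def y : K10 := ⟨dec 8 0x57643021, hK10.memd le_rfl (by decide +kernel)⟩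
theorem enc_y : enc (y : Perm (Fin 8)) = nat_lit 0x57643021 := enc_dec h8 (by decide +kernel)

/-- `(3 4)(5 6)` -/
noncomputable def r1 : K10 := ⟨dec 8 0x75634210, hK10.memd le_rfl (by decide +kernel)⟩
theorem enc_r1 : enc (r1 : Perm (Fin 8)) = nat_lit 0x75634210 := enc_dec h8 (by decide +kernel)

/-- `(0 1)(3 4)` -/
noncomputable def r2 : K10 := ⟨dec 8 0x76534201, hK10.memd le_rfl (by decide +kernel)⟩
theorem enc_r2 : enc (r2 : Perm (Fin 8)) = nat_lit 0x76534201 := enc_dec h8 (by decide +kernel)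

/-- `(4 5)(6 7)` -/
noncomputable def v1 : K10 := ⟨dec 8 0x67453210, hK10.memd le_rfl (by decide +kernel)⟩
theorem enc_v1 : enc (v1 : Perm (Fin 8)) = nat_lit 0x67453210 := enc_dec h8 (by decide +kernel)

/-- `(4 6)(5 7)` -/
noncomputable def v2 : K10 := ⟨dec 8 0x54763210, hK10.memd le_rfl (by decide +kernel)⟩
theorem enc_v2 : enc (v2 : Perm (Fin 8)) = nat_lit 0x54763210 := enc_dec h8 (by decide +kernel)

/-- `(3 5)(4 6)` -/
noncomputable def q : K10 := ⟨dec 8 0x74365210, hK10.memd le_rfl (by decide +kernel)⟩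
theorem enc_q : enc (q : Perm (Fin 8)) = nat_lit 0x74365210 := enc_dec h8 (by decide +kernel)

/-- `(3 4 5 6 7)` -/
noncomputable def a5 : K10 := ⟨dec 8 0x37654210, hK10.memd le_rfl (by decide +kernel)⟩
theorem enc_a5 : enc (a5 : Perm (Fin 8)) = nat_lit 0x37654210 := enc_dec h8 (by decide +kernel)

/-- `(4 7)(5 6)` -/
noncomputable def u1 : K10 := ⟨dec 8 0x45673210, hK10.memd le_rfl (by decide +kernel)⟩
theorem enc_u1 : enc (u1 : Perm (Fin 8)) = nat_lit 0x45673210 := enc_dec h8 (by decide +kernel)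

/-- `(3 7)(5 6)` -/
noncomputable def u2 : K10 := ⟨dec 8 0x35647210, hK10.memd le_rfl (by decide +kernel)⟩
theorem enc_u2 : enc (u2 : Perm (Fin 8)) = nat_lit 0x35647210 := enc_dec h8 (by decide +kernel)

/-- `(0 1)(3 7)` -/
noncomputable def hv : K10 := ⟨dec 8 0x36547201, hK10.memd le_rfl (by decide +kernel)⟩
theorem enc_hv : enc (hv : Perm (Fin 8)) = nat_lit 0x36547201 := enc_dec h8 (by decide +kernel)

/-- `(0 1 2)` -/
noncomputable def a0 : K10 := ⟨dec 8 0x76543021, hK10.memd le_rfl (by decide +kernel)⟩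
theorem enc_a0 : enc (a0 : Perm (Fin 8)) = nat_lit 0x76543021 := enc_dec h8 (by decide +kernel)

/-- `(0 1)(3 4)` -/
noncomputable def a2 : K10 := ⟨dec 8 0x76534201, hK10.memd le_rfl (by decide +kernel)⟩
theorem enc_a2 : enc (a2 : Perm (Fin 8)) = nat_lit 0x76534201 := enc_dec h8 (by decide +kernel)

/-- `(0 1)(4 5)` -/
noncomputable def a3 : K10 := ⟨dec 8 0x76453201, hK10.memd le_rfl (by decide +kernel)⟩
theorem enc_a3 : enc (a3 : Perm (Fin 8)) = nat_lit 0x76453201 := enc_dec h8 (by decide +kernel)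

/-- `(0 1)(5 6)` -/
noncomputable def a4 : K10 := ⟨dec 8 0x75643201, hK10.memd le_rfl (by decide +kernel)⟩
theorem enc_a4 : enc (a4 : Perm (Fin 8)) = nat_lit 0x75643201 := enc_dec h8 (by decide +kernel)

/-- `(0 1)(6 7)` -/
noncomputable def a6 : K10 := ⟨dec 8 0x67543201, hK10.memd le_rfl (by decide +kernel)⟩
theorem enc_a6 : enc (a6 : Perm (Fin 8)) = nat_lit 0x67543201 := enc_dec h8 (by decide +kernel)

/-- Generators (0 1 2), (5 6 7). -/
def gD0 : List ℕ := [nat_lit 0x76543021, nat_lit 0x57643210]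
def LD0 : List ℕ := [
  nat_lit 0x65743102, nat_lit 0x65743021, nat_lit 0x57643102, nat_lit 0x65743210,
  nat_lit 0x57643021, nat_lit 0x76543102, nat_lit 0x57643210, nat_lit 0x76543021,
  nat_lit 0x76543210]
/-- A group of order 9. -/
def D0 : Subgroup (Perm (Fin 8)) := cl 8 gD0
theorem hD0 : Lists D0 LD0 :=
  lists_cl (by norm_num) _ _ (by decide +kernel) (by decide +kernel) (by decide +kernel)
    (by decide +kernel) (by decide +kernel) (by decide +kernel)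
theorem card_D0 : Nat.card D0 = 9 := hD0.card_eq.trans (by decide +kernel)

theorem le_D : D0 ≤ K10 := hD0.le_of hK10 (by decide +kernel)
abbrev D : Subgroup K10 := D0.subgroupOf K10
theorem card_D : Nat.card D = 9 := (hD0.card_sub le_D).trans (by decide +kernel)

/-- Generators (0 1 2), (5 6 7), (3 4)(5 6), (0 1)(3 4). -/
def gB0 : List ℕ := [nat_lit 0x76543021, nat_lit 0x57643210, nat_lit 0x75634210, nat_lit 0x76534201]
def LB0 : List ℕ := [
  nat_lit 0x56743012, nat_lit 0x67543012, nat_lit 0x65734012, nat_lit 0x56743120,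
  nat_lit 0x67543120, nat_lit 0x65734120, nat_lit 0x56734102, nat_lit 0x67534102,
  nat_lit 0x65743102, nat_lit 0x75643012, nat_lit 0x56743201, nat_lit 0x57634012,
  nat_lit 0x67543201, nat_lit 0x65734201, nat_lit 0x75643120, nat_lit 0x56734021,
  nat_lit 0x57634120, nat_lit 0x67534021, nat_lit 0x65743021, nat_lit 0x75634102,
  nat_lit 0x57643102, nat_lit 0x76534012, nat_lit 0x75643201, nat_lit 0x56734210,
  nat_lit 0x57634201, nat_lit 0x67534210, nat_lit 0x65743210, nat_lit 0x76534120,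
  nat_lit 0x75634021, nat_lit 0x57643021, nat_lit 0x76543102, nat_lit 0x76534201,
  nat_lit 0x75634210, nat_lit 0x57643210, nat_lit 0x76543021, nat_lit 0x76543210]
/-- A group of order 36. -/
def B0 : Subgroup (Perm (Fin 8)) := cl 8 gB0
theorem hB0 : Lists B0 LB0 :=
  lists_cl (by norm_num) _ _ (by decide +kernel) (by decide +kernel) (by decide +kernel)
    (by decide +kernel) (by decide +kernel) (by decide +kernel)
theorem card_B0 : Nat.card B0 = 36 := hB0.card_eq.trans (by decide +kernel)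

theorem le_B : B0 ≤ K10 := hB0.le_of hK10 (by decide +kernel)
abbrev B : Subgroup K10 := B0.subgroupOf K10
theorem card_B : Nat.card B = 36 := (hB0.card_sub le_B).trans (by decide +kernel)

/-- Generators (4 5)(6 7), (4 6)(5 7). -/
def gV0 : List ℕ := [nat_lit 0x67453210, nat_lit 0x54763210]
def LV0 : List ℕ := [
  nat_lit 0x45673210, nat_lit 0x54763210, nat_lit 0x67453210, nat_lit 0x76543210]
/-- A group of order 4. -/
def V0 : Subgroup (Perm (Fin 8)) := cl 8 gV0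
theorem hV0 : Lists V0 LV0 :=
  lists_cl (by norm_num) _ _ (by decide +kernel) (by decide +kernel) (by decide +kernel)
    (by decide +kernel) (by decide +kernel) (by decide +kernel)
theorem card_V0 : Nat.card V0 = 4 := hV0.card_eq.trans (by decide +kernel)

theorem le_V : V0 ≤ K10 := hV0.le_of hK10 (by decide +kernel)
abbrev V : Subgroup K10 := V0.subgroupOf K10
theorem card_V : Nat.card V = 4 := (hV0.card_sub le_V).trans (by decide +kernel)

/-- Generators (3 4)(5 6), (0 1)(3 4). -/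
def gF0 : List ℕ := [nat_lit 0x75634210, nat_lit 0x76534201]
def LF0 : List ℕ := [
  nat_lit 0x75643201, nat_lit 0x76534201, nat_lit 0x75634210, nat_lit 0x76543210]
/-- A group of order 4. -/
def F0 : Subgroup (Perm (Fin 8)) := cl 8 gF0
theorem hF0 : Lists F0 LF0 :=
  lists_cl (by norm_num) _ _ (by decide +kernel) (by decide +kernel) (by decide +kernel)
    (by decide +kernel) (by decide +kernel) (by decide +kernel)
theorem card_F0 : Nat.card F0 = 4 := hF0.card_eq.trans (by decide +kernel)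

theorem le_F : F0 ≤ K10 := hF0.le_of hK10 (by decide +kernel)
abbrev F : Subgroup K10 := F0.subgroupOf K10
theorem card_F : Nat.card F = 4 := (hF0.card_sub le_F).trans (by decide +kernel)

/-- Generators (3 4)(5 6), (0 1)(3 4), (3 5)(4 6). -/
def gT10 : List ℕ := [nat_lit 0x75634210, nat_lit 0x76534201, nat_lit 0x74365210]
def LT10 : List ℕ := [
  nat_lit 0x73465201, nat_lit 0x74356201, nat_lit 0x73456210, nat_lit 0x75643201,
  nat_lit 0x74365210, nat_lit 0x76534201, nat_lit 0x75634210, nat_lit 0x76543210]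
/-- A group of order 8. -/
def T10 : Subgroup (Perm (Fin 8)) := cl 8 gT10
theorem hT10 : Lists T10 LT10 :=
  lists_cl (by norm_num) _ _ (by decide +kernel) (by decide +kernel) (by decide +kernel)
    (by decide +kernel) (by decide +kernel) (by decide +kernel)
theorem card_T10 : Nat.card T10 = 8 := hT10.card_eq.trans (by decide +kernel)

theorem le_T1 : T10 ≤ K10 := hT10.le_of hK10 (by decide +kernel)
abbrev T1 : Subgroup K10 := T10.subgroupOf K10
theorem card_T1 : Nat.card T1 = 8 := (hT10.card_sub le_T1).trans (by decide +kernel)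

/-- Generators (3 4)(5 6), (3 5)(4 6). -/
def gV20 : List ℕ := [nat_lit 0x75634210, nat_lit 0x74365210]
def LV20 : List ℕ := [
  nat_lit 0x73456210, nat_lit 0x74365210, nat_lit 0x75634210, nat_lit 0x76543210]
/-- A group of order 4. -/
def V20 : Subgroup (Perm (Fin 8)) := cl 8 gV20
theorem hV20 : Lists V20 LV20 :=
  lists_cl (by norm_num) _ _ (by decide +kernel) (by decide +kernel) (by decide +kernel)
    (by decide +kernel) (by decide +kernel) (by decide +kernel)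
theorem card_V20 : Nat.card V20 = 4 := hV20.card_eq.trans (by decide +kernel)

theorem le_V2 : V20 ≤ K10 := hV20.le_of hK10 (by decide +kernel)
abbrev V2 : Subgroup K10 := V20.subgroupOf K10
theorem card_V2 : Nat.card V2 = 4 := (hV20.card_sub le_V2).trans (by decide +kernel)

theorem p_z : ∀ k : K10, (∀ h : K10, h * k * h⁻¹ = 1 ∨ h * k * h⁻¹ = k ∨ h * k * h⁻¹ = k⁻¹) → k ^ 3 = 1 →
    k = 1 ∨ k = z ∨ k = z⁻¹ := by
  simp only [hK10.tball]
  simp +contextual only [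
    ne_eq, Subtype.ext_iff, Subgroup.coe_mul, Subgroup.coe_inv, Subgroup.coe_pow,
    Subgroup.coe_one, Subgroup.mem_subgroupOf, eq_iff_enc h8, enc_mul h8, enc_inv h8, enc_one',
    enc_pow h8 enc_one', sp_eq, exists_prop, enc_z, hK10.encd]
  decide +kernel

theorem p_y : ∀ k : K10, k * z = z * k → k ^ 3 = 1 → ∃ h : K10, h * z * h⁻¹ = z ∧ h * k * h⁻¹ ∈ D := by
  simp only [hK10.tball, hK10.tbex]
  simp +contextual only [
    ne_eq, Subtype.ext_iff, Subgroup.coe_mul, Subgroup.coe_inv, Subgroup.coe_pow,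
    Subgroup.coe_one, Subgroup.mem_subgroupOf, eq_iff_enc h8, enc_mul h8, enc_inv h8, enc_one',
    enc_pow h8 enc_one', sp_eq, exists_prop, hD0.encd, hD0.mem_memF, enc_z, hK10.encd]
  decide +kernel

theorem p_rel : z ^ 3 = 1 ∧ z ≠ 1 ∧ w ^ 3 = 1 ∧ w ≠ 1 ∧ z * w = w * z ∧ w ≠ z ∧ w ≠ z⁻¹ ∧ r1 * r1 = 1 ∧ r1 ≠ 1 ∧
    r1 * z = z * r1 ∧ r1 * w * r1⁻¹ = w⁻¹ ∧ r2 * r2 = 1 ∧ r2 * w = w * r2 ∧ r2 * z * r2⁻¹ = z⁻¹ ∧
    r1 * r2 = r2 * r1 ∧ y = z * w := by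
  simp +contextual only [
    ne_eq, Subtype.ext_iff, Subgroup.coe_mul, Subgroup.coe_inv, Subgroup.coe_pow,
    Subgroup.coe_one, Subgroup.mem_subgroupOf, eq_iff_enc h8, enc_mul h8, enc_inv h8, enc_one',
    enc_pow h8 enc_one', sp_eq, exists_prop, enc_z, enc_w, enc_y, enc_r1, enc_r2, hK10.encd]
  decide +kernel

theorem p_rel2 : z ∈ D ∧ w ∈ D ∧ z ∈ B ∧ w ∈ B ∧ r1 ∈ B ∧ r2 ∈ B ∧ y ^ 3 = 1 ∧ y ≠ 1 ∧ a5 * z = z * a5 ∧
    a5 ^ 5 = 1 ∧ a5 ≠ 1 ∧ v1 * v1 = 1 ∧ v1 ≠ 1 ∧ z * v1 = v1 * z ∧ z * v2 = v2 * z := by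
  simp +contextual only [
    ne_eq, Subtype.ext_iff, Subgroup.coe_mul, Subgroup.coe_inv, Subgroup.coe_pow,
    Subgroup.coe_one, Subgroup.mem_subgroupOf, eq_iff_enc h8, enc_mul h8, enc_inv h8, enc_one',
    enc_pow h8 enc_one', sp_eq, exists_prop, hD0.encd, hB0.encd, hD0.mem_memF, hB0.mem_memF,
    enc_z, enc_w, enc_y, enc_r1, enc_r2, enc_v1, enc_v2, enc_a5, hK10.encd]
  decide +kernel

theorem p_B : ∀ k : K10, (k ∈ B ↔ (k * z * k⁻¹ ∈ D ∧ k * w * k⁻¹ ∈ D)) := by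
  simp only [hK10.tball]
  simp +contextual only [
    ne_eq, Subtype.ext_iff, Subgroup.coe_mul, Subgroup.coe_inv, Subgroup.coe_pow,
    Subgroup.coe_one, Subgroup.mem_subgroupOf, eq_iff_enc h8, enc_mul h8, enc_inv h8, enc_one',
    enc_pow h8 enc_one', sp_eq, exists_prop, hD0.encd, hB0.encd, hD0.mem_memF, hB0.mem_memF,
    enc_z, enc_w, hK10.encd]
  decide +kernel

theorem p_BD : ∀ k ∈ B, ∀ d ∈ D, k * d * k⁻¹ ∈ D := by
  simp only [hD0.sball le_D, hB0.sball le_B]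
  simp +contextual only [
    ne_eq, Subtype.ext_iff, Subgroup.coe_mul, Subgroup.coe_inv, Subgroup.coe_pow,
    Subgroup.coe_one, Subgroup.mem_subgroupOf, eq_iff_enc h8, enc_mul h8, enc_inv h8, enc_one',
    enc_pow h8 enc_one', sp_eq, exists_prop, hD0.encd, hB0.encd, hD0.mem_memF, hB0.mem_memF,
    hK10.encd]
  decide +kernel

theorem p_sig : ∀ a ∈ B, a ^ 3 = 1 → a ≠ 1 → a ≠ z → a ≠ z⁻¹ → ∀ b ∈ B, b ^ 3 = 1 → b ≠ 1 → b ≠ a → b ≠ a⁻¹ →
    ∀ c ∈ B, c * c = 1 → c * a = a * c → c * b * c⁻¹ = b⁻¹ → ∀ d ∈ B, d * d = 1 → d * b = b * d →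
    d * a * d⁻¹ = a⁻¹ → c * d = d * c →
    ∃ h ∈ B, h * a * h⁻¹ = w ∧ h * b * h⁻¹ = z ∧ h * c * h⁻¹ = r2 ∧ h * d * h⁻¹ = r1 := by
  simp only [hB0.sball le_B, hB0.sbex le_B]
  simp +contextual only [
    ne_eq, Subtype.ext_iff, Subgroup.coe_mul, Subgroup.coe_inv, Subgroup.coe_pow,
    Subgroup.coe_one, Subgroup.mem_subgroupOf, eq_iff_enc h8, enc_mul h8, enc_inv h8, enc_one',
    enc_pow h8 enc_one', sp_eq, exists_prop, hB0.encd, hB0.mem_memF, enc_z, enc_w, enc_r1,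
    enc_r2, hK10.encd]
  decide +kernel

theorem p_cB : ∀ k : K10, k * z = z * k → k * w = w * k → (k * k = 1 → k = 1) ∧ (k * r1 = r1 * k →
    k * r2 = r2 * k → k = 1) := by
  simp only [hK10.tball]
  simp +contextual only [
    ne_eq, Subtype.ext_iff, Subgroup.coe_mul, Subgroup.coe_inv, Subgroup.coe_pow,
    Subgroup.coe_one, Subgroup.mem_subgroupOf, eq_iff_enc h8, enc_mul h8, enc_inv h8, enc_one',
    enc_pow h8 enc_one', sp_eq, exists_prop, enc_z, enc_w, enc_r1, enc_r2, hK10.encd]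
  decide +kernel

theorem p_D : ∀ d ∈ D, (∀ e ∈ D, d * e = e * d) ∧ d ^ 3 = 1 ∧ (∀ v ∈ V, d * v * d⁻¹ ∈ V) ∧
    (d = 1 ∨ (d = z ∨ d = z⁻¹) ∨ (d = w ∨ d = w⁻¹) ∨ ∃ u ∈ B, u * d * u⁻¹ = y) := by
  simp only [hD0.sball le_D, hB0.sbex le_B, hV0.sball le_V]
  simp +contextual only [
    ne_eq, Subtype.ext_iff, Subgroup.coe_mul, Subgroup.coe_inv, Subgroup.coe_pow,
    Subgroup.coe_one, Subgroup.mem_subgroupOf, eq_iff_enc h8, enc_mul h8, enc_inv h8, enc_one',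
    enc_pow h8 enc_one', sp_eq, exists_prop, hD0.encd, hB0.encd, hV0.encd, hD0.mem_memF,
    hB0.mem_memF, hV0.mem_memF, enc_z, enc_w, enc_y, hK10.encd]
  decide +kernel

theorem p_inv : ∀ k : K10, k * k = 1 → ∃ h : K10, h * k * h⁻¹ * z = z * (h * k * h⁻¹) ∨
    h * k * h⁻¹ * w = w * (h * k * h⁻¹) := by
  simp only [hK10.tball, hK10.tbex]
  simp +contextual only [
    ne_eq, Subtype.ext_iff, Subgroup.coe_mul, Subgroup.coe_inv, Subgroup.coe_pow,
    Subgroup.coe_one, Subgroup.mem_subgroupOf, eq_iff_enc h8, enc_mul h8, enc_inv h8, enc_one',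
    enc_pow h8 enc_one', sp_eq, exists_prop, enc_z, enc_w, hK10.encd]
  decide +kernel

theorem p_cV : ∀ k : K10, k * v1 = v1 * k → k * v2 = v2 * k → k * z * k⁻¹ ≠ z⁻¹ ∧ (k ^ 40 = 1 → k ∈ V) := by
  simp only [hK10.tball]
  simp +contextual only [
    ne_eq, Subtype.ext_iff, Subgroup.coe_mul, Subgroup.coe_inv, Subgroup.coe_pow,
    Subgroup.coe_one, Subgroup.mem_subgroupOf, eq_iff_enc h8, enc_mul h8, enc_inv h8, enc_one',
    enc_pow h8 enc_one', sp_eq, exists_prop, hV0.encd, hV0.mem_memF, enc_z, enc_v1, enc_v2,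
    hK10.encd]
  decide +kernel

theorem p_W : ∀ k : K10, k * z = z * k → k ≠ 1 → k ^ 40 = 1 → (k * (w * k * w⁻¹)) ^ 40 = 1 →
    (k * (w * k * w⁻¹) * k * (w * k * w⁻¹) * (w⁻¹ * k * w⁻¹⁻¹)) ^ 40 = 1 →
    (k * (w * k * w⁻¹) * k * (w⁻¹ * k * w⁻¹⁻¹) * (w * k * w⁻¹)) ^ 40 = 1 →
    (k = u1 ∨ k = u2) ∨ (w * k * w⁻¹ = u1 ∨ w * k * w⁻¹ = u2) ∨ (w⁻¹ * k * w⁻¹⁻¹ = u1 ∨ w⁻¹ * k * w⁻¹⁻¹ = u2) := by
  simp only [hK10.tball]
  simp +contextual only [
    ne_eq, Subtype.ext_iff, Subgroup.coe_mul, Subgroup.coe_inv, Subgroup.coe_pow,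
    Subgroup.coe_one, Subgroup.mem_subgroupOf, eq_iff_enc h8, enc_mul h8, enc_inv h8, enc_one',
    enc_pow h8 enc_one', sp_eq, exists_prop, enc_z, enc_w, enc_u1, enc_u2, hK10.encd]
  decide +kernel

theorem p_moore : a0 = z ∧ a2 = r2 ∧ a4 = r2 * r1 ∧ a6 = w * (r2 * r1) * w⁻¹ ∧ a3 = a6 * v1 ∧ a6 * a6 = 1 ∧
    v1 * a6 = a6 * v1 ∧
    u1 ^ 2 = 1 ∧ (w * u1) ^ 3 = 1 ∧ (u1 * r1) ^ 3 = 1 ∧ (u1 * (r1 * r2)) ^ 2 = 1 ∧
    (u1 * (z * (r1 * r2) * z⁻¹)) ^ 2 = 1 ∧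
    u2 ^ 2 = 1 ∧ (w * u2) ^ 3 = 1 ∧ (u2 * r1) ^ 3 = 1 ∧ (u2 * (r1 * r2)) ^ 2 = 1 ∧
    (u2 * (z * (r1 * r2) * z⁻¹)) ^ 2 = 1 := by
  simp +contextual only [
    ne_eq, Subtype.ext_iff, Subgroup.coe_mul, Subgroup.coe_inv, Subgroup.coe_pow,
    Subgroup.coe_one, Subgroup.mem_subgroupOf, eq_iff_enc h8, enc_mul h8, enc_inv h8, enc_one',
    enc_pow h8 enc_one', sp_eq, exists_prop, enc_z, enc_w, enc_r1, enc_r2, enc_v1, enc_u1,
    enc_u2, enc_a0, enc_a2, enc_a3, enc_a4, enc_a6, hK10.encd]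
  decide +kernel

theorem p_moore2 : a0 ^ 3 = 1 ∧ a2 ^ 2 = 1 ∧ a3 ^ 2 = 1 ∧ a4 ^ 2 = 1 ∧ a6 ^ 2 = 1 ∧ (a2 * a3) ^ 3 = 1 ∧
    (a3 * a4) ^ 3 = 1 ∧ (a4 * a6) ^ 3 = 1 ∧ (a0 * a2) ^ 2 = 1 ∧ (a0 * a3) ^ 2 = 1 ∧ (a0 * a4) ^ 2 = 1 ∧
    (a0 * a6) ^ 2 = 1 ∧ (a2 * a4) ^ 2 = 1 ∧ (a2 * a6) ^ 2 = 1 ∧ (a3 * a6) ^ 2 = 1 := by
  simp +contextual only [
    ne_eq, Subtype.ext_iff, Subgroup.coe_mul, Subgroup.coe_inv, Subgroup.coe_pow,
    Subgroup.coe_one, Subgroup.mem_subgroupOf, eq_iff_enc h8, enc_mul h8, enc_inv h8, enc_one',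
    enc_pow h8 enc_one', sp_eq, exists_prop, enc_a0, enc_a2, enc_a3, enc_a4, enc_a6, hK10.encd]
  decide +kernel

theorem p_hv : hv * r1 * hv⁻¹ = v2 * v1 ∧ hv * q * hv⁻¹ = v2 ∧ (∀ v ∈ V, hv⁻¹ * v * hv ∈ T1) ∧ r1 ∈ T1 ∧ q ∈ T1 ∧ r2 ∈ T1 ∧
    r1 ∈ F ∧ r2 ∈ F ∧ q * q = 1 ∧ r1 * q = q * r1 ∧ q * r2 ≠ r2 * q ∧ v2 * v2 = 1 ∧ q ∉ F := by
  simp only [hV0.sball le_V]
  simp +contextual only [
    ne_eq, Subtype.ext_iff, Subgroup.coe_mul, Subgroup.coe_inv, Subgroup.coe_pow,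
    Subgroup.coe_one, Subgroup.mem_subgroupOf, eq_iff_enc h8, enc_mul h8, enc_inv h8, enc_one',
    enc_pow h8 enc_one', sp_eq, exists_prop, hV0.encd, hF0.encd, hT10.encd, hV0.mem_memF,
    hF0.mem_memF, hT10.mem_memF, enc_r1, enc_r2, enc_v1, enc_v2, enc_q, enc_hv, hK10.encd]
  decide +kernel

theorem p_T1 : ∀ a ∈ T1, a ∈ F → ∀ b ∈ T1, b * b = 1 → a * b = b * a → a ≠ 1 → ∀ c ∈ T1, c ∈ F → b * c ≠ c * b →
    ∃ t ∈ T1, t * a * t⁻¹ = r1 ∧ t * b * t⁻¹ = q := by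
  simp only [hT10.sball le_T1, hT10.sbex le_T1]
  simp +contextual only [
    ne_eq, Subtype.ext_iff, Subgroup.coe_mul, Subgroup.coe_inv, Subgroup.coe_pow,
    Subgroup.coe_one, Subgroup.mem_subgroupOf, eq_iff_enc h8, enc_mul h8, enc_inv h8, enc_one',
    enc_pow h8 enc_one', sp_eq, exists_prop, hF0.encd, hT10.encd, hF0.mem_memF, hT10.mem_memF,
    enc_r1, enc_q, hK10.encd]
  decide +kernel

theorem p_F : ∀ f ∈ F, (∀ t ∈ T1, t * f * t⁻¹ ∈ F) ∧ f * f = 1 ∧ (f = 1 ∨ f = r1 ∨ f = r2 ∨ f = r1 * r2) := by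
  simp only [hF0.sball le_F, hT10.sball le_T1]
  simp +contextual only [
    ne_eq, Subtype.ext_iff, Subgroup.coe_mul, Subgroup.coe_inv, Subgroup.coe_pow,
    Subgroup.coe_one, Subgroup.mem_subgroupOf, eq_iff_enc h8, enc_mul h8, enc_inv h8, enc_one',
    enc_pow h8 enc_one', sp_eq, exists_prop, hF0.encd, hT10.encd, hF0.mem_memF, hT10.mem_memF,
    enc_r1, enc_r2, hK10.encd]
  decide +kernel

end Cfsg.Agent.H1.A8K
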