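import Cfsg.Agent.H1.A9Base

/-!
# Three-local recognition of `A_9`: the case of small centralizers
-/

set_option autoImplicit false
set_option maxRecDepth 100000

namespace Cfsg.Agent.H1.A9K

open Cfsg Cfsg.Agent.L0 Cfsg.Agent.L0.Gram Cfsg.Agent.L0.Code Cfsg.Agent.H3 Equiv
open Cfsg.Agent.H1.T3 Cfsg.Agent.H1.PC
open Cfsg.Agent.S3702 hiding J P
open scoped ComplexConjugate

section
variable {G : Type*} [Group G] {n : ℕ} {K : Subgroup (Perm (Fin n))} {L : List ℕ}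

theorem orth_of_table' [Fintype G] (hK : Lists K L) (ι : K →* G) (hι : Function.Injective ι)
    (reps : List ℕ) (N : ℕ) (r : ℕ → K) (hr : ∀ s < N, enc (r s : Perm (Fin n)) = reps.getD s 0)
    (hT : ∀ s < N, ∀ s' < N, ∀ g : G, g * ι (r s') * g⁻¹ = ι (r s) → g ∈ ι.range) (cent : List ℤ)
    (h : allLt (fun s => allLt (fun s' => frc (reps.getD s 0) fun a => frc (reps.getD s' 0) fun b =>
      ((cntB (fun x => Nat.beq (mulc n x b) (mulc n a x)) L : ℕ) : ℤ) ==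
        if s = s' then ent cent s else 0) N) N = true) :
    ∀ s < N, ∀ s' < N, ∑ χ : IrrCharacter G,
      (χ : G → ℂ) (ι (r s)) * conj ((χ : G → ℂ) (ι (r s')))
        = if s = s' then (ent cent s : ℂ) else 0 := by
  classical
  intro s hs s' hs'
  have := Fintype.ofFinite K
  simp only [allLt_iff, frc_eq, beq_iff_eq] at h
  rw [sum_irr_mul_conj_card, card_filter_eq_of_range ι hι _ (hT s hs s' hs'),
    @Lists.card_filter _ _ _ hK _ _ (_)
      (fun x => Nat.beq (mulc n x (reps.getD s' 0)) (mulc n (reps.getD s 0) x))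
      (fun x => by
        rw [← map_inv, ← map_mul, ← map_mul, hι.eq_iff, mul_inv_eq_iff_eq_mul, hK.conj_iff,
          hr s hs, hr s' hs'])]
  have h1 := congrArg (fun z : ℤ => (z : ℂ)) (h s hs s' hs')
  simp only [Int.cast_natCast] at h1
  rw [h1]
  split_ifs <;> simp

theorem sum_list (hK : Lists K L) [Fintype K] {U : List ℕ} (hnd : U.Nodup) (hU : ∀ c ∈ U, c ∈ L)
    (F : ℕ → ℕ) : ∑ a ∈ Finset.univ.filter (fun k : K => enc (k : Perm (Fin n)) ∈ U),
      F (enc (a : Perm (Fin n))) = (U.map F).sum := by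
  rw [← List.sum_toFinset F hnd]
  refine Finset.sum_bij (fun k _ => enc (k : Perm (Fin n))) (fun k hk => by simpa using hk)
    (fun a _ b _ e => (hK.eq_iff _ _).mpr e) (fun a ha => ?_) (fun _ _ => rfl)
  obtain ⟨b, hb⟩ := hK.exists_elt ((memb_iff _ _).mpr (hU a (List.mem_toFinset.mp ha)))
  exact ⟨b, by simpa [hb] using ha, hb⟩

theorem triple_of_lists [Fintype G] (hK : Lists K L) (ι : K →* G) (hι : Function.Injective ι)
    (u v w : K) (cw one : ℕ) (hw : enc (w : Perm (Fin n)) = cw)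
    (h1 : enc (1 : Perm (Fin n)) = one) (U V : List ℕ) (a b m : ℕ)
    (hU : U.Nodup ∧ (∀ c ∈ U, c ∈ L) ∧ (∀ k, IsConj (ι u) (ι k) ↔ enc (k : Perm (Fin n)) ∈ U) ∧
      Nat.card (Subgroup.centralizer ({ι u} : Set G)) = a)
    (hV : V.Nodup ∧ (∀ c ∈ V, c ∈ L) ∧ (∀ k, IsConj (ι v) (ι k) ↔ enc (k : Perm (Fin n)) ∈ V) ∧
      Nat.card (Subgroup.centralizer ({ι v} : Set G)) = b)
    (hm : (U.map (fun x => cntB (fun y => Nat.beq (mulc n (mulc n x y) cw) one) V)).sum = m)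
    (hc : ∀ p q : G, IsConj (ι u) p → IsConj (ι v) q → p * q * ι w = 1 →
      p ∈ ι.range ∧ q ∈ ι.range) :
    (Nat.card G : ℂ) * ∑ χ : IrrCharacter G,
        (χ : G → ℂ) (ι u) * (χ : G → ℂ) (ι v) * (χ : G → ℂ) (ι w) / (χ : G → ℂ) 1 =
      ((a * (b * m) : ℕ) : ℂ) := by
  classical
  have := Fintype.ofFinite K
  rw [← card_conj_pairs, card_conj_pairs_eq, hU.2.2.2, hV.2.2.2, ← hm,
    ← sum_list hK hU.1 hU.2.1]
  have hcnt : ∀ (Q : ℕ → Bool) (l : List ℕ),
      cntB Q l = (l.map (fun y => if Q y = true then 1 else 0)).sum := by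
    intro Q l
    rw [cntB_eq]
    induction l with
    | nil => simp
    | cons a l ih => simp [List.countP_cons, ih, add_comm]
  refine congrArg (fun z : ℕ => ((a * (b * z) : ℕ) : ℂ)) ?_
  simp only [hcnt, ← sum_list hK hV.1 hV.2.1, ← Finset.sum_product']
  symm
  refine Finset.sum_bij_ne_zero (fun p _ _ => (ι p.1, ι p.2)) (fun p hp _ => ?_)
    (fun p _ _ q _ _ e => Prod.ext (hι (congrArg Prod.fst e)) (hι (congrArg Prod.snd e)))
    (fun p hp hp' => ?_) (fun p _ _ => ?_)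
  · simpa only [Finset.mem_product, Finset.mem_filter, Finset.mem_univ, true_and, hU.2.2.1,
      hV.2.2.1] using hp
  · simp only [Finset.mem_product, Finset.mem_filter, Finset.mem_univ, true_and] at hp
    obtain ⟨⟨x, hx⟩, ⟨y, hy⟩⟩ := hc p.1 p.2 hp.1 hp.2 (by simpa using hp')
    rw [← hx, ← hy] at hp hp'
    refine ⟨(x, y), by simpa only [Finset.mem_product, Finset.mem_filter, Finset.mem_univ,
      true_and, hU.2.2.1, hV.2.2.1] using hp, ?_, Prod.ext hx hy⟩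
    simp only [← map_mul, ← map_one ι, hι.eq_iff, hK.eq_iff, hK.enc_mul', hw] at hp'
    simpa [← h1] using hp'
  · simp only [← map_mul, ← map_one ι, hι.eq_iff, hK.eq_iff, hK.enc_mul', hw, Nat.beq_eq, ← h1]
    rfl

theorem cls_of_table (hK : Lists K L) (u : K) (c : ℕ) (hu : enc (u : Perm (Fin n)) = c)
    (U : List ℕ) (a : ℕ) (hU : nodupB U = true ∧
      allB (fun x => anyB (fun a => Nat.beq (mulc n x c) (mulc n a x)) U) L = true ∧
      allB (fun a => memb a L && anyB (fun x => Nat.beq (mulc n x c) (mulc n a x)) L) U = true ∧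
      U.length ≠ 0 ∧ a * U.length = L.length) :
    U.Nodup ∧ (∀ c ∈ U, c ∈ L) ∧ (∀ k, IsConj u k ↔ enc (k : Perm (Fin n)) ∈ U) ∧
      Nat.card (Subgroup.centralizer ({u} : Set K)) = a := by
  classical
  have := Fintype.ofFinite K
  obtain ⟨s1, s2⟩ := @sum_class _ _ _ hK _ u c hu U hU.1 hU.2.1 hU.2.2.1
    (fun _ => Classical.propDecidable _)
  have h2 := fun a ha => Bool.and_eq_true_iff.mp ((allB_iff _ _).mp hU.2.2.1 a ha)
  refine ⟨nodup_of_nodupB U hU.1, fun a ha => (memb_iff _ _).mp (h2 a ha).1, fun k => ⟨fun hk => ?_,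
    fun hk => ?_⟩,
    Nat.eq_of_mul_eq_mul_right (Nat.pos_of_ne_zero hU.2.2.2.1) (s2.trans hU.2.2.2.2.symm)⟩
  · obtain ⟨x, hx⟩ := isConj_iff.mp hk
    obtain ⟨a, ha, e⟩ := (anyB_iff _ _).mp (hK.forall_of_all _ hU.2.1 x)
    obtain ⟨b, hb⟩ := hK.exists_elt (h2 a ha).1
    rw [← hu, ← hb, ← hK.conj_iff] at e
    rwa [← hx, e, mul_inv_cancel_right, hb]
  · obtain ⟨x, hx⟩ := hK.exists_of_any _ (h2 _ hk).2
    rw [← hu, ← hK.conj_iff] at hx
    exact isConj_iff.mpr ⟨x, by rw [hx]; simp⟩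

theorem card_cent_eq {K : Type*} [Group K] (ι : K →* G) (hι : Function.Injective ι) {a : K}
    (h : Subgroup.centralizer ({ι a} : Set G) ≤ ι.range) :
    Nat.card (Subgroup.centralizer ({ι a} : Set G)) =
      Nat.card (Subgroup.centralizer ({a} : Set K)) := by
  rw [← Subgroup.card_map_of_injective hι]
  congr 2
  ext g
  constructor
  · intro hg
    obtain ⟨k, rfl⟩ := h hg
    exact ⟨k, T3.mem_cent.mpr (hι (by simpa using T3.mem_cent.mp hg)), rfl⟩
  · rintro ⟨k, hk, rfl⟩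
    rw [T3.mem_cent, ← map_mul, T3.mem_cent.mp hk, map_mul]

end

def UU : List ℕ := [
  nat_lit 0x210876543, nat_lit 0x120786543, nat_lit 0x201867543, nat_lit 0x102687543,
  nat_lit 0x021768543, nat_lit 0x012678543, nat_lit 0x120876453, nat_lit 0x210786453,
  nat_lit 0x102867453, nat_lit 0x201687453, nat_lit 0x012768453, nat_lit 0x021678453,
  nat_lit 0x201876534, nat_lit 0x021786534, nat_lit 0x210867534, nat_lit 0x012687534,
  nat_lit 0x120768534, nat_lit 0x102678534, nat_lit 0x102876354, nat_lit 0x012786354,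
  nat_lit 0x120867354, nat_lit 0x021687354, nat_lit 0x210768354, nat_lit 0x201678354,
  nat_lit 0x021876435, nat_lit 0x201786435, nat_lit 0x012867435, nat_lit 0x210687435,
  nat_lit 0x102768435, nat_lit 0x120678435, nat_lit 0x012876345, nat_lit 0x102786345,
  nat_lit 0x021867345, nat_lit 0x120687345, nat_lit 0x201768345, nat_lit 0x210678345,
  nat_lit 0x543210876, nat_lit 0x453120876, nat_lit 0x534201876, nat_lit 0x435021876,
  nat_lit 0x354102876, nat_lit 0x345012876, nat_lit 0x453210786, nat_lit 0x543120786,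
  nat_lit 0x354201786, nat_lit 0x345021786, nat_lit 0x534102786, nat_lit 0x435012786,
  nat_lit 0x534210867, nat_lit 0x435120867, nat_lit 0x543201867, nat_lit 0x453021867,
  nat_lit 0x345102867, nat_lit 0x354012867, nat_lit 0x435210687, nat_lit 0x534120687,
  nat_lit 0x345201687, nat_lit 0x354021687, nat_lit 0x543102687, nat_lit 0x453012687,
  nat_lit 0x354210768, nat_lit 0x345120768, nat_lit 0x453201768, nat_lit 0x543021768,
  nat_lit 0x435102768, nat_lit 0x534012768, nat_lit 0x345210678, nat_lit 0x354120678,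
  nat_lit 0x435201678, nat_lit 0x534021678, nat_lit 0x453102678, nat_lit 0x543012678]
def ords : List ℕ := [3, 3, 3, 6, 12, 12, 6, 9, 9]

variable {G : Type*} [Group G] [Finite G] {ι : K →* G}

theorem Base.ctl (h : Base ι) (hC : Subgroup.centralizer ({ι e1} : Set G) ≤ ι.range) {j : K}
    (hj : j ∈ J) (h1 : j ≠ 1) : Subgroup.centralizer ({ι j} : Set G) ≤ ι.range := by
  obtain ⟨l, e | e | e⟩ := (k_J j hj).2.2.2.2.2.resolve_left h1
  exacts [cent_tr ι e hC, cent_tr ι e h.cy, cent_tr ι e h.cx']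

theorem Base.ctl2 (h : Base ι) (hC : Subgroup.centralizer ({ι e1} : Set G) ≤ ι.range) {i j : K}
    (hi : i ∈ J) (h1 : i ≠ 1) (hj : j ∈ J) {g : G} (e : g * ι i * g⁻¹ = ι j) : g ∈ ι.range :=
  h.wc2 (h.ctl hC hj (fun e' => conj_ne_one (g := g) (h.ne h1) (by rw [e, e', map_one])))
    (by rw [← e]; simpa [mul_assoc] using Subgroup.mem_map_of_mem ι hi)

theorem Base.ti (h : Base ι) (hC : Subgroup.centralizer ({ι e1} : Set G) ≤ ι.range) {j : K}
    (hj : j ∈ J) (h1 : j ≠ 1) (h3 : ∀ t, t ^ 3 = 1 → t * j = j * t → t ∈ J) (g : G)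
    (hg : g * ι j * g⁻¹ ∈ ι.range) : g ∈ ι.range := by
  obtain ⟨-, -, -, -, m5, -, -, m8, -, -, -, -, m13, -⟩ := k_m
  obtain ⟨k, hk⟩ := hg
  rcases k_u k (h.inj (by rw [map_pow, hk, map_one, conj_cube (expJ ι _ ⟨j, hj, rfl⟩)])) with
    e | ⟨l, e⟩
  · exact h.ctl2 hC hj h1 e hk.symm
  have e1 : ι l * g * ι j * (ι l * g)⁻¹ = ι u := by
    rw [← conj_eq_iff.mpr e, map_mul, map_mul, map_inv, hk]; group
  have e2 := conj_comm (g := (ι l * g)⁻¹) (h.comm.mpr m13.symm)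
  rw [← e1, show (ι l * g)⁻¹ * (ι l * g * ι j * (ι l * g)⁻¹) * (ι l * g)⁻¹⁻¹ = ι j by group] at e2
  obtain ⟨t, ht⟩ := h.ctl hC hj h1 (T3.mem_cent.mpr e2)
  rw [← ht, h.comm] at e2
  have e3 := h.ctl2 hC (h3 t (h.inj (by
    rw [map_pow, ht, map_one, conj_cube (expJ ι _ ⟨x3, m5, rfl⟩)])) e2)
    (fun e' => conj_ne_one (g := (ι l * g)⁻¹) (h.ne m8) (by rw [← ht, e', map_one])) m5
    (g := ι l * g) (by rw [ht]; group)
  simpa using mul_mem (inv_mem (⟨l, rfl⟩ : ι l ∈ ι.range)) e3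

theorem three_e1 (t : K) (h3 : t ^ 3 = 1) (e : t * e1 = e1 * t) : t ∈ J :=
  (k_B1 t ((k_N t).2.2.2 (Or.inl (conj_eq_iff.mpr e)))).2.1 h3

theorem three_y (t : K) (h3 : t ^ 3 = 1) (e : t * y = y * t) : t ∈ J :=
  (k_CY t ((k_N t).2.1 e)).2.1 h3

set_option maxHeartbeats 1000000 in
theorem Base.bad (h : Base ι) (hC : Subgroup.centralizer ({ι e1} : Set G) ≤ ι.range)
    (hux : IsConj (ι x3) (ι u)) : False := by
  classical
  have hι := h.inj
  have := Fintype.ofFinite G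
  obtain ⟨m1, -, -, m4, m5, m6, m7, m8, -⟩ := k_m
  obtain ⟨r, hr'⟩ := exists_reps hK reps 10 (by decide +kernel)
  have hr : ∀ s < 9, enc (r s : Perm (Fin 9)) = reps.getD s 0 := fun s hs => hr' s (by omega)
  have hpw : ∀ s < 9, r s ^ pws.getD s 0 ≠ 1 ∧ r s ^ pws.getD s 0 ∈ J ∧
      r s ^ ords.getD s 0 = 1 := by
    intro s hs
    have := (allLt_iff (fun s => !Nat.beq (powc 9 one (reps.getD s 0) (pws.getD s 0)) one &&
      memF (powc 9 one (reps.getD s 0) (pws.getD s 0)) LJ &&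
      Nat.beq (powc 9 one (reps.getD s 0) (ords.getD s 0)) one) 9).mp (by decide +kernel) s hs
    rw [Bool.and_eq_true, Bool.and_eq_true, memF_iff] at this
    rw [Ne, hK.pow_eq_one_iff enc_one, hK.pow_eq_one_iff enc_one, Subgroup.mem_subgroupOf,
      hJ.mem_iff, SubgroupClass.coe_pow, enc_pow (by norm_num) enc_one, hr s hs]
    exact ⟨by simpa only [Bool.not_eq_true', ← Bool.not_eq_true] using this.1.1, this.1.2, this.2⟩
  have hr1 : ∀ s < 9, r s ≠ 1 := fun s hs h => (hpw s hs).1 (by rw [h, one_pow])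
  have hT : ∀ s < 9, ∀ s' < 9, ∀ g : G, g * ι (r s') * g⁻¹ = ι (r s) → g ∈ ι.range := by
    intro s hs s' hs' g hg
    have e : ∀ m, g * ι (r s' ^ m) * g⁻¹ = ι (r s ^ m) := fun m => by
      rw [map_pow, map_pow, ← hg, conj_pow]
    have := (allLt_iff _ _).mp ((allLt_iff (fun s => allLt (fun s' =>
      memF (powc 9 one (reps.getD s 0) (pws.getD s' 0)) LJ ||
      !Nat.beq (powc 9 one (reps.getD s 0) (ords.getD s' 0)) one ||
      !Nat.beq (powc 9 one (reps.getD s' 0) (ords.getD s 0)) one) 9) 9).mp (by decide +kernel) s hs)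
      s' hs'
    rw [← hr s hs, ← hr s' hs', Bool.or_eq_true, Bool.or_eq_true, Bool.not_eq_true',
      Bool.not_eq_true', ← Bool.not_eq_true, ← Bool.not_eq_true, ← hK.pow_eq_one_iff enc_one,
      ← hK.pow_eq_one_iff enc_one, memF_iff, ← enc_pow (by norm_num) enc_one, ← hJ.mem_iff] at this
    rcases this with (h1 | h1) | h1
    · exact h.ctl2 hC (hpw s' hs').2.1 (hpw s' hs').1 h1 (e _)
    · exact absurd (hι (by rw [← e, (hpw s' hs').2.2]; simp)) h1
    · refine absurd (hι ?_) h1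
      have := e (ords.getD s 0)
      rw [(hpw s hs).2.2, map_one, mul_inv_eq_one, mul_eq_left] at this
      rw [this, map_one]
  have hx := orth_of_table' hK ι hι reps 9 r hr hT cent (by decide +kernel)
  obtain ⟨w, hw, s, hs, hΦ, hbd⟩ := classify_tables 9 9 (fun s => ι (r s))
    (fun s hs h => hr1 s hs (hι (by rw [h, map_one]))) cent hx r3 0 3 0 1 324
    (by norm_num) r3_mul_self conj_r3 S3702.P Q gR gt (by
      intro χ hχ a ha
      interval_cases a
      · exact int_of_table hK ι reps 9 r hr enc_one _ gM1 LM1 hS1 hM1 hMK1 T1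
          (by decide +kernel) (fun c => 0 * lk be1 c) (fun c => 0 * lk be1 c + lk la1 c) r3 _
          r3_eq (S3702.P.getD 0 []) (Q.getD 0 []) 3 324 (by decide +kernel) (by decide +kernel)
          (irr_isCharacter hχ)
      · exact int_of_table hK ι reps 9 r hr enc_one _ gM1 LM1 hS1 hM1 hMK1 T1
          (by decide +kernel) (fun c => 1 * lk be1 c) (fun c => 1 * lk be1 c + lk la1 c) r3 _
          r3_eq (S3702.P.getD 1 []) (Q.getD 1 []) 3 324 (by decide +kernel) (by decide +kernel)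
          (irr_isCharacter hχ)
      · exact int_of_table hK ι reps 9 r hr enc_one _ gM1 LM1 hS1 hM1 hMK1 T1
          (by decide +kernel) (fun c => 2 * lk be1 c) (fun c => 2 * lk be1 c + lk la1 c) r3 _
          r3_eq (S3702.P.getD 2 []) (Q.getD 2 []) 3 324 (by decide +kernel) (by decide +kernel)
          (irr_isCharacter hχ)
      · exact int_of_table hK ι reps 9 r hr enc_one _ gM1 LM1 hS1 hM1 hMK1 T1
          (by decide +kernel) (fun c => 3 * lk be1 c) (fun c => 3 * lk be1 c + lk la1 c) r3 _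
          r3_eq (S3702.P.getD 3 []) (Q.getD 3 []) 3 324 (by decide +kernel) (by decide +kernel)
          (irr_isCharacter hχ)
      · exact int_of_table hK ι reps 9 r hr enc_one _ gM2 LM2 hS2 hM2 hMK2 T2
          (by decide +kernel) (fun c => 0 * lk be2 c) (fun c => 0 * lk be2 c + lk la2 c) r3 _
          r3_eq (S3702.P.getD 4 []) (Q.getD 4 []) 6 324 (by decide +kernel) (by decide +kernel)
          (irr_isCharacter hχ)
      · exact int_of_table hK ι reps 9 r hr enc_one _ gM2 LM2 hS2 hM2 hMK2 T2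
          (by decide +kernel) (fun c => 1 * lk be2 c) (fun c => 1 * lk be2 c + lk la2 c) r3 _
          r3_eq (S3702.P.getD 5 []) (Q.getD 5 []) 6 324 (by decide +kernel) (by decide +kernel)
          (irr_isCharacter hχ)
      · exact int_of_table hK ι reps 9 r hr enc_one _ gM3 LM3 hS3 hM3 hMK3 T3
          (by decide +kernel) (fun c => 0 * lk be3 c) (fun c => 0 * lk be3 c + lk la3 c) r3 _
          r3_eq (S3702.P.getD 6 []) (Q.getD 6 []) 4 324 (by decide +kernel) (by decide +kernel)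
          (irr_isCharacter hχ)
      · exact int_of_table hK ι reps 9 r hr enc_one _ gM3 LM3 hS3 hM3 hMK3 T3
          (by decide +kernel) (fun c => 1 * lk be3 c) (fun c => 1 * lk be3 c + lk la3 c) r3 _
          r3_eq (S3702.P.getD 7 []) (Q.getD 7 []) 4 324 (by decide +kernel) (by decide +kernel)
          (irr_isCharacter hχ)
      · exact int_of_table hK ι reps 9 r hr enc_one _ gM3 LM3 hS3 hM3 hMK3 T3
          (by decide +kernel) (fun c => 2 * lk be3 c) (fun c => 2 * lk be3 c + lk la3 c) r3 _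
          r3_eq (S3702.P.getD 8 []) (Q.getD 8 []) 4 324 (by decide +kernel) (by decide +kernel)
          (irr_isCharacter hχ)
      )
    (by decide +kernel) (by decide +kernel) gA1 gY gW gL gV gS 50 (by decide +kernel)
    (by decide +kernel) (by decide +kernel)
  set cf := cfT 9 324 S3702.P Q r3 (fun s => ι (r s)) with hcf
  have hval : ∀ (f : G → ℂ) (v : List ℤ), (∀ a < 9, cf a f = ent v a) →
      f (ι (r 0)) = (dot 9 lX v : ℤ) ∧ f (ι (r 1)) = (dot 9 lY v : ℤ) ∧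
        f (ι (r 2)) = (dot 9 lZ v : ℤ) := by
    intro f v hv
    have h0 := sum_val_eq 9 9 324 (by norm_num) S3702.P Q r3 (fun s => ι (r s)) lX [1]
      (by decide +kernel) f v hv
    have h1 := sum_val_eq 9 9 324 (by norm_num) S3702.P Q r3 (fun s => ι (r s)) lY [0, 1]
      (by decide +kernel) f v hv
    have h2 := sum_val_eq 9 9 324 (by norm_num) S3702.P Q r3 (fun s => ι (r s)) lZ [0, 0, 1]
      (by decide +kernel) f v hv
    simp only [Finset.sum_range_succ, ent, List.getD_cons_succ, List.getD_cons_zero,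
      List.getD_nil, Finset.sum_range_zero] at h0 h1 h2
    refine ⟨?_, ?_, ?_⟩
    · simpa using h0
    · simpa using h1
    · simpa using h2
  have r0 : r 0 = e1 := by rw [hK.eq_iff, hr 0 (by norm_num), enc_e1]; rfl
  have r1 : r 1 = y := by rw [hK.eq_iff, hr 1 (by norm_num), enc_y]; rfl
  have r2 : r 2 = x3 := by rw [hK.eq_iff, hr 2 (by norm_num), enc_x3]; rfl
  have up : ∀ {a k : K}, IsConj a k → IsConj (ι a) (ι k) := fun e => ι.map_isConj e
  have dn : ∀ {a k : K} {g : G}, g * ι a * g⁻¹ = ι k → g ∈ ι.range → IsConj a k := by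
    rintro a k _ e ⟨l, rfl⟩
    exact isConj_iff.mpr ⟨l, hι (by simpa using e)⟩
  have cl : ∀ {a : K} {U : List ℕ} {m : ℕ}, a ∈ J → a ≠ 1 →
      (∀ t, t ^ 3 = 1 → t * a = a * t → t ∈ J) → U.Nodup ∧ (∀ c ∈ U, c ∈ L) ∧
      (∀ k, IsConj a k ↔ enc (k : Perm (Fin 9)) ∈ U) ∧
      Nat.card (Subgroup.centralizer ({a} : Set K)) = m → U.Nodup ∧ (∀ c ∈ U, c ∈ L) ∧
      (∀ k, IsConj (ι a) (ι k) ↔ enc (k : Perm (Fin 9)) ∈ U) ∧
      Nat.card (Subgroup.centralizer ({ι a} : Set G)) = m := fun a1 a2 a3 hU =>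
    ⟨hU.1, hU.2.1, fun k => ⟨fun e => by
      obtain ⟨g, hg⟩ := isConj_iff.mp e
      exact (hU.2.2.1 k).mp (dn hg (h.ti hC a1 a2 a3 g ⟨k, hg.symm⟩)),
      fun e => up ((hU.2.2.1 k).mpr e)⟩,
      (card_cent_eq ι hι (h.ctl hC a1 a2)).trans hU.2.2.2⟩
  have hUX := cl m1 m6 three_e1 (cls_of_table hK e1 _ enc_e1 UX 108
    (hU _ UX 108 (by decide +kernel)))
  have hUY := cl m4 m7 three_y (cls_of_table hK y _ enc_y UY 54 (hU _ UY 54 (by decide +kernel)))
  have hUZ : (UZ ++ UU).Nodup ∧ (∀ c ∈ UZ ++ UU, c ∈ L) ∧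
      (∀ k, IsConj (ι x3) (ι k) ↔ enc (k : Perm (Fin 9)) ∈ UZ ++ UU) ∧
      Nat.card (Subgroup.centralizer ({ι x3} : Set G)) = 81 := by
    obtain ⟨-, a2, a3, a4⟩ := cls_of_table hK x3 _ enc_x3 UZ 81 (hU _ UZ 81 (by decide +kernel))
    obtain ⟨-, b2, b3, -⟩ := cls_of_table hK u _ enc_u UU 9 (hU _ UU 9 (by decide +kernel))
    refine ⟨nodup_of_nodupB _ (by decide +kernel), fun c hc => (List.mem_append.mp hc).elim
      (a2 c) (b2 c), fun k => ?_, (card_cent_eq ι hι h.cx').trans a4⟩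
    rw [List.mem_append, ← a3, ← b3]
    refine ⟨fun e => ?_, fun e => e.elim up (fun e => hux.trans (up e))⟩
    obtain ⟨g, hg⟩ := isConj_iff.mp e
    refine (k_u k (hι (by
      rw [map_pow, ← hg, map_one, conj_cube (expJ ι _ ⟨x3, m5, rfl⟩)]))).imp
      (fun e => dn hg (h.ctl2 hC m5 m8 e hg)) ?_
    rintro ⟨l, e⟩
    exact (isConj_iff.mpr ⟨l, conj_eq_iff.mpr e⟩).symm
  have hctl : ∀ {a b c : K}, a ∈ J → b ∈ J → c ∈ J → c ≠ 1 →
      (∀ t, t ^ 3 = 1 → t * c = c * t → t ∈ J) →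
      ¬ (IsConj (ι a) (ι b) ∧ IsConj (ι b) (ι c)) → ∀ p q : G, IsConj (ι a) p → IsConj (ι b) q →
      p * q * ι c = 1 → p ∈ ι.range ∧ q ∈ ι.range := by
    intro a b c ha hb hc c1 c3 hn p q hp hq e
    have p3 : ∀ {a : K} {p : G}, a ∈ J → IsConj (ι a) p → p ^ 3 = 1 := fun ha hp => by
      obtain ⟨g, rfl⟩ := isConj_iff.mp hp
      exact conj_cube (expJ ι _ ⟨_, ha, rfl⟩)
    rcases triangle333' (p3 ha hp) (p3 hb hq) (expJ ι _ ⟨_, hc, rfl⟩) e with
      ⟨h1, h2⟩ | ⟨t, h1, h2, h3, h4, h5⟩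
    · exact absurd ⟨(hp.trans h1).trans hq.symm, hq.trans h2⟩ hn
    obtain ⟨s, rfl⟩ := h.ctl hC hc c1 (T3.mem_cent.mpr h5.eq)
    have := h.ctl hC (c3 s (hι (by rw [map_pow, h2, map_one])) (h.comm.mp h5.eq))
      (fun e => h1 (by rw [e, map_one]))
    exact ⟨this (T3.mem_cent.mpr h3.symm.eq), this (T3.mem_cent.mpr h4.symm.eq)⟩
  have nXY : ¬ IsConj (ι e1) (ι y) := by rw [hUX.2.2.1, enc_y]; decide +kernel
  have nXZ : ¬ IsConj (ι e1) (ι x3) := by rw [hUX.2.2.1, enc_x3]; decide +kernel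
  have nYZ : ¬ IsConj (ι y) (ι x3) := by rw [hUY.2.2.1, enc_x3]; decide +kernel
  have t0 := triple_of_lists hK ι hι e1 e1 y _ one enc_y enc_one UX UX 108 108 2 hUX hUX
    (by decide +kernel) (hctl m1 m1 m4 m7 three_y (fun e => nXY e.2))
  have t1 := triple_of_lists hK ι hι e1 x3 e1 _ one enc_e1 enc_one UX _ 108 81 0 hUX hUZ
    (by decide +kernel) (hctl m1 m5 m1 m6 three_e1 (fun e => nXZ e.1))
  have t2 := triple_of_lists hK ι hι y y e1 _ one enc_e1 enc_one UY UY 54 54 4 hUY hUY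
    (by decide +kernel) (hctl m4 m4 m1 m6 three_e1 (fun e => nXY e.2.symm))
  have t3 := triple_of_lists hK ι hι y x3 e1 _ one enc_e1 enc_one UY _ 54 81 4 hUY hUZ
    (by decide +kernel) (hctl m4 m5 m1 m6 three_e1 (fun e => nYZ e.1))
  have t4 := triple_of_lists hK ι hι x3 x3 e1 _ one enc_e1 enc_one _ _ 81 81 4 hUZ hUZ
    (by decide +kernel) (hctl m5 m5 m1 m6 three_e1 (fun e => nXZ e.2.symm))
  have t5 := triple_of_lists hK ι hι y x3 y _ one enc_y enc_one UY _ 54 81 4 hUY hUZ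
    (by decide +kernel) (hctl m4 m5 m4 m7 three_y (fun e => nYZ e.1))
  have t6 := triple_of_lists hK ι hι x3 x3 y _ one enc_y enc_one _ _ 81 81 38 hUZ hUZ
    (by decide +kernel) (hctl m5 m5 m4 m7 three_y (fun e => nYZ e.2.symm))
  rw [← r0, ← r1] at t0 t2
  rw [← r0, ← r2] at t1 t4
  rw [← r0, ← r1, ← r2] at t3
  rw [← r1, ← r2] at t5 t6
  have hcub : ∀ c : List ℤ, (Nat.card G : ℂ) * (cub c 1 1 1 + (s.map (fun f =>
      cub c (f (ι (r 0))) (f (ι (r 1))) (f (ι (r 2))) / f 1)).sum) =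
      ent c 0 * 23328 + ent c 2 * 11664 + ent c 3 * 17496 + ent c 4 * 26244 + ent c 5 * 17496
        + ent c 6 * 249318 := by
    intro c
    have := hΦ (fun f => cub c (f (ι (r 0))) (f (ι (r 1))) (f (ι (r 2))) / f 1)
      (fun f => by simp only [cub, Pi.neg_apply]; ring)
      (fun χ _ _ h => by
        obtain ⟨e0, e1, e2⟩ := hval χ [] (fun a ha => by rw [h a ha]; simp [ent])
        simp only [e0, e1, e2]
        simp [dot, sumLt, ent, cub])
    simp only [Pi.one_apply, div_one] at this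
    rw [← this]
    simp only [cub, add_div, mul_div_assoc ((ent c _ : ℤ) : ℂ), Finset.sum_add_distrib,
      ← Finset.mul_sum]
    push_cast at t0 t1 t2 t3 t4 t5 t6
    linear_combination ent c 0 * t0 + ent c 1 * t1 + ent c 2 * t2 + ent c 3 * t3 + ent c 4 * t4
      + ent c 5 * t5 + ent c 6 * t6
  simp only [gS, List.mem_cons, List.not_mem_nil, or_false] at hw
  rcases hw with rfl | rfl
  · simp only [List.forall₂_cons_right_iff, List.forall₂_nil_right_iff] at hs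
    obtain ⟨f0, _, ⟨i0, -, -, c0⟩, ⟨f1, _, ⟨i1, -, -, c1⟩, ⟨f2, _, ⟨i2, -, -, c2⟩, ⟨f3, _, ⟨i3,
      -, -, c3⟩, ⟨f4, _, ⟨i4, -, -, c4⟩, ⟨f5, _, ⟨i5, -, -, c5⟩, ⟨f6, _, ⟨i6, -, -, c6⟩, ⟨f7, _,
      ⟨i7, -, -, c7⟩, ⟨f8, _, ⟨i8, -, -, c8⟩, ⟨f9, _, ⟨i9, -, -, c9⟩, ⟨f10, _, ⟨i10, -, -, c10⟩,
      ⟨f11, _, ⟨i11, -, -, c11⟩, ⟨f12, _, ⟨i12, -, -, c12⟩, rfl, rfl⟩, rfl⟩, rfl⟩, rfl⟩, rfl⟩,
      rfl⟩, rfl⟩, rfl⟩, rfl⟩, rfl⟩, rfl⟩, rfl⟩, rfl⟩ := hs
    have h1 := hcub [-5, 0, -11, 0, 0, 8, 8]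
    simp only [List.map_cons, List.map_nil, List.sum_cons, List.sum_nil, hval _ _ c0,
      hval _ _ c1, hval _ _ c2, hval _ _ c3, hval _ _ c4, hval _ _ c5, hval _ _ c6, hval _ _ c7,
      hval _ _ c8, hval _ _ c9, hval _ _ c10, hval _ _ c11, hval _ _ c12] at h1
    simp [dot, sumLt, ent, cub, lX, lY, lZ, -Nat.card_eq_fintype_card] at h1
    norm_num at h1
  · simp only [List.forall₂_cons_right_iff, List.forall₂_nil_right_iff] at hs
    obtain ⟨f0, _, ⟨i0, -, -, c0⟩, ⟨f1, _, ⟨i1, -, -, c1⟩, ⟨f2, _, ⟨i2, -, -, c2⟩, ⟨f3, _, ⟨i3,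
      -, -, c3⟩, ⟨f4, _, ⟨i4, -, -, c4⟩, ⟨f5, _, ⟨i5, -, -, c5⟩, ⟨f6, _, ⟨i6, -, -, c6⟩, ⟨f7, _,
      ⟨i7, -, -, c7⟩, ⟨f8, _, ⟨i8, -, -, c8⟩, ⟨f9, _, ⟨i9, -, -, c9⟩, ⟨f10, _, ⟨i10, -, -, c10⟩,
      ⟨f11, _, ⟨i11, -, -, c11⟩, rfl, rfl⟩, rfl⟩, rfl⟩, rfl⟩, rfl⟩, rfl⟩, rfl⟩, rfl⟩, rfl⟩, rfl⟩,
      rfl⟩, rfl⟩ := hs
    have h1 := hcub [0, 1, -3, -3, 1, 2, 2]
    simp only [List.map_cons, List.map_nil, List.sum_cons, List.sum_nil, hval _ _ c0,
      hval _ _ c1, hval _ _ c2, hval _ _ c3, hval _ _ c4, hval _ _ c5, hval _ _ c6, hval _ _ c7,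
      hval _ _ c8, hval _ _ c9, hval _ _ c10, hval _ _ c11] at h1
    obtain ⟨d, hd, hd'⟩ := i5.one_int
    simp [dot, sumLt, ent, cub, lX, lY, lZ, -Nat.card_eq_fintype_card, hd'] at h1
    have hd0 : (d : ℂ) ≠ 0 := by exact_mod_cast hd
    field_simp at h1
    have h2 : (Nat.card G : ℂ) = 243 * (24 * d) := by linear_combination h1 / 81
    have h3 : (Nat.card G : ℤ) = 243 * (24 * d) := by exact_mod_cast h2
    exact h.not243 (Int.natCast_dvd_natCast.mp ⟨_, h3⟩)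

theorem Base.top_of_cent (h : Base ι) (hC : Subgroup.centralizer ({ι e1} : Set G) ≤ ι.range) :
    ι.range = ⊤ := by
  obtain ⟨m1, -, -, m4, m5, m6, m7, m8, -⟩ := k_m
  refine S3702.main ι h.inj (fun k h1 hk g hg => ?_)
  have tr : ∀ {a l : K}, l * k = a * l → (∀ g, g * ι a * g⁻¹ ∈ ι.range → g ∈ ι.range) →
      g ∈ ι.range := fun {a l} e ha => by
    have := ha (g * (ι l)⁻¹) (by
      rw [← conj_eq_iff.mpr e]
      simpa [mul_assoc] using hg)
    simpa using mul_mem this (⟨l, rfl⟩ : ι l ∈ ι.range)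
  obtain ⟨l, e | e | e⟩ := (k_J k hk).2.2.2.2.2.resolve_left h1
  · exact tr e (h.ti hC m1 m6 three_e1)
  · exact tr e (h.ti hC m4 m7 three_y)
  refine tr e (fun g ⟨a, ha⟩ => ?_)
  rcases k_u a (h.inj (by rw [map_pow, ha, map_one, conj_cube (expJ ι _ ⟨x3, m5, rfl⟩)])) with
    e | ⟨l, e⟩
  · exact h.ctl2 hC m5 m8 e ha.symm
  · exact (h.bad hC ((isConj_iff.mpr ⟨g, ha.symm⟩).trans
      (ι.map_isConj (isConj_iff.mpr ⟨l, conj_eq_iff.mpr e⟩)))).elim

end Cfsg.Agent.H1.A9K
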