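import Cfsg.Agent.H1.A9Data

/-!
# Data in the normalizer of a three-cycle in `A_9`
-/

set_option autoImplicit false
set_option maxRecDepth 100000
set_option synthInstance.maxSize 100000
set_option synthInstance.maxHeartbeats 1000000
set_option linter.unusedSimpArgs false

namespace Cfsg.Agent.H1.A9L

open Cfsg.Agent.L0 Cfsg.Agent.L0.Code Equiv Cfsg.Agent.H1.PC

open Cfsg.Agent.H1.A9K (h9 sp sp_eq J0 hJ0 B10 hB10)

/-- Generators (3 4 5), (3 4)(5 6), (3 4)(6 8), (3 4)(7 8), (1 2)(3 4), (0 1)(3 4). -/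
def gK1 : List ℕ := [nat_lit 0x876354210, nat_lit 0x875634210, nat_lit 0x678534210, nat_lit 0x786534210, nat_lit 0x876534120, nat_lit 0x876534201]
def LK1 : List ℕ := [
  nat_lit 0x435687012, nat_lit 0x543687012, nat_lit 0x536487012, nat_lit 0x346587012,
  nat_lit 0x534867012, nat_lit 0x345867012, nat_lit 0x436857012, nat_lit 0x546837012,
  nat_lit 0x534678012, nat_lit 0x345678012, nat_lit 0x436578012, nat_lit 0x546378012,
  nat_lit 0x536874012, nat_lit 0x346875012, nat_lit 0x435876012, nat_lit 0x543876012,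
  nat_lit 0x345687102, nat_lit 0x354687012, nat_lit 0x345687021, nat_lit 0x634587012,
  nat_lit 0x534687102, nat_lit 0x534687021, nat_lit 0x645387012, nat_lit 0x438567012,
  nat_lit 0x548367012, nat_lit 0x546387102, nat_lit 0x456387012, nat_lit 0x546387021,
  nat_lit 0x436587102, nat_lit 0x436587021, nat_lit 0x538647012, nat_lit 0x348657012,
  nat_lit 0x534786012, nat_lit 0x345786012, nat_lit 0x436785012, nat_lit 0x546783012,
  nat_lit 0x536748012, nat_lit 0x346758012, nat_lit 0x435768012, nat_lit 0x543768012,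
  nat_lit 0x635847012, nat_lit 0x643857012, nat_lit 0x543867102, nat_lit 0x453867012,
  nat_lit 0x543867021, nat_lit 0x435867102, nat_lit 0x435867021, nat_lit 0x346857102,
  nat_lit 0x356847012, nat_lit 0x346857021, nat_lit 0x536847102, nat_lit 0x536847021,
  nat_lit 0x538476012, nat_lit 0x348576012, nat_lit 0x438675012, nat_lit 0x548673012,
  nat_lit 0x635478012, nat_lit 0x643578012, nat_lit 0x543678102, nat_lit 0x453678012,
  nat_lit 0x543678021, nat_lit 0x435678102, nat_lit 0x435678021, nat_lit 0x346578102,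
  nat_lit 0x356478012, nat_lit 0x346578021, nat_lit 0x536478102, nat_lit 0x536478021,
  nat_lit 0x634875012, nat_lit 0x645873012, nat_lit 0x546873102, nat_lit 0x456873012,
  nat_lit 0x546873021, nat_lit 0x436875102, nat_lit 0x436875021, nat_lit 0x345876102,
  nat_lit 0x354876012, nat_lit 0x345876021, nat_lit 0x534876102, nat_lit 0x534876021,
  nat_lit 0x453687102, nat_lit 0x435687201, nat_lit 0x463587012, nat_lit 0x453687021,
  nat_lit 0x435687120, nat_lit 0x653487012, nat_lit 0x843567012, nat_lit 0x643587102,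
  nat_lit 0x643587021, nat_lit 0x543687201, nat_lit 0x543687120, nat_lit 0x835467012,
  nat_lit 0x635487102, nat_lit 0x635487021, nat_lit 0x537468012, nat_lit 0x347568012,
  nat_lit 0x638457012, nat_lit 0x648537012, nat_lit 0x348567102, nat_lit 0x358467012,
  nat_lit 0x348567021, nat_lit 0x538467102, nat_lit 0x538467021, nat_lit 0x365487012,
  nat_lit 0x356487102, nat_lit 0x536487201, nat_lit 0x356487021, nat_lit 0x536487120,
  nat_lit 0x346587201, nat_lit 0x346587120, nat_lit 0x437658012, nat_lit 0x547638012,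
  nat_lit 0x548637102, nat_lit 0x458637012, nat_lit 0x548637021, nat_lit 0x438657102,
  nat_lit 0x438657021, nat_lit 0x538764012, nat_lit 0x348765012, nat_lit 0x438756012,
  nat_lit 0x548736012, nat_lit 0x635784012, nat_lit 0x643785012, nat_lit 0x543786102,
  nat_lit 0x453786012, nat_lit 0x543786021, nat_lit 0x435786102, nat_lit 0x435786021,
  nat_lit 0x346785102, nat_lit 0x356784012, nat_lit 0x346785021, nat_lit 0x536784102,
  nat_lit 0x536784021, nat_lit 0x634758012, nat_lit 0x645738012, nat_lit 0x546738102,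
  nat_lit 0x456738012, nat_lit 0x546738021, nat_lit 0x436758102, nat_lit 0x436758021,
  nat_lit 0x345768102, nat_lit 0x354768012, nat_lit 0x345768021, nat_lit 0x534768102,
  nat_lit 0x534768021, nat_lit 0x834657012, nat_lit 0x845637012, nat_lit 0x645837102,
  nat_lit 0x654837012, nat_lit 0x645837021, nat_lit 0x634857102, nat_lit 0x634857021,
  nat_lit 0x364857012, nat_lit 0x354867102, nat_lit 0x534867201, nat_lit 0x354867021,
  nat_lit 0x534867120, nat_lit 0x345867201, nat_lit 0x345867120, nat_lit 0x465837012,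
  nat_lit 0x456837102, nat_lit 0x436857201, nat_lit 0x456837021, nat_lit 0x436857120,
  nat_lit 0x546837201, nat_lit 0x546837120, nat_lit 0x537684012, nat_lit 0x347685012,
  nat_lit 0x437586012, nat_lit 0x547386012, nat_lit 0x638574012, nat_lit 0x648375012,
  nat_lit 0x548376102, nat_lit 0x458376012, nat_lit 0x548376021, nat_lit 0x438576102,
  nat_lit 0x438576021, nat_lit 0x348675102, nat_lit 0x358674012, nat_lit 0x348675021,
  nat_lit 0x538674102, nat_lit 0x538674021, nat_lit 0x834576012, nat_lit 0x845376012,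
  nat_lit 0x645378102, nat_lit 0x654378012, nat_lit 0x645378021, nat_lit 0x634578102,
  nat_lit 0x634578021, nat_lit 0x364578012, nat_lit 0x354678102, nat_lit 0x534678201,
  nat_lit 0x354678021, nat_lit 0x534678120, nat_lit 0x345678201, nat_lit 0x345678120,
  nat_lit 0x345687210, nat_lit 0x465378012, nat_lit 0x456378102, nat_lit 0x436578201,
  nat_lit 0x456378021, nat_lit 0x436578120, nat_lit 0x546378201, nat_lit 0x546378120,
  nat_lit 0x835674012, nat_lit 0x843675012, nat_lit 0x643875102, nat_lit 0x653874012,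
  nat_lit 0x643875021, nat_lit 0x635874102, nat_lit 0x635874021, nat_lit 0x365874012,
  nat_lit 0x356874102, nat_lit 0x536874201, nat_lit 0x356874021, nat_lit 0x536874120,
  nat_lit 0x346875201, nat_lit 0x346875120, nat_lit 0x463875012, nat_lit 0x453876102,
  nat_lit 0x435876201, nat_lit 0x453876021, nat_lit 0x435876120, nat_lit 0x543876201,
  nat_lit 0x543876120, nat_lit 0x364587102, nat_lit 0x354687201, nat_lit 0x564387012,
  nat_lit 0x384567012, nat_lit 0x364587021, nat_lit 0x354687120, nat_lit 0x846357012,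
  nat_lit 0x836547012, nat_lit 0x734568012, nat_lit 0x854367012, nat_lit 0x654387102,
  nat_lit 0x654387021, nat_lit 0x834567102, nat_lit 0x834567021, nat_lit 0x634587201,
  nat_lit 0x634587120, nat_lit 0x534687210, nat_lit 0x745368012, nat_lit 0x845367102,
  nat_lit 0x845367021, nat_lit 0x645387201, nat_lit 0x645387120, nat_lit 0x537846012,
  nat_lit 0x347856012, nat_lit 0x437865012, nat_lit 0x547863012, nat_lit 0x637548012,
  nat_lit 0x647358012, nat_lit 0x547368102, nat_lit 0x457368012, nat_lit 0x547368021,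
  nat_lit 0x437568102, nat_lit 0x437568021, nat_lit 0x648357102, nat_lit 0x658347012,
  nat_lit 0x648357021, nat_lit 0x638547102, nat_lit 0x638547021, nat_lit 0x468357012,
  nat_lit 0x458367102, nat_lit 0x438567201, nat_lit 0x458367021, nat_lit 0x438567120,
  nat_lit 0x548367201, nat_lit 0x548367120, nat_lit 0x546387210, nat_lit 0x485367012,
  nat_lit 0x465387102, nat_lit 0x465387021, nat_lit 0x456387201, nat_lit 0x456387120,
  nat_lit 0x436587210, nat_lit 0x347658102, nat_lit 0x357648012, nat_lit 0x347658021,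
  nat_lit 0x537648102, nat_lit 0x537648021, nat_lit 0x368547012, nat_lit 0x358647102,
  nat_lit 0x538647201, nat_lit 0x358647021, nat_lit 0x538647120, nat_lit 0x348657201,
  nat_lit 0x348657120, nat_lit 0x638745012, nat_lit 0x648753012, nat_lit 0x548763102,
  nat_lit 0x458763012, nat_lit 0x548763021, nat_lit 0x438765102, nat_lit 0x438765021,
  nat_lit 0x348756102, nat_lit 0x358746012, nat_lit 0x348756021, nat_lit 0x538746102,
  nat_lit 0x538746021, nat_lit 0x834765012, nat_lit 0x845763012, nat_lit 0x645783102,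
  nat_lit 0x654783012, nat_lit 0x645783021, nat_lit 0x634785102, nat_lit 0x634785021,
  nat_lit 0x364785012, nat_lit 0x354786102, nat_lit 0x534786201, nat_lit 0x354786021,
  nat_lit 0x534786120, nat_lit 0x345786201, nat_lit 0x345786120, nat_lit 0x345876210,
  nat_lit 0x465783012, nat_lit 0x456783102, nat_lit 0x436785201, nat_lit 0x456783021,
  nat_lit 0x436785120, nat_lit 0x546783201, nat_lit 0x546783120, nat_lit 0x835746012,
  nat_lit 0x843756012, nat_lit 0x643758102, nat_lit 0x653748012, nat_lit 0x643758021,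
  nat_lit 0x635748102, nat_lit 0x635748021, nat_lit 0x365748012, nat_lit 0x356748102,
  nat_lit 0x536748201, nat_lit 0x356748021, nat_lit 0x536748120, nat_lit 0x346758201,
  nat_lit 0x346758120, nat_lit 0x346857210, nat_lit 0x463758012, nat_lit 0x453768102,
  nat_lit 0x435768201, nat_lit 0x453768021, nat_lit 0x435768120, nat_lit 0x543768201,
  nat_lit 0x543768120, nat_lit 0x345768210, nat_lit 0x735648012, nat_lit 0x743658012,
  nat_lit 0x843657102, nat_lit 0x853647012, nat_lit 0x843657021, nat_lit 0x835647102,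
  nat_lit 0x835647021, nat_lit 0x563847012, nat_lit 0x653847102, nat_lit 0x635847201,
  nat_lit 0x653847021, nat_lit 0x635847120, nat_lit 0x643857201, nat_lit 0x643857120,
  nat_lit 0x543867210, nat_lit 0x483657012, nat_lit 0x463857102, nat_lit 0x463857021,
  nat_lit 0x453867201, nat_lit 0x453867120, nat_lit 0x435867210, nat_lit 0x385647012,
  nat_lit 0x365847102, nat_lit 0x365847021, nat_lit 0x356847201, nat_lit 0x356847120,
  nat_lit 0x536847210, nat_lit 0x637485012, nat_lit 0x647583012, nat_lit 0x547683102,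
  nat_lit 0x457683012, nat_lit 0x547683021, nat_lit 0x437685102, nat_lit 0x437685021,
  nat_lit 0x347586102, nat_lit 0x357486012, nat_lit 0x347586021, nat_lit 0x537486102,
  nat_lit 0x537486021, nat_lit 0x735486012, nat_lit 0x743586012, nat_lit 0x836475012,
  nat_lit 0x846573012, nat_lit 0x648573102, nat_lit 0x658473012, nat_lit 0x648573021,
  nat_lit 0x638475102, nat_lit 0x638475021, nat_lit 0x368475012, nat_lit 0x358476102,
  nat_lit 0x538476201, nat_lit 0x358476021, nat_lit 0x538476120, nat_lit 0x348576201,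
  nat_lit 0x348576120, nat_lit 0x346578210, nat_lit 0x468573012, nat_lit 0x458673102,
  nat_lit 0x438675201, nat_lit 0x458673021, nat_lit 0x438675120, nat_lit 0x548673201,
  nat_lit 0x548673120, nat_lit 0x843576102, nat_lit 0x853476012, nat_lit 0x843576021,
  nat_lit 0x835476102, nat_lit 0x835476021, nat_lit 0x563478012, nat_lit 0x653478102,
  nat_lit 0x635478201, nat_lit 0x653478021, nat_lit 0x635478120, nat_lit 0x643578201,
  nat_lit 0x643578120, nat_lit 0x543678210, nat_lit 0x483576012, nat_lit 0x463578102,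
  nat_lit 0x463578021, nat_lit 0x453678201, nat_lit 0x453678120, nat_lit 0x435678210,
  nat_lit 0x385476012, nat_lit 0x365478102, nat_lit 0x365478021, nat_lit 0x356478201,
  nat_lit 0x356478120, nat_lit 0x536478210, nat_lit 0x734685012, nat_lit 0x745683012,
  nat_lit 0x845673102, nat_lit 0x854673012, nat_lit 0x845673021, nat_lit 0x834675102,
  nat_lit 0x834675021, nat_lit 0x564873012, nat_lit 0x654873102, nat_lit 0x634875201,
  nat_lit 0x654873021, nat_lit 0x634875120, nat_lit 0x645873201, nat_lit 0x645873120,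
  nat_lit 0x546873210, nat_lit 0x485673012, nat_lit 0x465873102, nat_lit 0x465873021,
  nat_lit 0x456873201, nat_lit 0x456873120, nat_lit 0x436875210, nat_lit 0x384675012,
  nat_lit 0x364875102, nat_lit 0x364875021, nat_lit 0x354876201, nat_lit 0x354876120,
  nat_lit 0x534876210, nat_lit 0x453687210, nat_lit 0x563487102, nat_lit 0x483567102,
  nat_lit 0x463587201, nat_lit 0x473568012, nat_lit 0x583467012, nat_lit 0x563487021,
  nat_lit 0x483567021, nat_lit 0x463587120, nat_lit 0x736458012, nat_lit 0x856437012,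
  nat_lit 0x836457102, nat_lit 0x836457021, nat_lit 0x746538012, nat_lit 0x846537102,
  nat_lit 0x846537021, nat_lit 0x863457012, nat_lit 0x743568102, nat_lit 0x753468012,
  nat_lit 0x743568021, nat_lit 0x853467102, nat_lit 0x853467021, nat_lit 0x653487201,
  nat_lit 0x653487120, nat_lit 0x843567201, nat_lit 0x843567120, nat_lit 0x643587210,
  nat_lit 0x735468102, nat_lit 0x735468021, nat_lit 0x835467201, nat_lit 0x835467120,
  nat_lit 0x635487210, nat_lit 0x637854012, nat_lit 0x647835012, nat_lit 0x547836102,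
  nat_lit 0x457836012, nat_lit 0x547836021, nat_lit 0x437856102, nat_lit 0x437856021,
  nat_lit 0x347865102, nat_lit 0x357864012, nat_lit 0x347865021, nat_lit 0x537864102,
  nat_lit 0x537864021, nat_lit 0x837456012, nat_lit 0x847536012, nat_lit 0x647538102,
  nat_lit 0x657438012, nat_lit 0x647538021, nat_lit 0x637458102, nat_lit 0x637458021,
  nat_lit 0x367458012, nat_lit 0x357468102, nat_lit 0x537468201, nat_lit 0x357468021,
  nat_lit 0x537468120, nat_lit 0x347568201, nat_lit 0x347568120, nat_lit 0x348567210,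
  nat_lit 0x568437012, nat_lit 0x658437102, nat_lit 0x638457201, nat_lit 0x658437021,
  nat_lit 0x638457120, nat_lit 0x648537201, nat_lit 0x648537120, nat_lit 0x386457012,
  nat_lit 0x368457102, nat_lit 0x368457021, nat_lit 0x358467201, nat_lit 0x358467120,
  nat_lit 0x538467210, nat_lit 0x375468012, nat_lit 0x385467102, nat_lit 0x385467021,
  nat_lit 0x365487201, nat_lit 0x365487120, nat_lit 0x356487210, nat_lit 0x467538012,
  nat_lit 0x457638102, nat_lit 0x437658201, nat_lit 0x457638021, nat_lit 0x437658120,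
  nat_lit 0x547638201, nat_lit 0x547638120, nat_lit 0x548637210, nat_lit 0x486537012,
  nat_lit 0x468537102, nat_lit 0x468537021, nat_lit 0x458637201, nat_lit 0x458637120,
  nat_lit 0x438657210, nat_lit 0x735864012, nat_lit 0x743865012, nat_lit 0x836754012,
  nat_lit 0x846735012, nat_lit 0x648735102, nat_lit 0x658734012, nat_lit 0x648735021,
  nat_lit 0x638754102, nat_lit 0x638754021, nat_lit 0x368754012, nat_lit 0x358764102,
  nat_lit 0x538764201, nat_lit 0x358764021, nat_lit 0x538764120, nat_lit 0x348765201,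
  nat_lit 0x348765120, nat_lit 0x346785210, nat_lit 0x468735012, nat_lit 0x458736102,
  nat_lit 0x438756201, nat_lit 0x458736021, nat_lit 0x438756120, nat_lit 0x548736201,
  nat_lit 0x548736120, nat_lit 0x843765102, nat_lit 0x853764012, nat_lit 0x843765021,
  nat_lit 0x835764102, nat_lit 0x835764021, nat_lit 0x563784012, nat_lit 0x653784102,
  nat_lit 0x635784201, nat_lit 0x653784021, nat_lit 0x635784120, nat_lit 0x643785201,
  nat_lit 0x643785120, nat_lit 0x543786210, nat_lit 0x483765012, nat_lit 0x463785102,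
  nat_lit 0x463785021, nat_lit 0x453786201, nat_lit 0x453786120, nat_lit 0x435786210,
  nat_lit 0x385764012, nat_lit 0x365784102, nat_lit 0x365784021, nat_lit 0x356784201,
  nat_lit 0x356784120, nat_lit 0x536784210, nat_lit 0x734856012, nat_lit 0x745836012,
  nat_lit 0x845736102, nat_lit 0x854736012, nat_lit 0x845736021, nat_lit 0x834756102,
  nat_lit 0x834756021, nat_lit 0x564738012, nat_lit 0x654738102, nat_lit 0x634758201,
  nat_lit 0x654738021, nat_lit 0x634758120, nat_lit 0x645738201, nat_lit 0x645738120,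
  nat_lit 0x546738210, nat_lit 0x485736012, nat_lit 0x465738102, nat_lit 0x465738021,
  nat_lit 0x456738201, nat_lit 0x456738120, nat_lit 0x436758210, nat_lit 0x384756012,
  nat_lit 0x364758102, nat_lit 0x364758021, nat_lit 0x354768201, nat_lit 0x354768120,
  nat_lit 0x534768210, nat_lit 0x745638102, nat_lit 0x754638012, nat_lit 0x745638021,
  nat_lit 0x734658102, nat_lit 0x734658021, nat_lit 0x864537012, nat_lit 0x854637102,
  nat_lit 0x834657201, nat_lit 0x854637021, nat_lit 0x834657120, nat_lit 0x845637201,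
  nat_lit 0x845637120, nat_lit 0x645837210, nat_lit 0x374658012, nat_lit 0x584637012,
  nat_lit 0x564837102, nat_lit 0x564837021, nat_lit 0x654837201, nat_lit 0x654837120,
  nat_lit 0x634857210, nat_lit 0x384657102, nat_lit 0x384657021, nat_lit 0x364857201,
  nat_lit 0x364857120, nat_lit 0x354867210, nat_lit 0x475638012, nat_lit 0x485637102,
  nat_lit 0x485637021, nat_lit 0x465837201, nat_lit 0x465837120, nat_lit 0x456837210,
  nat_lit 0x837564012, nat_lit 0x847365012, nat_lit 0x647385102, nat_lit 0x657384012,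
  nat_lit 0x647385021, nat_lit 0x637584102, nat_lit 0x637584021, nat_lit 0x367584012,
  nat_lit 0x357684102, nat_lit 0x537684201, nat_lit 0x357684021, nat_lit 0x537684120,
  nat_lit 0x347685201, nat_lit 0x347685120, nat_lit 0x348675210, nat_lit 0x467385012,
  nat_lit 0x457386102, nat_lit 0x437586201, nat_lit 0x457386021, nat_lit 0x437586120,
  nat_lit 0x547386201, nat_lit 0x547386120, nat_lit 0x347586210, nat_lit 0x736584012,
  nat_lit 0x746385012, nat_lit 0x745386102, nat_lit 0x754386012, nat_lit 0x745386021,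
  nat_lit 0x734586102, nat_lit 0x734586021, nat_lit 0x846375102, nat_lit 0x856374012,
  nat_lit 0x846375021, nat_lit 0x836574102, nat_lit 0x836574021, nat_lit 0x568374012,
  nat_lit 0x658374102, nat_lit 0x638574201, nat_lit 0x658374021, nat_lit 0x638574120,
  nat_lit 0x648375201, nat_lit 0x648375120, nat_lit 0x548376210, nat_lit 0x486375012,
  nat_lit 0x468375102, nat_lit 0x468375021, nat_lit 0x458376201, nat_lit 0x458376120,
  nat_lit 0x438576210, nat_lit 0x386574012, nat_lit 0x368574102, nat_lit 0x368574021,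
  nat_lit 0x358674201, nat_lit 0x358674120, nat_lit 0x538674210, nat_lit 0x864375012,
  nat_lit 0x854376102, nat_lit 0x834576201, nat_lit 0x854376021, nat_lit 0x834576120,
  nat_lit 0x845376201, nat_lit 0x845376120, nat_lit 0x645378210, nat_lit 0x374586012,
  nat_lit 0x584376012, nat_lit 0x564378102, nat_lit 0x564378021, nat_lit 0x654378201,
  nat_lit 0x654378120, nat_lit 0x634578210, nat_lit 0x384576102, nat_lit 0x384576021,
  nat_lit 0x364578201, nat_lit 0x364578120, nat_lit 0x354678210, nat_lit 0x475386012,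
  nat_lit 0x485376102, nat_lit 0x485376021, nat_lit 0x465378201, nat_lit 0x465378120,
  nat_lit 0x456378210, nat_lit 0x743685102, nat_lit 0x753684012, nat_lit 0x743685021,
  nat_lit 0x735684102, nat_lit 0x735684021, nat_lit 0x863574012, nat_lit 0x853674102,
  nat_lit 0x835674201, nat_lit 0x853674021, nat_lit 0x835674120, nat_lit 0x843675201,
  nat_lit 0x843675120, nat_lit 0x643875210, nat_lit 0x375684012, nat_lit 0x583674012,
  nat_lit 0x563874102, nat_lit 0x563874021, nat_lit 0x653874201, nat_lit 0x653874120,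
  nat_lit 0x635874210, nat_lit 0x385674102, nat_lit 0x385674021, nat_lit 0x365874201,
  nat_lit 0x365874120, nat_lit 0x356874210, nat_lit 0x473685012, nat_lit 0x483675102,
  nat_lit 0x483675021, nat_lit 0x463875201, nat_lit 0x463875120, nat_lit 0x453876210,
  nat_lit 0x364587210, nat_lit 0x374568102, nat_lit 0x584367102, nat_lit 0x564387201,
  nat_lit 0x384567201, nat_lit 0x684357012, nat_lit 0x574368012, nat_lit 0x374568021,
  nat_lit 0x584367021, nat_lit 0x564387120, nat_lit 0x384567120, nat_lit 0x738546012,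
  nat_lit 0x748356012, nat_lit 0x865347012, nat_lit 0x746358102, nat_lit 0x756348012,
  nat_lit 0x746358021, nat_lit 0x856347102, nat_lit 0x856347021, nat_lit 0x846357201,
  nat_lit 0x846357120, nat_lit 0x736548102, nat_lit 0x736548021, nat_lit 0x836547201,
  nat_lit 0x836547120, nat_lit 0x764358012, nat_lit 0x864357102, nat_lit 0x864357021,
  nat_lit 0x754368102, nat_lit 0x734568201, nat_lit 0x754368021, nat_lit 0x734568120,
  nat_lit 0x854367201, nat_lit 0x854367120, nat_lit 0x654387210, nat_lit 0x834567210,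
  nat_lit 0x745368201, nat_lit 0x745368120, nat_lit 0x845367210, nat_lit 0x837645012,
  nat_lit 0x847653012, nat_lit 0x647853102, nat_lit 0x657843012, nat_lit 0x647853021,
  nat_lit 0x637845102, nat_lit 0x637845021, nat_lit 0x367845012, nat_lit 0x357846102,
  nat_lit 0x537846201, nat_lit 0x357846021, nat_lit 0x537846120, nat_lit 0x347856201,
  nat_lit 0x347856120, nat_lit 0x348756210, nat_lit 0x347658210, nat_lit 0x467853012,
  nat_lit 0x457863102, nat_lit 0x437865201, nat_lit 0x457863021, nat_lit 0x437865120,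
  nat_lit 0x547863201, nat_lit 0x547863120, nat_lit 0x347865210, nat_lit 0x847356102,
  nat_lit 0x857346012, nat_lit 0x847356021, nat_lit 0x837546102, nat_lit 0x837546021,
  nat_lit 0x567348012, nat_lit 0x657348102, nat_lit 0x637548201, nat_lit 0x657348021,
  nat_lit 0x637548120, nat_lit 0x647358201, nat_lit 0x647358120, nat_lit 0x648357210,
  nat_lit 0x547368210, nat_lit 0x487356012, nat_lit 0x467358102, nat_lit 0x467358021,
  nat_lit 0x457368201, nat_lit 0x457368120, nat_lit 0x437568210, nat_lit 0x586347012,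
  nat_lit 0x568347102, nat_lit 0x568347021, nat_lit 0x658347201, nat_lit 0x658347120,
  nat_lit 0x638547210, nat_lit 0x476358012, nat_lit 0x486357102, nat_lit 0x486357021,
  nat_lit 0x468357201, nat_lit 0x468357120, nat_lit 0x458367210, nat_lit 0x475368102,
  nat_lit 0x475368021, nat_lit 0x485367201, nat_lit 0x485367120, nat_lit 0x465387210,
  nat_lit 0x387546012, nat_lit 0x367548102, nat_lit 0x367548021, nat_lit 0x357648201,
  nat_lit 0x357648120, nat_lit 0x537648210, nat_lit 0x376548012, nat_lit 0x386547102,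
  nat_lit 0x386547021, nat_lit 0x368547201, nat_lit 0x368547120, nat_lit 0x358647210,
  nat_lit 0x736845012, nat_lit 0x746853012, nat_lit 0x745863102, nat_lit 0x754863012,
  nat_lit 0x745863021, nat_lit 0x734865102, nat_lit 0x734865021, nat_lit 0x846753102,
  nat_lit 0x856743012, nat_lit 0x846753021, nat_lit 0x836745102, nat_lit 0x836745021,
  nat_lit 0x568743012, nat_lit 0x658743102, nat_lit 0x638745201, nat_lit 0x658743021,
  nat_lit 0x638745120, nat_lit 0x648753201, nat_lit 0x648753120, nat_lit 0x548763210,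
  nat_lit 0x486753012, nat_lit 0x468753102, nat_lit 0x468753021, nat_lit 0x458763201,
  nat_lit 0x458763120, nat_lit 0x438765210, nat_lit 0x386745012, nat_lit 0x368745102,
  nat_lit 0x368745021, nat_lit 0x358746201, nat_lit 0x358746120, nat_lit 0x538746210,
  nat_lit 0x864753012, nat_lit 0x854763102, nat_lit 0x834765201, nat_lit 0x854763021,
  nat_lit 0x834765120, nat_lit 0x845763201, nat_lit 0x845763120, nat_lit 0x645783210,
  nat_lit 0x374865012, nat_lit 0x584763012, nat_lit 0x564783102, nat_lit 0x564783021,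
  nat_lit 0x654783201, nat_lit 0x654783120, nat_lit 0x634785210, nat_lit 0x384765102,
  nat_lit 0x384765021, nat_lit 0x364785201, nat_lit 0x364785120, nat_lit 0x354786210,
  nat_lit 0x475863012, nat_lit 0x485763102, nat_lit 0x485763021, nat_lit 0x465783201,
  nat_lit 0x465783120, nat_lit 0x456783210, nat_lit 0x743856102, nat_lit 0x753846012,
  nat_lit 0x743856021, nat_lit 0x735846102, nat_lit 0x735846021, nat_lit 0x863745012,
  nat_lit 0x853746102, nat_lit 0x835746201, nat_lit 0x853746021, nat_lit 0x835746120,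
  nat_lit 0x843756201, nat_lit 0x843756120, nat_lit 0x643758210, nat_lit 0x375846012,
  nat_lit 0x583746012, nat_lit 0x563748102, nat_lit 0x563748021, nat_lit 0x653748201,
  nat_lit 0x653748120, nat_lit 0x635748210, nat_lit 0x385746102, nat_lit 0x385746021,
  nat_lit 0x365748201, nat_lit 0x365748120, nat_lit 0x356748210, nat_lit 0x473856012,
  nat_lit 0x483756102, nat_lit 0x483756021, nat_lit 0x463758201, nat_lit 0x463758120,
  nat_lit 0x453768210, nat_lit 0x763548012, nat_lit 0x753648102, nat_lit 0x735648201,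
  nat_lit 0x753648021, nat_lit 0x735648120, nat_lit 0x743658201, nat_lit 0x743658120,
  nat_lit 0x843657210, nat_lit 0x683547012, nat_lit 0x863547102, nat_lit 0x863547021,
  nat_lit 0x853647201, nat_lit 0x853647120, nat_lit 0x835647210, nat_lit 0x473658102,
  nat_lit 0x573648012, nat_lit 0x473658021, nat_lit 0x583647102, nat_lit 0x583647021,
  nat_lit 0x563847201, nat_lit 0x563847120, nat_lit 0x653847210, nat_lit 0x483657201,
  nat_lit 0x483657120, nat_lit 0x463857210, nat_lit 0x375648102, nat_lit 0x375648021,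
  nat_lit 0x385647201, nat_lit 0x385647120, nat_lit 0x365847210, nat_lit 0x738465012,
  nat_lit 0x748563012, nat_lit 0x847563102, nat_lit 0x857463012, nat_lit 0x847563021,
  nat_lit 0x837465102, nat_lit 0x837465021, nat_lit 0x567483012, nat_lit 0x657483102,
  nat_lit 0x637485201, nat_lit 0x657483021, nat_lit 0x637485120, nat_lit 0x647583201,
  nat_lit 0x647583120, nat_lit 0x547683210, nat_lit 0x487563012, nat_lit 0x467583102,
  nat_lit 0x467583021, nat_lit 0x457683201, nat_lit 0x457683120, nat_lit 0x437685210,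
  nat_lit 0x387465012, nat_lit 0x367485102, nat_lit 0x367485021, nat_lit 0x357486201,
  nat_lit 0x357486120, nat_lit 0x537486210, nat_lit 0x746583102, nat_lit 0x756483012,
  nat_lit 0x746583021, nat_lit 0x736485102, nat_lit 0x736485021, nat_lit 0x763485012,
  nat_lit 0x753486102, nat_lit 0x735486201, nat_lit 0x753486021, nat_lit 0x735486120,
  nat_lit 0x743586201, nat_lit 0x743586120, nat_lit 0x843576210, nat_lit 0x743568210,
  nat_lit 0x865473012, nat_lit 0x856473102, nat_lit 0x836475201, nat_lit 0x856473021,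
  nat_lit 0x836475120, nat_lit 0x846573201, nat_lit 0x846573120, nat_lit 0x648573210,
  nat_lit 0x376485012, nat_lit 0x586473012, nat_lit 0x568473102, nat_lit 0x568473021,
  nat_lit 0x658473201, nat_lit 0x658473120, nat_lit 0x638475210, nat_lit 0x386475102,
  nat_lit 0x386475021, nat_lit 0x368475201, nat_lit 0x368475120, nat_lit 0x358476210,
  nat_lit 0x476583012, nat_lit 0x486573102, nat_lit 0x486573021, nat_lit 0x468573201,
  nat_lit 0x468573120, nat_lit 0x458673210, nat_lit 0x683475012, nat_lit 0x863475102,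
  nat_lit 0x863475021, nat_lit 0x853476201, nat_lit 0x853476120, nat_lit 0x835476210,
  nat_lit 0x473586102, nat_lit 0x573486012, nat_lit 0x473586021, nat_lit 0x583476102,
  nat_lit 0x583476021, nat_lit 0x563478201, nat_lit 0x563478120, nat_lit 0x653478210,
  nat_lit 0x483576201, nat_lit 0x483576120, nat_lit 0x463578210, nat_lit 0x375486102,
  nat_lit 0x375486021, nat_lit 0x385476201, nat_lit 0x385476120, nat_lit 0x365478210,
  nat_lit 0x764583012, nat_lit 0x754683102, nat_lit 0x734685201, nat_lit 0x754683021,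
  nat_lit 0x734685120, nat_lit 0x745683201, nat_lit 0x745683120, nat_lit 0x845673210,
  nat_lit 0x684573012, nat_lit 0x864573102, nat_lit 0x864573021, nat_lit 0x854673201,
  nat_lit 0x854673120, nat_lit 0x834675210, nat_lit 0x475683102, nat_lit 0x574683012,
  nat_lit 0x475683021, nat_lit 0x584673102, nat_lit 0x584673021, nat_lit 0x564873201,
  nat_lit 0x564873120, nat_lit 0x654873210, nat_lit 0x485673201, nat_lit 0x485673120,
  nat_lit 0x465873210, nat_lit 0x374685102, nat_lit 0x374685021, nat_lit 0x384675201,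
  nat_lit 0x384675120, nat_lit 0x364875210, nat_lit 0x563487210, nat_lit 0x473568201,
  nat_lit 0x473568120, nat_lit 0x483567210, nat_lit 0x683457102, nat_lit 0x573468102,
  nat_lit 0x583467201, nat_lit 0x685437012, nat_lit 0x673458012, nat_lit 0x683457021,
  nat_lit 0x573468021, nat_lit 0x583467120, nat_lit 0x738654012, nat_lit 0x748635012,
  nat_lit 0x748536102, nat_lit 0x758436012, nat_lit 0x748536021, nat_lit 0x738456102,
  nat_lit 0x738456021, nat_lit 0x783456012, nat_lit 0x765438012, nat_lit 0x865437102,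
  nat_lit 0x865437021, nat_lit 0x756438102, nat_lit 0x736458201, nat_lit 0x756438021,
  nat_lit 0x736458120, nat_lit 0x856437201, nat_lit 0x856437120, nat_lit 0x836457210,
  nat_lit 0x746538201, nat_lit 0x746538120, nat_lit 0x846537210, nat_lit 0x763458102,
  nat_lit 0x763458021, nat_lit 0x863457201, nat_lit 0x863457120, nat_lit 0x753468201,
  nat_lit 0x753468120, nat_lit 0x853467210, nat_lit 0x735468210, nat_lit 0x847635102,
  nat_lit 0x857634012, nat_lit 0x847635021, nat_lit 0x837654102, nat_lit 0x837654021,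
  nat_lit 0x567834012, nat_lit 0x657834102, nat_lit 0x637854201, nat_lit 0x657834021,
  nat_lit 0x637854120, nat_lit 0x647835201, nat_lit 0x647835120, nat_lit 0x547836210,
  nat_lit 0x487635012, nat_lit 0x467835102, nat_lit 0x467835021, nat_lit 0x457836201,
  nat_lit 0x457836120, nat_lit 0x437856210, nat_lit 0x387654012, nat_lit 0x367854102,
  nat_lit 0x367854021, nat_lit 0x357864201, nat_lit 0x357864120, nat_lit 0x537864210,
  nat_lit 0x867435012, nat_lit 0x857436102, nat_lit 0x837456201, nat_lit 0x857436021,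
  nat_lit 0x837456120, nat_lit 0x847536201, nat_lit 0x847536120, nat_lit 0x647538210,
  nat_lit 0x378456012, nat_lit 0x587436012, nat_lit 0x567438102, nat_lit 0x567438021,
  nat_lit 0x657438201, nat_lit 0x657438120, nat_lit 0x637458210, nat_lit 0x387456102,
  nat_lit 0x387456021, nat_lit 0x367458201, nat_lit 0x367458120, nat_lit 0x357468210,
  nat_lit 0x576438012, nat_lit 0x586437102, nat_lit 0x586437021, nat_lit 0x568437201,
  nat_lit 0x568437120, nat_lit 0x658437210, nat_lit 0x376458102, nat_lit 0x376458021,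
  nat_lit 0x386457201, nat_lit 0x386457120, nat_lit 0x368457210, nat_lit 0x375468201,
  nat_lit 0x375468120, nat_lit 0x385467210, nat_lit 0x478536012, nat_lit 0x487536102,
  nat_lit 0x487536021, nat_lit 0x467538201, nat_lit 0x467538120, nat_lit 0x457638210,
  nat_lit 0x476538102, nat_lit 0x476538021, nat_lit 0x486537201, nat_lit 0x486537120,
  nat_lit 0x468537210, nat_lit 0x746835102, nat_lit 0x756834012, nat_lit 0x746835021,
  nat_lit 0x736854102, nat_lit 0x736854021, nat_lit 0x763854012, nat_lit 0x753864102,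
  nat_lit 0x735864201, nat_lit 0x753864021, nat_lit 0x735864120, nat_lit 0x743865201,
  nat_lit 0x743865120, nat_lit 0x843765210, nat_lit 0x743685210, nat_lit 0x865734012,
  nat_lit 0x856734102, nat_lit 0x836754201, nat_lit 0x856734021, nat_lit 0x836754120,
  nat_lit 0x846735201, nat_lit 0x846735120, nat_lit 0x648735210, nat_lit 0x376854012,
  nat_lit 0x586734012, nat_lit 0x568734102, nat_lit 0x568734021, nat_lit 0x658734201,
  nat_lit 0x658734120, nat_lit 0x638754210, nat_lit 0x386754102, nat_lit 0x386754021,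
  nat_lit 0x368754201, nat_lit 0x368754120, nat_lit 0x358764210, nat_lit 0x476835012,
  nat_lit 0x486735102, nat_lit 0x486735021, nat_lit 0x468735201, nat_lit 0x468735120,
  nat_lit 0x458736210, nat_lit 0x683754012, nat_lit 0x863754102, nat_lit 0x863754021,
  nat_lit 0x853764201, nat_lit 0x853764120, nat_lit 0x835764210, nat_lit 0x473865102,
  nat_lit 0x573864012, nat_lit 0x473865021, nat_lit 0x583764102, nat_lit 0x583764021,
  nat_lit 0x563784201, nat_lit 0x563784120, nat_lit 0x653784210, nat_lit 0x483765201,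
  nat_lit 0x483765120, nat_lit 0x463785210, nat_lit 0x375864102, nat_lit 0x375864021,
  nat_lit 0x385764201, nat_lit 0x385764120, nat_lit 0x365784210, nat_lit 0x764835012,
  nat_lit 0x754836102, nat_lit 0x734856201, nat_lit 0x754836021, nat_lit 0x734856120,
  nat_lit 0x745836201, nat_lit 0x745836120, nat_lit 0x845736210, nat_lit 0x745638210,
  nat_lit 0x743856210, nat_lit 0x684735012, nat_lit 0x864735102, nat_lit 0x864735021,
  nat_lit 0x854736201, nat_lit 0x854736120, nat_lit 0x834756210, nat_lit 0x475836102,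
  nat_lit 0x574836012, nat_lit 0x475836021, nat_lit 0x584736102, nat_lit 0x584736021,
  nat_lit 0x564738201, nat_lit 0x564738120, nat_lit 0x654738210, nat_lit 0x485736201,
  nat_lit 0x485736120, nat_lit 0x465738210, nat_lit 0x374856102, nat_lit 0x374856021,
  nat_lit 0x384756201, nat_lit 0x384756120, nat_lit 0x364758210, nat_lit 0x784536012,
  nat_lit 0x764538102, nat_lit 0x764538021, nat_lit 0x754638201, nat_lit 0x754638120,
  nat_lit 0x734658210, nat_lit 0x674538012, nat_lit 0x684537102, nat_lit 0x684537021,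
  nat_lit 0x864537201, nat_lit 0x864537120, nat_lit 0x854637210, nat_lit 0x574638102,
  nat_lit 0x374658201, nat_lit 0x574638021, nat_lit 0x374658120, nat_lit 0x584637201,
  nat_lit 0x584637120, nat_lit 0x564837210, nat_lit 0x384657210, nat_lit 0x475638201,
  nat_lit 0x475638120, nat_lit 0x485637210, nat_lit 0x748365102, nat_lit 0x758364012,
  nat_lit 0x748365021, nat_lit 0x738564102, nat_lit 0x738564021, nat_lit 0x867354012,
  nat_lit 0x857364102, nat_lit 0x837564201, nat_lit 0x857364021, nat_lit 0x837564120,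
  nat_lit 0x847365201, nat_lit 0x847365120, nat_lit 0x647385210, nat_lit 0x378564012,
  nat_lit 0x587364012, nat_lit 0x567384102, nat_lit 0x567384021, nat_lit 0x657384201,
  nat_lit 0x657384120, nat_lit 0x637584210, nat_lit 0x387564102, nat_lit 0x387564021,
  nat_lit 0x367584201, nat_lit 0x367584120, nat_lit 0x357684210, nat_lit 0x478365012,
  nat_lit 0x487365102, nat_lit 0x487365021, nat_lit 0x467385201, nat_lit 0x467385120,
  nat_lit 0x457386210, nat_lit 0x765384012, nat_lit 0x756384102, nat_lit 0x736584201,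
  nat_lit 0x756384021, nat_lit 0x736584120, nat_lit 0x746385201, nat_lit 0x746385120,
  nat_lit 0x846375210, nat_lit 0x745386210, nat_lit 0x784365012, nat_lit 0x764385102,
  nat_lit 0x764385021, nat_lit 0x754386201, nat_lit 0x754386120, nat_lit 0x734586210,
  nat_lit 0x685374012, nat_lit 0x865374102, nat_lit 0x865374021, nat_lit 0x856374201,
  nat_lit 0x856374120, nat_lit 0x836574210, nat_lit 0x476385102, nat_lit 0x576384012,
  nat_lit 0x476385021, nat_lit 0x586374102, nat_lit 0x586374021, nat_lit 0x568374201,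
  nat_lit 0x568374120, nat_lit 0x658374210, nat_lit 0x486375201, nat_lit 0x486375120,
  nat_lit 0x468375210, nat_lit 0x376584102, nat_lit 0x376584021, nat_lit 0x386574201,
  nat_lit 0x386574120, nat_lit 0x368574210, nat_lit 0x674385012, nat_lit 0x684375102,
  nat_lit 0x684375021, nat_lit 0x864375201, nat_lit 0x864375120, nat_lit 0x854376210,
  nat_lit 0x574386102, nat_lit 0x374586201, nat_lit 0x574386021, nat_lit 0x374586120,
  nat_lit 0x584376201, nat_lit 0x584376120, nat_lit 0x564378210, nat_lit 0x384576210,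
  nat_lit 0x475386201, nat_lit 0x475386120, nat_lit 0x485376210, nat_lit 0x783564012,
  nat_lit 0x763584102, nat_lit 0x763584021, nat_lit 0x753684201, nat_lit 0x753684120,
  nat_lit 0x735684210, nat_lit 0x673584012, nat_lit 0x683574102, nat_lit 0x683574021,
  nat_lit 0x863574201, nat_lit 0x863574120, nat_lit 0x853674210, nat_lit 0x573684102,
  nat_lit 0x375684201, nat_lit 0x573684021, nat_lit 0x375684120, nat_lit 0x583674201,
  nat_lit 0x583674120, nat_lit 0x563874210, nat_lit 0x385674210, nat_lit 0x473685201,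
  nat_lit 0x473685120, nat_lit 0x483675210, nat_lit 0x473586210, nat_lit 0x584367210,
  nat_lit 0x374568210, nat_lit 0x685347102, nat_lit 0x674358102, nat_lit 0x684357201,
  nat_lit 0x574368201, nat_lit 0x874356012, nat_lit 0x675348012, nat_lit 0x685347021,
  nat_lit 0x674358021, nat_lit 0x684357120, nat_lit 0x574368120, nat_lit 0x748653102,
  nat_lit 0x758643012, nat_lit 0x748653021, nat_lit 0x738645102, nat_lit 0x738645021,
  nat_lit 0x768345012, nat_lit 0x758346102, nat_lit 0x738546201, nat_lit 0x758346021,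
  nat_lit 0x738546120, nat_lit 0x748356201, nat_lit 0x748356120, nat_lit 0x847356210,
  nat_lit 0x746358210, nat_lit 0x784356102, nat_lit 0x785346012, nat_lit 0x784356021,
  nat_lit 0x765348102, nat_lit 0x765348021, nat_lit 0x865347201, nat_lit 0x865347120,
  nat_lit 0x756348201, nat_lit 0x756348120, nat_lit 0x856347210, nat_lit 0x736548210,
  nat_lit 0x764358201, nat_lit 0x764358120, nat_lit 0x864357210, nat_lit 0x754368210,
  nat_lit 0x867543012, nat_lit 0x857643102, nat_lit 0x837645201, nat_lit 0x857643021,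
  nat_lit 0x837645120, nat_lit 0x847653201, nat_lit 0x847653120, nat_lit 0x647853210,
  nat_lit 0x378645012, nat_lit 0x587643012, nat_lit 0x567843102, nat_lit 0x567843021,
  nat_lit 0x657843201, nat_lit 0x657843120, nat_lit 0x637845210, nat_lit 0x387645102,
  nat_lit 0x387645021, nat_lit 0x367845201, nat_lit 0x367845120, nat_lit 0x357846210,
  nat_lit 0x478653012, nat_lit 0x487653102, nat_lit 0x487653021, nat_lit 0x467853201,
  nat_lit 0x467853120, nat_lit 0x457863210, nat_lit 0x687345012, nat_lit 0x867345102,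
  nat_lit 0x867345021, nat_lit 0x857346201, nat_lit 0x857346120, nat_lit 0x837546210,
  nat_lit 0x478356102, nat_lit 0x578346012, nat_lit 0x478356021, nat_lit 0x587346102,
  nat_lit 0x587346021, nat_lit 0x567348201, nat_lit 0x567348120, nat_lit 0x657348210,
  nat_lit 0x487356201, nat_lit 0x487356120, nat_lit 0x467358210, nat_lit 0x576348102,
  nat_lit 0x576348021, nat_lit 0x586347201, nat_lit 0x586347120, nat_lit 0x568347210,
  nat_lit 0x476358201, nat_lit 0x476358120, nat_lit 0x486357210, nat_lit 0x475368210,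
  nat_lit 0x378546102, nat_lit 0x378546021, nat_lit 0x387546201, nat_lit 0x387546120,
  nat_lit 0x367548210, nat_lit 0x376548201, nat_lit 0x376548120, nat_lit 0x386547210,
  nat_lit 0x765843012, nat_lit 0x756843102, nat_lit 0x736845201, nat_lit 0x756843021,
  nat_lit 0x736845120, nat_lit 0x746853201, nat_lit 0x746853120, nat_lit 0x846753210,
  nat_lit 0x745863210, nat_lit 0x784653012, nat_lit 0x764853102, nat_lit 0x764853021,
  nat_lit 0x754863201, nat_lit 0x754863120, nat_lit 0x734865210, nat_lit 0x685743012,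
  nat_lit 0x865743102, nat_lit 0x865743021, nat_lit 0x856743201, nat_lit 0x856743120,
  nat_lit 0x836745210, nat_lit 0x476853102, nat_lit 0x576843012, nat_lit 0x476853021,
  nat_lit 0x586743102, nat_lit 0x586743021, nat_lit 0x568743201, nat_lit 0x568743120,
  nat_lit 0x658743210, nat_lit 0x486753201, nat_lit 0x486753120, nat_lit 0x468753210,
  nat_lit 0x376845102, nat_lit 0x376845021, nat_lit 0x386745201, nat_lit 0x386745120,
  nat_lit 0x368745210, nat_lit 0x674853012, nat_lit 0x684753102, nat_lit 0x684753021,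
  nat_lit 0x864753201, nat_lit 0x864753120, nat_lit 0x854763210, nat_lit 0x574863102,
  nat_lit 0x374865201, nat_lit 0x574863021, nat_lit 0x374865120, nat_lit 0x584763201,
  nat_lit 0x584763120, nat_lit 0x564783210, nat_lit 0x384765210, nat_lit 0x475863201,
  nat_lit 0x475863120, nat_lit 0x485763210, nat_lit 0x783645012, nat_lit 0x763845102,
  nat_lit 0x763845021, nat_lit 0x753846201, nat_lit 0x753846120, nat_lit 0x735846210,
  nat_lit 0x673845012, nat_lit 0x683745102, nat_lit 0x683745021, nat_lit 0x863745201,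
  nat_lit 0x863745120, nat_lit 0x853746210, nat_lit 0x573846102, nat_lit 0x375846201,
  nat_lit 0x573846021, nat_lit 0x375846120, nat_lit 0x583746201, nat_lit 0x583746120,
  nat_lit 0x563748210, nat_lit 0x385746210, nat_lit 0x473856201, nat_lit 0x473856120,
  nat_lit 0x483756210, nat_lit 0x473658210, nat_lit 0x473865210, nat_lit 0x873546012,
  nat_lit 0x783546102, nat_lit 0x783546021, nat_lit 0x763548201, nat_lit 0x763548120,
  nat_lit 0x753648210, nat_lit 0x673548102, nat_lit 0x673548021, nat_lit 0x683547201,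
  nat_lit 0x683547120, nat_lit 0x863547210, nat_lit 0x573648201, nat_lit 0x573648120,
  nat_lit 0x583647210, nat_lit 0x375648210, nat_lit 0x768453012, nat_lit 0x758463102,
  nat_lit 0x738465201, nat_lit 0x758463021, nat_lit 0x738465120, nat_lit 0x748563201,
  nat_lit 0x748563120, nat_lit 0x847563210, nat_lit 0x746583210, nat_lit 0x748365210,
  nat_lit 0x687453012, nat_lit 0x867453102, nat_lit 0x867453021, nat_lit 0x857463201,
  nat_lit 0x857463120, nat_lit 0x837465210, nat_lit 0x478563102, nat_lit 0x578463012,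
  nat_lit 0x478563021, nat_lit 0x587463102, nat_lit 0x587463021, nat_lit 0x567483201,
  nat_lit 0x567483120, nat_lit 0x657483210, nat_lit 0x487563201, nat_lit 0x487563120,
  nat_lit 0x467583210, nat_lit 0x378465102, nat_lit 0x378465021, nat_lit 0x387465201,
  nat_lit 0x387465120, nat_lit 0x367485210, nat_lit 0x873465012, nat_lit 0x785463012,
  nat_lit 0x765483102, nat_lit 0x765483021, nat_lit 0x756483201, nat_lit 0x756483120,
  nat_lit 0x736485210, nat_lit 0x783465102, nat_lit 0x783465021, nat_lit 0x763485201,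
  nat_lit 0x763485120, nat_lit 0x753486210, nat_lit 0x675483012, nat_lit 0x685473102,
  nat_lit 0x685473021, nat_lit 0x865473201, nat_lit 0x865473120, nat_lit 0x856473210,
  nat_lit 0x576483102, nat_lit 0x376485201, nat_lit 0x576483021, nat_lit 0x376485120,
  nat_lit 0x586473201, nat_lit 0x586473120, nat_lit 0x568473210, nat_lit 0x386475210,
  nat_lit 0x476583201, nat_lit 0x476583120, nat_lit 0x486573210, nat_lit 0x475683210,
  nat_lit 0x673485102, nat_lit 0x673485021, nat_lit 0x683475201, nat_lit 0x683475120,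
  nat_lit 0x863475210, nat_lit 0x573486201, nat_lit 0x573486120, nat_lit 0x583476210,
  nat_lit 0x375486210, nat_lit 0x874563012, nat_lit 0x784563102, nat_lit 0x784563021,
  nat_lit 0x764583201, nat_lit 0x764583120, nat_lit 0x754683210, nat_lit 0x674583102,
  nat_lit 0x674583021, nat_lit 0x684573201, nat_lit 0x684573120, nat_lit 0x864573210,
  nat_lit 0x574683201, nat_lit 0x574683120, nat_lit 0x584673210, nat_lit 0x374685210,
  nat_lit 0x683457210, nat_lit 0x573468210, nat_lit 0x873456102, nat_lit 0x675438102,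
  nat_lit 0x685437201, nat_lit 0x673458201, nat_lit 0x875436012, nat_lit 0x873456021,
  nat_lit 0x675438021, nat_lit 0x685437120, nat_lit 0x673458120, nat_lit 0x768534012,
  nat_lit 0x758634102, nat_lit 0x738654201, nat_lit 0x758634021, nat_lit 0x738654120,
  nat_lit 0x748635201, nat_lit 0x748635120, nat_lit 0x847635210, nat_lit 0x746835210,
  nat_lit 0x748536210, nat_lit 0x748653210, nat_lit 0x786435012, nat_lit 0x768435102,
  nat_lit 0x768435021, nat_lit 0x758436201, nat_lit 0x758436120, nat_lit 0x738456210,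
  nat_lit 0x785436102, nat_lit 0x783456201, nat_lit 0x785436021, nat_lit 0x783456120,
  nat_lit 0x765438201, nat_lit 0x765438120, nat_lit 0x865437210, nat_lit 0x756438210,
  nat_lit 0x763458210, nat_lit 0x687534012, nat_lit 0x867534102, nat_lit 0x867534021,
  nat_lit 0x857634201, nat_lit 0x857634120, nat_lit 0x837654210, nat_lit 0x478635102,
  nat_lit 0x578634012, nat_lit 0x478635021, nat_lit 0x587634102, nat_lit 0x587634021,
  nat_lit 0x567834201, nat_lit 0x567834120, nat_lit 0x657834210, nat_lit 0x487635201,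
  nat_lit 0x487635120, nat_lit 0x467835210, nat_lit 0x378654102, nat_lit 0x378654021,
  nat_lit 0x387654201, nat_lit 0x387654120, nat_lit 0x367854210, nat_lit 0x678435012,
  nat_lit 0x687435102, nat_lit 0x687435021, nat_lit 0x867435201, nat_lit 0x867435120,
  nat_lit 0x857436210, nat_lit 0x578436102, nat_lit 0x378456201, nat_lit 0x578436021,
  nat_lit 0x378456120, nat_lit 0x587436201, nat_lit 0x587436120, nat_lit 0x567438210,
  nat_lit 0x387456210, nat_lit 0x576438201, nat_lit 0x576438120, nat_lit 0x586437210,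
  nat_lit 0x376458210, nat_lit 0x478536201, nat_lit 0x478536120, nat_lit 0x487536210,
  nat_lit 0x476538210, nat_lit 0x873654012, nat_lit 0x785634012, nat_lit 0x765834102,
  nat_lit 0x765834021, nat_lit 0x756834201, nat_lit 0x756834120, nat_lit 0x736854210,
  nat_lit 0x783654102, nat_lit 0x783654021, nat_lit 0x763854201, nat_lit 0x763854120,
  nat_lit 0x753864210, nat_lit 0x675834012, nat_lit 0x685734102, nat_lit 0x685734021,
  nat_lit 0x865734201, nat_lit 0x865734120, nat_lit 0x856734210, nat_lit 0x576834102,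
  nat_lit 0x376854201, nat_lit 0x576834021, nat_lit 0x376854120, nat_lit 0x586734201,
  nat_lit 0x586734120, nat_lit 0x568734210, nat_lit 0x386754210, nat_lit 0x476835201,
  nat_lit 0x476835120, nat_lit 0x486735210, nat_lit 0x475836210, nat_lit 0x673854102,
  nat_lit 0x673854021, nat_lit 0x683754201, nat_lit 0x683754120, nat_lit 0x863754210,
  nat_lit 0x573864201, nat_lit 0x573864120, nat_lit 0x583764210, nat_lit 0x375864210,
  nat_lit 0x874635012, nat_lit 0x784635102, nat_lit 0x784635021, nat_lit 0x764835201,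
  nat_lit 0x764835120, nat_lit 0x754836210, nat_lit 0x674835102, nat_lit 0x674835021,
  nat_lit 0x684735201, nat_lit 0x684735120, nat_lit 0x864735210, nat_lit 0x574836201,
  nat_lit 0x574836120, nat_lit 0x584736210, nat_lit 0x374856210, nat_lit 0x874536102,
  nat_lit 0x874536021, nat_lit 0x784536201, nat_lit 0x784536120, nat_lit 0x764538210,
  nat_lit 0x674538201, nat_lit 0x674538120, nat_lit 0x684537210, nat_lit 0x574638210,
  nat_lit 0x786354012, nat_lit 0x768354102, nat_lit 0x768354021, nat_lit 0x758364201,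
  nat_lit 0x758364120, nat_lit 0x738564210, nat_lit 0x678354012, nat_lit 0x687354102,
  nat_lit 0x687354021, nat_lit 0x867354201, nat_lit 0x867354120, nat_lit 0x857364210,
  nat_lit 0x578364102, nat_lit 0x378564201, nat_lit 0x578364021, nat_lit 0x378564120,
  nat_lit 0x587364201, nat_lit 0x587364120, nat_lit 0x567384210, nat_lit 0x387564210,
  nat_lit 0x478365201, nat_lit 0x478365120, nat_lit 0x487365210, nat_lit 0x476385210,
  nat_lit 0x478356210, nat_lit 0x874365102, nat_lit 0x875364012, nat_lit 0x874365021,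
  nat_lit 0x785364102, nat_lit 0x785364021, nat_lit 0x765384201, nat_lit 0x765384120,
  nat_lit 0x756384210, nat_lit 0x784365201, nat_lit 0x784365120, nat_lit 0x764385210,
  nat_lit 0x675384102, nat_lit 0x675384021, nat_lit 0x685374201, nat_lit 0x685374120,
  nat_lit 0x865374210, nat_lit 0x576384201, nat_lit 0x576384120, nat_lit 0x586374210,
  nat_lit 0x376584210, nat_lit 0x674385201, nat_lit 0x674385120, nat_lit 0x684375210,
  nat_lit 0x574386210, nat_lit 0x873564102, nat_lit 0x873564021, nat_lit 0x783564201,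
  nat_lit 0x783564120, nat_lit 0x763584210, nat_lit 0x673584201, nat_lit 0x673584120,
  nat_lit 0x683574210, nat_lit 0x573684210, nat_lit 0x685347210, nat_lit 0x874356201,
  nat_lit 0x874356120, nat_lit 0x784356210, nat_lit 0x674358210, nat_lit 0x875346102,
  nat_lit 0x675348201, nat_lit 0x876345012, nat_lit 0x875346021, nat_lit 0x675348120,
  nat_lit 0x786543012, nat_lit 0x768543102, nat_lit 0x768543021, nat_lit 0x758643201,
  nat_lit 0x758643120, nat_lit 0x738645210, nat_lit 0x786345102, nat_lit 0x786345021,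
  nat_lit 0x768345201, nat_lit 0x768345120, nat_lit 0x758346210, nat_lit 0x785346201,
  nat_lit 0x785346120, nat_lit 0x765348210, nat_lit 0x678543012, nat_lit 0x687543102,
  nat_lit 0x687543021, nat_lit 0x867543201, nat_lit 0x867543120, nat_lit 0x857643210,
  nat_lit 0x578643102, nat_lit 0x378645201, nat_lit 0x578643021, nat_lit 0x378645120,
  nat_lit 0x587643201, nat_lit 0x587643120, nat_lit 0x567843210, nat_lit 0x387645210,
  nat_lit 0x478653201, nat_lit 0x478653120, nat_lit 0x487653210, nat_lit 0x476853210,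
  nat_lit 0x478563210, nat_lit 0x478635210, nat_lit 0x678345102, nat_lit 0x678345021,
  nat_lit 0x687345201, nat_lit 0x687345120, nat_lit 0x867345210, nat_lit 0x578346201,
  nat_lit 0x578346120, nat_lit 0x587346210, nat_lit 0x576348210, nat_lit 0x378546210,
  nat_lit 0x874653102, nat_lit 0x875643012, nat_lit 0x874653021, nat_lit 0x785643102,
  nat_lit 0x785643021, nat_lit 0x765843201, nat_lit 0x765843120, nat_lit 0x756843210,
  nat_lit 0x784653201, nat_lit 0x784653120, nat_lit 0x764853210, nat_lit 0x675843102,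
  nat_lit 0x675843021, nat_lit 0x685743201, nat_lit 0x685743120, nat_lit 0x865743210,
  nat_lit 0x576843201, nat_lit 0x576843120, nat_lit 0x586743210, nat_lit 0x376845210,
  nat_lit 0x674853201, nat_lit 0x674853120, nat_lit 0x684753210, nat_lit 0x574863210,
  nat_lit 0x873645102, nat_lit 0x873645021, nat_lit 0x783645201, nat_lit 0x783645120,
  nat_lit 0x763845210, nat_lit 0x673845201, nat_lit 0x673845120, nat_lit 0x683745210,
  nat_lit 0x573846210, nat_lit 0x873546201, nat_lit 0x873546120, nat_lit 0x783546210,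
  nat_lit 0x673548210, nat_lit 0x876453012, nat_lit 0x786453102, nat_lit 0x786453021,
  nat_lit 0x768453201, nat_lit 0x768453120, nat_lit 0x758463210, nat_lit 0x678453102,
  nat_lit 0x678453021, nat_lit 0x687453201, nat_lit 0x687453120, nat_lit 0x867453210,
  nat_lit 0x578463201, nat_lit 0x578463120, nat_lit 0x587463210, nat_lit 0x378465210,
  nat_lit 0x875463102, nat_lit 0x873465201, nat_lit 0x875463021, nat_lit 0x873465120,
  nat_lit 0x785463201, nat_lit 0x785463120, nat_lit 0x765483210, nat_lit 0x783465210,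
  nat_lit 0x675483201, nat_lit 0x675483120, nat_lit 0x685473210, nat_lit 0x576483210,
  nat_lit 0x673485210, nat_lit 0x874563201, nat_lit 0x874563120, nat_lit 0x784563210,
  nat_lit 0x674583210, nat_lit 0x874365210, nat_lit 0x675438210, nat_lit 0x873456210,
  nat_lit 0x876435102, nat_lit 0x875436201, nat_lit 0x876534012, nat_lit 0x876435021,
  nat_lit 0x875436120, nat_lit 0x786534102, nat_lit 0x786534021, nat_lit 0x768534201,
  nat_lit 0x768534120, nat_lit 0x758634210, nat_lit 0x786435201, nat_lit 0x786435120,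
  nat_lit 0x768435210, nat_lit 0x785436210, nat_lit 0x678534102, nat_lit 0x678534021,
  nat_lit 0x687534201, nat_lit 0x687534120, nat_lit 0x867534210, nat_lit 0x578634201,
  nat_lit 0x578634120, nat_lit 0x587634210, nat_lit 0x378654210, nat_lit 0x678435201,
  nat_lit 0x678435120, nat_lit 0x687435210, nat_lit 0x578436210, nat_lit 0x875634102,
  nat_lit 0x873654201, nat_lit 0x875634021, nat_lit 0x873654120, nat_lit 0x785634201,
  nat_lit 0x785634120, nat_lit 0x765834210, nat_lit 0x783654210, nat_lit 0x675834201,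
  nat_lit 0x675834120, nat_lit 0x685734210, nat_lit 0x576834210, nat_lit 0x673854210,
  nat_lit 0x874635201, nat_lit 0x874635120, nat_lit 0x784635210, nat_lit 0x674835210,
  nat_lit 0x874536210, nat_lit 0x874653210, nat_lit 0x876354102, nat_lit 0x876354021,
  nat_lit 0x786354201, nat_lit 0x786354120, nat_lit 0x768354210, nat_lit 0x678354201,
  nat_lit 0x678354120, nat_lit 0x687354210, nat_lit 0x578364210, nat_lit 0x875364201,
  nat_lit 0x875364120, nat_lit 0x785364210, nat_lit 0x675384210, nat_lit 0x873564210,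
  nat_lit 0x875346210, nat_lit 0x876543102, nat_lit 0x876345201, nat_lit 0x876543021,
  nat_lit 0x876345120, nat_lit 0x786543201, nat_lit 0x786543120, nat_lit 0x768543210,
  nat_lit 0x786345210, nat_lit 0x678543201, nat_lit 0x678543120, nat_lit 0x687543210,
  nat_lit 0x578643210, nat_lit 0x678345210, nat_lit 0x875643201, nat_lit 0x875643120,
  nat_lit 0x785643210, nat_lit 0x675843210, nat_lit 0x873645210, nat_lit 0x876453201,
  nat_lit 0x876453120, nat_lit 0x786453210, nat_lit 0x678453210, nat_lit 0x875463210,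
  nat_lit 0x876435210, nat_lit 0x876534201, nat_lit 0x876534120, nat_lit 0x786534210,
  nat_lit 0x678534210, nat_lit 0x875634210, nat_lit 0x876354210, nat_lit 0x876543210]
/-- A group of order 2160. -/
def K1 : Subgroup (Perm (Fin 9)) := cl 9 gK1
theorem hK1 : Lists K1 LK1 :=
  lists_cl (by norm_num) _ _ (by decide +kernel) (by decide +kernel) (by decide +kernel)
    (by decide +kernel) (by decide +kernel) (by decide +kernel)
theorem card_K1 : Nat.card K1 = 2160 := hK1.card_eq.trans (by decide +kernel)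

theorem le_B1 : B10 ≤ K1 := hB10.le_of hK1 (by decide +kernel)
theorem le_alt : K1 ≤ alternatingGroup (Fin 9) := hK1.le_alt (by decide +kernel)

/-- `(0 1 2)` -/
noncomputable def e1 : K1 := ⟨dec 9 0x876543021, hK1.memd le_rfl (by decide +kernel)⟩
theorem enc_e1 : enc (e1 : Perm (Fin 9)) = nat_lit 0x876543021 := enc_dec h9 (by decide +kernel)

/-- `(3 4 5)` -/
noncomputable def e2 : K1 := ⟨dec 9 0x876354210, hK1.memd le_rfl (by decide +kernel)⟩
theorem enc_e2 : enc (e2 : Perm (Fin 9)) = nat_lit 0x876354210 := enc_dec h9 (by decide +kernel)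

/-- `(6 7 8)` -/
noncomputable def e3 : K1 := ⟨dec 9 0x687543210, hK1.memd le_rfl (by decide +kernel)⟩
theorem enc_e3 : enc (e3 : Perm (Fin 9)) = nat_lit 0x687543210 := enc_dec h9 (by decide +kernel)

/-- `(0 1)(3 4)` -/
noncomputable def s0 : K1 := ⟨dec 9 0x876534201, hK1.memd le_rfl (by decide +kernel)⟩
theorem enc_s0 : enc (s0 : Perm (Fin 9)) = nat_lit 0x876534201 := enc_dec h9 (by decide +kernel)

/-- `(0 1)(4 5)` -/
noncomputable def s1 : K1 := ⟨dec 9 0x876453201, hK1.memd le_rfl (by decide +kernel)⟩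
theorem enc_s1 : enc (s1 : Perm (Fin 9)) = nat_lit 0x876453201 := enc_dec h9 (by decide +kernel)

/-- `(0 1)(5 6)` -/
noncomputable def s2 : K1 := ⟨dec 9 0x875643201, hK1.memd le_rfl (by decide +kernel)⟩
theorem enc_s2 : enc (s2 : Perm (Fin 9)) = nat_lit 0x875643201 := enc_dec h9 (by decide +kernel)

/-- `(0 1)(6 7)` -/
noncomputable def s3 : K1 := ⟨dec 9 0x867543201, hK1.memd le_rfl (by decide +kernel)⟩
theorem enc_s3 : enc (s3 : Perm (Fin 9)) = nat_lit 0x867543201 := enc_dec h9 (by decide +kernel)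

/-- `(0 1)(7 8)` -/
noncomputable def s4 : K1 := ⟨dec 9 0x786543201, hK1.memd le_rfl (by decide +kernel)⟩
theorem enc_s4 : enc (s4 : Perm (Fin 9)) = nat_lit 0x786543201 := enc_dec h9 (by decide +kernel)

/-- `(0 1)(5 8)` -/
noncomputable def s5 : K1 := ⟨dec 9 0x576843201, hK1.memd le_rfl (by decide +kernel)⟩
theorem enc_s5 : enc (s5 : Perm (Fin 9)) = nat_lit 0x576843201 := enc_dec h9 (by decide +kernel)

/-- `(3 6 4 7)(5 8)` -/
noncomputable def r : K1 := ⟨dec 9 0x534876210, hK1.memd le_rfl (by decide +kernel)⟩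
theorem enc_r : enc (r : Perm (Fin 9)) = nat_lit 0x534876210 := enc_dec h9 (by decide +kernel)

/-- `(3 4)(5 6)` -/
noncomputable def w1 : K1 := ⟨dec 9 0x875634210, hK1.memd le_rfl (by decide +kernel)⟩
theorem enc_w1 : enc (w1 : Perm (Fin 9)) = nat_lit 0x875634210 := enc_dec h9 (by decide +kernel)

/-- `(3 5)(4 6)` -/
noncomputable def w2 : K1 := ⟨dec 9 0x874365210, hK1.memd le_rfl (by decide +kernel)⟩
theorem enc_w2 : enc (w2 : Perm (Fin 9)) = nat_lit 0x874365210 := enc_dec h9 (by decide +kernel)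

/-- `(3 4)(7 8)` -/
noncomputable def t2 : K1 := ⟨dec 9 0x786534210, hK1.memd le_rfl (by decide +kernel)⟩
theorem enc_t2 : enc (t2 : Perm (Fin 9)) = nat_lit 0x786534210 := enc_dec h9 (by decide +kernel)

/-- `(3 4)(6 8)` -/
noncomputable def x2 : K1 := ⟨dec 9 0x678534210, hK1.memd le_rfl (by decide +kernel)⟩
theorem enc_x2 : enc (x2 : Perm (Fin 9)) = nat_lit 0x678534210 := enc_dec h9 (by decide +kernel)

/-- `(1 2)(3 4)` -/
noncomputable def x5 : K1 := ⟨dec 9 0x876534120, hK1.memd le_rfl (by decide +kernel)⟩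
theorem enc_x5 : enc (x5 : Perm (Fin 9)) = nat_lit 0x876534120 := enc_dec h9 (by decide +kernel)

/-- `(3 4)(6 7)` -/
noncomputable def v0 : K1 := ⟨dec 9 0x867534210, hK1.memd le_rfl (by decide +kernel)⟩
theorem enc_v0 : enc (v0 : Perm (Fin 9)) = nat_lit 0x867534210 := enc_dec h9 (by decide +kernel)

/-- `(3 5 7)(4 6 8)` -/
noncomputable def r3 : K1 := ⟨dec 9 0x438765210, hK1.memd le_rfl (by decide +kernel)⟩
theorem enc_r3 : enc (r3 : Perm (Fin 9)) = nat_lit 0x438765210 := enc_dec h9 (by decide +kernel)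

/-- `(0 1)(3 4)(5 6)(7 8)` -/
noncomputable def c : K1 := ⟨dec 9 0x785634201, hK1.memd le_rfl (by decide +kernel)⟩
theorem enc_c : enc (c : Perm (Fin 9)) = nat_lit 0x785634201 := enc_dec h9 (by decide +kernel)

/-- `(3 4)(5 8)` -/
noncomputable def b : K1 := ⟨dec 9 0x576834210, hK1.memd le_rfl (by decide +kernel)⟩
theorem enc_b : enc (b : Perm (Fin 9)) = nat_lit 0x576834210 := enc_dec h9 (by decide +kernel)

/-- `(3 8 5 6 4)` -/
noncomputable def ka : K1 := ⟨dec 9 0x574638210, hK1.memd le_rfl (by decide +kernel)⟩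
theorem enc_ka : enc (ka : Perm (Fin 9)) = nat_lit 0x574638210 := enc_dec h9 (by decide +kernel)

/-- `(3 8)(5 7)` -/
noncomputable def u1 : K1 := ⟨dec 9 0x356748210, hK1.memd le_rfl (by decide +kernel)⟩
theorem enc_u1 : enc (u1 : Perm (Fin 9)) = nat_lit 0x356748210 := enc_dec h9 (by decide +kernel)

/-- `(3 8)(4 6)` -/
noncomputable def u2 : K1 := ⟨dec 9 0x374568210, hK1.memd le_rfl (by decide +kernel)⟩
theorem enc_u2 : enc (u2 : Perm (Fin 9)) = nat_lit 0x374568210 := enc_dec h9 (by decide +kernel)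

/-- `(3 4)(5 8 7 6)` -/
noncomputable def kv : K1 := ⟨dec 9 0x765834210, hK1.memd le_rfl (by decide +kernel)⟩
theorem enc_kv : enc (kv : Perm (Fin 9)) = nat_lit 0x765834210 := enc_dec h9 (by decide +kernel)

/-- `(3 4 5)` -/
noncomputable def pa : K1 := ⟨dec 9 0x876354210, hK1.memd le_rfl (by decide +kernel)⟩
theorem enc_pa : enc (pa : Perm (Fin 9)) = nat_lit 0x876354210 := enc_dec h9 (by decide +kernel)

/-- `(4 5 6)` -/
noncomputable def pb : K1 := ⟨dec 9 0x874653210, hK1.memd le_rfl (by decide +kernel)⟩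
theorem enc_pb : enc (pb : Perm (Fin 9)) = nat_lit 0x874653210 := enc_dec h9 (by decide +kernel)

/-- `(3 4 5 6 7)` -/
noncomputable def a5 : K1 := ⟨dec 9 0x837654210, hK1.memd le_rfl (by decide +kernel)⟩
theorem enc_a5 : enc (a5 : Perm (Fin 9)) = nat_lit 0x837654210 := enc_dec h9 (by decide +kernel)

/-- Generators (3 4)(5 6), (3 5)(4 6). -/
def gW0 : List ℕ := [nat_lit 0x875634210, nat_lit 0x874365210]
def LW0 : List ℕ := [
  nat_lit 0x873456210, nat_lit 0x874365210, nat_lit 0x875634210, nat_lit 0x876543210]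
/-- A group of order 4. -/
def W0 : Subgroup (Perm (Fin 9)) := cl 9 gW0
theorem hW0 : Lists W0 LW0 :=
  lists_cl (by norm_num) _ _ (by decide +kernel) (by decide +kernel) (by decide +kernel)
    (by decide +kernel) (by decide +kernel) (by decide +kernel)
theorem card_W0 : Nat.card W0 = 4 := hW0.card_eq.trans (by decide +kernel)

theorem le_W : W0 ≤ K1 := hW0.le_of hK1 (by decide +kernel)
abbrev W : Subgroup K1 := W0.subgroupOf K1
theorem card_W : Nat.card W = 4 := (hW0.card_sub le_W).trans (by decide +kernel)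

/-- Generators (3 8)(5 7), (3 8)(4 6). -/
def gU0 : List ℕ := [nat_lit 0x356748210, nat_lit 0x374568210]
def LU0 : List ℕ := [
  nat_lit 0x854763210, nat_lit 0x374568210, nat_lit 0x356748210, nat_lit 0x876543210]
/-- A group of order 4. -/
def U0 : Subgroup (Perm (Fin 9)) := cl 9 gU0
theorem hU0 : Lists U0 LU0 :=
  lists_cl (by norm_num) _ _ (by decide +kernel) (by decide +kernel) (by decide +kernel)
    (by decide +kernel) (by decide +kernel) (by decide +kernel)
theorem card_U0 : Nat.card U0 = 4 := hU0.card_eq.trans (by decide +kernel)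

theorem le_U : U0 ≤ K1 := hU0.le_of hK1 (by decide +kernel)
abbrev U : Subgroup K1 := U0.subgroupOf K1
theorem card_U : Nat.card U = 4 := (hU0.card_sub le_U).trans (by decide +kernel)

/-- Generators (0 1 2), (3 4 5). -/
def gA10 : List ℕ := [nat_lit 0x876543021, nat_lit 0x876354210]
def LA10 : List ℕ := [
  nat_lit 0x876435102, nat_lit 0x876435021, nat_lit 0x876354102, nat_lit 0x876435210,
  nat_lit 0x876354021, nat_lit 0x876543102, nat_lit 0x876354210, nat_lit 0x876543021,
  nat_lit 0x876543210]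
/-- A group of order 9. -/
def A10 : Subgroup (Perm (Fin 9)) := cl 9 gA10
theorem hA10 : Lists A10 LA10 :=
  lists_cl (by norm_num) _ _ (by decide +kernel) (by decide +kernel) (by decide +kernel)
    (by decide +kernel) (by decide +kernel) (by decide +kernel)
theorem card_A10 : Nat.card A10 = 9 := hA10.card_eq.trans (by decide +kernel)

theorem le_A1 : A10 ≤ K1 := hA10.le_of hK1 (by decide +kernel)
abbrev A1 : Subgroup K1 := A10.subgroupOf K1
theorem card_A1 : Nat.card A1 = 9 := (hA10.card_sub le_A1).trans (by decide +kernel)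

/-- Generators (0 1 2), (3 4 5)(6 7 8). -/
def gA20 : List ℕ := [nat_lit 0x876543021, nat_lit 0x687354210]
def LA20 : List ℕ := [
  nat_lit 0x768435102, nat_lit 0x768435021, nat_lit 0x687354102, nat_lit 0x768435210,
  nat_lit 0x687354021, nat_lit 0x876543102, nat_lit 0x687354210, nat_lit 0x876543021,
  nat_lit 0x876543210]
/-- A group of order 9. -/
def A20 : Subgroup (Perm (Fin 9)) := cl 9 gA20
theorem hA20 : Lists A20 LA20 :=
  lists_cl (by norm_num) _ _ (by decide +kernel) (by decide +kernel) (by decide +kernel)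
    (by decide +kernel) (by decide +kernel) (by decide +kernel)
theorem card_A20 : Nat.card A20 = 9 := hA20.card_eq.trans (by decide +kernel)

theorem le_A2 : A20 ≤ K1 := hA20.le_of hK1 (by decide +kernel)
abbrev A2 : Subgroup K1 := A20.subgroupOf K1
theorem card_A2 : Nat.card A2 = 9 := (hA20.card_sub le_A2).trans (by decide +kernel)

/-- Generators (3 4)(5 6), (3 5)(4 6), (3 4)(7 8). -/
def gT00 : List ℕ := [nat_lit 0x875634210, nat_lit 0x874365210, nat_lit 0x786534210]
def LT00 : List ℕ := [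
  nat_lit 0x784356210, nat_lit 0x783465210, nat_lit 0x785643210, nat_lit 0x873456210,
  nat_lit 0x786534210, nat_lit 0x874365210, nat_lit 0x875634210, nat_lit 0x876543210]
/-- A group of order 8. -/
def T00 : Subgroup (Perm (Fin 9)) := cl 9 gT00
theorem hT00 : Lists T00 LT00 :=
  lists_cl (by norm_num) _ _ (by decide +kernel) (by decide +kernel) (by decide +kernel)
    (by decide +kernel) (by decide +kernel) (by decide +kernel)
theorem card_T00 : Nat.card T00 = 8 := hT00.card_eq.trans (by decide +kernel)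

theorem le_T0 : T00 ≤ K1 := hT00.le_of hK1 (by decide +kernel)
abbrev T0 : Subgroup K1 := T00.subgroupOf K1
theorem card_T0 : Nat.card T0 = 8 := (hT00.card_sub le_T0).trans (by decide +kernel)

/-- Generators (3 4)(5 6), (3 5)(4 6), (3 4)(7 8), (0 1)(7 8). -/
def gT10 : List ℕ := [nat_lit 0x875634210, nat_lit 0x874365210, nat_lit 0x786534210, nat_lit 0x786543201]
def LT10 : List ℕ := [
  nat_lit 0x874356201, nat_lit 0x873465201, nat_lit 0x875643201, nat_lit 0x783456201,
  nat_lit 0x876534201, nat_lit 0x784356210, nat_lit 0x784365201, nat_lit 0x783465210,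
  nat_lit 0x785634201, nat_lit 0x785643210, nat_lit 0x873456210, nat_lit 0x786543201,
  nat_lit 0x786534210, nat_lit 0x874365210, nat_lit 0x875634210, nat_lit 0x876543210]
/-- A group of order 16. -/
def T10 : Subgroup (Perm (Fin 9)) := cl 9 gT10
theorem hT10 : Lists T10 LT10 :=
  lists_cl (by norm_num) _ _ (by decide +kernel) (by decide +kernel) (by decide +kernel)
    (by decide +kernel) (by decide +kernel) (by decide +kernel)
theorem card_T10 : Nat.card T10 = 16 := hT10.card_eq.trans (by decide +kernel)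

theorem le_T1 : T10 ≤ K1 := hT10.le_of hK1 (by decide +kernel)
abbrev T1 : Subgroup K1 := T10.subgroupOf K1
theorem card_T1 : Nat.card T1 = 16 := (hT10.card_sub le_T1).trans (by decide +kernel)

theorem l_N : ∀ k : K1, (k * e1 * k⁻¹ = e1 ∨ k * e1 * k⁻¹ = e1⁻¹) ∧ ((k ^ 4) ^ 5) ^ 3 = 1 ∧
    (k * s0 = s3 * k → k * s1 = s4 * k → k * s3 = s0 * k → k * s4 = s0 * s1 * s0 * k → k = r) := by
  simp only [hK1.tball]
  simp +contextual only [
    ne_eq, Subtype.ext_iff, Subgroup.coe_mul, Subgroup.coe_inv, Subgroup.coe_pow,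
    Subgroup.coe_one, Subgroup.mem_subgroupOf, eq_iff_enc h9, enc_mul h9, enc_inv h9, enc_one',
    enc_pow h9 enc_one', sp_eq, exists_prop, enc_e1, enc_s0, enc_s1, enc_s3, enc_s4, enc_r,
    hK1.encd]
  decide +kernel

theorem l_gen : s0 * s0 = 1 ∧ s1 * s1 = 1 ∧ s2 * s2 = 1 ∧ s3 * s3 = 1 ∧ s4 * s4 = 1 ∧ (s0 * s1) ^ 3 = 1 ∧ (s1 * s2) ^ 3 = 1 ∧
    (s2 * s3) ^ 3 = 1 ∧ (s3 * s4) ^ 3 = 1 ∧ s0 * s2 = s2 * s0 ∧ s0 * s3 = s3 * s0 ∧ s0 * s4 = s4 * s0 ∧
    s1 * s3 = s3 * s1 ∧ s1 * s4 = s4 * s1 ∧ s2 * s4 = s4 * s2 := by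
  simp +contextual only [
    ne_eq, Subtype.ext_iff, Subgroup.coe_mul, Subgroup.coe_inv, Subgroup.coe_pow,
    Subgroup.coe_one, Subgroup.mem_subgroupOf, eq_iff_enc h9, enc_mul h9, enc_inv h9, enc_one',
    enc_pow h9 enc_one', sp_eq, exists_prop, enc_s0, enc_s1, enc_s2, enc_s3, enc_s4, hK1.encd]
  decide +kernel

theorem l_gen2 : s0 * e1 * s0⁻¹ = e1⁻¹ ∧ s1 * e1 * s1⁻¹ = e1⁻¹ ∧ s2 * e1 * s2⁻¹ = e1⁻¹ ∧ s3 * e1 * s3⁻¹ = e1⁻¹ ∧
    s4 * e1 * s4⁻¹ = e1⁻¹ ∧ e2 = s0 * s1 ∧ w1 = s0 * s2 ∧ x2 = s0 * s3 * s4 * s3 ∧ t2 = s0 * s4 ∧ x5 = e1 * s0 * e1⁻¹ ∧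
    e1 ^ 3 = 1 ∧ e1 ≠ 1 := by
  simp +contextual only [
    ne_eq, Subtype.ext_iff, Subgroup.coe_mul, Subgroup.coe_inv, Subgroup.coe_pow,
    Subgroup.coe_one, Subgroup.mem_subgroupOf, eq_iff_enc h9, enc_mul h9, enc_inv h9, enc_one',
    enc_pow h9 enc_one', sp_eq, exists_prop, enc_e1, enc_e2, enc_s0, enc_s1, enc_s2, enc_s3,
    enc_s4, enc_w1, enc_t2, enc_x2, enc_x5, hK1.encd]
  decide +kernel

theorem l_W : ∀ k : K1, k * w1 = w1 * k → (k * w2 = w2 * k → (k * e1 = e1 * k → k ∈ W ∨ k * e1⁻¹ ∈ W ∨ k * e1 ∈ W) ∧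
    (k ^ 3 = 1 → k = 1 ∨ k = e1 ∨ k = e1⁻¹)) ∧ (k * e1 = e1 * k → (k ^ 3) ^ 4 = 1 ∧ (k ^ 3 = 1 → k = 1 ∨ k = e1 ∨ k = e1⁻¹)) := by
  simp only [hK1.tball]
  simp +contextual only [
    ne_eq, Subtype.ext_iff, Subgroup.coe_mul, Subgroup.coe_inv, Subgroup.coe_pow,
    Subgroup.coe_one, Subgroup.mem_subgroupOf, eq_iff_enc h9, enc_mul h9, enc_inv h9, enc_one',
    enc_pow h9 enc_one', sp_eq, exists_prop, hW0.encd, hW0.mem_memF, enc_e1, enc_w1, enc_w2,
    hK1.encd]
  decide +kernel

theorem l_U : ∀ k : K1, k * u1 = u1 * k → k * u2 = u2 * k → k * e1 = e1 * k → k ∈ U ∨ k * e1⁻¹ ∈ U ∨ k * e1 ∈ U := by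
  simp only [hK1.tball]
  simp +contextual only [
    ne_eq, Subtype.ext_iff, Subgroup.coe_mul, Subgroup.coe_inv, Subgroup.coe_pow,
    Subgroup.coe_one, Subgroup.mem_subgroupOf, eq_iff_enc h9, enc_mul h9, enc_inv h9, enc_one',
    enc_pow h9 enc_one', sp_eq, exists_prop, hU0.encd, hU0.mem_memF, enc_e1, enc_u1, enc_u2,
    hK1.encd]
  decide +kernel

theorem l_r3 : ∀ k : K1, k * r3 = r3 * k → (k ^ 5 = 1 → k = 1) ∧ (k * c = c * k →
    (k = 1 ∨ k = c) ∨ (k * r3⁻¹ = 1 ∨ k * r3⁻¹ = c) ∨ (k * r3 = 1 ∨ k * r3 = c)) := by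
  simp only [hK1.tball]
  simp +contextual only [
    ne_eq, Subtype.ext_iff, Subgroup.coe_mul, Subgroup.coe_inv, Subgroup.coe_pow,
    Subgroup.coe_one, Subgroup.mem_subgroupOf, eq_iff_enc h9, enc_mul h9, enc_inv h9, enc_one',
    enc_pow h9 enc_one', sp_eq, exists_prop, enc_r3, enc_c, hK1.encd]
  decide +kernel

theorem l_A1 : ∀ a ∈ A1, (a : Perm (Fin 9)) ∈ J0 ∧ (∀ v ∈ W, a * v * a⁻¹ ∈ W) ∧
    ((a * w1 = w1 * a ∧ a * w2 = w2 * a) ∨ (a = e2 ∨ a = e2⁻¹) ∨ 6 ≤ sp a) := by
  simp only [hW0.sball le_W, hA10.sball le_A1]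
  simp +contextual only [
    ne_eq, Subtype.ext_iff, Subgroup.coe_mul, Subgroup.coe_inv, Subgroup.coe_pow,
    Subgroup.coe_one, Subgroup.mem_subgroupOf, eq_iff_enc h9, enc_mul h9, enc_inv h9, enc_one',
    enc_pow h9 enc_one', sp_eq, exists_prop, hW0.encd, hA10.encd, hW0.mem_memF, hA10.mem_memF,
    enc_e2, enc_w1, enc_w2, hK1.encd, hJ0.mem_memF]
  decide +kernel

theorem l_A2 : ∀ a ∈ A2, (a : Perm (Fin 9)) ∈ J0 ∧ (∀ v ∈ U, a * v * a⁻¹ ∈ U) ∧
    ((a * u1 = u1 * a ∧ a * u2 = u2 * a) ∨ 6 ≤ sp a) := by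
  simp only [hU0.sball le_U, hA20.sball le_A2]
  simp +contextual only [
    ne_eq, Subtype.ext_iff, Subgroup.coe_mul, Subgroup.coe_inv, Subgroup.coe_pow,
    Subgroup.coe_one, Subgroup.mem_subgroupOf, eq_iff_enc h9, enc_mul h9, enc_inv h9, enc_one',
    enc_pow h9 enc_one', sp_eq, exists_prop, hU0.encd, hA20.encd, hU0.mem_memF, hA20.mem_memF,
    enc_u1, enc_u2, hK1.encd, hJ0.mem_memF]
  decide +kernel

theorem l_V : (∀ v ∈ W, v = 1 ∨ v = w1 ∨ v = w2 ∨ v = w1 * w2) ∧ (∀ v ∈ U, v = 1 ∨ v = u1 ∨ v = u2 ∨ v = u1 * u2) ∧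
    w1 ∈ W ∧ w2 ∈ W ∧ u1 ∈ U ∧ u2 ∈ U ∧ w1 * w2 = w2 * w1 ∧ u1 * u2 = u2 * u1 ∧ e1 ∈ A1 ∧ e1 ∈ A2 ∧ e2 ∈ A1 ∧ e2 * e3 ∈ A2 ∧
    e1 * w1 = w1 * e1 ∧ e1 * w2 = w2 * e1 ∧ e1 * u1 = u1 * e1 ∧ e1 * u2 = u2 * e1 ∧ e2 * w1 ≠ w1 * e2 ∧ e2 * e3 * u1 ≠ u1 * (e2 * e3) := by
  simp only [hW0.sball le_W, hU0.sball le_U]
  simp +contextual only [
    ne_eq, Subtype.ext_iff, Subgroup.coe_mul, Subgroup.coe_inv, Subgroup.coe_pow,
    Subgroup.coe_one, Subgroup.mem_subgroupOf, eq_iff_enc h9, enc_mul h9, enc_inv h9, enc_one',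
    enc_pow h9 enc_one', sp_eq, exists_prop, hW0.encd, hU0.encd, hA10.encd, hA20.encd,
    hW0.mem_memF, hU0.mem_memF, hA10.mem_memF, hA20.mem_memF, enc_e1, enc_e2, enc_e3, enc_w1,
    enc_w2, enc_u1, enc_u2, hK1.encd]
  decide +kernel

theorem l_ka : ka * r3 * ka⁻¹ = e2 * e3 ∧ ka * t2 * ka⁻¹ = u1 ∧ ka * w1 * ka⁻¹ = u2 ∧ kv * v0 * kv⁻¹ = w1 ∧
    pa ^ 3 = 1 ∧ pb ^ 3 = 1 ∧ c = pa * pb * s4 ∧ c * c = 1 ∧ c ≠ 1 ∧ r3 * c = c * r3 ∧ r3 ^ 3 = 1 ∧ r3 ≠ 1 ∧
    a5 ^ 5 = 1 ∧ a5 ≠ 1 ∧ a5 * e1 = e1 * a5 ∧ s4 * w1 = w1 * s4 ∧ s4 * w2 = w2 * s4 ∧ w1 * w1 = 1 := by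
  simp +contextual only [
    ne_eq, Subtype.ext_iff, Subgroup.coe_mul, Subgroup.coe_inv, Subgroup.coe_pow,
    Subgroup.coe_one, Subgroup.mem_subgroupOf, eq_iff_enc h9, enc_mul h9, enc_inv h9, enc_one',
    enc_pow h9 enc_one', sp_eq, exists_prop, enc_e1, enc_e2, enc_e3, enc_s4, enc_w1, enc_w2,
    enc_t2, enc_v0, enc_r3, enc_c, enc_ka, enc_u1, enc_u2, enc_kv, enc_pa, enc_pb, enc_a5,
    hK1.encd]
  decide +kernel

theorem l_v : ∀ v ∈ W, v * s4 = s4 * v ∧ (v * e2 * v⁻¹ = e2 ∨ v * e2 * v⁻¹ = e2⁻¹ → v = 1) ∧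
    (∀ v' ∈ W, v * s4⁻¹ * (v' * s4⁻¹) ∈ W) ∧
    (v = 1 ∨ ∃ p ∈ A1, ∃ q ∈ A1, v = p * c * p⁻¹ * (q * c * q⁻¹) ∧ p * c * p⁻¹ ∈ T1 ∧ q * c * q⁻¹ ∈ T1) := by
  simp only [hW0.sball le_W, hA10.sbex le_A1]
  simp +contextual only [
    ne_eq, Subtype.ext_iff, Subgroup.coe_mul, Subgroup.coe_inv, Subgroup.coe_pow,
    Subgroup.coe_one, Subgroup.mem_subgroupOf, eq_iff_enc h9, enc_mul h9, enc_inv h9, enc_one',
    enc_pow h9 enc_one', sp_eq, exists_prop, hW0.encd, hA10.encd, hT10.encd, hW0.mem_memF,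
    hA10.mem_memF, hT10.mem_memF, enc_e2, enc_s4, enc_c, hK1.encd]
  decide +kernel

theorem l_T : (∀ p ∈ T1, p * p = 1 → p = 1 ∨ p * s4 ∈ W ∨ ∃ h : K1, h * p = w1 * h ∨ h * p = s0 * h) ∧
    (∀ p ∈ T0, p ∈ T1 ∧ (p * p = 1 → p = 1 ∨ ∃ h : K1, h * p = w1 * h)) := by
  simp only [hT00.sball le_T0, hT10.sball le_T1, hK1.tbex]
  simp +contextual only [
    ne_eq, Subtype.ext_iff, Subgroup.coe_mul, Subgroup.coe_inv, Subgroup.coe_pow,
    Subgroup.coe_one, Subgroup.mem_subgroupOf, eq_iff_enc h9, enc_mul h9, enc_inv h9, enc_one',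
    enc_pow h9 enc_one', sp_eq, exists_prop, hW0.encd, hT00.encd, hT10.encd, hW0.mem_memF,
    hT00.mem_memF, hT10.mem_memF, enc_s0, enc_s4, enc_w1, hK1.encd]
  decide +kernel

theorem l_R : ∀ k : K1, k * e1 = e1 * k → (k ^ 4) ^ 5 = 1 →
    ((k * k * (e2 * k * e2⁻¹) * (e2 * (e2 * k * e2⁻¹) * e2⁻¹)) ^ 4) ^ 5 = 1 →
    ((k * k * (e2 * (e2 * k * e2⁻¹) * e2⁻¹) * (e2 * k * e2⁻¹)) ^ 4) ^ 5 = 1 →
    ((k * (e2 * k * e2⁻¹) * k * (e2 * (e2 * k * e2⁻¹) * e2⁻¹)) ^ 4) ^ 5 = 1 →
    ((k * (t2 * k * t2⁻¹) * (e2 * k * e2⁻¹) * (e2 * (e2 * (t2 * k * t2⁻¹) * e2⁻¹) * e2⁻¹)) ^ 4) ^ 5 = 1 →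
    ((k * (e2 * (e2 * (t2 * k * t2⁻¹) * e2⁻¹) * e2⁻¹)) ^ 4) ^ 5 = 1 →
    k ∈ W := by
  simp only [hK1.tball]
  simp +contextual only [
    ne_eq, Subtype.ext_iff, Subgroup.coe_mul, Subgroup.coe_inv, Subgroup.coe_pow,
    Subgroup.coe_one, Subgroup.mem_subgroupOf, eq_iff_enc h9, enc_mul h9, enc_inv h9, enc_one',
    enc_pow h9 enc_one', sp_eq, exists_prop, hW0.encd, hW0.mem_memF, enc_e1, enc_e2, enc_t2,
    hK1.encd]
  decide +kernel

def Wd : List (List ℕ) := [
  [0, 1, 2, 0, 0, 0, 0], [0, 0, 0, 0, 2, 1, 0], [0, 0, 0, 0, 1, 2, 0], [0, 2, 1, 0, 0, 0, 0],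
  [0, 0, 0, 1, 2, 0, 0], [0, 0, 0, 2, 1, 0, 0], [0, 0, 2, 1, 0, 0, 0], [0, 0, 1, 2, 0, 0, 0],
  [1, 0, 1, 0, 0, 0, 0, 1], [1, 0, 0, 0, 0, 1, 0, 1], [1, 0, 0, 1, 0, 0, 0, 1],
  [1, 0, 0, 0, 1, 0, 0, 1], [1, 2, 0, 0, 1, 0, 1, 0, 2], [2, 0, 1, 0, 1, 0, 0, 2, 1],
  [0, 0, 0, 0, 1, 0, 1], [1, 0, 1, 0, 0, 0, 0], [0, 0, 1, 0, 0, 0, 1], [1, 0, 0, 1, 0, 0, 0],
  [1, 0, 0, 0, 1, 0, 0], [0, 0, 0, 1, 0, 0, 1], [1, 1, 0, 0, 0, 0, 1, 0],
  [1, 0, 1, 1, 0, 0, 0, 0], [1, 1, 0, 0, 0, 1, 0, 0], [1, 0, 0, 0, 1, 1, 0, 0],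
  [1, 0, 0, 1, 1, 0, 0, 0], [1, 1, 0, 0, 1, 0, 0, 0], [0, 1, 0, 0, 0, 0, 1],
  [1, 0, 0, 0, 0, 1, 0], [1, 1, 0, 1, 0, 0, 0, 0], [1, 0, 0, 0, 0, 1, 1, 0],
  [1, 0, 1, 1, 0, 0, 0, 0, 1], [1, 0, 0, 0, 0, 1, 1, 0, 1], [0, 2, 0, 2, 0, 0, 0, 1, 0],
  [1, 0, 0, 0, 0, 2, 0, 1, 1], [1, 1, 0, 0, 2, 0, 0, 0, 1], [1, 0, 0, 0, 1, 0, 1, 0, 1],
  [1, 1, 0, 0, 0, 2, 0, 0, 1], [1, 0, 2, 0, 0, 0, 0, 1, 1], [1, 1, 0, 2, 0, 0, 0, 0, 1],
  [1, 1, 0, 0, 0, 0, 2, 0, 1], [1, 0, 0, 0, 1, 1, 0, 0, 1], [1, 0, 0, 1, 1, 0, 0, 0, 1],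
  [0, 0, 2, 0, 2, 0, 0, 0, 0], [0, 0, 0, 0, 2, 0, 2, 0, 0], [1, 1, 0, 2, 0, 0, 2, 0, 1],
  [1, 0, 2, 0, 0, 2, 0, 1, 1], [2, 0, 0, 1, 0, 2], [2, 0, 1, 0, 0, 2], [0, 1, 0, 0, 0, 2, 0, 2],
  [1, 0, 0, 2, 0, 0, 0, 1, 1]]

theorem l_b : ∀ k : K1, k * e1 = e1 * k → k ^ 5 = 1 → k ≠ 1 → ∃ w ∈ Wd, evalW 9 (idc 9)
    [enc (k : Perm (Fin 9)), enc (e2 : Perm (Fin 9)), enc (t2 : Perm (Fin 9))] w = enc (b : Perm (Fin 9)) := by
  simp only [hK1.tball]
  simp +contextual only [
    ne_eq, Subtype.ext_iff, Subgroup.coe_mul, Subgroup.coe_inv, Subgroup.coe_pow,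
    Subgroup.coe_one, Subgroup.mem_subgroupOf, eq_iff_enc h9, enc_mul h9, enc_inv h9, enc_one',
    enc_pow h9 enc_one', sp_eq, exists_prop, enc_e1, enc_e2, enc_t2, enc_b, hK1.encd]
  decide +kernel

theorem l_M : e2 ^ 3 = 1 ∧ w1 ^ 2 = 1 ∧ x2 ^ 2 = 1 ∧ t2 ^ 2 = 1 ∧ x5 ^ 2 = 1 ∧
    s0 ^ 2 = 1 ∧ (e2 * w1) ^ 3 = 1 ∧ (w1 * x2) ^ 3 = 1 ∧ (x2 * t2) ^ 3 = 1 ∧ (x5 * s0) ^ 3 = 1 ∧
    (e2 * x2) ^ 2 = 1 ∧ (e2 * t2) ^ 2 = 1 ∧ (e2 * x5) ^ 2 = 1 ∧ (e2 * s0) ^ 2 = 1 ∧ (w1 * t2) ^ 2 = 1 ∧
    (w1 * x5) ^ 2 = 1 ∧ (w1 * s0) ^ 2 = 1 ∧ (x2 * x5) ^ 2 = 1 ∧ (x2 * s0) ^ 2 = 1 ∧ (t2 * x5) ^ 2 = 1 ∧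
    (t2 * s0) ^ 2 = 1 := by
  simp +contextual only [
    ne_eq, Subtype.ext_iff, Subgroup.coe_mul, Subgroup.coe_inv, Subgroup.coe_pow,
    Subgroup.coe_one, Subgroup.mem_subgroupOf, eq_iff_enc h9, enc_mul h9, enc_inv h9, enc_one',
    enc_pow h9 enc_one', sp_eq, exists_prop, enc_e2, enc_s0, enc_w1, enc_t2, enc_x2, enc_x5,
    hK1.encd]
  decide +kernel

theorem l_M2 : s5 ^ 2 = 1 ∧ (s4 * s5) ^ 3 = 1 ∧ (s5 * s1) ^ 3 = 1 ∧ (e1 * s5) ^ 2 = 1 ∧ (s3 * s5) ^ 2 = 1 ∧ (s5 * s0) ^ 2 = 1 ∧
    s5 = b * s0 ∧ s0 * w1 = w1 * s0 := by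
  simp +contextual only [
    ne_eq, Subtype.ext_iff, Subgroup.coe_mul, Subgroup.coe_inv, Subgroup.coe_pow,
    Subgroup.coe_one, Subgroup.mem_subgroupOf, eq_iff_enc h9, enc_mul h9, enc_inv h9, enc_one',
    enc_pow h9 enc_one', sp_eq, exists_prop, enc_e1, enc_s0, enc_s1, enc_s3, enc_s4, enc_s5,
    enc_w1, enc_b, hK1.encd]
  decide +kernel

end Cfsg.Agent.H1.A9L
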