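import Cfsg.Agent.H1.A9Bad
import Cfsg.Agent.H1.A9Data2

/-!
# Three-local recognition of `A_9`: the normalizer of a three-cycle
-/

set_option autoImplicit false

namespace Cfsg.Agent.H1.A9L

open Subgroup Cfsg.Agent.H9 Cfsg.Agent.H1.T3 Cfsg.Agent.H1.PC Cfsg.Agent.L0.SC3
open Cfsg.Agent.S3702 (K hK)
open Cfsg.Agent.H1.A9K (Base J sp cent_tr abJ expJ rangeN)
open scoped Pointwise

variable {G : Type*} [Group G] [Finite G]

/-- The normalizer of `⟨e₁⟩` is as in `A_9`. -/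
structure Big (ι : K →* G) (ψ : K1 →* G) : Prop extends Base ι where
  inj' : Function.Injective ψ
  nz : ∀ g, g * ψ e1 * g⁻¹ = ψ e1 ∨ g * ψ e1 * g⁻¹ = (ψ e1)⁻¹ → ∃ k, ψ k = g
  agree : ∀ (a : K) (b : K1), (a : Equiv.Perm (Fin 9)) = b → ι a = ψ b

theorem exists_big {ι : K →* G} (h : Base ι) : ι.range = ⊤ ∨ ∃ ψ, Big ι ψ := by
  have : Fact (Nat.Prime 3) := ⟨Nat.prime_three⟩
  rcases h.dich with hC | ⟨ι6, a1, a2, a3, b0, b1, b3, b4, b2⟩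
  · exact Or.inl (h.top_of_cent (le_trans (fun g hg => mem_normalizer_of_conj_mem (by
      rintro _ ⟨n, rfl⟩
      exact ⟨n, by simp [← conj_zpow, conj_eq_iff.mpr (T3.mem_cent.mp hg)]⟩)) hC))
  right
  obtain ⟨g0, g1, g2, g3, g4, g5, g6, g7, g8, g9, g10, g11, g12, g13, g14⟩ := l_gen
  obtain ⟨i0, i1, i2, i3, i4, q0, q1, q2, q3, q5, z3, z1⟩ := l_gen2
  obtain ⟨ι0, c0, c1, c2, c3, c4⟩ := coxA_five g0 g1 g2 g3 g4 g5 g6 g7 g8 g9 g10 g11 g12 g13 g14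
  have y3 := expJ ι _ (mem_map_of_mem ι A9K.k_m.1)
  have y1 := h.ne A9K.k_m.2.2.2.2.2.1
  have t3 : ∀ {a : K} (b : K1), (a : Equiv.Perm (Fin 9)) = b → b * e1 * b⁻¹ = e1⁻¹ →
      ι a * ι A9K.e1 * (ι a)⁻¹ = (ι A9K.e1)⁻¹ := fun {a} b e e' => by
    rw [← map_inv, ← map_mul, ← map_mul, ← map_inv]
    refine congrArg ι (Subtype.ext ?_)
    have := congrArg Subtype.val e'
    simp only [coe_mul, coe_inv, ← e] at this ⊢
    exact this
  have p3 : (ι A9K.e1, e1) ^ 3 = 1 := Prod.ext y3 z3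
  have hn : (ι6.prod ι0).range ≤ normalizer (zpowers (ι A9K.e1, e1) : Set (G × K1)) := by
    have k : ∀ {p}, ι6 p * ι A9K.e1 * (ι6 p)⁻¹ = (ι A9K.e1)⁻¹ → ι0 p * e1 * (ι0 p)⁻¹ = e1⁻¹ →
        ι6.prod ι0 p ∈ normalizer (zpowers (ι A9K.e1, e1) : Set (G × K1)) := fun e e' =>
      (mem_normalizer_zpowers_three p3 (fun e => z1 (congrArg Prod.snd e))).mpr
        (Or.inr (Prod.ext e e'))
    rintro _ ⟨p, rfl⟩
    exact range_le_of_gens _ (k (b0 ▸ t3 s0 rfl i0) (c0 ▸ i0)) (k (b1 ▸ t3 s1 rfl i1) (c1 ▸ i1))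
      (k b2 (c2 ▸ i2)) (k (b3 ▸ t3 s3 rfl i3) (c3 ▸ i3)) (k (b4 ▸ t3 s4 rfl i4) (c4 ▸ i4)) p
  have m0 : (ι A9K.e1, e1) ∈ zpowers (ι A9K.e1, e1) ⊔ (ι6.prod ι0).range :=
    mem_sup_left (mem_zpowers _)
  have m1 : ∀ p, (ι6 p, ι0 p) ∈ zpowers (ι A9K.e1, e1) ⊔ (ι6.prod ι0).range := fun p =>
    mem_sup_right ⟨p, rfl⟩
  obtain ⟨ψ, hψ⟩ := H4.TC.exists_hom_of_card_le (K := zpowers (ι A9K.e1, e1) ⊔ (ι6.prod ι0).range)
    (by
      have h1 := H7.card_sup_mul_card_inf hn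
      have h2 := Nat.card_le_card_of_surjective _ (ι6.prod ι0).rangeRestrict_surjective
      rw [Nat.card_perm, Nat.card_fin] at h2
      rw [Nat.card_zpowers, orderOf_three p3 (fun e => z1 (congrArg Prod.snd e))] at h1
      rw [card_K1]
      exact ((Nat.le_mul_of_pos_right _ Nat.card_pos).trans h1.le).trans
        (Nat.mul_le_mul_left 3 h2)) (by
      rw [eq_top_iff, ← subgroupOf_self]
      refine cl_induction (gs := gK1) le_rfl ?_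
      have n0 := mem_map_of_mem (MonoidHom.snd G K1) m0
      have n1 := fun p => mem_map_of_mem (MonoidHom.snd G K1) (m1 p)
      have d0 := n1 S6.c0
      have d1 := n1 S6.c1
      have d2 := n1 S6.c2
      have d3 := n1 S6.c3
      have d4 := n1 S6.c4
      simp only [MonoidHom.coe_snd, c0, c1, c2, c3, c4] at n0 d0 d1 d2 d3 d4
      simp only [gK1, List.mem_cons, List.not_mem_nil, or_false]
      rintro c (rfl | rfl | rfl | rfl | rfl | rfl)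
      · exact (q0 ▸ mul_mem d0 d1 : e2 ∈ _)
      · exact (q1 ▸ mul_mem d0 d2 : w1 ∈ _)
      · exact (q2 ▸ mul_mem (mul_mem (mul_mem d0 d3) d4) d3 : x2 ∈ _)
      · exact (q3 ▸ mul_mem d0 d4 : t2 ∈ _)
      · exact (q5 ▸ mul_mem (mul_mem n0 d0) (inv_mem n0) : x5 ∈ _)
      · exact d0)
  have f0 := hψ _ _ m0
  have f1 := fun p => hψ _ _ (m1 p)
  have hL : normalizer (zpowers (ι A9K.e1) : Set G) ≤ ψ.range := fun g hg => by
    obtain ⟨p, ζ, hζ, rfl⟩ := a2 g hg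
    exact mul_mem (zpowers_le_of_mem (MonoidHom.mem_range.mpr ⟨e1, f0⟩) hζ)
      (MonoidHom.mem_range.mpr ⟨_, f1 p⟩)
  have hi : Function.Injective ψ := fun a b e => (ψ.rangeRestrict_surjective.bijective_of_nat_card_le
    (by rw [card_K1, ← a3]; exact card_le_of_le hL)).1 (Subtype.ext e)
  have nz : ∀ g, g * ψ e1 * g⁻¹ = ψ e1 ∨ g * ψ e1 * g⁻¹ = (ψ e1)⁻¹ → ∃ k, ψ k = g := fun g hg =>
    hL ((mem_normalizer_zpowers_three y3 y1).mpr (f0 ▸ hg))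
  have d0 : ψ s0 = ι A9K.s0 := by rw [← c0, f1, b0]
  have d1 : ψ s1 = ι A9K.s1 := by rw [← c1, f1, b1]
  have d3 : ψ s3 = ι A9K.s3 := by rw [← c3, f1, b3]
  have d4 : ψ s4 = ι A9K.s4 := by rw [← c4, f1, b4]
  have dr : ψ r = ι A9K.r := by
    obtain ⟨-, -, -, r0, r1, r3, r4⟩ := A9K.k_y23
    obtain ⟨k, hk⟩ := nz (ι A9K.r) (by
      rw [f0]
      simp only [← map_inv, ← map_mul, h.inj.eq_iff]
      exact (A9K.k_B1 _ A9K.k_r.1).1)
    rw [← hk, (l_N k).2.2 (hi ?_) (hi ?_) (hi ?_) (hi ?_)] <;>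
      simp only [map_mul ψ, hk, d0, d1, d3, d4, ← map_mul ι, r0, r1, r3, r4]
  refine ⟨ψ, h, hi, nz, fun a b e => ?_⟩
  have h1 : a ∈ A9K.B1 := (A9K.k_N a).2.2.2 ((l_N b).1.imp (fun e' => Subtype.ext (by
      have := congrArg Subtype.val e'
      simp only [coe_mul, coe_inv, ← e] at this ⊢
      exact this)) (fun e' => Subtype.ext (by
      have := congrArg Subtype.val e'
      simp only [coe_mul, coe_inv, ← e] at this ⊢
      exact this)))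
  have h2 : ι.comp (inclusion A9K.le_B1) = ψ.comp (inclusion le_B1) := eq_on_cl _ _ (by
    simp only [A9K.gB10, List.mem_cons, List.not_mem_nil, or_false]
    rintro c (rfl | rfl | rfl | rfl | rfl | rfl)
    exacts [f0.symm, d0.symm, d1.symm, d3.symm, d4.symm, dr.symm])
  exact (DFunLike.congr_fun h2 ⟨a, h1⟩).trans
    (congrArg ψ (Subtype.ext e : (⟨a, le_B1 h1⟩ : K1) = b))

omit [Finite G] in
theorem mem_of_coprime {Z : Subgroup G} {g y : G} (hy3 : y ^ 3 = 1) (e : g * y = y * g)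
    (ho : (orderOf g).Coprime 3) (h : g ∈ Z ∨ g * y⁻¹ ∈ Z ∨ g * y ∈ Z) : g ∈ Z := by
  have k : ∀ u, u ^ 3 = 1 → Commute g u → g * u ∈ Z → g ∈ Z := fun u h1 h2 h3 => by
    have h4 := pow_mem h3 3
    rw [h2.mul_pow, h1, mul_one] at h4
    obtain ⟨m, hm⟩ := exists_pow_eq_self_of_coprime (x := g) (n := 3) ho.symm
    exact hm ▸ pow_mem h4 m
  rcases h with h | h | h
  · exact h
  · exact k _ (by rw [inv_pow, hy3, inv_one]) (Commute.inv_right e) h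
  · exact k _ hy3 e h

omit [Finite G] in
theorem mem_cent_klein (ψ : K1 →* G) {V : Subgroup K1} {a b : K1}
    (hV : ∀ v ∈ V, v = 1 ∨ v = a ∨ v = b ∨ v = a * b) {g : G}
    (hg : g ∈ centralizer ({ψ a, ψ b} : Set G)) : ∀ v ∈ V, g * ψ v = ψ v * g := by
  obtain ⟨e1, e2⟩ := mem_cent2.mp hg
  intro v hv
  rcases hV v hv with rfl | rfl | rfl | rfl
  · simp
  · exact e1
  · exact e2
  · rw [map_mul]; exact (Commute.mul_right e1 e2).eq

namespace Big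

variable {ι : K →* G} {ψ : K1 →* G} (h : Big ι ψ)
include h

omit [Finite G] in
theorem ne' {a : K1} (ha : a ≠ 1) : ψ a ≠ 1 := fun e => ha (h.inj' (by rw [e, map_one]))

omit [Finite G] in
theorem comm' {a b : K1} : ψ a * ψ b = ψ b * ψ a ↔ a * b = b * a := by
  rw [← map_mul, ← map_mul, h.inj'.eq_iff]

omit [Finite G] in
theorem cz {g : G} (e : g * ψ e1 = ψ e1 * g) : ∃ k, ψ k = g := h.nz g (Or.inl (conj_eq_iff.mpr e))

omit [Finite G] in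
theorem memJ {a : K1} (ha : (a : Equiv.Perm (Fin 9)) ∈ A9K.J0) : ψ a ∈ J.map ι :=
  ⟨⟨a, A9K.le_J ha⟩, ha, h.agree _ _ rfl⟩

theorem good {a : K1} (ha : (a : Equiv.Perm (Fin 9)) ∈ A9K.J0) (h6 : 6 ≤ sp a) :
    centralizer ({ψ a} : Set G) ≤ ι.range := by
  rw [← h.agree ⟨a, A9K.le_J ha⟩ a rfl]
  obtain ⟨l, e | e⟩ := A9K.k_T ⟨a, A9K.le_J ha⟩ ha h6
  exacts [cent_tr ι e h.cy, cent_tr ι e h.cx']

theorem cr3 {g : G} (e : g * ψ r3 = ψ r3 * g) : ∃ k, ψ k = g := by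
  obtain ⟨y1, y2, y3, -⟩ := A9K.k_y23
  have h1 := conj_comm (g := ψ ka) e
  rw [← map_inv, ← map_mul, ← map_mul, l_ka.1] at h1
  obtain ⟨k, hk⟩ := h.good (a := e2 * e3) y2 y3 (T3.mem_cent.mpr h1)
  rw [← hk, ← h.agree (A9K.e2 * A9K.e3) _ rfl, h.comm] at h1
  exact ⟨ka⁻¹ * ⟨k, le_B1 (y1 k h1)⟩ * ka, by
    rw [map_mul, map_mul, ← h.agree k ⟨k, le_B1 (y1 k h1)⟩ rfl, hk]
    simp [mul_assoc]⟩

theorem cc {g : G} (e1 : g * ψ r3 = ψ r3 * g) (e2 : g * ψ c = ψ c * g) :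
    g ∈ zpowers (ψ c) ∨ g * (ψ r3)⁻¹ ∈ zpowers (ψ c) ∨ g * ψ r3 ∈ zpowers (ψ c) := by
  obtain ⟨k, rfl⟩ := h.cr3 e1
  have c2 : ψ c * ψ c = 1 := by rw [← map_mul, l_ka.2.2.2.2.2.2.2.1, map_one]
  simp only [mem_zpowers_two c2, ← map_inv, ← map_mul, ← map_one ψ, h.inj'.eq_iff]
  exact (l_r3 k (h.comm'.mp e1)).2 (h.comm'.mp e2)

theorem vs (g : G) : g * ψ w1 * g⁻¹ ≠ ψ c := fun e => by
  have : Fact (Nat.Prime 3) := ⟨Nat.prime_three⟩
  obtain ⟨-, -, -, -, -, -, -, c2, c1, r1, r2, r3', a1, a2, a3, -⟩ := l_ka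
  have y3 : ψ r3 ^ 3 = 1 := by rw [← map_pow, r2, map_one]
  have hy : ψ r3 ∈ centralizer ({ψ c} : Set G) := T3.mem_cent.mpr (h.comm'.mpr r1)
  obtain ⟨R, hR, hyR⟩ := exists_isSylowIn_ge (p := 3) (zpowers_le_of_mem hy)
    (IsPGroup.of_card (n := 1) (by rw [Nat.card_zpowers, orderOf_three y3 (h.ne' r3')]; rfl))
  have hRe : zpowers (ψ r3) = R := by
    by_contra hne
    obtain ⟨x, x1, x2, x3⟩ := H7.exists_mem_normalizer_of_lt hR.isPGroup.isNilpotent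
      (lt_of_le_of_ne hyR hne)
    obtain ⟨n, hn⟩ := hR.isPGroup ⟨x, x1⟩
    have ho : Odd (orderOf x) := Odd.of_dvd_nat (Odd.pow (by decide))
      (orderOf_dvd_of_pow_eq_one (congrArg Subtype.val hn))
    have hc : x * ψ r3 = ψ r3 * x := by
      have h2 : x * x ∈ centralizer ({ψ r3} : Set G) := by
        rw [T3.mem_cent, ← conj_eq_iff]
        rcases (mem_normalizer_zpowers_three y3 (h.ne' r3')).mp x3 with e | e
        · rw [show x * x * ψ r3 * (x * x)⁻¹ = x * (x * ψ r3 * x⁻¹) * x⁻¹ by group, e, e]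
        · rw [show x * x * ψ r3 * (x * x)⁻¹ = x * (x * ψ r3 * x⁻¹) * x⁻¹ by group, e,
            ← conj_inv, e, inv_inv]
      exact T3.mem_cent.mp (mem_of_odd ho h2)
    have k : ∀ u ∈ zpowers (ψ r3), x * u ∈ zpowers (ψ c) → False := fun u hu e => x2 (by
      have := eq_one_of_mem_pgroup_of_coprime hR.isPGroup (mul_mem x1 (hyR hu))
        (coprime_orderOf_of_mem (by
          rw [Nat.card_zpowers, orderOf_two (by rw [← map_mul, c2, map_one]) (h.ne' c1)]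
          norm_num) e)
      rw [eq_inv_of_mul_eq_one_left this]
      exact inv_mem hu)
    rcases h.cc hc (T3.mem_cent.mp (hR.le x1)) with e | e | e
    · exact k 1 (one_mem _) (by simpa using e)
    · exact k _ (inv_mem (mem_zpowers _)) e
    · exact k _ (mem_zpowers _) e
  obtain ⟨l, -, hl⟩ := exists_conj_three (L := centralizer ({ψ c} : Set G)) (a := g * ψ e1 * g⁻¹)
    (by rw [T3.mem_cent, ← e]; exact conj_comm (h.comm'.mpr l_V.2.2.2.2.2.2.2.2.2.2.2.2.1)) hy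
    (conj_cube (by rw [← map_pow, l_gen2.2.2.2.2.2.2.2.2.2.2.1, map_one]))
    (conj_ne_one (h.ne' l_gen2.2.2.2.2.2.2.2.2.2.2.2)) y3 (h.ne' r3') (not_dvd_of_syl (k := 1) hR
      (by rw [← hRe, Nat.card_zpowers, orderOf_three y3 (h.ne' r3')]; rfl))
  have h1 := conj_comm (g := l * g) (h.comm'.mpr a3)
  rw [show l * g * ψ e1 * (l * g)⁻¹ = l * (g * ψ e1 * g⁻¹) * l⁻¹ by group] at h1
  have h2 : l * g * ψ a5 * (l * g)⁻¹ * ψ r3 = ψ r3 * (l * g * ψ a5 * (l * g)⁻¹) := by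
    rcases hl with hl | hl <;> rw [hl] at h1
    · exact h1
    · exact (Commute.inv_right_iff.mp h1).eq
  obtain ⟨k, hk⟩ := h.cr3 h2
  rw [← hk, h.comm'] at h2
  refine conj_ne_one (g := l * g) (h.ne' a2) ?_
  rw [← hk, (l_r3 k h2).1 (h.inj' (by rw [map_pow, hk, conj_pow, ← map_pow, a1]; simp)), map_one]

theorem sc {V A : Subgroup K1} {a b : K1} (hV : ∀ v ∈ V, v = 1 ∨ v = a ∨ v = b ∨ v = a * b)
    (ha : a ∈ V) (hb : b ∈ V) (hab : a * b = b * a) (h4 : Nat.card V = 4) (h9 : Nat.card A = 9)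
    (hA : ∀ x ∈ A, (x : Equiv.Perm (Fin 9)) ∈ A9K.J0 ∧ (∀ v ∈ V, x * v * x⁻¹ ∈ V) ∧
      ((x * a = a * x ∧ x * b = b * x) ∨ (x = e2 ∨ x = e2⁻¹) ∧ e2 ∈ A ∨ 6 ≤ sp x)) (he : e1 ∈ A)
    (ea : e1 * a = a * e1) (eb : e1 * b = b * e1) (hn : ∃ x ∈ A, x * a ≠ a * x)
    (hc : ∀ k : K1, k * a = a * k → k * b = b * k → k * e1 = e1 * k →
      k ∈ V ∨ k * e1⁻¹ ∈ V ∨ k * e1 ∈ V)
    (hN : e2 ∈ A → ∀ N ≤ centralizer ({ψ a, ψ b} : Set G),
      centralizer ({ψ a, ψ b} : Set G) ≤ normalizer (N : Set G) → (Nat.card N).Coprime 3 →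
      ∀ g ∈ N, g * ψ e2 = ψ e2 * g → g ∈ V.map ψ) :
    (∀ g ∈ centralizer ({ψ a, ψ b} : Set G), ∃ k, ψ k = g) ∨
      (Nat.card (centralizer ({ψ a, ψ b} : Set G)) = 240 ∧ e2 ∈ A ∧
        ∃ f ∈ centralizer ({ψ a, ψ b} : Set G), orderOf f = 5 ∧ f * ψ e2 = ψ e2 * f) := by
  have : Fact (Nat.Prime 3) := ⟨Nat.prime_three⟩
  set L := centralizer ({ψ a, ψ b} : Set G)
  have mL : ∀ {k}, ψ k ∈ L ↔ k * a = a * k ∧ k * b = b * k := by
    intro k; rw [mem_cent2, h.comm', h.comm']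
  have hAJ : A.map ψ ≤ J.map ι := by
    rintro _ ⟨x, hx, rfl⟩
    exact h.memJ (hA x hx).1
  have hy : ψ e1 ∈ L := mL.mpr ⟨ea, eb⟩
  have y3 := expJ ι _ (hAJ (mem_map_of_mem ψ he))
  have hc' : ∀ g ∈ L, g * ψ e1 = ψ e1 * g →
      g ∈ V.map ψ ∨ g * (ψ e1)⁻¹ ∈ V.map ψ ∨ g * ψ e1 ∈ V.map ψ := fun g hg e => by
    obtain ⟨k, rfl⟩ := h.cz e
    simp only [← map_inv, ← map_mul, mem_map_iff_mem h.inj']
    exact hc k (mL.mp hg).1 (mL.mp hg).2 (h.comm'.mp e)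
  have c648 : ∀ x ∈ A, 6 ≤ sp x → Nat.card (centralizer ({ψ x} : Set G)) ∣ 648 := fun x hx h6 =>
    h.card_range ▸ card_dvd_of_le (h.good (hA x hx).1 h6)
  have i2 : ∀ {g x}, x = e2 ∨ x = e2⁻¹ → g * ψ x = ψ x * g → g * ψ e2 = ψ e2 * g := by
    rintro g _ (rfl | rfl) e
    · exact e
    · exact (Commute.inv_right_iff.mp (by rwa [map_inv] at e)).eq
  refine (sc3_act (Z := V.map ψ) (A := A.map ψ) ?_ ?_ ((IsPGroup.of_card (n := 2) h4).map ψ) hy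
    (h.ne' l_gen2.2.2.2.2.2.2.2.2.2.2.2) hc' (by rw [card_map_of_injective h.inj', h9])
    (fun x hx => expJ ι x (hAJ hx)) (fun x hx y hy => abJ ι x (hAJ hx) y (hAJ hy))
    (mem_map_of_mem ψ he) ?_ ?_ ?_ ?_).imp (fun e g hg => h.nz g (e g hg)) ?_
  · rintro _ ⟨v, hv, rfl⟩
    rcases hV v hv with rfl | rfl | rfl | rfl
    · exact mL.mpr ⟨by simp, by simp⟩
    · exact mL.mpr ⟨rfl, hab⟩
    · exact mL.mpr ⟨hab.symm, rfl⟩
    · exact mL.mpr ⟨by rw [mul_assoc, ← hab], by rw [hab, mul_assoc, ← hab]⟩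
  · rintro g hg _ ⟨v, hv, rfl⟩
    exact mem_cent_klein ψ hV hg v hv
  · rintro _ ⟨x, hx, rfl⟩
    refine mem_normalizer_of_conj_mem (fun g hg => ?_)
    have key : ∀ v ∈ V, ψ x * g * (ψ x)⁻¹ * ψ v = ψ v * (ψ x * g * (ψ x)⁻¹) := fun v hv => by
      have := conj_comm (g := ψ x) (mem_cent_klein ψ hV hg _ ((hA _ (inv_mem hx)).2.1 v hv))
      simpa [mul_assoc] using this
    exact mem_cent2.mpr ⟨key a ha, key b hb⟩
  · obtain ⟨x, hx, e⟩ := hn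
    exact fun hh => e (mL.mp (hh (mem_map_of_mem ψ hx))).1
  · rintro _ ⟨x, hx, rfl⟩ hxL hd
    rcases (hA x hx).2.2 with e | ⟨e, -⟩ | e
    · exact hxL (mL.mpr e)
    · have h1 : centralizer ({ψ x} : Set G) ≤ MulAut.conj (ι A9K.sg) • ψ.range := fun g hg => by
        have h2 := conj_comm (g := (ι A9K.sg)⁻¹) (i2 e (T3.mem_cent.mp hg))
        rw [← h.agree A9K.e2 e2 rfl, ← A9K.k_sg.1, map_mul, map_mul, map_inv,
          show ∀ a b : G, a⁻¹ * (a * b * a⁻¹) * a⁻¹⁻¹ = b from fun a b => by group,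
          h.agree A9K.e1 e1 rfl, inv_inv] at h2
        exact mem_conj_smul_iff.mpr (h.cz h2)
      have := hd.trans (card_dvd_of_le h1)
      rw [card_conj_smul, ← Nat.card_congr (MonoidHom.ofInjective h.inj').toEquiv, card_K1] at this
      omega
    · have := hd.trans (c648 x hx e)
      omega
  · rintro N h1 h2 - h3 _ ⟨x, hx, rfl⟩ hxL g hg e
    rcases (hA x hx).2.2 with e' | ⟨e', m⟩ | e'
    · exact absurd (mL.mpr e') hxL
    · exact hN m N h1 h2 h3 g hg (i2 e' e)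
    have h5 : g * ψ e1 * g⁻¹ * (ψ e1)⁻¹ ∈ J.map ι := mul_mem (conj_mem_of_mem_normalizer
      (rangeN ι (h.good (hA x hx).1 e' (T3.mem_cent.mpr e))) (hAJ (mem_map_of_mem ψ he)))
      (inv_mem (hAJ (mem_map_of_mem ψ he)))
    have h6 : g * ψ e1 * g⁻¹ * (ψ e1)⁻¹ ∈ N := by
      rw [mul_assoc, mul_assoc, ← mul_assoc (ψ e1)]
      exact mul_mem hg (conj_mem_of_mem_normalizer (h2 hy) (inv_mem hg))
    have h7 := eq_one_of_mem_pgroup_of_coprime ((IsPGroup.of_card (n := 3) A9K.card_J).map ι) h5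
      (coprime_orderOf_of_mem h3 h6)
    rw [mul_inv_eq_one, conj_eq_iff] at h7
    exact mem_of_coprime y3 h7 (coprime_orderOf_of_mem h3 hg) (hc' g (h1 hg) h7)
  · rintro ⟨h1, _, ⟨x, hx, rfl⟩, hxL, f, hf, ho, e⟩
    rw [card_map_of_injective h.inj', h4] at h1
    rcases (hA x hx).2.2 with e' | ⟨e', m⟩ | e'
    · exact absurd (mL.mpr e') hxL
    · exact ⟨h1, m, f, hf, ho, i2 e' e⟩
    have := (orderOf_dvd_natCard _ (T3.mem_cent.mpr e)).trans (c648 x hx e')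
    rw [ho] at this
    omega

end Big

end Cfsg.Agent.H1.A9L
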