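import Cfsg.Agent.H1.A9Data
import Cfsg.Agent.H1.A8Data

/-!
# Data in `A_9`
-/

set_option autoImplicit false
set_option maxRecDepth 100000
set_option synthInstance.maxSize 100000
set_option synthInstance.maxHeartbeats 1000000
set_option linter.unusedSimpArgs false

namespace Cfsg.Agent.H1.A9

open Cfsg.Agent.L0 Cfsg.Agent.L0.Code Equiv Cfsg.Agent.H1.PC

open Cfsg.Agent.H1.A9K (h9 sp sp_eq)

abbrev A9 : Subgroup (Perm (Fin 9)) := alternatingGroup (Fin 9)

/-- `(0 1 2)` -/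
noncomputable def f0 : A9 := ⟨dec 9 0x876543021, dec_mem_alt h9 (by decide +kernel) (by decide +kernel)⟩
theorem enc_f0 : enc (f0 : Perm (Fin 9)) = nat_lit 0x876543021 := enc_dec h9 (by decide +kernel)

/-- `(0 1)(2 7)` -/
noncomputable def f1 : A9 := ⟨dec 9 0x826543701, dec_mem_alt h9 (by decide +kernel) (by decide +kernel)⟩
theorem enc_f1 : enc (f1 : Perm (Fin 9)) = nat_lit 0x826543701 := enc_dec h9 (by decide +kernel)

/-- `(0 1)(3 7)` -/
noncomputable def f2 : A9 := ⟨dec 9 0x836547201, dec_mem_alt h9 (by decide +kernel) (by decide +kernel)⟩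
theorem enc_f2 : enc (f2 : Perm (Fin 9)) = nat_lit 0x836547201 := enc_dec h9 (by decide +kernel)

/-- `(0 1)(3 4)` -/
noncomputable def f3 : A9 := ⟨dec 9 0x876534201, dec_mem_alt h9 (by decide +kernel) (by decide +kernel)⟩
theorem enc_f3 : enc (f3 : Perm (Fin 9)) = nat_lit 0x876534201 := enc_dec h9 (by decide +kernel)

/-- `(0 1)(4 5)` -/
noncomputable def f4 : A9 := ⟨dec 9 0x876453201, dec_mem_alt h9 (by decide +kernel) (by decide +kernel)⟩
theorem enc_f4 : enc (f4 : Perm (Fin 9)) = nat_lit 0x876453201 := enc_dec h9 (by decide +kernel)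

/-- `(0 1)(5 6)` -/
noncomputable def f5 : A9 := ⟨dec 9 0x875643201, dec_mem_alt h9 (by decide +kernel) (by decide +kernel)⟩
theorem enc_f5 : enc (f5 : Perm (Fin 9)) = nat_lit 0x875643201 := enc_dec h9 (by decide +kernel)

/-- `(3 4)(5 6)` -/
noncomputable def w1 : A9 := ⟨dec 9 0x875634210, dec_mem_alt h9 (by decide +kernel) (by decide +kernel)⟩
theorem enc_w1 : enc (w1 : Perm (Fin 9)) = nat_lit 0x875634210 := enc_dec h9 (by decide +kernel)

/-- `(3 5)(4 6)` -/
noncomputable def w2 : A9 := ⟨dec 9 0x874365210, dec_mem_alt h9 (by decide +kernel) (by decide +kernel)⟩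
theorem enc_w2 : enc (w2 : Perm (Fin 9)) = nat_lit 0x874365210 := enc_dec h9 (by decide +kernel)

/-- `(0 1)(2 7)(3 4)(5 6)` -/
noncomputable def s : A9 := ⟨dec 9 0x825634701, dec_mem_alt h9 (by decide +kernel) (by decide +kernel)⟩
theorem enc_s : enc (s : Perm (Fin 9)) = nat_lit 0x825634701 := enc_dec h9 (by decide +kernel)

/-- `(0 2 3)(1 7 4)` -/
noncomputable def yy : A9 := ⟨dec 9 0x846510372, dec_mem_alt h9 (by decide +kernel) (by decide +kernel)⟩
theorem enc_yy : enc (yy : Perm (Fin 9)) = nat_lit 0x846510372 := enc_dec h9 (by decide +kernel)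

/-- `(0 3 7 6 1 4 8 2 5)` -/
noncomputable def k2 : A9 := ⟨dec 9 0x261087543, dec_mem_alt h9 (by decide +kernel) (by decide +kernel)⟩
theorem enc_k2 : enc (k2 : Perm (Fin 9)) = nat_lit 0x261087543 := enc_dec h9 (by decide +kernel)

/-- `(0 1)(3 4)(5 6)(7 8)` -/
noncomputable def c : A9 := ⟨dec 9 0x785634201, dec_mem_alt h9 (by decide +kernel) (by decide +kernel)⟩
theorem enc_c : enc (c : Perm (Fin 9)) = nat_lit 0x785634201 := enc_dec h9 (by decide +kernel)

/-- `(3 5 7)(4 6 8)` -/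
noncomputable def r3 : A9 := ⟨dec 9 0x438765210, dec_mem_alt h9 (by decide +kernel) (by decide +kernel)⟩
theorem enc_r3 : enc (r3 : Perm (Fin 9)) = nat_lit 0x438765210 := enc_dec h9 (by decide +kernel)

/-- Generators (3 4)(5 6), (3 5)(4 6), (0 1 2), (0 1)(2 7), (0 1)(7 8). -/
def gCW0 : List ℕ := [nat_lit 0x875634210, nat_lit 0x874365210, nat_lit 0x876543021, nat_lit 0x826543701, nat_lit 0x786543201]
def LCW0 : List ℕ := [
  nat_lit 0x103456287, nat_lit 0x013456278, nat_lit 0x104365287, nat_lit 0x014365278,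
  nat_lit 0x105634287, nat_lit 0x015634278, nat_lit 0x123456078, nat_lit 0x103456728,
  nat_lit 0x103456872, nat_lit 0x023456718, nat_lit 0x123456780, nat_lit 0x023456187,
  nat_lit 0x013456782, nat_lit 0x203456178, nat_lit 0x106543287, nat_lit 0x016543278,
  nat_lit 0x124365078, nat_lit 0x104365728, nat_lit 0x104365872, nat_lit 0x024365718,
  nat_lit 0x124365780, nat_lit 0x024365187, nat_lit 0x014365782, nat_lit 0x204365178,
  nat_lit 0x125634078, nat_lit 0x105634728, nat_lit 0x105634872, nat_lit 0x025634718,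
  nat_lit 0x125634780, nat_lit 0x025634187, nat_lit 0x015634782, nat_lit 0x205634178,
  nat_lit 0x073456128, nat_lit 0x173456208, nat_lit 0x123456807, nat_lit 0x023456871,
  nat_lit 0x013456827, nat_lit 0x213456708, nat_lit 0x173456082, nat_lit 0x183456027,
  nat_lit 0x073456281, nat_lit 0x213456087, nat_lit 0x203456781, nat_lit 0x713456028,
  nat_lit 0x126543078, nat_lit 0x106543728, nat_lit 0x106543872, nat_lit 0x026543718,
  nat_lit 0x126543780, nat_lit 0x026543187, nat_lit 0x016543782, nat_lit 0x206543178,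
  nat_lit 0x074365128, nat_lit 0x174365208, nat_lit 0x124365807, nat_lit 0x024365871,
  nat_lit 0x014365827, nat_lit 0x214365708, nat_lit 0x174365082, nat_lit 0x184365027,
  nat_lit 0x074365281, nat_lit 0x214365087, nat_lit 0x204365781, nat_lit 0x714365028,
  nat_lit 0x075634128, nat_lit 0x175634208, nat_lit 0x125634807, nat_lit 0x025634871,
  nat_lit 0x015634827, nat_lit 0x215634708, nat_lit 0x175634082, nat_lit 0x185634027,
  nat_lit 0x075634281, nat_lit 0x215634087, nat_lit 0x205634781, nat_lit 0x715634028,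
  nat_lit 0x173456820, nat_lit 0x183456270, nat_lit 0x183456702, nat_lit 0x273456018,
  nat_lit 0x083456217, nat_lit 0x073456812, nat_lit 0x213456870, nat_lit 0x203456817,
  nat_lit 0x703456218, nat_lit 0x083456172, nat_lit 0x273456180, nat_lit 0x703456182,
  nat_lit 0x713456280, nat_lit 0x813456072, nat_lit 0x723456108, nat_lit 0x803456127,
  nat_lit 0x076543128, nat_lit 0x176543208, nat_lit 0x126543807, nat_lit 0x026543871,
  nat_lit 0x016543827, nat_lit 0x216543708, nat_lit 0x176543082, nat_lit 0x186543027,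
  nat_lit 0x076543281, nat_lit 0x216543087, nat_lit 0x206543781, nat_lit 0x716543028,
  nat_lit 0x174365820, nat_lit 0x184365270, nat_lit 0x184365702, nat_lit 0x274365018,
  nat_lit 0x084365217, nat_lit 0x074365812, nat_lit 0x214365870, nat_lit 0x204365817,
  nat_lit 0x704365218, nat_lit 0x084365172, nat_lit 0x274365180, nat_lit 0x704365182,
  nat_lit 0x714365280, nat_lit 0x814365072, nat_lit 0x724365108, nat_lit 0x804365127,
  nat_lit 0x175634820, nat_lit 0x185634270, nat_lit 0x185634702, nat_lit 0x275634018,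
  nat_lit 0x085634217, nat_lit 0x075634812, nat_lit 0x215634870, nat_lit 0x205634817,
  nat_lit 0x705634218, nat_lit 0x085634172, nat_lit 0x275634180, nat_lit 0x705634182,
  nat_lit 0x715634280, nat_lit 0x815634072, nat_lit 0x725634108, nat_lit 0x805634127,
  nat_lit 0x083456721, nat_lit 0x283456107, nat_lit 0x273456801, nat_lit 0x703456821,
  nat_lit 0x713456802, nat_lit 0x813456207, nat_lit 0x813456720, nat_lit 0x283456071,
  nat_lit 0x723456081, nat_lit 0x803456271, nat_lit 0x823456017, nat_lit 0x176543820,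
  nat_lit 0x186543270, nat_lit 0x186543702, nat_lit 0x276543018, nat_lit 0x086543217,
  nat_lit 0x076543812, nat_lit 0x216543870, nat_lit 0x206543817, nat_lit 0x706543218,
  nat_lit 0x086543172, nat_lit 0x276543180, nat_lit 0x706543182, nat_lit 0x716543280,
  nat_lit 0x816543072, nat_lit 0x726543108, nat_lit 0x806543127, nat_lit 0x084365721,
  nat_lit 0x284365107, nat_lit 0x274365801, nat_lit 0x704365821, nat_lit 0x714365802,
  nat_lit 0x814365207, nat_lit 0x814365720, nat_lit 0x284365071, nat_lit 0x724365081,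
  nat_lit 0x804365271, nat_lit 0x824365017, nat_lit 0x085634721, nat_lit 0x285634107,
  nat_lit 0x275634801, nat_lit 0x705634821, nat_lit 0x715634802, nat_lit 0x815634207,
  nat_lit 0x815634720, nat_lit 0x285634071, nat_lit 0x725634081, nat_lit 0x805634271,
  nat_lit 0x825634017, nat_lit 0x283456710, nat_lit 0x783456012, nat_lit 0x723456810,
  nat_lit 0x803456712, nat_lit 0x783456120, nat_lit 0x823456170, nat_lit 0x873456102,
  nat_lit 0x086543721, nat_lit 0x286543107, nat_lit 0x276543801, nat_lit 0x706543821,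
  nat_lit 0x716543802, nat_lit 0x816543207, nat_lit 0x816543720, nat_lit 0x286543071,
  nat_lit 0x726543081, nat_lit 0x806543271, nat_lit 0x826543017, nat_lit 0x284365710,
  nat_lit 0x784365012, nat_lit 0x724365810, nat_lit 0x804365712, nat_lit 0x784365120,
  nat_lit 0x824365170, nat_lit 0x874365102, nat_lit 0x285634710, nat_lit 0x785634012,
  nat_lit 0x725634810, nat_lit 0x805634712, nat_lit 0x785634120, nat_lit 0x825634170,
  nat_lit 0x875634102, nat_lit 0x783456201, nat_lit 0x823456701, nat_lit 0x873456021,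
  nat_lit 0x286543710, nat_lit 0x786543012, nat_lit 0x726543810, nat_lit 0x806543712,
  nat_lit 0x786543120, nat_lit 0x826543170, nat_lit 0x876543102, nat_lit 0x784365201,
  nat_lit 0x824365701, nat_lit 0x874365021, nat_lit 0x785634201, nat_lit 0x825634701,
  nat_lit 0x875634021, nat_lit 0x873456210, nat_lit 0x786543201, nat_lit 0x826543701,
  nat_lit 0x876543021, nat_lit 0x874365210, nat_lit 0x875634210, nat_lit 0x876543210]
/-- A group of order 240. -/
def CW0 : Subgroup (Perm (Fin 9)) := cl 9 gCW0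
theorem hCW0 : Lists CW0 LCW0 :=
  lists_cl (by norm_num) _ _ (by decide +kernel) (by decide +kernel) (by decide +kernel)
    (by decide +kernel) (by decide +kernel) (by decide +kernel)
theorem card_CW0 : Nat.card CW0 = 240 := hCW0.card_eq.trans (by decide +kernel)

theorem le_CW : CW0 ≤ A9 := hCW0.le_alt (by decide +kernel)
abbrev CW : Subgroup A9 := CW0.subgroupOf A9
theorem card_CW : Nat.card CW = 240 := (hCW0.card_sub le_CW).trans (by decide +kernel)

theorem a_M : f0 ^ 3 = 1 ∧ f1 ^ 2 = 1 ∧ f2 ^ 2 = 1 ∧ f3 ^ 2 = 1 ∧ f4 ^ 2 = 1 ∧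
    f5 ^ 2 = 1 ∧ (f0 * f1) ^ 3 = 1 ∧ (f1 * f2) ^ 3 = 1 ∧ (f2 * f3) ^ 3 = 1 ∧ (f3 * f4) ^ 3 = 1 ∧
    (f4 * f5) ^ 3 = 1 ∧ (f0 * f2) ^ 2 = 1 ∧ (f0 * f3) ^ 2 = 1 ∧ (f0 * f4) ^ 2 = 1 ∧ (f0 * f5) ^ 2 = 1 ∧
    (f1 * f3) ^ 2 = 1 ∧ (f1 * f4) ^ 2 = 1 ∧ (f1 * f5) ^ 2 = 1 ∧ (f2 * f4) ^ 2 = 1 ∧ (f2 * f5) ^ 2 = 1 ∧
    (f3 * f5) ^ 2 = 1 := by
  simp +contextual only [
    ne_eq, Subtype.ext_iff, Subgroup.coe_mul, Subgroup.coe_inv, Subgroup.coe_pow,
    Subgroup.coe_one, Subgroup.mem_subgroupOf, eq_iff_enc h9, enc_mul h9, enc_inv h9, enc_one',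
    enc_pow h9 enc_one', sp_eq, exists_prop, enc_f0, enc_f1, enc_f2, enc_f3, enc_f4, enc_f5]
  decide +kernel

theorem a_CW : ∀ k ∈ CW, k * w1 = w1 * k ∧ k * w2 = w2 * k ∧ (k * f1 = f1 * k → k * k = 1) := by
  simp only [hCW0.sball le_CW]
  simp +contextual only [
    ne_eq, Subtype.ext_iff, Subgroup.coe_mul, Subgroup.coe_inv, Subgroup.coe_pow,
    Subgroup.coe_one, Subgroup.mem_subgroupOf, eq_iff_enc h9, enc_mul h9, enc_inv h9, enc_one',
    enc_pow h9 enc_one', sp_eq, exists_prop, hCW0.encd, hCW0.mem_memF, enc_f1, enc_w1, enc_w2]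
  decide +kernel

theorem a_w : f3 * f5 = w1 ∧ f4 * f3 * f5 * f4 = w2 ∧ f1 * f3 * f5 = s ∧ f0 * f0 * f1 * f0 * f2 * f1 * f3 * f2 = yy ∧
    k2 * s * k2⁻¹ = c ∧ k2 * yy * k2⁻¹ = r3 ∧ f0 ≠ 1 ∧ w1 * w1 = 1 ∧ s * s = 1 ∧ sp w1 = 4 ∧ sp s = 8 := by
  simp +contextual only [
    ne_eq, Subtype.ext_iff, Subgroup.coe_mul, Subgroup.coe_inv, Subgroup.coe_pow,
    Subgroup.coe_one, Subgroup.mem_subgroupOf, eq_iff_enc h9, enc_mul h9, enc_inv h9, enc_one',
    enc_pow h9 enc_one', sp_eq, exists_prop, enc_f0, enc_f1, enc_f2, enc_f3, enc_f4, enc_f5,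
    enc_w1, enc_w2, enc_s, enc_yy, enc_k2, enc_c, enc_r3]
  decide +kernel

theorem odd01 : dec 9 0x876543201 ∉ A9 ∧ dec 9 0x876543201 * w1 = w1 * dec 9 0x876543201 ∧
    dec 9 0x876543201 * s = s * dec 9 0x876543201 := by
  simp only [mem_alt_iff h9, eq_iff_enc h9, enc_mul h9, enc_w1, enc_s,
    enc_dec (c := 0x876543201) h9 (by decide +kernel)]
  decide +kernel

open A8 in
theorem a_8 : ySw 5 3 * ySw 5 5 = v1 ∧ ySw 5 4 * ySw 5 3 * ySw 5 5 * ySw 5 4 = v2 ∧ ySw 5 1 = A8.w1 ∧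
    ySw 5 1 * ySw 5 3 * ySw 5 5 = s0 ∧ ySw 5 0 = z ∧ ySw 5 0 * ySw 5 0 * ySw 5 1 * ySw 5 0 * ySw 5 2 * ySw 5 1 * ySw 5 3 * ySw 5 2 = y0 := by
  simp only [Subtype.ext_iff, Subgroup.coe_mul, coe_ySw (m := 5) (i := 0) (by norm_num),
    coe_ySw (m := 5) (i := 1) (by norm_num), coe_ySw (m := 5) (i := 2) (by norm_num),
    coe_ySw (m := 5) (i := 3) (by norm_num), coe_ySw (m := 5) (i := 4) (by norm_num),
    coe_ySw (m := 5) (i := 5) (by norm_num), eq_iff_enc h8, enc_v1, enc_v2, A8.enc_w1, enc_s0,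
    enc_z, enc_y0]
  decide +kernel

end Cfsg.Agent.H1.A9
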