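import Cfsg.Agent.H1.A9Big

/-!
# Three-local recognition of `A_9`: construction of `A_9`
-/

set_option autoImplicit false

namespace Cfsg.Agent.H1.A9L

open Subgroup Cfsg.Agent.H9 Cfsg.Agent.H1.T3 Cfsg.Agent.H1.PC Cfsg.Agent.L0.SC3
open Cfsg.Agent.S3702 (K hK)
open Cfsg.Agent.H1.A9K (Base J sp cent_tr abJ expJ rangeN sg k_sg h9)
open scoped Pointwise

theorem e2_notMem : e2 ∉ A2 := by
  rw [mem_subgroupOf, hA20.mem_memF, enc_e2]; decide +kernel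

theorem b_mem {R : Subgroup K1} {k : K1} (hk : k ∈ R) (h1 : e2 ∈ R) (h2 : t2 ∈ R)
    (e : k * e1 = e1 * k) (h5 : k ^ 5 = 1) (k1 : k ≠ 1) : b ∈ R := by
  obtain ⟨w, -, hw⟩ := l_b k e h5 k1
  have m : ∀ {a : K1}, a ∈ R → L0.Code.Cd (R.map K1.subtype)
      (L0.Code.enc (a : Equiv.Perm (Fin 9))) := fun {a} ha => ⟨_, ⟨a, ha, rfl⟩, rfl⟩
  obtain ⟨_, ⟨p, hp, rfl⟩, e'⟩ := L0.Code.cd_evalW h9 (K := R.map K1.subtype) enc_one'
    (gs := [L0.Code.enc (k : Equiv.Perm (Fin 9)), L0.Code.enc (e2 : Equiv.Perm (Fin 9)),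
      L0.Code.enc (t2 : Equiv.Perm (Fin 9))])
    (List.forall_mem_cons.mpr ⟨m hk, List.forall_mem_cons.mpr ⟨m h1,
      List.forall_mem_singleton.mpr (m h2)⟩⟩) w
  rwa [← show p = b from Subtype.ext (L0.Code.enc_injective h9 (e'.trans hw))]

/-- A permutation carrying the standard path to the path `3, 4, 5, 6, 8, 7, 2, 1, 0`. -/
noncomputable def kap : Equiv.Perm (Fin 9) := dec 9 0x012786543
theorem enc_kap : L0.Code.enc kap = nat_lit 0x012786543 := enc_dec h9 (by decide +kernel)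

variable {G : Type*} [Group G] [Finite G]

namespace Big

variable {ι : K →* G} {ψ : K1 →* G} (h : Big ι ψ)
include h

omit [Finite G] in
theorem tw {a b : K} (a' b' : K1) (ea : (a : Equiv.Perm (Fin 9)) = a')
    (eb : (b : Equiv.Perm (Fin 9)) = b') (e : sg * a * sg⁻¹ = b) :
    ι sg * ψ a' * (ι sg)⁻¹ = ψ b' := by
  rw [← h.agree a a' ea, ← h.agree b b' eb, ← e, map_mul, map_mul, map_inv]

theorem cU {g : G} (e1' : g * ψ t2 = ψ t2 * g) (e2' : g * ψ w1 = ψ w1 * g) : ∃ k, ψ k = g := by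
  obtain ⟨-, v2, -, -, v5, v6, -, v8, -, v10, -, v12, -, -, v15, v16, -, v18⟩ := l_V
  obtain ⟨-, k2, k3, -⟩ := l_ka
  have h1 := conj_comm (g := ψ ka) e1'
  have h2 := conj_comm (g := ψ ka) e2'
  rw [← map_inv, ← map_mul, ← map_mul] at h1 h2
  rw [k2] at h1
  rw [k3] at h2
  obtain ⟨k, hk⟩ := (h.sc v2 v5 v6 v8 card_U card_A2 (fun x hx => ⟨(l_A2 x hx).1, (l_A2 x hx).2.1,
    (l_A2 x hx).2.2.imp_right Or.inr⟩) v10 v15 v16 ⟨_, v12, v18⟩ l_U
    (fun e => absurd e e2_notMem)).resolve_right (fun e => e2_notMem e.2.1) _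
    (mem_cent2.mpr ⟨h1, h2⟩)
  exact ⟨ka⁻¹ * k * ka, by simp [hk, mul_assoc]⟩

theorem cW : (∀ g ∈ centralizer ({ψ w1, ψ w2} : Set G), ∃ k, ψ k = g) ∨
    (Nat.card (centralizer ({ψ w1, ψ w2} : Set G)) = 240 ∧
      ι sg * ψ b * (ι sg)⁻¹ * ψ w1 = ψ w1 * (ι sg * ψ b * (ι sg)⁻¹)) := by
  obtain ⟨v1, -, v3, v4, -, -, v7, -, v9, -, v11, -, v13, v14, -, -, v17, -⟩ := l_V
  obtain ⟨g1, g2, g3, g4, -⟩ := k_sg
  have q1 := h.tw e1 e2 rfl rfl g1
  have q2 := h.tw e2 e1 rfl rfl g2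
  have q3 := h.tw t2 s4 rfl rfl g3
  have q4 := h.tw s4 t2 rfl rfl g4
  have m1 : ψ e1 ∈ centralizer ({ψ w1, ψ w2} : Set G) :=
    mem_cent2.mpr ⟨h.comm'.mpr v13, h.comm'.mpr v14⟩
  have m2 : ψ s4 ∈ centralizer ({ψ w1, ψ w2} : Set G) :=
    mem_cent2.mpr ⟨h.comm'.mpr l_ka.2.2.2.2.2.2.2.2.2.2.2.2.2.2.2.1,
      h.comm'.mpr l_ka.2.2.2.2.2.2.2.2.2.2.2.2.2.2.2.2.1⟩
  have c2 : ∀ {g}, g * ψ e2 = ψ e2 * g → ∃ k, k * e1 = e1 * k ∧ ι sg * ψ k * (ι sg)⁻¹ = g :=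
    fun {g} e => by
      have h1 := conj_comm (g := (ι sg)⁻¹) e
      rw [← q1, show ∀ a b : G, a⁻¹ * (a * b * a⁻¹) * a⁻¹⁻¹ = b from fun a b => by group] at h1
      obtain ⟨k, hk⟩ := h.cz h1
      exact ⟨k, h.comm'.mp (hk ▸ h1), by rw [hk]; group⟩
  have hR : ∀ (N : Subgroup G) a, a ∈ (MulAut.conj (ι sg)⁻¹ • N).comap ψ ↔
      ι sg * ψ a * (ι sg)⁻¹ ∈ N := fun N a => by rw [mem_comap, mem_conj_smul_iff, inv_inv]
  refine (h.sc v1 v3 v4 v7 card_W card_A1 (fun x hx => ⟨(l_A1 x hx).1, (l_A1 x hx).2.1,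
    (l_A1 x hx).2.2.imp_right (Or.imp_left (fun e => ⟨e, v11⟩))⟩) v9 v13 v14 ⟨_, v11, v17⟩
    (fun k a1 a2 => ((l_W k a1).1 a2).1) (fun _ N h1 h2 h3 g hg e => ?_)).imp_right ?_
  · obtain ⟨k, ek, rfl⟩ := c2 e
    set R := (MulAut.conj (ι sg)⁻¹ • N).comap ψ
    have cj : ∀ {x y : K1}, ι sg * ψ x * (ι sg)⁻¹ = ψ y →
        ψ y ∈ centralizer ({ψ w1, ψ w2} : Set G) → ∀ {a}, a ∈ R → x * a * x⁻¹ ∈ R :=
      fun {x y} e hy a ha => by
        have := conj_mem_of_mem_normalizer (h2 hy) ((hR N a).mp ha)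
        rw [hR]
        convert this using 1
        rw [← e]; simp [mul_assoc]
    have p : ∀ {a}, a ∈ R → (a ^ 4) ^ 5 = 1 := fun {a} ha => by
      refine (pow_one _).symm.trans (pow_eq_one_of_dvd (n := 3) (by
        rw [one_mul]; exact (l_N a).2.1) ?_)
      refine Nat.Coprime.coprime_dvd_left ((orderOf_pow_dvd _).trans (orderOf_pow_dvd _)) ?_
      rw [← orderOf_injective ψ h.inj', ← orderOf_conj_eq (ι sg)]
      exact coprime_orderOf_of_mem h3 ((hR N a).mp ha)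
    have k0 : k ∈ R := (hR N k).mpr hg
    have k1 := cj q2 m1 k0
    have k2 := cj q2 m1 k1
    have k3 := cj q3 m2 k0
    have k4 := cj q2 m1 (cj q2 m1 k3)
    have kW := l_R k ek (p k0) (p (mul_mem (mul_mem (mul_mem k0 k0) k1) k2))
      (p (mul_mem (mul_mem (mul_mem k0 k0) k2) k1)) (p (mul_mem (mul_mem (mul_mem k0 k1) k0) k2))
      (p (mul_mem (mul_mem (mul_mem k0 k3) k1) k4)) (p (mul_mem k0 k4))
    obtain ⟨m, hm⟩ := h.cU (g := ι sg * ψ k * (ι sg)⁻¹)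
      (by rw [← q4]; exact conj_comm (h.comm'.mpr (l_v k kW).1)) (mem_cent2.mp (h1 hg)).1
    have h5 : ∀ {y z : K1}, ι sg * ψ y * (ι sg)⁻¹ = ψ z → m * e1 * m⁻¹ = z → k * e2 * k⁻¹ = y :=
      fun {y z} e e' => h.inj' (by
        have := congrArg ψ e'
        rw [map_mul, map_mul, map_inv, hm, ← q2, ← e] at this
        rw [map_mul, map_mul, map_inv]
        calc _ = (ι sg)⁻¹ * (ι sg * ψ k * (ι sg)⁻¹ * (ι sg * ψ e2 * (ι sg)⁻¹) *
            (ι sg * ψ k * (ι sg)⁻¹)⁻¹) * ι sg := by group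
          _ = _ := by rw [this]; group)
    rw [(l_v k kW).2.1 ((l_N m).1.imp (h5 q2) (h5 (by rw [map_inv, map_inv ψ e1, ← q2]; group)))]
    simp
  · rintro ⟨h1, -, f, hf, ho, e⟩
    obtain ⟨k, ek, rfl⟩ := c2 e
    rw [orderOf_conj_eq, orderOf_injective ψ h.inj'] at ho
    exact ⟨h1, (mem_cent2.mp ((hR _ b).mp (b_mem ((hR _ k).mpr hf) ((hR _ _).mpr (q2 ▸ m1))
      ((hR _ _).mpr (q3 ▸ m2)) ek (ho ▸ pow_orderOf_eq_one k)
      (fun e => by rw [e, orderOf_one] at ho; omega)))).1⟩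

theorem not_small (hW : ∀ g ∈ centralizer ({ψ w1, ψ w2} : Set G), ∃ k, ψ k = g) : False := by
  obtain ⟨v1, -, v3, v4, -, -, v7, -, v9, -, v11, -, v13, v14, -⟩ := l_V
  obtain ⟨-, -, -, k4, k5, k6, k7, k8, -⟩ := l_ka
  obtain ⟨-, -, -, -, -, -, -, -, g9, g10, g11, g12, -⟩ := k_sg
  have nc : ∀ (g : G) (p l : K1), ψ p = g * ψ c * g⁻¹ → l * p ≠ w1 * l ∧ l * p ≠ s0 * l :=
    fun g p l e => ⟨fun e' => h.vs (g⁻¹ * (ψ l)⁻¹) (by
      rw [← conj_eq_iff.mpr e', map_mul, map_mul, map_inv, e]; group), fun e' =>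
      h.vs (g⁻¹ * (ψ l)⁻¹ * (ι A9K.ks)⁻¹ * (ψ kv)⁻¹) (by
        rw [← k4, map_mul, map_mul, ← h.agree A9K.v0 v0 rfl, ← g12, map_mul, map_mul,
          h.agree A9K.s0 s0 rfl, ← conj_eq_iff.mpr e', map_mul, map_mul, e]
        simp only [map_inv]
        group)⟩
  have c2 : ψ c * ψ c = 1 := by rw [← map_mul, k8, map_one]
  have hS : IsSylowIn 2 (T1.map ψ) ⊤ := by
    refine syl_of_norm (isSylowIn_of_card (k := 4) (map_le_range ψ T1)
      (by rw [card_map_of_injective h.inj', card_T1]; rfl) (by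
        rw [← Nat.card_congr (MonoidHom.ofInjective h.inj').toEquiv, card_K1]; norm_num))
      (fun g hg => ?_) le_top
    have h1 : ∀ p : K1, p * c * p⁻¹ ∈ T1 → ∃ v ∈ W,
        g⁻¹ * ψ (p * c * p⁻¹) * g = ψ (v * s4⁻¹) := fun p hp => by
      obtain ⟨q, hq, e⟩ := conj_mem_of_mem_normalizer (inv_mem hg.1) (mem_map_of_mem ψ hp)
      have e' : ψ q = g⁻¹ * ψ p * ψ c * (g⁻¹ * ψ p)⁻¹ := by rw [e]; simp [mul_assoc]
      rcases l_T.1 q hq (h.inj' (by rw [map_mul, e', T3.conj_sq c2, map_one])) with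
        rfl | e2 | ⟨l, e2⟩
      · exact absurd (by rw [← e', map_one]) (conj_ne_one (h.ne' l_ka.2.2.2.2.2.2.2.2.1))
      · exact ⟨_, e2, by rw [mul_inv_cancel_right, e, inv_inv]⟩
      · exact (e2.elim (nc _ q l e').1 (nc _ q l e').2).elim
    have h2 : ∀ v ∈ W, g * ψ e1 * g⁻¹ * ψ v = ψ v * (g * ψ e1 * g⁻¹) := fun v hv => by
      rcases (l_v v hv).2.2.2 with rfl | ⟨p, -, q, -, rfl, hp, hq⟩
      · simp
      obtain ⟨a, ha, ea⟩ := h1 p hp
      obtain ⟨b, hb, eb⟩ := h1 q hq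
      have := conj_comm (g := g) (mem_cent_klein ψ v1 (mem_cent2.mpr
        ⟨h.comm'.mpr v13, h.comm'.mpr v14⟩) _ ((l_v a ha).2.2.1 b hb))
      rwa [map_mul, ← ea, ← eb, show ∀ x y : G, g * (g⁻¹ * x * g * (g⁻¹ * y * g)) * g⁻¹ = x * y from
        fun x y => by group, ← map_mul] at this
    obtain ⟨k, hk⟩ := hW _ (mem_cent2.mpr ⟨h2 _ v3, h2 _ v4⟩)
    have h3 := h2 _ v3
    have h4 := h2 _ v4
    rw [← hk, h.comm'] at h3 h4
    refine h.nz g ?_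
    rcases ((l_W k h3).1 h4).2 (h.inj' (by
      rw [map_pow, hk, conj_pow, ← map_pow, l_gen2.2.2.2.2.2.2.2.2.2.2.1]; simp)) with
      rfl | rfl | rfl
    · exact absurd (by rw [← hk, map_one]) (conj_ne_one (g := g)
        (h.ne' l_gen2.2.2.2.2.2.2.2.2.2.2.2))
    · exact Or.inl hk.symm
    · exact Or.inr (by rw [← hk, map_inv])
  have hT : T0.map ψ ≤ T1.map ψ := map_mono (fun p hp => (l_T.2 p hp).1)
  obtain ⟨N, hN, hc⟩ := thompson_transfer (L := ⊤) (A := T0.map ψ) (by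
    have h1 := card_mul_relIndex_of_le hT
    rw [card_map_of_injective h.inj', card_map_of_injective h.inj', card_T0, card_T1] at h1
    have h2 := hS.not_dvd
    rw [← relIndex_mul_relIndex _ _ _ hT le_top, show (T0.map ψ).relIndex (T1.map ψ) = 2 by omega]
    omega) (mem_top (ψ c)) c2 (by
    rintro g - ⟨p, hp, e⟩
    rcases (l_T.2 p hp).2 (h.inj' (by rw [map_mul, e, T3.conj_sq c2, map_one])) with rfl | ⟨l, e'⟩
    · exact absurd (by rw [← e, map_one]) (conj_ne_one (h.ne' l_ka.2.2.2.2.2.2.2.2.1))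
    · exact (nc g p l e).1 e')
  refine hc ?_
  rw [k7, map_mul, map_mul, ← h.agree A9K.s4 s4 rfl, ← g11, map_mul]
  exact mul_mem (mul_mem (hN.cube (mem_top _) (by rw [← map_pow, k5, map_one]))
    (hN.cube (mem_top _) (by rw [← map_pow, k6, map_one])))
    (mul_mem (hN.cube (mem_top _) (by rw [← map_pow, g9, map_one]))
      (hN.cube (mem_top _) (by rw [← map_pow, g10, map_one])))

theorem exists_hom : Nat.card (centralizer ({ψ w1, ψ w2} : Set G)) = 240 ∧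
    ∃ φ : alternatingGroup (Fin 9) →* G, φ.comp (inclusion le_alt) = ψ := by
  obtain ⟨hc, hb⟩ := h.cW.resolve_left h.not_small
  refine ⟨hc, ?_⟩
  obtain ⟨g1, -, -, g4, g5, g6, g7, -⟩ := k_sg
  have q0 := h.tw e1 e2 rfl rfl g1
  have q2 := h.tw s3 x2 rfl rfl g5
  have q3 := h.tw s4 t2 rfl rfl g4
  have q5 := h.tw s1 x5 rfl rfl g6
  have q6 := h.tw s0 s0 rfl rfl g7
  obtain ⟨d0, d1, d2, d3, d5, d6, b0, b1, b2, b5, c02, c03, c05, c06, c13, c15, c16, c25, c26, c35,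
    c36⟩ := l_M
  obtain ⟨d4, b3, b4, c04, c24, c46, e5, e6⟩ := l_M2
  have t1 : ∀ {a : K1} {n : ℕ}, a ^ n = 1 → ψ a ^ n = 1 := fun e => by
    rw [← map_pow, e, map_one]
  have t2' : ∀ {a b : K1} {n : ℕ}, (a * b) ^ n = 1 → (ψ a * ψ b) ^ n = 1 := fun e => by
    rw [← map_mul, t1 e]
  have t3 : ∀ {a b : K1} {n : ℕ}, (a * b) ^ n = 1 →
      (ι sg * ψ a * (ι sg)⁻¹ * (ι sg * ψ b * (ι sg)⁻¹)) ^ n = 1 := fun e => by
    rw [conj_mul, conj_pow, t2' e]; simp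
  have x4 : (ι sg * ψ s5 * (ι sg)⁻¹) ^ 2 = 1 := by rw [conj_pow, t1 d4]; simp
  obtain ⟨φ, hφ⟩ := exists_hom_alt' (m := 6) (x := fun i => match i with
      | 0 => ψ e2 | 1 => ψ w1 | 2 => ψ x2 | 3 => ψ t2 | 4 => ι sg * ψ s5 * (ι sg)⁻¹ | 5 => ψ x5
      | _ => ψ s0)
    ⟨t1 d0, fun i h1 h2 => by
      interval_cases i
      exacts [t1 d1, t1 d2, t1 d3, x4, t1 d5, t1 d6], fun i hi => by
      have : i < 6 := by omega
      interval_cases i
      exacts [t2' b0, t2' b1, t2' b2, q3 ▸ t3 b3, q5 ▸ t3 b4, t2' b5], fun i j h1 h2 => by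
      have : i < 5 := by omega
      interval_cases i <;> interval_cases j
      exacts [t2' c02, t2' c03, q0 ▸ t3 c04, t2' c05, t2' c06, t2' c13, by
        change (ψ w1 * (ι sg * ψ s5 * (ι sg)⁻¹)) ^ 2 = 1
        rw [Commute.mul_pow, x4, t1 d1, mul_one]
        rw [e5, map_mul, ← conj_mul, q6]
        exact Commute.mul_right hb.symm (h.comm'.mpr e6).symm,
        t2' c15, t2' c16, q2 ▸ t3 c24, t2' c25, t2' c26, t2' c35, t2' c36, q6 ▸ t3 c46]⟩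
  refine ⟨φ.comp (MulAut.conjNormal kap⁻¹).toMonoidHom, eq_on_cl _ _ ?_⟩
  have key : ∀ i (hi : i < 7) (a : K1), L0.Code.enc (kap⁻¹ * (a : Equiv.Perm (Fin 9)) * kap⁻¹⁻¹) =
     
      L0.Code.enc (H4.adjSwap 8 0 * H4.adjSwap 8 (i + 1)) →
      MulAut.conjNormal kap⁻¹ (inclusion le_alt a) = ySw 6 i := fun i hi a e =>
    Subtype.ext (by rw [coe_ySw hi]; exact (eq_iff_enc h9 _ _).mpr e)
  simp only [gK1, List.mem_cons, List.not_mem_nil, or_false]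
  rintro c (rfl | rfl | rfl | rfl | rfl | rfl)
  · exact (congrArg φ (key 0 (by norm_num) e2 (by
      simp only [L0.Code.enc_mul h9, enc_inv h9, enc_kap, enc_e2]; decide +kernel))).trans
      (hφ 0 (by norm_num))
  · exact (congrArg φ (key 1 (by norm_num) w1 (by
      simp only [L0.Code.enc_mul h9, enc_inv h9, enc_kap, enc_w1]; decide +kernel))).trans
      (hφ 1 (by norm_num))
  · exact (congrArg φ (key 2 (by norm_num) x2 (by
      simp only [L0.Code.enc_mul h9, enc_inv h9, enc_kap, enc_x2]; decide +kernel))).trans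
      (hφ 2 (by norm_num))
  · exact (congrArg φ (key 3 (by norm_num) t2 (by
      simp only [L0.Code.enc_mul h9, enc_inv h9, enc_kap, enc_t2]; decide +kernel))).trans
      (hφ 3 (by norm_num))
  · exact (congrArg φ (key 5 (by norm_num) x5 (by
      simp only [L0.Code.enc_mul h9, enc_inv h9, enc_kap, enc_x5]; decide +kernel))).trans
      (hφ 5 (by norm_num))
  · exact (congrArg φ (key 6 (by norm_num) s0 (by
      simp only [L0.Code.enc_mul h9, enc_inv h9, enc_kap, enc_s0]; decide +kernel))).trans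
      (hφ 6 (by norm_num))

end Big

end Cfsg.Agent.H1.A9L
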