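import Cfsg.Agent.H1.A9Data

/-!
# Data in `S_9`
-/

set_option autoImplicit false
set_option maxRecDepth 100000
set_option synthInstance.maxSize 100000
set_option synthInstance.maxHeartbeats 1000000
set_option linter.unusedSimpArgs false

namespace Cfsg.Agent.H1.S9

open Cfsg.Agent.L0 Cfsg.Agent.L0.Code Equiv Cfsg.Agent.H1.PC

open Cfsg.Agent.H1.A9K (h9 J0 hJ0)
open Cfsg.Agent.S3702 (K hK)

/-- `(0 1 2)` -/
noncomputable def e1 : Perm (Fin 9) := dec 9 0x876543021
theorem enc_e1 : enc e1 = nat_lit 0x876543021 := enc_dec h9 (by decide +kernel)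

/-- `(3 4 5)` -/
noncomputable def e2 : Perm (Fin 9) := dec 9 0x876354210
theorem enc_e2 : enc e2 = nat_lit 0x876354210 := enc_dec h9 (by decide +kernel)

/-- `(6 7 8)` -/
noncomputable def e3 : Perm (Fin 9) := dec 9 0x687543210
theorem enc_e3 : enc e3 = nat_lit 0x687543210 := enc_dec h9 (by decide +kernel)

/-- `(0 1 2)(3 4 5)(6 7 8)` -/
noncomputable def x3 : Perm (Fin 9) := dec 9 0x687354021
theorem enc_x3 : enc x3 = nat_lit 0x687354021 := enc_dec h9 (by decide +kernel)

/-- `(6 7)` -/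
noncomputable def o : Perm (Fin 9) := dec 9 0x867543210
theorem enc_o : enc o = nat_lit 0x867543210 := enc_dec h9 (by decide +kernel)

/-- Generators (0 1 2), (0 3 6)(1 4 7)(2 5 8), (0 3)(1 4)(2 5). -/
def gC9 : List ℕ := [nat_lit 0x876543021, nat_lit 0x210876543, nat_lit 0x876210543]
def LC9 : List ℕ := [
  nat_lit 0x102768435, nat_lit 0x435768102, nat_lit 0x768102435, nat_lit 0x768435102,
  nat_lit 0x102768354, nat_lit 0x435768021, nat_lit 0x768102354, nat_lit 0x768435021,
  nat_lit 0x102687435, nat_lit 0x435687102, nat_lit 0x021768435, nat_lit 0x354768102,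
  nat_lit 0x102435768, nat_lit 0x687102435, nat_lit 0x687435102, nat_lit 0x768021435,
  nat_lit 0x768354102, nat_lit 0x435102768, nat_lit 0x102768543, nat_lit 0x435768210,
  nat_lit 0x768102543, nat_lit 0x768435210, nat_lit 0x102687354, nat_lit 0x435687021,
  nat_lit 0x021768354, nat_lit 0x354768021, nat_lit 0x102435687, nat_lit 0x687102354,
  nat_lit 0x687435021, nat_lit 0x768021354, nat_lit 0x768354021, nat_lit 0x435102687,
  nat_lit 0x021687435, nat_lit 0x354687102, nat_lit 0x102354768, nat_lit 0x210768435,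
  nat_lit 0x543768102, nat_lit 0x021435768, nat_lit 0x687021435, nat_lit 0x687354102,
  nat_lit 0x354102768, nat_lit 0x768210435, nat_lit 0x768543102, nat_lit 0x435021768,
  nat_lit 0x102687543, nat_lit 0x435687210, nat_lit 0x021768543, nat_lit 0x354768210,
  nat_lit 0x102435876, nat_lit 0x687102543, nat_lit 0x687435210, nat_lit 0x768021543,
  nat_lit 0x768354210, nat_lit 0x435102876, nat_lit 0x021687354, nat_lit 0x354687021,
  nat_lit 0x102354687, nat_lit 0x210768354, nat_lit 0x543768021, nat_lit 0x021435687,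
  nat_lit 0x687021354, nat_lit 0x687354021, nat_lit 0x354102687, nat_lit 0x768210354,
  nat_lit 0x768543021, nat_lit 0x435021687, nat_lit 0x102543768, nat_lit 0x210687435,
  nat_lit 0x543687102, nat_lit 0x021354768, nat_lit 0x876435102, nat_lit 0x210435768,
  nat_lit 0x543102768, nat_lit 0x687210435, nat_lit 0x687543102, nat_lit 0x354021768,
  nat_lit 0x435876102, nat_lit 0x435210768, nat_lit 0x021687543, nat_lit 0x354687210,
  nat_lit 0x102354876, nat_lit 0x210768543, nat_lit 0x543768210, nat_lit 0x021435876,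
  nat_lit 0x687021543, nat_lit 0x687354210, nat_lit 0x354102876, nat_lit 0x768210543,
  nat_lit 0x768543210, nat_lit 0x435021876, nat_lit 0x102543687, nat_lit 0x210687354,
  nat_lit 0x543687021, nat_lit 0x021354687, nat_lit 0x876435021, nat_lit 0x210435687,
  nat_lit 0x543102687, nat_lit 0x687210354, nat_lit 0x687543021, nat_lit 0x354021687,
  nat_lit 0x435876021, nat_lit 0x435210687, nat_lit 0x021543768, nat_lit 0x876354102,
  nat_lit 0x210354768, nat_lit 0x876102435, nat_lit 0x543021768, nat_lit 0x354876102,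
  nat_lit 0x354210768, nat_lit 0x102876435, nat_lit 0x102543876, nat_lit 0x210687543,
  nat_lit 0x543687210, nat_lit 0x021354876, nat_lit 0x876435210, nat_lit 0x210435876,
  nat_lit 0x543102876, nat_lit 0x687210543, nat_lit 0x687543210, nat_lit 0x354021876,
  nat_lit 0x435876210, nat_lit 0x435210876, nat_lit 0x021543687, nat_lit 0x876354021,
  nat_lit 0x210354687, nat_lit 0x876102354, nat_lit 0x543021687, nat_lit 0x354876021,
  nat_lit 0x354210687, nat_lit 0x102876354, nat_lit 0x210543768, nat_lit 0x876021435,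
  nat_lit 0x543876102, nat_lit 0x543210768, nat_lit 0x021876435, nat_lit 0x021543876,
  nat_lit 0x876354210, nat_lit 0x210354876, nat_lit 0x876102543, nat_lit 0x543021876,
  nat_lit 0x354876210, nat_lit 0x354210876, nat_lit 0x102876543, nat_lit 0x210543687,
  nat_lit 0x876021354, nat_lit 0x543876021, nat_lit 0x543210687, nat_lit 0x021876354,
  nat_lit 0x876210435, nat_lit 0x210876435, nat_lit 0x210543876, nat_lit 0x876021543,
  nat_lit 0x543876210, nat_lit 0x543210876, nat_lit 0x021876543, nat_lit 0x876210354,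
  nat_lit 0x210876354, nat_lit 0x876543102, nat_lit 0x876210543, nat_lit 0x210876543,
  nat_lit 0x876543021, nat_lit 0x876543210]
/-- A group of order 162. -/
def C9 : Subgroup (Perm (Fin 9)) := cl 9 gC9
theorem hC9 : Lists C9 LC9 :=
  lists_cl (by norm_num) _ _ (by decide +kernel) (by decide +kernel) (by decide +kernel)
    (by decide +kernel) (by decide +kernel) (by decide +kernel)
theorem card_C9 : Nat.card C9 = 162 := hC9.card_eq.trans (by decide +kernel)

theorem s_C : ∀ k ∈ C9, k * x3 = x3 * k ∧ (k * e1 = e1 * k → k * e2 = e2 * k → k ∈ J0) := by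
  simp only [hC9.ball]
  simp +contextual only [
    ne_eq, eq_iff_enc h9, enc_mul h9, enc_inv h9, enc_one', enc_pow h9 enc_one', card_support h9,
    mem_alt_iff h9, exists_prop, hJ0.encd, hC9.encd, hJ0.mem_memF, hC9.mem_memF, enc_e1, enc_e2,
    enc_x3]
  decide +kernel

theorem s_J : ∀ a ∈ J0, a.support.card = 3 → ∀ b ∈ J0, b.support.card = 3 → b ≠ a → b ≠ a⁻¹ →
    ∀ c ∈ J0, c.support.card = 3 → c ≠ a → c ≠ a⁻¹ → c ≠ b → c ≠ b⁻¹ →
    ∃ k ∈ K, k * a = e1 * k ∧ k * b = e2 * k ∧ (k * c = e3 * k ∨ k * c = e3⁻¹ * k) := by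
  simp only [hJ0.ball, hK.bex']
  simp +contextual only [
    ne_eq, eq_iff_enc h9, enc_mul h9, enc_inv h9, enc_one', enc_pow h9 enc_one', card_support h9,
    mem_alt_iff h9, exists_prop, hJ0.encd, hK.encd, hJ0.mem_memF, hK.mem_memF, enc_e1, enc_e2,
    enc_e3]
  decide +kernel

theorem s_m : e1 ∈ J0 ∧ e2 ∈ J0 ∧ e3 ∈ J0 ∧ e1.support.card = 3 ∧ e2.support.card = 3 ∧ e3.support.card = 3 ∧
    e2 ≠ e1 ∧ e2 ≠ e1⁻¹ ∧ e3 ≠ e1 ∧ e3 ≠ e1⁻¹ ∧ e3 ≠ e2 ∧ e3 ≠ e2⁻¹ ∧ x3 = e1 * e2 * e3 ∧
    o * e1 = e1 * o ∧ o * e2 = e2 * o ∧ o * e3⁻¹ = e3 * o ∧ o ∉ alternatingGroup (Fin 9) := by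
  simp +contextual only [
    ne_eq, eq_iff_enc h9, enc_mul h9, enc_inv h9, enc_one', enc_pow h9 enc_one', card_support h9,
    mem_alt_iff h9, exists_prop, hJ0.encd, hJ0.mem_memF, enc_e1, enc_e2, enc_e3, enc_x3, enc_o]
  decide +kernel

theorem s_T : ∀ a < 9, ∀ b < 9, ∀ c < 9, a / 3 ≠ b / 3 → a / 3 ≠ c / 3 → b / 3 ≠ c / 3 →
    ∃ k ∈ LC9, app k 0 = a ∧ app k 3 = b ∧ app k 6 = c := by
  decide +kernel

end Cfsg.Agent.H1.S9
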