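import Cfsg.Agent.H1.A9Hom
import Cfsg.Agent.H1.A9Data3
import Cfsg.Agent.H1.S9Data

/-!
# Three-local recognition of `A_9`
-/

set_option autoImplicit false

namespace Cfsg.Agent.H1.A9

open Subgroup Cfsg.Agent.H9 Cfsg.Agent.H1.T3 Cfsg.Agent.H1.PC Cfsg.Agent.L0.SC3
open Cfsg.Agent.S3702 (K hK)
open Cfsg.Agent.H1.A9K (Base sp)
open Cfsg.Agent.H1.A9L (K1 Big le_alt)

theorem invol_conj {a : A9} (ha : a * a = 1) (h1 : a ≠ 1) :
    ∃ h : A9, h * a * h⁻¹ = w1 ∨ h * a * h⁻¹ = s := by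
  obtain ⟨-, -, -, -, -, -, -, q1, q2, q3, q4⟩ := a_w
  have ha' : (a : Equiv.Perm (Fin 9)) * a = 1 := congrArg Subtype.val ha
  have h2 : 4 ∣ sp a := four_dvd_support ha
  have h3 : sp a ≤ 9 := by simpa [sp] using Finset.card_le_univ (a : Equiv.Perm (Fin 9)).support
  have h4 : sp a ≠ 0 := fun h => h1 (Subtype.ext (by simpa [sp] using h))
  rcases (by omega : sp a = 4 ∨ sp a = 8) with h | h
  · exact (alt_conj_of_isConj (isConj_of_invol ha' (congrArg Subtype.val q1) (h.trans q3.symm))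
      odd01.1 odd01.2.1).imp (fun _ => Or.inl)
  · exact (alt_conj_of_isConj (isConj_of_invol ha' (congrArg Subtype.val q2) (h.trans q4.symm))
      odd01.1 odd01.2.2).imp (fun _ => Or.inr)

theorem exists_eps : ∃ ε : A8.A8 →* A9, Function.Injective ε ∧ ε A8.v1 = w1 ∧ ε A8.v2 = w2 ∧
    ε A8.w1 = f1 ∧ ε A8.s0 = s ∧ ε A8.z = f0 ∧ ε A8.y0 = yy := by
  obtain ⟨d0, d1, d2, d3, d4, d5, b0, b1, b2, b3, b4, c02, c03, c04, c05, c13, c14, c15, c24, c25,
    c35⟩ := a_M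
  obtain ⟨ε, hε⟩ := exists_hom_alt' (m := 5) (x := fun i => match i with
      | 0 => f0 | 1 => f1 | 2 => f2 | 3 => f3 | 4 => f4 | _ => f5)
    ⟨d0, fun i h1 h2 => by
      interval_cases i
      exacts [d1, d2, d3, d4, d5], fun i hi => by
      have : i < 5 := by omega
      interval_cases i
      exacts [b0, b1, b2, b3, b4], fun i j h1 h2 => by
      have : i < 4 := by omega
      interval_cases i <;> interval_cases j
      exacts [c02, c03, c04, c05, c13, c14, c15, c24, c25, c35]⟩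
  obtain ⟨a1, a2, a3, a4, a5, a6⟩ := a_8
  obtain ⟨q1, q2, q3, q4, -, -, q7, -⟩ := a_w
  have e0 : ε (ySw 5 0) = f0 := hε 0 (by norm_num)
  have e1 : ε (ySw 5 1) = f1 := hε 1 (by norm_num)
  have e2 : ε (ySw 5 2) = f2 := hε 2 (by norm_num)
  have e3 : ε (ySw 5 3) = f3 := hε 3 (by norm_num)
  have e4 : ε (ySw 5 4) = f4 := hε 4 (by norm_num)
  have e5 : ε (ySw 5 5) = f5 := hε 5 (by norm_num)
  refine ⟨ε, ?_, ?_⟩
  · have := alternatingGroup.isSimpleGroup (α := Fin 8) (by simp)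
    rw [← MonoidHom.ker_eq_bot_iff]
    exact (IsSimpleGroup.eq_bot_or_eq_top_of_normal _ ε.normal_ker).resolve_right
      (fun hk => q7 (e0.symm.trans (show ySw 5 0 ∈ ε.ker from hk ▸ mem_top _)))
  · simp only [← a1, ← a2, ← a3, ← a4, ← a5, ← a6, map_mul, e0, e1, e2, e3, e4, e5, q1, q2, q3, q4,
      and_self]

variable {G : Type*} [Group G] [Finite G]

theorem Big.main {ι : K →* G} {ψ : K1 →* G} (h : Big ι ψ) :
    ∃ φ : A9 ≃* G, ∀ k : K1, φ (inclusion le_alt k) = ψ k := by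
  obtain ⟨hc, φ, hφ⟩ := h.exists_hom
  have e : ∀ a, φ (inclusion le_alt a) = ψ a := fun a => by rw [← hφ]; rfl
  obtain ⟨ε, hε, a1, a2, a3, a4, a5, a6⟩ := exists_eps
  obtain ⟨-, -, -, -, q5, q6, -⟩ := a_w
  have e1 : φ w1 = ψ A9L.w1 := e A9L.w1
  have e2 : φ w2 = ψ A9L.w2 := e A9L.w2
  have e3 : φ f0 = ψ A9L.e1 := e A9L.e1
  have e4 : φ k2 * φ s * (φ k2)⁻¹ = ψ A9L.c := by
    rw [← map_inv, ← map_mul, ← map_mul, q5]; exact e A9L.c
  have e5 : φ k2 * φ yy * (φ k2)⁻¹ = ψ A9L.r3 := by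
    rw [← map_inv, ← map_mul, ← map_mul, q6]; exact e A9L.r3
  have hinj : Function.Injective φ := by
    have := alternatingGroup.isSimpleGroup (α := Fin 9) (by simp)
    rw [← MonoidHom.ker_eq_bot_iff]
    exact (IsSimpleGroup.eq_bot_or_eq_top_of_normal _ φ.normal_ker).resolve_right
      (fun hk => h.ne' A9L.l_gen2.2.2.2.2.2.2.2.2.2.2.2
        (e3.symm.trans (show f0 ∈ φ.ker from hk ▸ mem_top _)))
  have hW : CW.map φ = centralizer ({φ w1, φ w2} : Set G) := eq_of_le_of_card_ge (by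
    rintro _ ⟨k, hk, rfl⟩
    rw [mem_cent2, ← map_mul, ← map_mul, ← map_mul, ← map_mul, (a_CW k hk).1, (a_CW k hk).2.1]
    exact ⟨rfl, rfl⟩) (by rw [e1, e2, hc, card_map_of_injective hinj, card_CW])
  have hyp : A8.Hyp (φ.comp ε) := by
    refine ⟨hinj.comp hε, fun g hg => ?_, ?_, fun g h1 h2 h3 ho => ?_, fun g h1 h2 ho => ?_,
      fun g h1 h2 => ?_⟩ <;> simp only [MonoidHom.comp_apply, a1, a2, a3, a4, a5, a6] at *
    · exact h.vs (φ k2 * g) (by rw [← e4, ← hg, e1]; group)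
    · rw [e1, e2, hc]; norm_num
    · obtain ⟨k, hk, rfl⟩ := hW.ge (mem_cent2.mpr ⟨h1, h2⟩)
      exact eq_one_of_odd' ho (by
        rw [← map_mul, (a_CW k hk).2.2 (hinj (by simpa using h3)), map_one])
    · rw [e3] at h1 ⊢
      rw [e1] at h2
      obtain ⟨k, rfl⟩ := h.cz h1
      obtain ⟨b1, b2⟩ := (A9L.l_W k (h.comm'.mp h2)).2 (h.comm'.mp h1)
      rw [mem_zpowers_three (by rw [← map_pow, A9L.l_gen2.2.2.2.2.2.2.2.2.2.2.1, map_one]),
        ← map_inv, ← map_one ψ, h.inj'.eq_iff, h.inj'.eq_iff, h.inj'.eq_iff]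
      refine b2 (pow_eq_one_of_dvd (n := 4) (by rwa [pow_mul]) ?_)
      rw [← orderOf_injective ψ h.inj']
      exact Nat.Coprime.pow_right 2 (Nat.coprime_two_right.mpr ho)
    · have h3 := conj_comm (g := φ k2) h1
      have h4 := conj_comm (g := φ k2) h2
      rw [e5] at h3
      rw [e4] at h4
      have key : ∀ x, φ k2 * x * (φ k2)⁻¹ ∈ zpowers (ψ A9L.c) → x ∈ zpowers (φ s) := by
        rintro x ⟨n, hn⟩
        refine ⟨n, ?_⟩
        simp only [← e4, conj_zpow, mul_left_inj, mul_right_inj] at hn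
        exact hn
      refine (h.cc h3 h4).imp (key _) (Or.imp (fun e => key _ ?_) (fun e => key _ ?_)) <;>
        rw [← e5] at e <;> convert e using 1 <;> group
  have := hyp.eq_top (H := φ.range) (fun a => ⟨ε a, rfl⟩) (by
    simp only [MonoidHom.comp_apply, a1, a2]
    exact hW.ge.trans (map_le_range _ _)) (by
    rintro _ ⟨a, rfl⟩ h2 h1
    obtain ⟨k, hk⟩ := invol_conj (a := a) (hinj (by simpa using h2)) (fun e => h1 (by simp [e]))
    refine ⟨φ k, ⟨k, rfl⟩, ?_⟩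
    simp only [MonoidHom.comp_apply, a1, a4, ← map_inv, ← map_mul, hinj.eq_iff]
    exact hk)
  exact ⟨MulEquiv.ofBijective φ ⟨hinj, MonoidHom.range_eq_top.mp this⟩, e⟩

/-- **Three-local recognition of `A_9`.** -/
theorem Base.main {ι : K →* G} (h : Base ι) : ι.range = ⊤ ∨ ∃ φ : A9 ≃* G,
    ∀ (a : K) (b : K1), (a : Equiv.Perm (Fin 9)) = b → φ (inclusion le_alt b) = ι a :=
  (A9L.exists_big h).imp_right (fun ⟨_, hψ⟩ => (Big.main hψ).imp
    (fun _ e a b e' => (e b).trans (hψ.agree a b e').symm))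

end Cfsg.Agent.H1.A9

namespace Cfsg.Agent.H1.S9

open Subgroup Cfsg.Agent.H9 Cfsg.Agent.H1.T3 Cfsg.Agent.H1.PC Cfsg.Agent.L0.Code Equiv
open Cfsg.Agent.S3702 (K hK)
open Cfsg.Agent.H1.A9K (h9 J0)

theorem x3_apply : x3 0 = 1 ∧ x3 1 = 2 ∧ x3 3 = 4 ∧ x3 4 = 5 ∧ x3 6 = 7 ∧ x3 7 = 8 ∧
    ∀ i j : Fin 9, (i : ℕ) / 3 = j / 3 → j = i ∨ j = x3 i ∨ i = x3 j := by
  simp only [Fin.ext_iff, ← app_enc h9 x3, enc_x3]
  decide +kernel

theorem mem_C9 {p : Perm (Fin 9)} (hp : p * x3 = x3 * p) : p ∈ C9 := by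
  obtain ⟨a0, a1, a3, a4, a6, a7, hb⟩ := x3_apply
  have e : ∀ {q : Perm (Fin 9)}, q * x3 = x3 * q → ∀ i, q (x3 i) = x3 (q i) := fun hq i =>
    DFunLike.congr_fun hq i
  have hd : ∀ i j : Fin 9, j ≠ i → j ≠ x3 i → i ≠ x3 j → (p i : ℕ) / 3 ≠ p j / 3 :=
    fun i j h1 h2 h3 h => by
      rcases hb _ _ h with h | h | h
      · exact h1 (p.injective h)
      · exact h2 (p.injective (h.trans (e hp i).symm))
      · exact h3 (p.injective (h.trans (e hp j).symm))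
  obtain ⟨c, hc, b0, b3, b6⟩ := s_T _ (p 0).2 _ (p 3).2 _ (p 6).2
    (hd 0 3 (by decide) (by rw [a0]; decide) (by rw [a3]; decide))
    (hd 0 6 (by decide) (by rw [a0]; decide) (by rw [a6]; decide))
    (hd 3 6 (by decide) (by rw [a3]; decide) (by rw [a6]; decide))
  obtain ⟨q, hq, rfl⟩ := hC9.cd c hc
  have f0 : q 0 = p 0 := Fin.ext ((app_enc h9 q 0).symm.trans b0)
  have f3 : q 3 = p 3 := Fin.ext ((app_enc h9 q 3).symm.trans b3)
  have f6 : q 6 = p 6 := Fin.ext ((app_enc h9 q 6).symm.trans b6)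
  have st : ∀ {i j}, x3 i = j → q i = p i → q j = p j := fun h1 h2 => by
    rw [← h1, e (s_C q hq).1, e hp, h2]
  have : q = p := by
    ext i
    fin_cases i
    exacts [congrArg _ f0, congrArg _ (st a0 f0), congrArg _ (st a1 (st a0 f0)), congrArg _ f3,
      congrArg _ (st a3 f3), congrArg _ (st a4 (st a3 f3)), congrArg _ f6, congrArg _ (st a6 f6),
      congrArg _ (st a7 (st a6 f6))]
  exact this ▸ hq

theorem norm_J : alternatingGroup (Fin 9) ⊓ normalizer (J0 : Set (Perm (Fin 9))) = K := by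
  obtain ⟨m1, m2, m3, s1, s2, s3, n1, n2, n3, n4, n5, n6, ex, o1, o2, o3, o4⟩ := s_m
  have hKA : K ≤ alternatingGroup (Fin 9) := hK.le_alt (by decide +kernel)
  refine le_antisymm (fun p hp => ?_) (le_inf hKA (fun k hk => mem_normalizer_of_conj_mem
    (fun j hj => A9K.J_conj ⟨k, hk⟩ (j := ⟨j, A9K.le_J hj⟩) hj)))
  have c : ∀ {a}, a ∈ J0 → p * a * p⁻¹ ∈ J0 := fun ha => conj_mem_of_mem_normalizer hp.2 ha
  have n : ∀ {a b : Perm (Fin 9)}, a ≠ b → p * a * p⁻¹ ≠ p * b * p⁻¹ := fun h => by simpa using h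
  obtain ⟨k, hk, e1', e2', e3'⟩ := s_J _ (c m1) (by rw [Perm.card_support_conj, s1]) _ (c m2)
    (by rw [Perm.card_support_conj, s2]) (n n1) (by rw [conj_inv]; exact n n2) _ (c m3)
    (by rw [Perm.card_support_conj, s3]) (n n3) (by rw [conj_inv]; exact n n4) (n n5)
    (by rw [conj_inv]; exact n n6)
  have t : ∀ {a b : Perm (Fin 9)}, k * (p * a * p⁻¹) = b * k → k * p * a = b * (k * p) :=
    fun e => by rw [← mul_assoc, ← e]; group
  have fin : ∀ q : Perm (Fin 9), q * e1 = e1 * q → q * e2 = e2 * q → q * e3 = e3 * q → q ∈ K :=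
    fun q h1 h2 h3 => A9K.le_J ((s_C q (mem_C9 (by
      rw [ex]; exact (Commute.mul_right (Commute.mul_right h1 h2) h3).eq))).2 h1 h2)
  rcases e3' with e3' | e3'
  · simpa using mul_mem (inv_mem hk) (fin _ (t e1') (t e2') (t e3'))
  · exact absurd ((Subgroup.mul_mem_cancel_right _ (mul_mem (hKA hk) hp.1)).mp (hKA (fin (o * (k * p))
      (Commute.mul_left o1 (t e1')).eq (Commute.mul_left o2 (t e2')).eq
      (by rw [mul_assoc, t e3', ← mul_assoc, o3, mul_assoc])))) o4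

end Cfsg.Agent.H1.S9
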