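import Cfsg.Agent.H2.D1Ext

/-! Search engines for principal blocks with budgets, and their soundness. -/

set_option autoImplicit false

namespace Cfsg.Agent.H1.B23

open Cfsg Cfsg.Agent.H2.D1 Cfsg.Agent.H3 Finset Subgroup

/-- coefficient, degree, two costs -/
abbrev Op := ℤ × ℕ × ℕ × ℕ

/-- Search through the non-exceptional characters. -/
def go2 (lf : List Ent → Bool) : List Op → ℕ → ℕ → ℕ → ℕ → ℤ → List Ent → Bool
  | [], w, _, _, _, lin, acc => w == 0 && (lin == 1 && lf acc)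
  | o :: os, w, b0, b1, b2, lin, acc => bif w == 0 then (lin == 1 && lf acc) else
      (Nat.ble (1 - lin).natAbs (w * o.2.1) && (go2 lf os w b0 b1 b2 lin acc ||
      (List.range' 1 (w / o.1.natAbs ^ 2)).any fun k =>
        Nat.ble (k * o.2.1 ^ 2) b0 && (Nat.ble (k * o.2.2.1) b1 && (Nat.ble (k * o.2.2.2) b2 &&
          go2 lf os (w - k * o.1.natAbs ^ 2) (b0 - k * o.2.1 ^ 2) (b1 - k * o.2.2.1)
            (b2 - k * o.2.2.2) (lin + k * (o.1 * o.2.1))
            (List.replicate k (o.1, o.2.1, 1) ++ acc)))))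

theorem abs_sum_le {ι : Type*} (a : ι → ℤ) (d : ι → ℕ) (m : ℕ) (l : List ι)
    (h : ∀ i ∈ l, d i ≤ m) :
    (l.map fun i => a i * d i).sum.natAbs ≤ (l.map fun i => (a i).natAbs ^ 2).sum * m := by
  induction l with
  | nil => simp
  | cons i l ih =>
    simp only [List.map_cons, List.sum_cons, add_mul]
    refine (Int.natAbs_add_le _ _).trans (add_le_add ?_ (ih fun j hj => h j (by simp [hj])))
    rw [Int.natAbs_mul, Int.natAbs_natCast]
    exact Nat.mul_le_mul (Nat.le_self_pow two_ne_zero _) (h i (by simp))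

theorem go2_sound {ι : Type*} {lf : List Ent → Bool} (ent : ι → Ent) (c1 c2 : ℕ → ℕ)
    (os : List Op) (hs : os.Pairwise fun o o' => o'.2.1 ≤ o.2.1)
    (l acc : List ι) (w b0 b1 b2 : ℕ) (lin : ℤ)
    (h1 : ∀ i ∈ l, (ent i).2.2 = 1 ∧ (ent i).1 ≠ 0 ∧
      ((ent i).1, (ent i).2.1, c1 (ent i).2.1, c2 (ent i).2.1) ∈ os)
    (h2 : (l.map fun i => (ent i).1.natAbs ^ 2).sum = w)
    (h3 : (l.map fun i => (ent i).2.1 ^ 2).sum ≤ b0)
    (h4 : (l.map fun i => c1 (ent i).2.1).sum ≤ b1)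
    (h5 : (l.map fun i => c2 (ent i).2.1).sum ≤ b2)
    (h6 : lin + (l.map fun i => (ent i).1 * (ent i).2.1).sum = 1)
    (h7 : ∀ l' : List ι, l'.Perm (l ++ acc) → lf (l'.map ent) = true) :
    go2 lf os w b0 b1 b2 lin (acc.map ent) = true := by
  classical
  induction os generalizing l acc w b0 b1 b2 lin with
  | nil =>
    obtain rfl : l = [] := List.eq_nil_iff_forall_not_mem.2 fun i hi => by simpa using h1 i hi
    have := h7 acc (by simp)
    simp only [List.map_nil, List.sum_nil, add_zero] at h2 h6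
    simp [go2, ← h2, this, h6]
  | cons o os ih =>
    simp only [go2]
    by_cases hw : w = 0
    · obtain rfl : l = [] := List.eq_nil_iff_forall_not_mem.2 fun i hi => by
        have := List.sum_eq_zero_iff.1 (h2.trans hw) _ (List.mem_map_of_mem hi)
        exact (h1 i hi).2.1 (by simpa using this)
      simp only [List.map_nil, List.sum_nil, add_zero] at h6
      simpa [hw, h6] using h7 acc (by simp)
    obtain ⟨hs1, hs2⟩ := List.pairwise_cons.1 hs
    let P : ι → Bool := fun i =>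
      decide (((ent i).1, (ent i).2.1, c1 (ent i).2.1, c2 (ent i).2.1) = o)
    have hp := List.filter_append_perm P l
    have e1 : (l.filter P).map ent = List.replicate (l.filter P).length (o.1, o.2.1, 1) := by
      rw [List.eq_replicate_iff]
      refine ⟨by simp, fun b hb => ?_⟩
      obtain ⟨i, hi, rfl⟩ := List.mem_map.1 hb
      obtain ⟨hi, hi'⟩ := List.mem_filter.1 hi
      rw [← of_decide_eq_true hi', ← (h1 i hi).1]
    have e2 : ∀ {M : Type} [Semiring M] (F : Op → M), (l.map fun i => F ((ent i).1, (ent i).2.1,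
        c1 (ent i).2.1, c2 (ent i).2.1)).sum = (l.filter P).length * F o +
        ((l.filter fun i => !P i).map fun i => F ((ent i).1, (ent i).2.1,
          c1 (ent i).2.1, c2 (ent i).2.1)).sum := fun F => by
      rw [← (hp.map _).sum_eq, List.map_append, List.sum_append]
      congr 1
      rw [List.map_congr_left (g := fun _ => F o) fun i hi => by
        rw [of_decide_eq_true (List.mem_filter.1 hi).2]]
      simp
    have h8 := abs_sum_le (fun i => (ent i).1) (fun i => (ent i).2.1) o.2.1 l fun i hi => by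
      rcases List.mem_cons.1 (h1 i hi).2.2 with e | e
      · rw [← e]
      · exact hs1 _ e
    rw [h2, show (l.map fun i => (ent i).1 * (ent i).2.1).sum = 1 - lin by linarith] at h8
    rw [e2 fun a => a.1.natAbs ^ 2] at h2
    rw [e2 fun a => a.2.1 ^ 2] at h3
    rw [e2 fun a => a.2.2.1] at h4
    rw [e2 fun a => a.2.2.2] at h5
    rw [e2 fun a => a.1 * a.2.1] at h6
    simp only [Nat.cast_id] at h2 h3 h4 h5 h6
    have key := ih hs2 (l.filter fun i => !P i) (l.filter P ++ acc)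
      (w - (l.filter P).length * o.1.natAbs ^ 2) (b0 - (l.filter P).length * o.2.1 ^ 2)
      (b1 - (l.filter P).length * o.2.2.1) (b2 - (l.filter P).length * o.2.2.2)
      (lin + (l.filter P).length * (o.1 * o.2.1)) (fun i hi => ?_) (by omega) (by omega)
      (by omega) (by omega) (by linarith) fun l' hl => h7 l' (hl.trans ?_)
    · rw [List.map_append, e1] at key
      simp only [beq_eq_false_iff_ne.2 hw, cond_false, List.any_eq_true, Bool.and_eq_true,
        Bool.or_eq_true, Nat.ble_eq, List.mem_range'_1]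
      refine ⟨h8, ?_⟩
      rcases Nat.eq_zero_or_pos (l.filter P).length with h0 | h0
      · left
        simpa [h0] using key
      obtain ⟨i, hi⟩ := List.exists_mem_of_length_pos h0
      obtain ⟨hi, hi'⟩ := List.mem_filter.1 hi
      have : 0 < o.1.natAbs ^ 2 := by
        rw [← of_decide_eq_true hi']
        exact pow_pos (Int.natAbs_pos.2 (h1 i hi).2.1) 2
      have := (Nat.le_div_iff_mul_le this).2
        (show (l.filter P).length * o.1.natAbs ^ 2 ≤ w by omega)
      exact Or.inr ⟨_, ⟨h0, by omega⟩, by omega, by omega, by omega, key⟩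
    · obtain ⟨hi, hi'⟩ := List.mem_filter.1 hi
      refine ⟨(h1 i hi).1, (h1 i hi).2.1, (List.mem_cons.1 (h1 i hi).2.2).resolve_left ?_⟩
      simpa [P] using hi'
    · rw [← List.append_assoc]
      exact (List.perm_append_comm.trans hp).append_right _

/-- The options for the non-exceptional characters. -/
def opts2 (p lo idx : ℕ) (D : List ℕ) (R : List ℤ) (c1 c2 : ℕ → ℕ) : List Op :=
  D.flatMap fun d => (R.filter fun a => a != 0 && (okm p lo d ((p - 1) * a) a a &&
    (idx * a % d == 0))).map fun a => (a, d, c1 d, c2 d)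

theorem opts2_sorted {p lo idx : ℕ} {D : List ℕ} {R : List ℤ} {c1 c2 : ℕ → ℕ}
    (h : D.Pairwise fun a b => b ≤ a) :
    (opts2 p lo idx D R c1 c2).Pairwise fun o o' => o'.2.1 ≤ o.2.1 := by
  rw [opts2, List.pairwise_flatMap]
  refine ⟨fun d _ => ?_, h.imp fun {a b} hab x hx y hy => ?_⟩
  · rw [List.pairwise_map]
    exact List.pairwise_of_forall fun _ _ => le_rfl
  · obtain ⟨_, -, rfl⟩ := List.mem_map.1 hx
    obtain ⟨_, -, rfl⟩ := List.mem_map.1 hy
    exact hab

/-- Search through the shapes of the block. -/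
def blk2 (p e lo idx : ℕ) (D : List ℕ) (c1 c2 : ℕ → ℕ) (b0 b1 b2 : ℕ) (lf : List Ent → Bool) :
    Bool :=
  (fun os => bif e + 1 == p then go2 lf os e b0 b1 b2 0 [] else (fun t : ℕ =>
    (irange (rt e)).any fun b => [1, -1].any fun ε : ℤ =>
      decide ((b + ε) ^ 2 + (t - 1) * b ^ 2 ≤ e) && D.any fun d =>
        okm p lo d (e * (ε + t * b)) b (b + ε) && (Nat.ble (t * d ^ 2) b0 &&
          (Nat.ble (t * c1 d) b1 && (Nat.ble (t * c2 d) b2 &&
          go2 lf os (e - ((b + ε) ^ 2 + (t - 1) * b ^ 2)).toNat (b0 - t * d ^ 2) (b1 - t * c1 d)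
            (b2 - t * c2 d) ((ε + t * b) * d) [(ε + t * b, d, t)]))))
    ((p - 1) / e)) (opts2 p lo idx D (irange (rt e)) c1 c2)

/-- Search through the values at a regular element. -/
def vs (n C : ℕ) (ok : Ent → ℤ → Bool) (cand : Ent → List ℤ) (fin : ℤ → List (Ent × ℤ) → Bool) :
    List Ent → ℤ → ℤ → ℕ → List (Ent × ℤ) → Bool
  | [], lin, S, sq, acc => Nat.ble sq C && (lin == 1 && fin S acc)
  | a :: l, lin, S, sq, acc => Nat.ble sq C &&
      (bif l.isEmpty && a.1 * a.1 == 1 then [(1 - lin) * a.1].filter (ok a) else cand a).any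
        fun v => vs n C ok cand fin l (lin + a.1 * v) (S - a.1 * v ^ 2 * (n / a.2.1 : ℕ))
          (sq + a.2.2 * v.natAbs ^ 2) ((a, v) :: acc)

theorem vs_sound {ι : Type*} {n C : ℕ} {ok : Ent → ℤ → Bool} {cand : Ent → List ℤ}
    {fin : ℤ → List (Ent × ℤ) → Bool} (ent : ι → Ent)
    (y : ι → ℤ) (l : List ι) (lin S : ℤ) (sq : ℕ) (acc : List (Ent × ℤ))
    (h1 : ∀ i ∈ l, ok (ent i) (y i) = true ∧ y i ∈ cand (ent i))
    (h2 : lin + (l.map fun i => (ent i).1 * y i).sum = 1)
    (h3 : sq + (l.map fun i => (ent i).2.2 * (y i).natAbs ^ 2).sum ≤ C)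
    (h4 : fin (S - (l.map fun i => (ent i).1 * y i ^ 2 * (n / (ent i).2.1 : ℕ)).sum)
      ((l.map fun i => (ent i, y i)).reverse ++ acc) = true) :
    vs n C ok cand fin (l.map ent) lin S sq acc = true := by
  induction l generalizing lin S sq acc with
  | nil => simp_all [vs]
  | cons i l ih =>
    obtain ⟨k1, k2⟩ := h1 i (by simp)
    simp only [List.map_cons, List.sum_cons, List.reverse_cons, List.append_assoc,
      List.singleton_append] at h2 h3 h4
    simp only [List.map_cons, vs, Bool.and_eq_true, Nat.ble_eq, List.any_eq_true]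
    refine ⟨by omega, y i, ?_, ih _ _ _ _ (fun j hj => h1 j (by simp [hj])) (by linarith)
      (by omega) (by rwa [sub_sub])⟩
    cases h : ((l.map ent).isEmpty && (ent i).1 * (ent i).1 == 1)
    · exact k2
    · simp only [Bool.and_eq_true, List.isEmpty_iff, List.map_eq_nil_iff, beq_iff_eq] at h
      obtain ⟨rfl, h⟩ := h
      simp only [List.map_nil, List.sum_nil, add_zero] at h2
      have : y i = (1 - lin) * (ent i).1 := by
        rw [← h2]
        linear_combination (-y i) * h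
      simp only [cond_true, List.mem_filter, List.mem_singleton]
      exact ⟨this, k1⟩

variable {G : Type*} [Group G] [Finite G] {p : ℕ} [hp : Fact p.Prime] {x : G}

theorem okm_mono {p lo lo' d : ℕ} {s a b m : ℤ} (hl : lo' ≤ lo) (h : (d : ℤ) = p * m + s)
    (h1 : lo ≤ m) (h2 : lo ≤ m + a) (h3 : lo ≤ m + b) : okm p lo' d s a b = true :=
  okm_sound h (by omega) (by omega) (by omega)

theorem blk2_sound {e lo : ℕ} (B : Blk p x e lo) (h : Ctx p x) {lo' idx b0 b1 b2 : ℕ}
    {c1 c2 : ℕ → ℕ} {D : List ℕ} (hlo : lo' ≤ lo) (hs : D.Pairwise fun a b => b ≤ a)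
    (hD : ∀ χ ∈ B.R, (B.ent χ).2.1 ∈ D)
    (hi : ∀ χ ∈ B.R, (B.ent χ).2.2 = 1 → ((B.ent χ).2.1 : ℤ) ∣ idx * (B.ent χ).1)
    (h0 : ∑ χ ∈ B.R, (B.ent χ).2.2 * (B.ent χ).2.1 ^ 2 ≤ b0)
    (hc1 : ∑ χ ∈ B.R, (B.ent χ).2.2 * c1 (B.ent χ).2.1 ≤ b1)
    (hc2 : ∑ χ ∈ B.R, (B.ent χ).2.2 * c2 (B.ent χ).2.1 ≤ b2)
    {lf : List Ent → Bool} (hl : ∀ l : List _, l.Perm B.R.toList → lf (l.map B.ent) = true) :
    blk2 p e lo' idx D c1 c2 b0 b1 b2 lf = true := by
  classical
  have ho : (∀ χ ∈ B.N, χ ∈ B.R) → ∑ χ ∈ B.N, (B.ent χ).1 ^ 2 ≤ e → ∀ χ ∈ B.N.toList,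
      (B.ent χ).2.2 = 1 ∧ (B.ent χ).1 ≠ 0 ∧
        ((B.ent χ).1, (B.ent χ).2.1, c1 (B.ent χ).2.1, c2 (B.ent χ).2.1) ∈
          opts2 p lo' idx D (irange (rt e)) c1 c2 := fun h1 h2 χ hχ => by
    rw [mem_toList] at hχ
    obtain ⟨h3, h4, m, h5, h6, h7⟩ := B.opt χ hχ
    refine ⟨h3, h4, List.mem_flatMap.2 ⟨_, hD χ (h1 χ hχ), List.mem_map.2 ⟨_, List.mem_filter.2
      ⟨mem_irange (le_rt ?_), ?_⟩, rfl⟩⟩⟩
    · have := (single_le_sum (f := fun χ => (B.ent χ).1 ^ 2) (fun _ _ => sq_nonneg _) hχ).trans h2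
      zify
      rwa [sq_abs]
    · simp only [Bool.and_eq_true, bne_iff_ne, beq_iff_eq]
      exact ⟨h4, okm_mono hlo h5 h6 h7 h7, Int.emod_eq_zero_of_dvd (hi χ (h1 χ hχ) h3)⟩
  have hs0 : ((B.N.toList.map fun χ => (B.ent χ).1.natAbs ^ 2).sum : ℤ) =
      ∑ χ ∈ B.N, (B.ent χ).1 ^ 2 := by simp
  have hs' : ∀ F : ℕ → ℕ, ∑ χ ∈ B.N, (B.ent χ).2.2 * F (B.ent χ).2.1 =
      (B.N.toList.map fun χ => F (B.ent χ).2.1).sum := fun F => by
    rw [sum_map_toList]
    exact sum_congr rfl fun χ hχ => by rw [(B.opt χ hχ).1, one_mul]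
  have hlin : ∑ χ ∈ B.R, (B.ent χ).1 * (B.ent χ).2.1 = 1 := by
    have := B.lin h (IsPReg.one p)
    rw [sum_congr rfl fun χ hχ => by rw [B.deg χ hχ]] at this
    exact_mod_cast this
  rcases B.enum with ⟨h1, h2, h3⟩ | ⟨θ, h1, t, b, ε, m, t2, h2, h3, h4, h5, h6, h7, h8, h9, h10, h11⟩
  · simp only [blk2, beq_iff_eq.2 h1, cond_true]
    rw [h2] at h0 hc1 hc2 hlin
    rw [hs' (· ^ 2)] at h0
    rw [hs'] at hc1 hc2
    refine go2_sound B.ent c1 c2 _ (opts2_sorted hs) B.N.toList [] _ _ _ _ _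
      (ho (fun χ hχ => h2 ▸ hχ) h3.le) (by omega) h0 hc1 hc2 ?_
      fun l' h => hl l' (by simpa [h2] using h)
    rwa [sum_map_toList, zero_add]
  · have e0 : 0 < e := Nat.pos_of_ne_zero fun e0 => hp.out.ne_one (by rw [← h2, e0]; simp)
    have e1 : (p - 1) / e = t := by rw [← h2, Nat.add_sub_cancel, Nat.mul_div_cancel_left _ e0]
    have e2 : B.R = insert θ B.N := by ext χ; simp [h4]
    have e3 : 0 ≤ ∑ χ ∈ B.N, (B.ent χ).1 ^ 2 := sum_nonneg fun _ _ => sq_nonneg _
    have e4 : b ^ 2 ≤ (t - 1) * b ^ 2 := le_mul_of_one_le_left (sq_nonneg _) (by omega)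
    have e5 := sq_nonneg (b + ε)
    have e6 := sq_nonneg b
    rw [e2, sum_insert h1] at h0 hc1 hc2 hlin
    rw [hs' (· ^ 2), h6] at h0
    rw [hs', h6] at hc1 hc2
    rw [h5] at hlin
    simp only [blk2, beq_eq_false_iff_ne.2 (show e + 1 ≠ p by nlinarith), cond_false, e1,
      List.any_eq_true, Bool.and_eq_true, decide_eq_true_eq, Nat.ble_eq]
    refine ⟨b, mem_irange (le_rt (by zify; rw [sq_abs]; linarith)), ε, by simpa using h3,
      by linarith, (B.ent θ).2.1, hD θ ((h4 θ).2 (Or.inl rfl)),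
      okm_mono hlo h7 h8 h9 (by rwa [← add_assoc]), by omega, by omega, by omega, ?_⟩
    rw [show [(ε + t * b, (B.ent θ).2.1, t)] = [θ].map B.ent by rw [← h5, ← h6]; rfl]
    refine go2_sound B.ent c1 c2 _ (opts2_sorted hs) B.N.toList [θ] _ _ _ _ _
      (ho (fun χ hχ => (h4 χ).2 (Or.inr hχ)) (by linarith)) (by omega) (by omega) (by omega)
      (by omega) (by rwa [sum_map_toList]) fun l' h => hl l' (h.trans ?_)
    rw [e2]
    exact List.perm_append_comm.trans (toList_insert h1).symm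

end Cfsg.Agent.H1.B23
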