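import Cfsg.Agent.H1.B23A

/-! The conditions used in the searches for the order `10200960`. -/

set_option autoImplicit false

namespace Cfsg.Agent.H1.B23

open Cfsg.Agent.H2.D1

/-- The possible degrees. -/
def SD : List ℕ :=
  [3168, 3080, 3036, 2944, 2898, 2880, 2772, 2760, 2688, 2640, 2576, 2530, 2520, 2464, 2415,
   2310, 2277, 2240, 2208, 2112, 2070, 2024, 2016, 1980, 1932, 1920, 1848, 1840, 1771, 1760,
   1680, 1656, 1610, 1584, 1540, 1518, 1472, 1449, 1440, 1408, 1386, 1380, 1344, 1320, 1288,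
   1265, 1260, 1232, 1155, 1152, 1120, 1104, 1056, 1035, 1012, 1008, 990, 966, 960, 924, 920,
   896, 880, 840, 828, 805, 792, 770, 759, 736, 720, 704, 693, 690, 672, 660, 644, 640, 630, 616,
   576, 560, 552, 528, 506, 504, 495, 483, 480, 462, 460, 448, 440, 420, 414, 396, 385, 384, 368,
   360, 352, 345, 336, 330, 322, 320, 315, 308, 288, 280, 276, 264, 253, 252, 240, 231, 230, 224,
   220, 210, 207, 198, 192, 184, 180, 176, 168, 165, 161, 160, 154, 144, 140, 138, 132, 128, 126,
   120, 115, 112, 110, 105, 99, 96, 92, 90, 88, 84, 80, 77, 72, 70, 69, 66, 64, 63, 60, 56, 55,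
   48, 46, 45, 44, 42, 40, 36, 35, 33, 32, 30, 28, 24, 23, 22, 21, 20, 18, 16, 15, 14, 12, 11,
   10, 9, 8, 7, 6, 5, 4, 3, 2]

theorem SD_eq : ((List.range' 2 3192).filter fun d => 10200960 % d == 0).reverse = SD := by
  decide +kernel

theorem SD_sorted : SD.Pairwise fun a b => b ≤ a := by decide +kernel

theorem mem_SD {d : ℕ} (h : d ∣ 10200960) (h1 : 2 ≤ d) (h2 : d * d < 10200960) : d ∈ SD := by
  rw [← SD_eq, List.mem_reverse, List.mem_filter, List.mem_range'_1, beq_iff_eq]
  exact ⟨⟨h1, by nlinarith⟩, Nat.mod_eq_zero_of_dvd h⟩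

/-- All divisors. -/
def DV : List ℕ := (1 :: SD) ++ (1 :: SD).map (10200960 / ·)

theorem mem_DV {d : ℕ} (h : d ∣ 10200960) : d ∈ DV := by
  obtain ⟨c, hc⟩ := h
  have d0 : 0 < d := Nat.pos_of_ne_zero fun e => by simp [e] at hc
  have c0 : 0 < c := Nat.pos_of_ne_zero fun e => by simp [e] at hc
  have k : ∀ a, a ∣ 10200960 → 0 < a → a * a < 10200960 → a ∈ 1 :: SD := fun a h1 h2 h3 => by
    by_cases e : a = 1
    · simp [e]
    · exact List.mem_cons_of_mem _ (mem_SD h1 (by omega) h3)
  rw [DV, List.mem_append]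
  by_cases e : d ≤ 3193
  · exact Or.inl (k d ⟨c, hc⟩ d0 (by nlinarith))
  · refine Or.inr (List.mem_map.2 ⟨c, k c ⟨d, by rw [hc, mul_comm]⟩ c0 (by nlinarith), ?_⟩)
    rw [hc, Nat.mul_div_cancel _ c0]

/-- The sum of the values at an element and its inverse. -/
def Xf (p d : ℕ) : ℤ := bif Nat.ble (2 * d % p) (p / 2) then (2 * d % p : ℕ) else (2 * d % p : ℕ) - p

/-- Parity. -/
def cO (p d : ℕ) : ℕ := (Xf p d).natAbs % 2

/-- The square of an even value. -/
def cE (p d : ℕ) : ℕ := bif cO p d == 0 then (Xf p d).natAbs ^ 2 else 0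

/-- The square. -/
def cS (p d : ℕ) : ℕ := (Xf p d).natAbs ^ 2

/-- The allowed degrees. -/
def okX (p d : ℕ) : Bool :=
  (bif cO p d == 0 then Nat.ble (cS p d) (4 * (p / 2) - 4) else
    (Nat.ble (2 * cS p d) (4 * (p / 2) - 2) && (p != 11 || cS p d != 9))) &&
  (decide (0 ≤ d + (p / 2 : ℕ) * Xf p d) && decide (Xf p d < 2 * d))

/-- The linear relation. -/
def rel (p : ℕ) (L : List Ent) : Bool := (L.map fun a : Ent => a.1 * Xf p a.2.1).sum == 2

/-- The exceptional characters have the same degree. -/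
def same (p : ℕ) (L : List Ent) : Bool :=
  L.all fun a => cO p a.2.1 == 0 || L.all fun b => cO p b.2.1 == 0 || a.2.1 == b.2.1

/-- Weighted sum. -/
def sm (f : ℕ → ℕ) (L : List Ent) : ℕ := (L.map fun a : Ent => a.2.2 * f a.2.1).sum

/-- Indicator. -/
def ind (d d' : ℕ) : ℕ := bif d' == d then 1 else 0

/-- The number of characters of given degree. -/
def cnt (L : List Ent) (d : ℕ) : ℕ := sm (ind d) L

/-- The conditions on the value at an involution. -/
def okV (C md : ℕ) (ex : ℕ → ℤ → Bool) (a : Ent) (v : ℤ) : Bool :=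
  ((a.2.1 - v) % md == 0) && (Nat.blt v.natAbs a.2.1 &&
    (((10200960 / C : ℕ) * v % a.2.1 == 0) && ex a.2.1 v))

/-- The candidates. -/
def candV (C md r : ℕ) (ex : ℕ → ℤ → Bool) (a : Ent) : List ℤ :=
  ((List.range' ((a.2.1 - r) / md) ((a.2.1 + min r a.2.1) / md + 1 - (a.2.1 - r) / md)).map
    fun k : ℕ => (a.2.1 : ℤ) - md * k).filter (okV C md ex a)

theorem mem_candV {C md r : ℕ} {ex : ℕ → ℤ → Bool} {a : Ent} {v : ℤ} (hm : 0 < md)
    (h : okV C md ex a v = true) (hr : v.natAbs ≤ r) : v ∈ candV C md r ex a := by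
  refine List.mem_filter.2 ⟨?_, h⟩
  simp only [okV, Bool.and_eq_true, beq_iff_eq, Nat.blt_eq] at h
  obtain ⟨k, hk⟩ := Int.dvd_of_emod_eq_zero h.1
  have h2 := h.2.1
  have k0 : 0 ≤ k := by
    by_contra! e
    have : (md : ℤ) * k < 0 := mul_neg_of_pos_of_neg (by omega) e
    omega
  lift k to ℕ using k0
  refine List.mem_map.2 ⟨k, List.mem_range'_1.2 ⟨Nat.div_le_of_le_mul (by
    zify at hk ⊢; omega), ?_⟩, by omega⟩
  have : k ≤ (a.2.1 + min r a.2.1) / md := (Nat.le_div_iff_mul_le hm).2 (by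
    have : (k * md : ℕ) = (md : ℤ) * k := by push_cast; ring
    omega)
  omega

/-- An upper bound for the square root. -/
def isq (C : ℕ) : ℕ := (List.range 10).foldl (fun r _ => (r + C / r) / 2 + 1) 700

/-- The search through the values at an involution. -/
def vsV (C md sq0 : ℕ) (ex : ℕ → ℤ → Bool) (fin : ℤ → List (Ent × ℤ) → Bool) (L : List Ent) :
    Bool :=
  !(Nat.ble C (isq C * isq C)) ||
    vs 10200960 C (okV C md ex) (candV C md (isq C) ex) fin L 0 10200960 sq0 []

/-- The values at an element of order five. -/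
def okW (a : Ent) (v : ℤ) : Bool := (a.2.1 - v) % 5 == 0

/-- The relation at an element of order five. -/
def relW (b : ℕ) (L : List Ent) : Bool :=
  vs 0 b okW (fun a => [-3, -2, -1, 0, 1, 2, 3].filter (okW a)) (fun _ _ => true) L 0 0 0 []

/-- A lower bound for the square of the value at an element of order five. -/
def cW (d : ℕ) : ℕ := min (d % 5) (5 - d % 5) ^ 2

/-- The degrees allowed by the prime `23`. -/
def DX : List ℕ := SD.filter (okX 23)

/-- The degrees allowed by both primes. -/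
def DXY : List ℕ := DX.filter fun d => okX 11 d && d != 11

/-- The conditions for a nontrivial centralizer of an element of order `11`. -/
def lf2 (e c : ℕ) (L : List Ent) : Bool :=
  rel 23 L && (same 23 L && ((c % 7 != 0 || L.all fun a => Nat.ble 66 a.2.1 || cnt L a.2.1 != 1) &&
    (c % 2 != 0 || (DV.filter fun C => C % 22 == 0 && C % 23 != 0).any fun C =>
      vsV C 44 1 (fun _ _ => true) (fun S _ => finI 11 e c C false S) L)))

/-- The search for the centralizer of an element of order `11`. -/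
def s2 (e c : ℕ) : Bool :=
  blk2 11 e 2 (10200960 / (11 * c)) (DX.filter fun d => d % 11 != 0) (cE 23) (cO 23) 10200959 40 2
    (lf2 e c)

/-- The conditions for the prime five. -/
def lf4 (e c : ℕ) (P : ℕ → List (Ent × ℤ) → Bool) (L : List Ent) : Bool :=
  rel 23 L && (rel 11 L && (same 23 L && (same 11 L && (Nat.ble (sm (cE 11) L) 16 &&
    (Nat.ble (sm (cO 11) L) 2 && (DV.filter fun C => C % 128 == 0 && (C % 11 != 0 &&
      (C % 23 != 0 && (c % 2 == 0 || C % 5 != 0)))).any fun C =>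
      vsV C 4 1 (fun _ _ => true) (fun S acc => finI 5 e c C false S && !P C acc) L)))))

/-- The result for the prime five. -/
def P4 (e c C : ℕ) (acc : List (Ent × ℤ)) : Bool :=
  e == 4 && (c == 3 && ((C == 896 || C == 2688) &&
    (acc == [((1, 2024, 1), 8), ((-1, 896, 1), 0), ((-1, 896, 1), 0), ((-1, 231, 1), 7)] ||
    acc == [((1, 2024, 1), 8), ((-1, 1056, 1), 0), ((-1, 736, 1), 0), ((-1, 231, 1), 7)])))

/-- The search for the prime five. -/
def s4 (e c : ℕ) : Bool :=
  blk2 5 e 0 (10200960 / (5 * c)) (DXY.filter fun d => d % 5 != 0) (cE 23) (cO 23) 10200959 40 2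
    (lf4 e c (P4 e c))

end Cfsg.Agent.H1.B23
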