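import Cfsg.Agent.H1.B23B
import Cfsg.Agent.H5.MtE

/-! The values at elements of order `11` and `23`. -/

set_option autoImplicit false
set_option linter.unusedSectionVars false

namespace Cfsg.Agent.H1.B23

open Cfsg Cfsg.Agent.H2.D1 Cfsg.Agent.H3 Cfsg.Agent.H5 Finset Subgroup
open scoped ComplexConjugate

variable {G : Type*} [Group G] [Finite G] {p : ℕ} [hp : Fact p.Prime] {x : G}

theorem Xf_eq {p d : ℕ} {s : ℤ} (pp : p = 11 ∨ p = 23) (h : (p : ℤ) ∣ 2 * d - s)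
    (h1 : s.natAbs ≤ p / 2) : Xf p d = s := by
  unfold Xf
  cases e : Nat.ble (2 * d % p) (p / 2)
  · have : ¬ (2 * d % p ≤ p / 2) := by rw [← Nat.ble_eq, e]; simp
    simp only [cond_false]
    rcases pp with rfl | rfl <;> omega
  · have : 2 * d % p ≤ p / 2 := by rw [← Nat.ble_eq, e]
    simp only [cond_true]
    rcases pp with rfl | rfl <;> omega

theorem sum_B0 {e lo : ℕ} (B : Blk p x e lo) (F : IrrCharacter G → ℕ)
    (hF : ∀ χ ψ : IrrCharacter G, (∀ g, IsPReg p g → (χ : G → ℂ) g = (ψ : G → ℂ) g) → F χ = F ψ) :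
    ∑ χ ∈ B0 p G, F χ = F triv + ∑ χ ∈ B.R, (B.ent χ).2.2 * F χ := by
  have := B.sum (fun χ => F χ) fun χ ψ e => by simp only [hF χ ψ e]
  exact_mod_cast this

theorem dg_ent {e lo : ℕ} (B : Blk p x e lo) {χ : IrrCharacter G} (hχ : χ ∈ B.R) :
    dg χ = (B.ent χ).2.1 := dg_of (B.deg χ hχ)

theorem sum_deg {e lo : ℕ} (B : Blk p x e lo) (f : ℕ → ℕ) :
    ∑ χ ∈ B0 p G, f (dg χ) = f 1 + ∑ χ ∈ B.R, (B.ent χ).2.2 * f (B.ent χ).2.1 := by
  rw [sum_B0 B (fun χ => f (dg χ)) fun χ ψ e => by simp only [regF_dg e], dg_triv]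
  congr 1
  exact sum_congr rfl fun χ hχ => by rw [dg_ent B hχ]

theorem not_dvd_of_mem {e lo : ℕ} (B : Blk p x e lo) (h : Ctx p x) {χ : IrrCharacter G}
    (hχ : χ ∈ B0 p G) : ¬ p ∣ dg χ := by
  rcases B.cover χ hχ with rfl | ⟨θ, h1, h2⟩
  · rw [dg_triv, Nat.dvd_one]
    exact hp.out.ne_one
  · rw [regF_dg h2, dg_ent B h1]
    exact B.not_dvd θ h1 h

/-- Self-centralizing elements with two classes of generators. -/
structure Q2 (p : ℕ) [Fact p.Prime] (x : G) : Prop where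
  h : Ctx p x
  K1 : Nat.card h.K = 1
  e : Nat.card h.H = p / 2
  pp : p = 11 ∨ p = 23

namespace Q2

variable (q : Q2 p x)
include q

theorem val0 (χ : IrrCharacter G) : ∃ s : ℤ, (χ : G → ℂ) x + (χ : G → ℂ) x⁻¹ = s ∧
    Xf p (dg χ) = s ∧ 0 ≤ dg χ + (p / 2 : ℕ) * s := by
  have h := q.h
  by_cases hχ : χ ∈ B0 p G
  swap
  · refine ⟨0, ?_, Xf_eq q.pp ?_ (by simp), by simp⟩
    · rw [h.van q.K1 hχ (mem_zpowers x) h.ne_one,
        h.van q.K1 hχ (inv_mem (mem_zpowers x)) (inv_ne_one.2 h.ne_one)]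
      simp
    · rw [sub_zero]
      exact Dvd.dvd.mul_left (Int.natCast_dvd_natCast.2 (h.dvd_dg q.K1 hχ)) _
  have i2 : h.H.index = 2 := by
    have h1 := h.card_H_mul
    rw [q.e] at h1
    rcases q.pp with rfl | rfl <;> omega
  have n1 : -1 ∉ h.H := fun e => by
    have := orderOf_dvd_natCard _ e
    rw [h.orderOf_neg_one, q.e] at this
    rcases q.pp with rfl | rfl <;> omega
  have hc : ∀ u : (ZMod p)ˣ, h.co u χ + h.co (-u : (ZMod p)ˣ) χ =
      h.co (1 : (ZMod p)ˣ) χ + h.co (-1 : (ZMod p)ˣ) χ := fun u => by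
    by_cases e : u ∈ h.H
    · rw [h.co_mul χ (u := 1) (v := u) (by simpa using e),
        h.co_mul χ (u := -1) (v := -u) (by simpa using e)]
    · have e' : -u ∈ h.H := by
        rw [← neg_one_mul, mul_mem_iff_of_index_two i2]
        exact iff_of_false n1 e
      rw [h.co_mul χ (u := 1) (v := -u) (by simpa using e'),
        h.co_mul χ (u := -1) (v := u) (by simpa using e'), add_comm]
  have hx : x ^ ((-1 : (ZMod p)ˣ) : ZMod p).val = x⁻¹ := by
    refine eq_inv_of_mul_eq_one_right ?_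
    rw [← pow_succ', ← orderOf_dvd_iff_pow_eq_one, h.ord, ← ZMod.natCast_eq_zero_iff]
    simp
  have h1 := h.val_eq χ 1
  have h2 := h.val_eq χ (-1)
  rw [Units.val_one, h.pw_one] at h1
  rw [hx, ← Equiv.sum_comp (Equiv.neg (ZMod p)ˣ)] at h2
  have h3 := sum_ψ_unit (1 : (ZMod p)ˣ)
  have h4 : 2 * ∑ u : (ZMod p)ˣ, h.co u χ =
      (p - 1) * (h.co (1 : (ZMod p)ˣ) χ + h.co (-1 : (ZMod p)ˣ) χ) := by
    rw [two_mul]
    nth_rewrite 2 [← Equiv.sum_comp (Equiv.neg (ZMod p)ˣ)]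
    simp only [Equiv.neg_apply]
    rw [← sum_add_distrib, sum_congr rfl fun u _ => hc u, sum_const, card_univ, ZMod.card_units,
      nsmul_eq_mul, Nat.cast_pred hp.out.pos]
  have h5 : (dg χ : ℤ) = p * h.mu χ 0 + ∑ u : (ZMod p)ˣ, h.co u χ := by
    have := h.deg_eq χ
    rw [dg_eq] at this
    exact_mod_cast this
  have h6 : ∀ u : (ZMod p)ˣ, h.co u χ * h.co u χ ≤ (p / 2 : ℕ) + 1 := fun u => by
    have := h.gram u u
    rw [if_pos (by simp), q.e] at this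
    rw [← this]
    exact single_le_sum (f := fun χ => h.co u χ * h.co u χ) (fun _ _ => mul_self_nonneg _) hχ
  refine ⟨-(h.co (1 : (ZMod p)ˣ) χ + h.co (-1 : (ZMod p)ˣ) χ), ?_, Xf_eq q.pp
    ⟨2 * h.mu χ 0 + (h.co (1 : (ZMod p)ˣ) χ + h.co (-1 : (ZMod p)ˣ) χ), by
      linear_combination 2 * h5 + h4⟩ ?_, ?_⟩
  · rw [h1, h2, ← sum_add_distrib, sum_congr rfl (g := fun u : (ZMod p)ˣ =>
      ((h.co (1 : (ZMod p)ˣ) χ + h.co (-1 : (ZMod p)ˣ) χ : ℤ) : ℂ) *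
        ψ ((u : ZMod p) * ((1 : (ZMod p)ˣ) : ZMod p))) fun u _ => by
        rw [← hc u]
        simp [add_mul], ← mul_sum, h3]
    simp
  · have a1 := h6 1
    have a2 := h6 (-1)
    generalize h.co (1 : (ZMod p)ˣ) χ = a at *
    generalize h.co (-1 : (ZMod p)ˣ) χ = b at *
    rcases q.pp with rfl | rfl <;> norm_num at a1 a2
    · have : -3 < a := by nlinarith
      have : a < 3 := by nlinarith
      have : -3 < b := by nlinarith
      have : b < 3 := by nlinarith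
      omega
    · have : -4 < a := by nlinarith
      have : a < 4 := by nlinarith
      have : -4 < b := by nlinarith
      have : b < 4 := by nlinarith
      omega
  · generalize h.co (1 : (ZMod p)ˣ) χ + h.co (-1 : (ZMod p)ˣ) χ = a at *
    generalize ∑ u : (ZMod p)ˣ, h.co u χ = b at *
    rcases q.pp with rfl | rfl <;> omega

theorem val (χ : IrrCharacter G) : (χ : G → ℂ) x + (χ : G → ℂ) x⁻¹ = Xf p (dg χ) := by
  obtain ⟨s, h1, h2, -⟩ := q.val0 χ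
  rw [h1, h2]

theorem mem_B0 {e lo : ℕ} (B : Blk p x e lo) {χ : IrrCharacter G} : χ ∈ B0 p G ↔ ¬ p ∣ dg χ :=
  ⟨not_dvd_of_mem B q.h, fun e => by_contra fun e' => e (q.h.dvd_dg q.K1 e')⟩

theorem sum_all {e lo : ℕ} (B : Blk p x e lo) (f : ℕ → ℕ) (hf : ∀ d, p ∣ d → f d = 0) :
    ∑ χ : IrrCharacter G, f (dg χ) = f 1 + ∑ χ ∈ B.R, (B.ent χ).2.2 * f (B.ent χ).2.1 := by
  rw [← sum_deg B, ← sum_subset (subset_univ (B0 p G)) fun χ _ hχ =>
    hf _ (q.h.dvd_dg q.K1 hχ)]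

open Classical in
theorem shape {e lo : ℕ} (B : Blk p x e lo) (he : e = p / 2) : ∃ θ ∉ B.N, ∃ b ε : ℤ, (ε = 1 ∨ ε = -1) ∧
    B.R = insert θ B.N ∧ (B.ent θ).1 = ε + 2 * b ∧ (B.ent θ).2.2 = 2 ∧
    Xf p (B.ent θ).2.1 = -(ε + 2 * b) ∧
    (∀ χ ∈ B.N, (B.ent χ).2.2 = 1 ∧ Xf p (B.ent χ).2.1 = -2 * (B.ent χ).1) ∧
    ∑ χ ∈ B.N, (B.ent χ).1 ^ 2 + ((b + ε) ^ 2 + b ^ 2) = (p / 2 : ℕ) := by
  subst he
  rcases B.enum with ⟨h1, -⟩ | ⟨θ, h1, t, b, ε, m, t2, h2, h3, h4, h5, h6, h7, -, -, -, h11⟩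
  · rcases q.pp with rfl | rfl <;> omega
  obtain rfl : t = 2 := by rcases q.pp with rfl | rfl <;> omega
  have e3 : 0 ≤ ∑ χ ∈ B.N, (B.ent χ).1 ^ 2 := sum_nonneg fun _ _ => sq_nonneg _
  have e5 := sq_nonneg (b + ε)
  have e6 := sq_nonneg b
  have e7 : ∀ a : ℤ, a ^ 2 ≤ (p / 2 : ℕ) → a.natAbs ≤ 3 ∧ (p = 11 → a.natAbs ≤ 2) := fun a ha => by
    have : a.natAbs ^ 2 ≤ p / 2 := by zify at ha ⊢; rwa [sq_abs]
    generalize a.natAbs = k at *
    rcases q.pp with rfl | rfl <;> norm_num at this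
    · have : k < 3 := by nlinarith
      omega
    · have : k < 4 := by nlinarith
      omega
  push_cast at h11
  refine ⟨θ, h1, b, ε, h3, by ext χ; simp [h4], by simpa using h5, h6, Xf_eq q.pp ?_ ?_,
    fun χ hχ => ?_, by push_cast; linarith⟩
  · rcases q.pp with rfl | rfl <;> omega
  · have := e7 b (by push_cast; linarith)
    have := e7 (b + ε) (by push_cast; linarith)
    rcases q.pp with rfl | rfl <;> omega
  · obtain ⟨k1, -, m, k2, -⟩ := B.opt χ hχ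
    have := e7 _ ((single_le_sum (f := fun χ => (B.ent χ).1 ^ 2) (fun _ _ => sq_nonneg _) hχ).trans
      (by push_cast; linarith))
    exact ⟨k1, Xf_eq q.pp ⟨2 * m + 2 * (B.ent χ).1, by linear_combination 2 * k2⟩
      (by rcases q.pp with rfl | rfl <;> omega)⟩

end Q2

/-- The facts about the values at `x`. -/
structure XF (p : ℕ) (x : G) : Prop where
  ord : orderOf x = p
  val : ∀ χ : IrrCharacter G, (χ : G → ℂ) x + (χ : G → ℂ) x⁻¹ = Xf p (dg χ)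
  ok : ∀ χ : IrrCharacter G, χ ≠ triv → okX p (dg χ) = true
  sE : ∑ χ : IrrCharacter G, cE p (dg χ) ≤ 4 * (p / 2)
  sO : ∑ χ : IrrCharacter G, cO p (dg χ) ≤ 2
  sS : ∑ χ : IrrCharacter G, cS p (dg χ) = 4 * (p / 2) + 2
  eq : ∀ χ ψ : IrrCharacter G, cO p (dg χ) ≠ 0 → cO p (dg ψ) ≠ 0 → dg χ = dg ψ

theorem not_comm [NS G] : ¬ IsMulCommutative G := fun e => by
  obtain ⟨a, b, c⟩ := NS.nc (G := G)
  exact c (e.1.1 a b)

theorem Q2.xf [NS G] (q : Q2 p x) : XF p x := by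
  classical
  obtain ⟨B⟩ := q.h.exists_blk
  obtain ⟨θ, h1, b, ε, h2, h3, h4, h5, h6, h7, h8⟩ := q.shape B q.e
  have X0 : ∀ d, p ∣ d → Xf p d = 0 := fun d hd =>
    Xf_eq q.pp (by simpa using Dvd.dvd.mul_left (Int.natCast_dvd_natCast.2 hd) _) (by simp)
  have X1 : Xf p 1 = 2 := by rcases q.pp with rfl | rfl <;> rfl
  have O1 : cO p (B.ent θ).2.1 = 1 := by rw [cO, h6]; omega
  have O2 : ∀ χ ∈ B.N, cO p (B.ent χ).2.1 = 0 := fun χ hχ => by rw [cO, (h7 χ hχ).2]; omega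
  have S2 : ∀ χ ∈ B.N, (cS p (B.ent χ).2.1 : ℤ) = 4 * (B.ent χ).1 ^ 2 := fun χ hχ => by
    rw [cS, (h7 χ hχ).2]; push_cast; rw [sq_abs]; ring
  have S1 : (cS p (B.ent θ).2.1 : ℤ) = (ε + 2 * b) ^ 2 := by
    rw [cS, h6]; push_cast; rw [sq_abs]; ring
  have S3 : (∑ χ ∈ B.N, cS p (B.ent χ).2.1 : ℕ) = 4 * ∑ χ ∈ B.N, (B.ent χ).1 ^ 2 := by
    rw [Nat.cast_sum, mul_sum, sum_congr rfl S2]
  have ε2 : ε ^ 2 = 1 := by rcases h2 with rfl | rfl <;> norm_num
  have hs : ∀ f : ℕ → ℕ, (∀ d, p ∣ d → f d = 0) → ∑ χ : IrrCharacter G, f (dg χ) =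
      f 1 + (2 * f (B.ent θ).2.1 + ∑ χ ∈ B.N, f (B.ent χ).2.1) := fun f hf => by
    rw [q.sum_all B f hf, h3, sum_insert h1, h5]
    congr 2
    exact sum_congr rfl fun χ hχ => by rw [(h7 χ hχ).1, one_mul]
  have hb : 1 ≤ (b + ε) ^ 2 + b ^ 2 := by
    by_cases e : b = 0
    · simp [e, ε2]
    · have := sq_nonneg (b + ε)
      have := pow_pos (abs_pos.2 e) 2
      rw [sq_abs] at this
      omega
  have sE : ∑ χ : IrrCharacter G, cE p (dg χ) ≤ 4 * (p / 2) := by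
    rw [hs _ fun d hd => by simp [cE, X0 d hd], sum_congr rfl (g := fun χ => cS p (B.ent χ).2.1)
      fun χ hχ => by simp [cE, O2 χ hχ, cS]]
    have : cE p 1 = 4 := by simp [cE, cO, X1]
    have : cE p (B.ent θ).2.1 = 0 := by simp [cE, O1]
    omega
  have odd : ∀ χ : IrrCharacter G, cO p (dg χ) ≠ 0 → dg χ = (B.ent θ).2.1 := fun χ hχ => by
    have hB : χ ∈ B0 p G := (q.mem_B0 B).2 fun e => hχ (by simp [cO, X0 _ e])
    rcases B.cover χ hB with rfl | ⟨η, k1, k2⟩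
    · simp [dg_triv, cO, X1] at hχ
    · rw [regF_dg k2, dg_ent B k1] at hχ ⊢
      rcases mem_insert.1 (h3 ▸ k1) with rfl | k3
      · rfl
      · exact absurd (O2 η k3) hχ
  refine ⟨q.h.ord, q.val, fun χ hχ => ?_, sE, ?_, ?_, fun χ ψ k1 k2 => by rw [odd χ k1, odd ψ k2]⟩
  · obtain ⟨s, k1, k2, k3⟩ := q.val0 χ
    simp only [okX, Bool.and_eq_true, decide_eq_true_eq, k2]
    refine ⟨?_, k3, ?_⟩
    · by_cases e : cO p (dg χ) = 0
      · have := sum_le_sum_of_subset (f := fun χ => cE p (dg χ)) (subset_univ {triv, χ})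
        rw [sum_pair hχ.symm, dg_triv] at this
        have : cE p 1 = 4 := by simp [cE, cO, X1]
        have : cE p (dg χ) = cS p (dg χ) := by simp [cE, e, cS]
        simp only [e, beq_self_eq_true, cond_true, Nat.ble_eq]
        omega
      · have e3 : 0 ≤ ∑ χ ∈ B.N, (B.ent χ).1 ^ 2 := sum_nonneg fun _ _ => sq_nonneg _
        rw [beq_eq_false_iff_ne.2 e, odd χ e]
        simp only [cond_false, Nat.ble_eq, Bool.and_eq_true, Bool.or_eq_true, bne_iff_ne]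
        have k4 : 2 * (ε + 2 * b) ^ 2 + 2 = 4 * ((b + ε) ^ 2 + b ^ 2) := by
          linear_combination (-2) * ε2
        refine ⟨by omega, or_iff_not_imp_left.2 fun e1 e2 => ?_⟩
        rw [not_not] at e1
        have k5 : ∑ χ ∈ B.N, (B.ent χ).1 ^ 2 = 0 := by omega
        rw [sum_eq_zero_iff_of_nonneg fun _ _ => sq_nonneg _] at k5
        have k6 := B.lin q.h (IsPReg.one p)
        rw [h3, sum_insert h1, sum_eq_zero fun χ hχ => by
          rw [pow_eq_zero_iff two_ne_zero |>.1 (k5 χ hχ)]; simp, add_zero,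
          B.deg θ (h3 ▸ mem_insert_self _ _), h4] at k6
        have k7 : (ε + 2 * b) * (B.ent θ).2.1 = 1 := by exact_mod_cast k6
        rcases Int.eq_one_or_neg_one_of_mul_eq_one k7 with e | e <;> rw [e] at S1 <;> omega
    · have a1 := MT.norm_lt not_comm hχ q.h.ne_one (dg_eq χ)
      have a2 := MT.norm_lt not_comm hχ (inv_ne_one.2 q.h.ne_one) (dg_eq χ)
      have a3 := norm_add_le ((χ : G → ℂ) x) ((χ : G → ℂ) x⁻¹)
      rw [k1, Complex.norm_intCast] at a3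
      have : (s : ℝ) < 2 * dg χ := by linarith [le_abs_self (s : ℝ)]
      exact_mod_cast this
  · rw [hs _ fun d hd => by simp [cO, X0 d hd], sum_eq_zero O2, O1]
    simp [cO, X1]
  · rw [hs _ fun d hd => by simp [cS, X0 d hd]]
    have : cS p 1 = 4 := by simp [cS, X1]
    have k4 : 2 * (ε + 2 * b) ^ 2 + 2 = 4 * ((b + ε) ^ 2 + b ^ 2) := by
      linear_combination (-2) * ε2
    omega

end Cfsg.Agent.H1.B23
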