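import Cfsg.Agent.H1.B23C
import Cfsg.Agent.H2.D1Util

/-! Soundness of the conditions used in the searches. -/

set_option autoImplicit false
set_option linter.unusedSectionVars false

namespace Cfsg.Agent.H1.B23

open Cfsg Cfsg.Agent.H2.D1 Cfsg.Agent.H3 Cfsg.Agent.H5 Finset Subgroup
open Cfsg.Agent.H9.FT (radI dvd_of_mem_radI)
open scoped ComplexConjugate

variable {G : Type*} [Group G] [Finite G] {q : ℕ} [hq : Fact q.Prime] {y : G}

theorem reg_of {g : G} {n : ℕ} (h : orderOf g = n) (hn : ¬ q ∣ n) : IsPReg q g :=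
  (isPReg_iff_not_dvd hq.out).2 (h ▸ hn)

section
variable {e lo : ℕ} (B : Blk q y e lo) {l : List (IrrCharacter G)} (hl : l.Perm B.R.toList)
include hl

theorem rel_sound (h : Ctx q y) {p : ℕ} {x : G} (f : XF p x) (hr : ¬ q ∣ p) :
    rel p (l.map B.ent) = true := by
  have h1 := B.lin h (reg_of f.ord hr)
  have h2 := B.lin h (reg_of ((orderOf_inv x).trans f.ord) hr)
  have h3 : ∑ χ ∈ B.R, ((B.ent χ).1 : ℂ) * Xf p (B.ent χ).2.1 = 2 := by
    rw [sum_congr rfl fun χ hχ => by rw [← dg_ent B hχ, ← f.val, mul_add], sum_add_distrib, h1, h2]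
    norm_num
  rw [rel, beq_iff_eq, List.map_map, ← B.sum_R hl]
  exact_mod_cast h3

theorem same_sound {p : ℕ} {x : G} (f : XF p x) : same p (l.map B.ent) = true := by
  simp only [same, List.all_eq_true, List.forall_mem_map, Bool.or_eq_true, beq_iff_eq]
  intro χ hχ
  refine or_iff_not_imp_left.2 fun e1 ψ hψ => or_iff_not_imp_left.2 fun e2 => ?_
  rw [← B.dg_ent hl hχ] at e1 ⊢
  rw [← B.dg_ent hl hψ] at e2 ⊢
  exact f.eq χ ψ e1 e2

theorem sm_eq (c : ℕ → ℕ) : sm c (l.map B.ent) = ∑ χ ∈ B.R, (B.ent χ).2.2 * c (B.ent χ).2.1 := by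
  rw [sm, List.map_map, ← B.sum_R hl]
  rfl

end

theorem bud {e lo : ℕ} (B : Blk q y e lo) (F : IrrCharacter G → ℕ)
    (hF : ∀ χ ψ : IrrCharacter G, (∀ g, IsPReg q g → (χ : G → ℂ) g = (ψ : G → ℂ) g) → F χ = F ψ)
    (S : Finset (IrrCharacter G)) (hS : ∀ χ ∈ S, χ ∉ B0 q G) :
    F triv + ∑ χ ∈ B.R, (B.ent χ).2.2 * F χ + ∑ χ ∈ S, F χ ≤ ∑ χ, F χ := by
  classical
  rw [← sum_B0 B F hF, ← sum_union (disjoint_right.2 fun χ hχ => hS χ hχ)]
  exact sum_le_sum_of_subset (subset_univ _)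

theorem budd {e lo : ℕ} (B : Blk q y e lo) (c : ℕ → ℕ)
    (S : Finset (IrrCharacter G)) (hS : ∀ χ ∈ S, χ ∉ B0 q G) :
    c 1 + ∑ χ ∈ B.R, (B.ent χ).2.2 * c (B.ent χ).2.1 + ∑ χ ∈ S, c (dg χ) ≤
      ∑ χ : IrrCharacter G, c (dg χ) := by
  have := bud B (fun χ => c (dg χ)) (fun χ ψ e => by simp only [regF_dg e]) S hS
  rwa [dg_triv, sum_congr rfl (g := fun χ => (B.ent χ).2.2 * c (B.ent χ).2.1)
    fun χ hχ => by rw [dg_ent B hχ]] at this

theorem sum_dg2 (hn : Nat.card G = 10200960) : ∑ χ : IrrCharacter G, dg χ ^ 2 = 10200960 := by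
  have := sum_dg_sq (G := G)
  rw [hn] at this
  exact_mod_cast this

theorem sum_yv2 {t : G} (ht : t * t = 1) : ∑ χ : IrrCharacter G, (yv t χ).natAbs ^ 2 =
    Nat.card (centralizer ({t} : Set G)) := by
  have := sum_yv_yv ht ht
  rw [if_pos (IsConj.refl t)] at this
  zify
  simpa only [sq_abs, sq, abs_mul_abs_self] using this

theorem idx_sound {e lo : ℕ} (B : Blk q y e lo) (h : Ctx q y) (hn : Nat.card G = 10200960)
    (χ : IrrCharacter G) (hχ : χ ∈ B.R) (h1 : (B.ent χ).2.2 = 1) :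
    ((B.ent χ).2.1 : ℤ) ∣ (10200960 / (q * Nat.card h.K) : ℕ) * (B.ent χ).1 := by
  have h2 := MT.dvd_of_central χ {()} (fun _ => y) (fun _ _ => rfl) (B.deg χ hχ)
    (a := -(B.ent χ).1) (by simpa using B.val χ hχ h1 y (mem_zpowers y) h.ne_one)
  rw [← hn, ← (centralizer {y}).index_mul_card, ← h.card_C, Nat.mul_div_cancel _ Nat.card_pos]
  simpa using h2

theorem finI_sound (h : Ctx q y) {lo : ℕ} (B : Blk q y (Nat.card h.H) lo)
    (hn : Nat.card G = 10200960) {t : G} (ht : orderOf t = 2) :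
    finI q (Nat.card h.H) (Nat.card h.K) (Nat.card (centralizer ({t} : Set G))) false
      (10200960 - ∑ χ ∈ B.R, (B.ent χ).1 * yv t χ ^ 2 * (10200960 / (B.ent χ).2.1 : ℕ)) = true := by
  have t2 := sq_eq_one_of_orderOf ht
  have tr := h.isPReg t2
  set c := Nat.card (centralizer ({t} : Set G)) with hc
  obtain ⟨I, I1, I2, I3⟩ := h.inv_formula t2
  have h1 := I3 y (mem_zpowers y) h.ne_one
  rw [B.sum' _ (fun χ ψ e => by simp only [e t tr, e 1 (IsPReg.one q)]) y (mem_zpowers y)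
    h.ne_one] at h1
  have h2 : ((10200960 : ℕ) - ∑ χ ∈ B.R, (B.ent χ).1 * yv t χ ^ 2 *
      (10200960 / (B.ent χ).2.1 : ℕ)) * Nat.card h.K = ((q * (c * I) ^ 2 : ℕ) : ℤ) := by
    generalize 10200960 = n at *
    refine Int.cast_injective (α := ℂ) ?_
    push_cast
    rw [← h1, hn, mul_right_comm, mul_sub, mul_sum]
    congr 2
    · simp
    refine sum_congr rfl fun χ hχ => ?_
    rw [yv_spec t2, ← Int.natCast_div, Int.cast_natCast, Nat.cast_div (hn ▸ irr_degree_dvd_card χ.2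
      (B.deg χ hχ)) (B.deg χ hχ ▸ irr_one_ne_zero χ.2), B.deg χ hχ]
    ring
  rw [Nat.cast_ofNat] at h2
  simp only [Bool.and_eq_true, finI, h2, beq_iff_eq,
    List.any_eq_true, List.mem_range, Bool.or_eq_true, Bool.not_eq_true', bne_iff_ne]
  refine ⟨Int.emod_eq_zero_of_dvd (Int.natCast_dvd_natCast.2 ⟨I ^ 2, by ring⟩), I, ?_, rfl,
    Or.inl trivial⟩
  split_ifs with e
  · rw [I2.2 fun v _ hv => ?_]; exact one_pos
    have := orderOf_dvd_natCard _ (h.neg_one_mem hv)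
    rw [h.orderOf_neg_one] at this
    omega
  · omega

theorem cen_dvd (hn : Nat.card G = 10200960) (t : G) (χ : IrrCharacter G) {v : ℤ}
    (hv : (χ : G → ℂ) t = v) :
    (dg χ : ℤ) ∣ (10200960 / Nat.card (centralizer ({t} : Set G)) : ℕ) * v := by
  have h2 := MT.dvd_of_central χ {()} (fun _ => t) (fun _ _ => rfl) (dg_eq χ)
    (a := v) (by simpa using hv)
  rwa [← hn, ← (centralizer {t}).index_mul_card, Nat.mul_div_cancel _ Nat.card_pos]

variable [NS G]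

theorem mem_SD' (hn : Nat.card G = 10200960) {χ : IrrCharacter G} (hχ : χ ≠ triv) : dg χ ∈ SD := by
  classical
  refine mem_SD (hn ▸ dg_dvd χ) (two_le_deg hχ (dg_eq χ)) ?_
  have := sum_le_sum_of_subset (f := fun χ => dg χ ^ 2) (subset_univ {triv, χ})
  rw [sum_pair hχ.symm, dg_triv, sum_dg2 hn, sq (dg χ)] at this
  omega

theorem yv_lt {χ : IrrCharacter G} (hχ : χ ≠ triv) {t : G} (ht : orderOf t = 2) :
    (yv t χ).natAbs < dg χ ∧ (4 : ℤ) ∣ dg χ - yv t χ := by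
  obtain ⟨k, k1, k2, k3⟩ := inv_val hχ (dg_eq χ) (sq_eq_one_of_orderOf ht)
    (by rintro rfl; simp at ht)
  rw [yv_eq k3]
  omega

theorem vsV_sound (h : Ctx q y) {e lo : ℕ} (B : Blk q y e lo) (hn : Nat.card G = 10200960) {t : G}
    (ht : orderOf t = 2) {md sq0 : ℕ} {ex : ℕ → ℤ → Bool} {fin : ℤ → List (Ent × ℤ) → Bool}
    {l : List (IrrCharacter G)} (hl : l.Perm B.R.toList) (hm : 0 < md)
    (hmd : ∀ χ ∈ B.R, (md : ℤ) ∣ dg χ - yv t χ) (hex : ∀ χ ∈ B.R, ex (dg χ) (yv t χ) = true)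
    (hsq : sq0 + ∑ χ ∈ B.R, (B.ent χ).2.2 * (yv t χ).natAbs ^ 2 ≤
      Nat.card (centralizer ({t} : Set G)))
    (hfin : fin (10200960 - ∑ χ ∈ B.R, (B.ent χ).1 * yv t χ ^ 2 * (10200960 / (B.ent χ).2.1 : ℕ))
      (l.map fun χ => (B.ent χ, yv t χ)).reverse = true) :
    vsV (Nat.card (centralizer ({t} : Set G))) md sq0 ex fin (l.map B.ent) = true := by
  have t2 := sq_eq_one_of_orderOf ht
  set C := Nat.card (centralizer ({t} : Set G)) with hC
  simp only [vsV, Bool.or_eq_true, Bool.not_eq_true', ← Bool.not_eq_true, Nat.ble_eq]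
  refine or_iff_not_imp_left.2 fun e => vs_sound B.ent (yv t) l _ _ _ _ (fun χ hχ => ?_) ?_
    (by rwa [← B.sum_R hl]) (by rwa [← B.sum_R hl, List.append_nil])
  · have h1 := (B.mem_R hl).2 hχ
    have h2 : okV C md ex (B.ent χ) (yv t χ) = true := by
      simp only [okV, Bool.and_eq_true, beq_iff_eq, Nat.blt_eq, ← dg_ent B h1]
      exact ⟨Int.emod_eq_zero_of_dvd (hmd χ h1), (yv_lt (B.mem χ h1).2 ht).1,
        Int.emod_eq_zero_of_dvd (cen_dvd hn t χ (yv_spec t2 χ)), hex χ h1⟩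
    refine ⟨h2, mem_candV hm h2 ?_⟩
    have h3 := single_le_sum (f := fun χ => (yv t χ).natAbs ^ 2) (fun _ _ => Nat.zero_le _)
      (mem_univ χ)
    rw [sum_yv2 t2] at h3
    rw [not_not] at e
    exact Nat.mul_self_le_mul_self_iff.1 (by simpa only [sq] using h3.trans e)
  · have := B.lin h (h.isPReg t2)
    simp only [yv_spec t2] at this
    rw [← B.sum_R hl, zero_add]
    exact_mod_cast this

theorem uniq7 (h : Ctx 11 y) {e lo : ℕ} (B : Blk 11 y e lo) {z : G} (hz : orderOf z = 7)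
    (hK : z ∈ h.K) {χ : IrrCharacter G} (hχ : χ ∈ B.R)
    (hc : ∑ ψ ∈ B.R, (B.ent ψ).2.2 * ind (dg χ) (B.ent ψ).2.1 = 1) : 66 ≤ dg χ := by
  classical
  obtain ⟨h1, h2⟩ := B.mem χ hχ
  have h3 := two_le_deg h2 (dg_eq χ)
  have h4 := sum_deg B (ind (dg χ))
  rw [hc, show ind (dg χ) 1 = 0 by
    rw [ind, beq_eq_false_iff_ne.2 (by omega)]; rfl] at h4
  have h5 : ∀ u, MT.gal u χ = χ := fun u => by
    by_contra e
    have := sum_le_sum_of_subset (f := fun ψ => ind (dg χ) (dg ψ)) (s := {MT.gal u χ, χ})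
      (t := B0 11 G) (by simp [insert_subset_iff, h1, MT.gal_mem_B0 h1])
    rw [sum_pair e, h4, dg_of ((MT.gal_one u χ).trans (dg_eq χ))] at this
    simp [ind] at this
  have h6 : ∀ g, ∃ n : ℤ, (χ : G → ℂ) g = n := fun g =>
    H9.FT.int_of_fixed (char_isIntegral (MT.ch _) g) fun u => by rw [← MT.gal_apply, h5]
  obtain ⟨v, hv⟩ := h6 z
  obtain ⟨a, ha⟩ := h6 y
  have z7 : z ^ 7 = 1 := hz ▸ pow_orderOf_eq_one z
  have h7 : ∀ k : ℕ, k.Coprime 7 → (χ : G → ℂ) (z ^ k) = v := fun k hk => by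
    obtain ⟨u, hu⟩ := MT.exists_gal (G := G) hk
    rw [← (hu χ z).1 z7, h5, hv]
  have := Fintype.ofFinite (zpowers z)
  obtain ⟨m, hm⟩ := exists_avg (MT.ch χ) (zpowers z)
  rw [sum_zpowers, hz, Nat.card_zpowers, hz] at hm
  simp only [sum_range_succ, sum_range_zero, pow_zero, dg_eq, h7 1 (by norm_num),
    h7 2 (by norm_num), h7 3 (by norm_num), h7 4 (by norm_num), h7 5 (by norm_num),
    h7 6 (by norm_num)] at hm
  have h8 : (dg χ : ℤ) + 6 * v = 7 * m := by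
    refine Int.cast_injective (α := ℂ) ?_
    push_cast at hm ⊢
    linear_combination hm
  have y11 : y ^ 11 ^ 1 = 1 := by rw [pow_one, h.pow_p]
  have c1 := MT.cong_int (by norm_num) (MT.ch χ) y11 (h.mem_K.1 hK).1
    ((h.const h1 (mem_zpowers y) h.ne_one hK).trans ha) hv
  have c2 := MT.cong_int (by norm_num) (MT.ch χ) y11 (Commute.one_right y)
    (by rw [mul_one, ha]) (show (χ : G → ℂ) 1 = (dg χ : ℤ) by rw [dg_eq]; simp)
  have c3 := MT.norm_lt not_comm h2 (g := z) (by rintro rfl; simp at hz) (dg_eq χ)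
  rw [hv, Complex.norm_intCast] at c3
  have c4 : v < dg χ := by
    have : (v : ℝ) < dg χ := (le_abs_self _).trans_lt c3
    exact_mod_cast this
  omega

theorem cong_K (h : Ctx q y) {χ : IrrCharacter G} (hχ : χ ∈ B0 q G) {s : G} (hs : s * s = 1)
    (hK : s ∈ h.K) : (q : ℤ) ∣ dg χ - yv s χ := by
  have h1 := MT.rad_sub (k := 1) hq.out (MT.ch χ) (u := y) (by rw [pow_one, h.pow_p])
    (h.mem_K.1 hK).1
  have h2 := MT.cong_one hq.out (MT.ch χ) h.pow_p
  rw [h.const hχ (mem_zpowers y) h.ne_one hK, yv_spec hs] at h1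
  rw [dg_eq] at h2
  refine dvd_of_mem_radI hq.out ?_
  convert sub_mem h1 h2 using 1
  push_cast
  ring

/-- The facts about an element of order five. -/
structure WF (w : G) : Prop where
  ord : orderOf w = 5
  val : ∀ χ : IrrCharacter G, (χ : G → ℂ) w = yv w χ ∧ (χ : G → ℂ) (w * w) = yv w χ
  cong : ∀ χ : IrrCharacter G, (5 : ℤ) ∣ dg χ - yv w χ
  sum : ∑ χ : IrrCharacter G, (yv w χ).natAbs ^ 2 = 15

theorem wf_of {w : G} (h : Ctx 5 w) (he : Nat.card h.H = 4) (hK : Nat.card h.K = 3) : WF w := by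
  have hH : h.H = ⊤ := by
    have := h.card_H_mul
    rw [he] at this
    exact index_eq_one.1 (by omega)
  have h1 : ∀ χ : IrrCharacter G, ∀ u : (ZMod 5)ˣ, h.co u χ = h.co (1 : (ZMod 5)ˣ) χ :=
    fun χ u => h.co_mul χ (hH ▸ mem_top _)
  have h2 : ∀ χ : IrrCharacter G, (χ : G → ℂ) w = (-h.co (1 : (ZMod 5)ˣ) χ : ℤ) := fun χ => by
    rw [h.val_const (h1 χ) (mem_zpowers w) h.ne_one]; simp
  have h3 : ∀ χ : IrrCharacter G, (χ : G → ℂ) w = yv w χ := fun χ => by rw [yv_eq (h2 χ), h2]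
  refine ⟨h.ord, fun χ => ⟨h3 χ, ?_⟩, fun χ => ?_, ?_⟩
  · rw [← h3, h2, h.val_const (h1 χ) (mul_mem (mem_zpowers w) (mem_zpowers w)) fun e => by
      have := orderOf_dvd_of_pow_eq_one (n := 2) (x := w) (by rwa [sq])
      rw [h.ord] at this
      omega]
    simp
  · have := MT.cong_int (k := 1) (by norm_num : Nat.Prime 5) (MT.ch χ) (u := w)
      (by rw [pow_one, h.pow_p]) (Commute.one_right w) (by rw [mul_one, h3])
      (show (χ : G → ℂ) 1 = (dg χ : ℤ) by rw [dg_eq]; simp)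
    omega
  · have := sum_irr_normSq w
    simp only [h3, Complex.norm_intCast, h.card_C, hK] at this
    have h4 : ((∑ χ : IrrCharacter G, (yv w χ).natAbs ^ 2 : ℕ) : ℝ) = 15 := by
      push_cast at this ⊢
      simpa only [Nat.cast_natAbs, Int.cast_abs, show (5 : ℝ) * 3 = 15 by norm_num] using this
    exact_mod_cast h4

theorem WF.cW_le {w : G} (f : WF w) (χ : IrrCharacter G) : cW (dg χ) ≤ (yv w χ).natAbs ^ 2 := by
  have := f.cong χ
  exact Nat.pow_le_pow_left (by omega) 2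

theorem WF.reg {w : G} (f : WF w) (hr : ¬ q ∣ 5) (χ ψ : IrrCharacter G)
    (e : ∀ g, IsPReg q g → (χ : G → ℂ) g = (ψ : G → ℂ) g) : yv w χ = yv w ψ :=
  yv_eq ((e w (reg_of f.ord hr)).trans (f.val ψ).1)

theorem relW_sound (h : Ctx q y) {e lo : ℕ} (B : Blk q y e lo) {w : G} (f : WF w) (hr : ¬ q ∣ 5)
    {l : List (IrrCharacter G)} (hl : l.Perm B.R.toList) {b : ℕ}
    (hb : ∑ χ ∈ B.R, (B.ent χ).2.2 * (yv w χ).natAbs ^ 2 ≤ b) : relW b (l.map B.ent) = true := by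
  refine vs_sound B.ent (yv w) l _ _ _ _ (fun χ hχ => ?_) ?_
    (by rwa [← B.sum_R hl, zero_add]) rfl
  · have h2 : okW (B.ent χ) (yv w χ) = true := by
      rw [okW, beq_iff_eq, ← B.dg_ent hl hχ]
      exact Int.emod_eq_zero_of_dvd (f.cong χ)
    refine ⟨h2, List.mem_filter.2 ⟨?_, h2⟩⟩
    have h3 := single_le_sum (f := fun χ => (yv w χ).natAbs ^ 2) (fun _ _ => Nat.zero_le _)
      (mem_univ χ)
    rw [f.sum] at h3
    have : (yv w χ).natAbs < 4 := by nlinarith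
    simp only [List.mem_cons, List.not_mem_nil, or_false]
    omega
  · have := B.lin h (reg_of f.ord hr)
    simp only [fun χ => (f.val χ).1] at this
    rw [← B.sum_R hl, zero_add]
    exact_mod_cast this

end Cfsg.Agent.H1.B23
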