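import Cfsg.Agent.H1.B23B

/-! The search for the centralizer of an element of order `11`. -/

set_option autoImplicit false

namespace Cfsg.Agent.H1.B23

theorem s2_a : ∀ c ∈ [8, 30, 63, 96, 140, 360, 448, 1680, 20160], s2 2 c = false := by
  decide +kernel

theorem s2_b : ∀ c ∈ [56, 144, 672, 8064], s2 5 c = false := by
  decide +kernel

theorem s2_c : ∀ c ∈ [28, 72, 336, 4032], s2 10 c = false := by
  decide +kernel

theorem s2_d : s2 5 12 = false := by
  decide +kernel

theorem s2_e : s2 10 6 = false := by
  decide +kernel

end Cfsg.Agent.H1.B23
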