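import Cfsg.Agent.H1.B23B

/-! The searches for the primes five and eleven. -/

set_option autoImplicit false

namespace Cfsg.Agent.H1.B23

open Cfsg.Agent.H2.D1

theorem s4_a : ∀ c ∈ [1, 6, 16, 21, 36, 56, 96, 126, 336, 576, 2016], s4 2 c = false := by
  decide +kernel

theorem s4_b : ∀ c ∈ [3, 8, 18, 28, 48, 63, 168, 288, 1008], s4 4 c = false := by
  decide +kernel

/-- The shapes for the prime eleven. -/
def SH : List (List Ent) := [
  [(-1, 320, 1), (1, 896, 2), (-1, 276, 1), (-1, 23, 1), (-1, 276, 1)],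
  [(1, 736, 1), (-1, 160, 2), (-1, 276, 1), (-1, 23, 1), (-1, 276, 1)],
  [(1, 896, 2), (-1, 320, 1), (1, 483, 1), (-1, 1035, 1), (-1, 23, 1)],
  [(1, 736, 1), (-1, 160, 2), (1, 483, 1), (-1, 1035, 1), (-1, 23, 1)],
  [(1, 896, 2), (-1, 1035, 1), (-1, 45, 1), (-1, 45, 1), (1, 230, 1)],
  [(-1, 1288, 1), (1, 896, 2), (1, 483, 1), (-1, 45, 1), (-1, 45, 1)],
  [(1, 736, 1), (-1, 138, 2), (-1, 276, 1), (-1, 45, 1), (-1, 276, 1)],
  [(-1, 644, 2), (1, 736, 1), (-1, 276, 1), (-1, 45, 1), (1, 230, 1)],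
  [(1, 736, 1), (1, 115, 2), (-1, 1035, 1), (-1, 45, 1), (1, 230, 1)],
  [(-1, 1288, 1), (1, 736, 1), (1, 483, 1), (-1, 45, 1), (1, 115, 2)],
  [(-1, 56, 1), (-1, 56, 1), (1, 252, 1), (1, 896, 2), (-1, 1035, 1)],
  [(1, 896, 2), (-1, 320, 1), (1, 736, 1), (-1, 1035, 1), (-1, 276, 1)],
  [(-1, 160, 2), (1, 736, 1), (1, 736, 1), (-1, 1035, 1), (-1, 276, 1)],
  [(-1, 320, 1), (1, 896, 2), (-1, 1288, 1), (1, 483, 1), (1, 230, 1)],
  [(1, 896, 2), (-1, 320, 1), (-1, 1035, 1), (1, 230, 1), (1, 230, 1)],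
  [(1, 736, 1), (-1, 160, 2), (-1, 1035, 1), (1, 230, 1), (1, 230, 1)],
  [(-1, 1288, 1), (-1, 160, 2), (1, 736, 1), (1, 483, 1), (1, 230, 1)]]

/-- The surviving shapes for the prime eleven. -/
def S4 : List (List Ent) := [
  [(1, 896, 2), (-1, 1035, 1), (-1, 45, 1), (-1, 45, 1), (1, 230, 1)],
  [(1, 896, 2), (-1, 320, 1), (-1, 1035, 1), (1, 230, 1), (1, 230, 1)],
  [(1, 736, 1), (1, 115, 2), (-1, 1035, 1), (-1, 45, 1), (1, 230, 1)],
  [(1, 736, 1), (-1, 160, 2), (-1, 1035, 1), (1, 230, 1), (1, 230, 1)]]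

/-- The conditions for the prime eleven. -/
def lf5 (L : List Ent) : Bool :=
  rel 23 L && (same 23 L && ((cnt L 736 != 0 || cnt L 896 != 0) && (relW 12 L &&
    !(SH.any fun L' => L.isPerm L'))))

theorem s5_a : blk2 11 5 0 (10200960 / (11 * 1)) (DXY.filter fun d => d % 11 != 0) (cE 23) (cO 23)
    6051022 36 2 lf5 = false := by
  decide +kernel

/-- The allowed values at the involution. -/
def al (L : List Ent) (d : ℕ) (v : ℤ) : Bool :=
  !(d == 230 && v == 6) && (!(d == 115 && v == 3) && (d != 45 || (cnt L 45 != 2 || v == -3)))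

/-- The conditions on the values at the involution. -/
def fin5 (L : List Ent) (C : ℕ) (S : ℤ) (acc : List (Ent × ℤ)) : Bool :=
  finI 11 5 1 C false S && ((acc.any fun z => (z.1.2.1 == 736 || z.1.2.1 == 896) && z.2 == 0) &&
    !(S4.contains L && acc.all fun z => al L z.1.2.1 z.2))

theorem s5_b : ∀ L ∈ SH, ∀ C ∈ [896, 2688], vsV C 4 114 (fun _ _ => true) (fin5 L C) L = false := by
  decide +kernel

end Cfsg.Agent.H1.B23
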