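import Cfsg.Agent.H1.B23D
import Cfsg.Agent.H1.B23S2
import Cfsg.Agent.H1.B23S3
import Cfsg.Agent.H5.MtF

/-! The primes eleven and five. -/

set_option autoImplicit false
set_option linter.unusedSectionVars false

namespace Cfsg.Agent.H1.B23

open Cfsg Cfsg.Agent.H2.D1 Cfsg.Agent.H3 Cfsg.Agent.H5 Finset Subgroup
open scoped ComplexConjugate

variable {G : Type*} [Group G] [Finite G] [NS G]

instance fact11 : Fact (Nat.Prime 11) := ⟨by norm_num⟩
instance fact23 : Fact (Nat.Prime 23) := ⟨by norm_num⟩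
instance fact5 : Fact (Nat.Prime 5) := ⟨by norm_num⟩

theorem Q2.ndvd {p : ℕ} [Fact p.Prime] {x : G} (q : Q2 p x) {g : G} {n : ℕ} (hg : orderOf g = n)
    (h1 : ¬ p ∣ n) (h2 : n ≠ 1) : Nat.card (centralizer ({g} : Set G)) % p ≠ 0 := fun e =>
  h2 (by rw [← hg, q.h.eq_one q.K1 (reg_of hg h1) (Nat.dvd_of_mod_eq_zero e), orderOf_one])

theorem sylow_mod {p : ℕ} [hp : Fact p.Prime] {x : G} (h : Ctx p x) (hn : Nat.card G = 10200960) :
    Nat.card h.K ∈ DV ∧ 10200960 % (p * Nat.card h.H * Nat.card h.K) = 0 ∧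
      10200960 / (p * Nat.card h.H * Nat.card h.K) % p = 1 := by
  have h1 := h.card_eq
  rw [hn, mul_assoc, mul_assoc, ← mul_assoc p] at h1
  refine ⟨mem_DV (hn ▸ card_subgroup_dvd_card _), Nat.mod_eq_zero_of_dvd ⟨_, by
    rw [← h1, mul_comm]⟩, ?_⟩
  rw [← h1, Nat.mul_div_cancel _ (Nat.pos_of_ne_zero fun e => by simp [e] at h1)]
  exact Eq.trans (card_sylow_modEq_one p G) (Nat.mod_eq_of_lt hp.out.one_lt)

theorem opt11 : ∀ c ∈ DV, ∀ e ∈ [2, 5, 10], 11 * c % 23 ≠ 0 → 10200960 % (11 * e * c) = 0 →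
    10200960 / (11 * e * c) % 11 = 1 → (c = 1 ∧ e = 5) ∨
      (e = 2 ∧ c ∈ [8, 30, 63, 96, 140, 360, 448, 1680, 20160]) ∨
      (e = 5 ∧ c ∈ [56, 144, 672, 8064]) ∨ (e = 10 ∧ c ∈ [28, 72, 336, 4032]) ∨
      (e = 5 ∧ c = 12) ∨ (e = 10 ∧ c = 6) := by
  decide +kernel

theorem opt5 : ∀ c ∈ DV, ∀ e ∈ [2, 4], 5 * c % 23 ≠ 0 → 5 * c % 11 ≠ 0 →
    10200960 % (5 * e * c) = 0 → 10200960 / (5 * e * c) % 5 = 1 →
      (e = 2 ∧ c ∈ [1, 6, 16, 21, 36, 56, 96, 126, 336, 576, 2016]) ∨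
      (e = 4 ∧ c ∈ [3, 8, 18, 28, 48, 63, 168, 288, 1008]) := by
  decide +kernel

theorem DX_sorted : DX.Pairwise fun a b => b ≤ a := SD_sorted.filter _

theorem DXY_sorted : DXY.Pairwise fun a b => b ≤ a := DX_sorted.filter _

theorem bud0 {q : ℕ} [Fact q.Prime] {y : G} {e lo : ℕ} (B : Blk q y e lo) (c : ℕ → ℕ) :
    c 1 + ∑ χ ∈ B.R, (B.ent χ).2.2 * c (B.ent χ).2.1 ≤ ∑ χ : IrrCharacter G, c (dg χ) := by
  simpa using budd B c ∅ (by simp)

theorem budV {q : ℕ} [Fact q.Prime] {y : G} (h : Ctx q y) {e lo : ℕ} (B : Blk q y e lo) {t : G}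
    (ht : orderOf t = 2) (S : Finset (IrrCharacter G)) (hS : ∀ χ ∈ S, χ ∉ B0 q G) :
    1 + ∑ χ ∈ B.R, (B.ent χ).2.2 * (yv t χ).natAbs ^ 2 + ∑ χ ∈ S, (yv t χ).natAbs ^ 2 ≤
      Nat.card (centralizer ({t} : Set G)) := by
  have t2 := sq_eq_one_of_orderOf ht
  have := bud B (fun χ => (yv t χ).natAbs ^ 2) (fun χ ψ e => by simp only [regF_yv t2 h e]) S hS
  rwa [sum_yv2 t2, yv_triv] at this

variable (hn : Nat.card G = 10200960) {x : G}
include hn

theorem mem_DX (f : XF 23 x) {χ : IrrCharacter G} (hχ : χ ≠ triv) : dg χ ∈ DX :=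
  List.mem_filter.2 ⟨mem_SD' hn hχ, f.ok χ hχ⟩

theorem s2_sound (q : Q2 23 x) {y : G} (h : Ctx 11 y) (hK : Nat.card h.K ≠ 1) :
    s2 (Nat.card h.H) (Nat.card h.K) = true := by
  have f := q.xf
  obtain ⟨B⟩ := h.exists_blk
  have b0 := bud0 B (· ^ 2)
  have b1 := (bud0 B (cE 23)).trans f.sE
  have b2 := (bud0 B (cO 23)).trans f.sO
  rw [sum_dg2 hn] at b0
  rw [show cE 23 1 = 4 from rfl] at b1
  refine blk2_sound B h (by rw [beq_eq_false_iff_ne.2 hK]; rfl) (DX_sorted.filter _)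
    (fun χ hχ => ?_) (idx_sound B h hn) (by omega) (by omega) (by omega) fun l hl => ?_
  · rw [List.mem_filter, ← dg_ent B hχ, bne_iff_ne]
    exact ⟨mem_DX hn f (B.mem χ hχ).2, fun e =>
      not_dvd_of_mem B h (B.mem χ hχ).1 (Nat.dvd_of_mod_eq_zero e)⟩
  simp only [lf2, Bool.and_eq_true, Bool.or_eq_true, bne_iff_ne, List.all_eq_true,
    List.forall_mem_map, Nat.ble_eq, List.any_eq_true, List.mem_filter, beq_iff_eq]
  refine ⟨rel_sound B hl h f (by norm_num), same_sound B hl f,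
    or_iff_not_imp_left.2 fun e χ hχ => or_iff_not_imp_right.2 fun e' => ?_,
    or_iff_not_imp_left.2 fun e => ?_⟩
  · have := Fact.mk (by norm_num : Nat.Prime 7)
    obtain ⟨z, hz⟩ := exists_prime_orderOf_dvd_card' (G := h.K) 7 (by omega)
    rw [← orderOf_coe] at hz
    rw [not_not, cnt, sm_eq B hl, ← B.dg_ent hl hχ] at e'
    rw [← B.dg_ent hl hχ]
    exact uniq7 h B hz z.2 ((B.mem_R hl).2 hχ) e'
  · obtain ⟨s, hs⟩ := exists_prime_orderOf_dvd_card' (G := h.K) 2 (by omega)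
    rw [← orderOf_coe] at hs
    have s2 := sq_eq_one_of_orderOf hs
    refine ⟨_, ⟨mem_DV (hn ▸ card_subgroup_dvd_card (centralizer {(s : G)})), ?_,
      q.ndvd hs (by norm_num) (by norm_num)⟩, vsV_sound h B hn hs hl (by norm_num)
      (fun χ hχ => ?_) (fun _ _ => rfl) (by simpa using budV h B hs ∅ (by simp))
      (finI_sound h B hn hs)⟩
    · have a1 := hs ▸ orderOf_dvd_natCard _ (mem_centralizer_singleton_iff.2 (rfl : (s : G) * s = _))
      have a2 := h.ord.symm.dvd.trans (orderOf_dvd_natCard _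
        (mem_centralizer_singleton_iff.2 (h.mem_K.1 s.2).1))
      omega
    · have a1 := (yv_lt (B.mem χ hχ).2 hs).2
      have a2 := cong_K h (B.mem χ hχ).1 s2 s.2
      omega

theorem k11 (q : Q2 23 x) {y : G} (h : Ctx 11 y) : Q2 11 y := by
  obtain ⟨h1, h2, h3⟩ := sylow_mod h hn
  have h4 := h.card_H_mul
  have h5 := h.two_le_e
  have h6 : Nat.card h.H ∈ [2, 5, 10] := by
    have : Nat.card h.H ∣ 10 := ⟨h.H.index, by omega⟩
    have := Nat.le_of_dvd (by norm_num) this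
    generalize Nat.card h.H = e at *
    interval_cases e <;> simp_all
  have h7 := q.ndvd h.ord (by norm_num) (by norm_num)
  rw [h.card_C] at h7
  have h8 := s2_sound hn q h
  rcases opt11 _ h1 _ h6 h7 h2 h3 with e | e | e | e | e | e
  · exact ⟨h, e.1, e.2, Or.inl rfl⟩
  all_goals
    exfalso
    have := h8 (by intro e'; rw [e'] at e; simp at e)
    rw [e.1] at this
  · rw [s2_a _ e.2] at this; simp at this
  · rw [s2_b _ e.2] at this; simp at this
  · rw [s2_c _ e.2] at this; simp at this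
  · rw [e.2, s2_d] at this; simp at this
  · rw [e.2, s2_e] at this; simp at this

omit hn [NS G] in
theorem decomp [Fintype G] {φ : G → ℂ} (hφ : IsCharacter G φ) : ∃ m : IrrCharacter G → ℕ,
    (∀ ψ : IrrCharacter G, classInner φ ψ = m ψ) ∧
      ∀ g, φ g = ∑ ψ : IrrCharacter G, m ψ * (ψ : G → ℂ) g := by
  choose m hm using fun ψ : IrrCharacter G => classInner_char_nat hφ (MT.ch ψ)
  exact ⟨m, hm, fun g => by
    simp only [classFunction_apply (char_isClassFunction hφ) g, hm]⟩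

omit hn [NS G] in
theorem dec_one {φ : G → ℂ} {m : IrrCharacter G → ℕ} {d : ℕ}
    (h : ∀ g, φ g = ∑ ψ : IrrCharacter G, m ψ * (ψ : G → ℂ) g) (hd : φ 1 = d) :
    ∑ ψ : IrrCharacter G, m ψ * dg ψ = d := by
  have := h 1
  simp only [hd, dg_eq] at this
  exact_mod_cast this.symm

omit hn [NS G] in
theorem dec_X {φ : G → ℂ} {m : IrrCharacter G → ℕ} {p : ℕ} {y : G} (f : XF p y) {s : ℤ}
    (h : ∀ g, φ g = ∑ ψ : IrrCharacter G, m ψ * (ψ : G → ℂ) g) (hd : φ y + φ y⁻¹ = s) :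
    ∑ ψ : IrrCharacter G, m ψ * Xf p (dg ψ) = s := by
  rw [h, h, ← sum_add_distrib] at hd
  simp only [← mul_add, f.val] at hd
  exact_mod_cast hd

omit hn in
theorem small11 : ∀ d ∈ DX, okX 11 d = true → d ≤ 120 → 0 ≤ d + 115 * Xf 11 d := by
  decide +kernel

theorem ne11 (f : XF 23 x) {y : G} (g : XF 11 y) (χ : IrrCharacter G) : dg χ ≠ 11 := fun e => by
  classical
  have := Fintype.ofFinite G
  obtain ⟨m, h1, h2⟩ := decomp (isCharacter_mul (MT.ch χ) (isCharacter_conj (MT.ch χ)))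
  have h3 : m triv = 1 := by
    have := h1 triv
    rw [classInner_mul_left] at this
    simp only [Complex.conj_conj, Pi.one_apply, mul_one, classInner_irr_self χ.2] at this
    exact_mod_cast this.symm
  have z : ∀ u, orderOf u = 11 → (χ : G → ℂ) u = 0 := fun u hu =>
    MT.defz (p := 11) (by norm_num) (dg_eq χ) (by rw [hn, e]; norm_num) hu.symm.dvd
  have h4 := dec_one h2 (d := 121) (by simp only [Pi.mul_apply, dg_eq, e, map_natCast]; norm_num)
  have h5 := dec_X g h2 (s := 0) (by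
    simp [z y g.ord, z _ ((orderOf_inv y).trans g.ord)])
  rw [← add_sum_erase _ _ (mem_univ triv), h3, dg_triv] at h4 h5
  have h6 : 0 ≤ ∑ ψ ∈ univ.erase triv, (m ψ : ℤ) * (dg ψ + 115 * Xf 11 (dg ψ)) :=
    sum_nonneg fun ψ hψ => by
      by_cases e' : m ψ = 0
      · simp [e']
      have a1 := single_le_sum (f := fun ψ => m ψ * dg ψ) (fun _ _ => Nat.zero_le _) hψ
      have a2 := Nat.le_mul_of_pos_left (dg ψ) (Nat.pos_of_ne_zero e')
      exact mul_nonneg (by positivity) (small11 _ (mem_DX hn f (mem_erase.1 hψ).1)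
        (g.ok ψ (mem_erase.1 hψ).1) (by omega))
  simp only [mul_add, sum_add_distrib, mul_left_comm _ (115 : ℤ), ← mul_sum] at h6
  have h7 : ∑ ψ ∈ univ.erase triv, (m ψ : ℤ) * dg ψ = 120 := by
    have : ∑ ψ ∈ univ.erase triv, m ψ * dg ψ = 120 := by omega
    exact_mod_cast this
  rw [show Xf 11 1 = 2 from rfl] at h5
  omega

theorem mem_DXY (f : XF 23 x) {y : G} (g : XF 11 y) {χ : IrrCharacter G} (hχ : χ ≠ triv) :
    dg χ ∈ DXY :=
  List.mem_filter.2 ⟨mem_DX hn f hχ, by simp [g.ok χ hχ, ne11 hn f g χ]⟩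

/-- The result for the prime five. -/
structure T5 (w t : G) : Prop where
  wf : WF w
  ord : orderOf t = 2
  cen : Nat.card (centralizer ({t} : Set G)) ∈ [896, 2688]
  a : ∃ χ : IrrCharacter G, dg χ = 231 ∧ yv t χ = 7
  b : ∃ χ : IrrCharacter G, dg χ = 2024 ∧ yv t χ = 8
  c : (∃ χ : IrrCharacter G, dg χ = 896 ∧ yv t χ = 0) ∨
    ((∃ χ : IrrCharacter G, dg χ = 736 ∧ yv t χ = 0) ∧ ∃ χ : IrrCharacter G, dg χ = 1056)

theorem five (q : Q2 23 x) {y : G} (r : Q2 11 y) : ∃ w t : G, T5 w t := by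
  have f := q.xf
  have g := r.xf
  obtain ⟨w, h⟩ := exists_ctx (G := G) (p := 5) (by norm_num) (by rw [hn]; norm_num)
    (by rw [hn]; norm_num)
  obtain ⟨t, ht, hc⟩ := MT.exists_central (G := G) (n := 6) (by rw [hn]; norm_num)
  refine ⟨w, t, by_contra fun hT => ?_⟩
  obtain ⟨h1, h2, h3⟩ := sylow_mod h hn
  have h4 := h.card_H_mul
  have h5 := h.two_le_e
  have h6 : Nat.card h.H ∈ [2, 4] := by
    have : Nat.card h.H ∣ 4 := ⟨h.H.index, by omega⟩
    have := Nat.le_of_dvd (by norm_num) this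
    generalize Nat.card h.H = e at *
    interval_cases e <;> simp_all
  have h7 := q.ndvd h.ord (by norm_num) (by norm_num)
  have h8 := r.ndvd h.ord (by norm_num) (by norm_num)
  rw [h.card_C] at h7 h8
  suffices s4 (Nat.card h.H) (Nat.card h.K) = true by
    rcases opt5 _ h1 _ h6 h7 h8 h2 h3 with e | e <;> rw [e.1] at this
    · rw [s4_a _ e.2] at this; simp at this
    · rw [s4_b _ e.2] at this; simp at this
  obtain ⟨B⟩ := h.exists_blk
  have b0 := bud0 B (· ^ 2)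
  have b1 := (bud0 B (cE 23)).trans f.sE
  have b2 := (bud0 B (cO 23)).trans f.sO
  have b3 := (bud0 B (cE 11)).trans g.sE
  have b4 := (bud0 B (cO 11)).trans g.sO
  rw [sum_dg2 hn] at b0
  rw [show cE 23 1 = 4 from rfl] at b1
  rw [show cE 11 1 = 4 from rfl] at b3
  refine blk2_sound B h (Nat.zero_le _) (DXY_sorted.filter _)
    (fun χ hχ => ?_) (idx_sound B h hn) (by omega) (by omega) (by omega) fun l hl => ?_
  · rw [List.mem_filter, ← dg_ent B hχ, bne_iff_ne]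
    exact ⟨mem_DXY hn f g (B.mem χ hχ).2, fun e =>
      not_dvd_of_mem B h (B.mem χ hχ).1 (Nat.dvd_of_mod_eq_zero e)⟩
  simp only [lf4, Bool.and_eq_true, Bool.or_eq_true, bne_iff_ne, Nat.ble_eq, List.any_eq_true,
    List.mem_filter, beq_iff_eq, sm_eq B hl]
  refine ⟨rel_sound B hl h f (by norm_num), rel_sound B hl h g (by norm_num), same_sound B hl f,
    same_sound B hl g, by omega, by omega, _,
    ⟨mem_DV (hn ▸ card_subgroup_dvd_card (centralizer {t})), Nat.mod_eq_zero_of_dvd hc,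
      r.ndvd ht (by norm_num) (by norm_num), q.ndvd ht (by norm_num) (by norm_num),
      or_iff_not_imp_right.2 fun e => ?_⟩, vsV_sound h B hn ht hl (by norm_num)
      (fun χ hχ => (yv_lt (B.mem χ hχ).2 ht).2) (fun _ _ => rfl)
      (by simpa using budV h B ht ∅ (by simp)) ?_⟩
  · exact Nat.mod_eq_zero_of_dvd (ht ▸ h.dvd_K (reg_of ht (by norm_num))
      (Nat.dvd_of_mod_eq_zero (not_not.1 e)))
  rw [Bool.and_eq_true, finI_sound h B hn ht, Bool.not_eq_true', ← Bool.not_eq_true]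
  refine ⟨rfl, fun hP => hT ?_⟩
  simp only [P4, Bool.and_eq_true, Bool.or_eq_true, beq_iff_eq] at hP
  obtain ⟨p1, p2, p3, p4⟩ := hP
  have k : ∀ z ∈ (l.map fun χ => (B.ent χ, yv t χ)).reverse,
      ∃ χ : IrrCharacter G, dg χ = z.1.2.1 ∧ yv t χ = z.2 := fun z hz => by
    obtain ⟨χ, hχ, rfl⟩ := List.mem_map.1 (List.mem_reverse.1 hz)
    exact ⟨χ, B.dg_ent hl hχ, rfl⟩
  refine ⟨wf_of h p1 p2, ht, by simpa using p3, ?_, ?_, ?_⟩
  · rcases p4 with e | e <;> exact k ((-1, 231, 1), 7) (by rw [e]; simp)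
  · rcases p4 with e | e <;> exact k ((1, 2024, 1), 8) (by rw [e]; simp)
  · rcases p4 with e | e
    · exact Or.inl (k ((-1, 896, 1), 0) (by rw [e]; simp))
    · exact Or.inr ⟨k ((-1, 736, 1), 0) (by rw [e]; simp),
        (k ((-1, 1056, 1), 0) (by rw [e]; simp)).imp fun _ h => h.1⟩

end Cfsg.Agent.H1.B23
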