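import Cfsg.Agent.H1.B23S3

/-! The search for the prime `23`. -/

set_option autoImplicit false

namespace Cfsg.Agent.H1.B23

open Cfsg.Agent.H2.D1

/-- The part of a cost function outside the block. -/
def out (c : ℕ → ℕ) (d : ℕ) : ℕ := bif d % 23 == 0 then c d else 0

/-- The result for the prime `23`. -/
def P6 (M L : List Ent) : Bool :=
  cnt L 22 == 1 && ((L.all fun a => Nat.blt 253 a.2.1 || [22, 45, 231].contains a.2.1) &&
    M.all fun a => Nat.blt 253 a.2.1 || [45, 115, 230].contains a.2.1)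

/-- The conditions for the prime `23`. -/
def lf6 (M L : List Ent) : Bool :=
  rel 11 L && ((M.all fun a => a.2.1 % 23 == 0 || cnt L a.2.1 == cnt M a.2.1) &&
    (cnt L 231 != 0 && ((cnt L 896 != 0 || cnt L 1056 != 0) && (relW (13 - sm (out cW) M) L &&
    ((cnt L 22 != 0 || [896, 2688].any fun C => vsV C 4 1 (fun d v => d % 11 == 0 || al M d v)
      (fun S _ => finI 23 11 1 C false S) L) && !P6 M L)))))

theorem s6 : ∀ M ∈ S4, blk2 23 11 0 (10200960 / (23 * 1))
    (DXY.filter fun d => d % 23 != 0 && (d % 11 == 0 || cnt M d != 0)) cW (cS 11)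
    (6104383 - sm (out (· ^ 2)) M) (13 - sm (out cW) M) (18 - sm (out (cS 11)) M)
    (lf6 M) = false := by
  decide +kernel

end Cfsg.Agent.H1.B23
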