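import Cfsg.Agent.H1.B23E
import Cfsg.Agent.H1.B23S4

/-! The principal blocks for the primes eleven and `23`. -/

set_option autoImplicit false
set_option linter.unusedSectionVars false

namespace Cfsg.Agent.H1.B23

open Cfsg Cfsg.Agent.H2.D1 Cfsg.Agent.H3 Cfsg.Agent.H5 Finset Subgroup
open scoped ComplexConjugate

variable {G : Type*} [Group G] [Finite G] [NS G]

theorem exists_perm_map {α β : Type*} (f : α → β) {l : List α} {L : List β}
    (h : (l.map f).Perm L) : ∃ l' : List α, l'.Perm l ∧ l'.map f = L := by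
  have := (congrFun (congrFun (List.eq_map_comp_perm f) L) l).mpr h.symm
  obtain ⟨l', h1, h2⟩ := this
  exact ⟨l', h2, h1.symm⟩

/-- The number of characters of given degree. -/
noncomputable def nd (G : Type*) [Group G] [Finite G] (d : ℕ) : ℕ :=
  ∑ χ : IrrCharacter G, ind d (dg χ)

theorem nd_ne (χ : IrrCharacter G) : nd G (dg χ) ≠ 0 := by
  have := single_le_sum (f := fun ψ => ind (dg χ) (dg ψ)) (fun _ _ => Nat.zero_le _) (mem_univ χ)
  simp only [ind, beq_self_eq_true, cond_true] at this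
  exact fun e => by rw [nd] at e; simp only [ind] at e; omega

section
variable {p : ℕ} [Fact p.Prime] {x : G} (q : Q2 p x) {e lo : ℕ} (B : Blk p x e lo)
include q

theorem Q2.cnt_eq {l : List (IrrCharacter G)} (hl : l.Perm B.R.toList) {d : ℕ} (h1 : ¬ p ∣ d)
    (h2 : d ≠ 1) : cnt (l.map B.ent) d = nd G d := by
  rw [cnt, sm_eq B hl, nd, q.sum_all B (ind d) fun d' hd => by
    rw [ind, beq_eq_false_iff_ne.2 fun e : d' = d => h1 (e ▸ hd)]; rfl, ind, beq_eq_false_iff_ne.2 h2.symm]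
  simp

theorem Q2.cov {l : List (IrrCharacter G)} (hl : l.Perm B.R.toList) {χ : IrrCharacter G}
    (h1 : ¬ p ∣ dg χ) (h2 : dg χ ≠ 1) {t : G} (ht : orderOf t = 2) :
    ∃ θ ∈ l, (B.ent θ).2.1 = dg χ ∧ dg θ = dg χ ∧ yv t θ = yv t χ := by
  rcases B.cover' hl ((q.mem_B0 B).2 h1) with rfl | ⟨θ, k1, k2⟩
  · exact absurd dg_triv h2
  · exact ⟨θ, k1, by rw [regF_dg k2, B.dg_ent hl k1], (regF_dg k2).symm,
      (regF_yv (sq_eq_one_of_orderOf ht) q.h k2).symm⟩

omit B in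
theorem Q2.odd_eq {χ ψ : IrrCharacter G} (h1 : cO p (dg χ) ≠ 0) (h2 : cO p (dg ψ) ≠ 0) {t : G}
    (ht : orderOf t = 2) : yv t χ = yv t ψ := by
  classical
  obtain ⟨B⟩ := q.h.exists_blk
  obtain ⟨θ, -, b, ε, -, h3, -, -, -, h7, -⟩ := q.shape B q.e
  have X1 : Xf p 1 = 2 := by rcases q.pp with rfl | rfl <;> rfl
  have odd : ∀ χ : IrrCharacter G, cO p (dg χ) ≠ 0 → yv t χ = yv t θ := fun χ hχ => by
    have hB : χ ∈ B0 p G := (q.mem_B0 B).2 fun e => hχ (by
      rw [cO, Xf_eq (s := 0) q.pp (by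
        simpa using Dvd.dvd.mul_left (Int.natCast_dvd_natCast.2 e) _) (by simp)]; rfl)
    rcases B.cover χ hB with rfl | ⟨η, k1, k2⟩
    · simp [dg_triv, cO, X1] at hχ
    · rcases mem_insert.1 (h3 ▸ k1) with rfl | k3
      · exact regF_yv (sq_eq_one_of_orderOf ht) q.h k2
      · rw [regF_dg k2, dg_ent B k1, cO, (h7 η k3).2] at hχ
        omega
  rw [odd χ h1, odd ψ h2]

end

theorem budW {q : ℕ} [Fact q.Prime] {y : G} {e lo : ℕ} (B : Blk q y e lo) {w : G} (f : WF w)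
    (hr : ¬ q ∣ 5) (S : Finset (IrrCharacter G)) (hS : ∀ χ ∈ S, χ ∉ B0 q G) :
    1 + ∑ χ ∈ B.R, (B.ent χ).2.2 * (yv w χ).natAbs ^ 2 + ∑ χ ∈ S, cW (dg χ) ≤ 15 := by
  have := bud B (fun χ => (yv w χ).natAbs ^ 2) (fun χ ψ e => by simp only [f.reg hr χ ψ e]) S hS
  rw [f.sum, yv_triv] at this
  have := sum_le_sum (s := S) fun χ _ => f.cW_le χ
  simp only [Int.natAbs_one, one_pow] at *
  omega

variable (hn : Nat.card G = 10200960) {x y w t : G} (q : Q2 23 x) (r : Q2 11 y) (T : T5 w t)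
include hn q r T

theorem eleven {lo : ℕ} (B : Blk 11 y (Nat.card r.h.H) lo) : ∃ l : List _, l.Perm B.R.toList ∧
    l.map B.ent ∈ S4 ∧ ∀ χ ∈ l, al (l.map B.ent) (dg χ) (yv t χ) = true := by
  classical
  have f := q.xf
  have g := r.xf
  have h := r.h
  obtain ⟨a, a1, a2⟩ := T.a
  obtain ⟨b, b1, b2⟩ := T.b
  have ab : a ≠ b := fun e => by rw [e] at a1; omega
  have hS : ∀ χ ∈ ({a, b} : Finset _), χ ∉ B0 11 G := fun χ hχ => by
    rw [r.mem_B0 B, not_not]
    rcases mem_insert.1 hχ with rfl | e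
    · rw [a1]; norm_num
    · rw [mem_singleton.1 e, b1]; norm_num
  obtain ⟨c, c1, c2⟩ : ∃ c : IrrCharacter G, (dg c = 736 ∨ dg c = 896) ∧ yv t c = 0 := by
    rcases T.c with ⟨c, c1, c2⟩ | ⟨⟨c, c1, c2⟩, -⟩
    exacts [⟨c, Or.inr c1, c2⟩, ⟨c, Or.inl c1, c2⟩]
  obtain ⟨l, hl, hL⟩ : ∃ l : List _, l.Perm B.R.toList ∧ l.map B.ent ∈ SH := by
    by_contra hA
    have key : blk2 11 (Nat.card r.h.H) 0 (10200960 / (11 * Nat.card r.h.K))
        (DXY.filter fun d => d % 11 != 0) (cE 23) (cO 23) 6051022 36 2 lf5 = false := by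
      rw [r.e, r.K1]; exact s5_a
    have b0 := budd B (· ^ 2) _ hS
    have b1' := (budd B (cE 23) _ hS).trans f.sE
    have b2' := (bud0 B (cO 23)).trans f.sO
    have b3 := budW B T.wf (by norm_num) _ hS
    rw [sum_pair ab, a1, b1] at b0 b1' b3
    rw [sum_dg2 hn] at b0
    rw [show cE 23 1 = 4 from rfl, show cE 23 231 = 4 from rfl] at b1'
    rw [show cW 231 = 1 from rfl, show cW 2024 = 1 from rfl] at b3
    refine (Bool.eq_false_iff.1 key) (blk2_sound B h (Nat.zero_le _) (DXY_sorted.filter _)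
      (fun χ hχ => ?_) (idx_sound B h hn) (by omega) (by omega) (by omega) fun l hl => ?_)
    · rw [List.mem_filter, ← dg_ent B hχ, bne_iff_ne]
      exact ⟨mem_DXY hn f g (B.mem χ hχ).2, fun e =>
        not_dvd_of_mem B h (B.mem χ hχ).1 (Nat.dvd_of_mod_eq_zero e)⟩
    simp only [lf5, Bool.and_eq_true, Bool.or_eq_true, bne_iff_ne, Bool.not_eq_true',
      ← Bool.not_eq_true, List.any_eq_true, List.isPerm_iff]
    refine ⟨rel_sound B hl h f (by norm_num), same_sound B hl f, ?_,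
      relW_sound h B T.wf (by norm_num) hl (by omega), fun ⟨L, k1, k2⟩ => ?_⟩
    · rw [r.cnt_eq B hl (by norm_num) (by norm_num), r.cnt_eq B hl (by norm_num) (by norm_num)]
      rcases c1 with e | e
      exacts [Or.inl (e ▸ nd_ne c), Or.inr (e ▸ nd_ne c)]
    · obtain ⟨l', k3, k4⟩ := exists_perm_map _ k2
      exact hA ⟨l', k3.trans hl, k4 ▸ k1⟩
  refine ⟨l, hl, by_contra fun hP => ?_⟩
  have b4 := budV h B T.ord _ hS
  rw [sum_pair ab, a2, b2] at b4
  refine (Bool.eq_false_iff.1 (s5_b _ hL _ T.cen)) (vsV_sound h B hn T.ord hl (by norm_num)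
    (fun χ hχ => (yv_lt (B.mem χ hχ).2 T.ord).2) (fun _ _ => rfl) (by norm_num at b4; omega) ?_)
  have k := finI_sound h B hn T.ord
  simp only [r.e, r.K1] at k
  simp only [fin5, Bool.and_eq_true, Bool.or_eq_true, Bool.not_eq_true',
    ← Bool.not_eq_true, List.any_eq_true, List.all_eq_true, List.mem_reverse,
    List.forall_mem_map, beq_iff_eq, List.contains_iff_mem]
  refine ⟨k, ?_, fun ⟨k1, k2⟩ => hP ⟨k1, fun χ hχ => B.dg_ent hl hχ ▸ k2 χ hχ⟩⟩
  obtain ⟨θ, k1, k2, -, k3⟩ := r.cov B hl (χ := c) (by omega) (by omega) T.ord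
  exact ⟨_, List.mem_map_of_mem k1, by rwa [k2], k3.trans c2⟩

/-- The result for the small degrees. -/
structure T6 (t : G) : Prop where
  u : nd G 22 = 1
  small : ∀ ψ : IrrCharacter G, dg ψ ≤ 253 → dg ψ ∈ [1, 22, 45, 115, 230, 231, 253]
  v1 : ∀ ψ : IrrCharacter G, dg ψ = 230 → yv t ψ ≠ 6
  v2 : ∀ ψ : IrrCharacter G, dg ψ = 115 → yv t ψ ≠ 3

theorem t6 : T6 t := by
  classical
  have f := q.xf
  have g := r.xf
  have h := q.h
  obtain ⟨A⟩ := r.h.exists_blk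
  obtain ⟨B⟩ := h.exists_blk
  obtain ⟨m, hm, hM, hal⟩ := eleven hn q r T A
  set M := m.map A.ent with hMe
  have hal' : ∀ χ : IrrCharacter G, ¬ 11 ∣ dg χ → dg χ ≠ 1 → al M (dg χ) (yv t χ) = true :=
    fun χ h1 h2 => by
      obtain ⟨θ, k1, -, k2, k3⟩ := r.cov A hm h1 h2 T.ord
      rw [← k2, ← k3]
      exact hal θ k1
  obtain ⟨b, b1, -⟩ := T.b
  set S : Finset (IrrCharacter G) := insert b {χ ∈ B0 11 G | 23 ∣ dg χ} with hSe
  have hS : ∀ χ ∈ S, χ ∉ B0 23 G := fun χ hχ => by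
    rw [q.mem_B0 B, not_not]
    rcases mem_insert.1 hχ with rfl | e
    · rw [b1]; norm_num
    · exact (mem_filter.1 e).2
  have hs : ∀ c : ℕ → ℕ, ∑ χ ∈ S, c (dg χ) = c 2024 + sm (out c) M := fun c => by
    rw [hSe, sum_insert fun e => (r.mem_B0 A).1 (mem_filter.1 e).1 (by rw [b1]; norm_num), b1,
      sum_filter, sum_congr rfl (g := fun χ => out c (dg χ)) fun χ _ => by
        by_cases e : 23 ∣ dg χ
        · simp [out, e, Nat.mod_eq_zero_of_dvd e]
        · rw [if_neg e, out, beq_eq_false_iff_ne.2 fun e' => e (Nat.dvd_of_mod_eq_zero e')]; rfl,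
      sum_deg A, hMe, sm_eq A hm, show out c 1 = 0 from rfl, zero_add]
  by_contra hT
  have key : blk2 23 (Nat.card q.h.H) 0 (10200960 / (23 * Nat.card q.h.K))
      (DXY.filter fun d => d % 23 != 0 && (d % 11 == 0 || cnt M d != 0)) cW (cS 11)
      (6104383 - sm (out (· ^ 2)) M) (13 - sm (out cW) M) (18 - sm (out (cS 11)) M)
      (lf6 M) = false := by
    rw [q.e, q.K1]; exact s6 M hM
  have b0 := budd B (· ^ 2) _ hS
  have b2 := (budd B (cS 11) _ hS).trans g.sS.le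
  have b3 := budW B T.wf (by norm_num) _ hS
  have b4 : ∑ χ ∈ B.R, (B.ent χ).2.2 * cW (B.ent χ).2.1 ≤
      ∑ χ ∈ B.R, (B.ent χ).2.2 * (yv w χ).natAbs ^ 2 := sum_le_sum fun χ hχ =>
    Nat.mul_le_mul_left _ (dg_ent B hχ ▸ T.wf.cW_le χ)
  rw [hs (· ^ 2), sum_dg2 hn] at b0
  rw [hs, show cS 11 1 = 4 from rfl] at b2
  rw [hs, show cW 2024 = 1 from rfl] at b3
  have two : ∀ {χ : IrrCharacter G}, χ ≠ triv → dg χ ≠ 1 := fun e => by
    have := two_le_deg e (dg_eq _)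
    omega
  refine (Bool.eq_false_iff.1 key) (blk2_sound B h (Nat.zero_le _) (DXY_sorted.filter _)
    (fun χ hχ => ?_) (idx_sound B h hn) (by omega) (by omega) (by omega) fun l hl => ?_)
  · simp only [List.mem_filter, ← dg_ent B hχ, bne_iff_ne, Bool.and_eq_true, Bool.or_eq_true,
      beq_iff_eq]
    refine ⟨mem_DXY hn f g (B.mem χ hχ).2, fun e =>
      not_dvd_of_mem B h (B.mem χ hχ).1 (Nat.dvd_of_mod_eq_zero e), or_iff_not_imp_left.2
      fun e => ?_⟩
    rw [hMe, r.cnt_eq A hm (by omega) (two (B.mem χ hχ).2)]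
    exact nd_ne χ
  simp only [lf6, Bool.and_eq_true, Bool.or_eq_true, bne_iff_ne, Bool.not_eq_true',
    ← Bool.not_eq_true, List.any_eq_true, List.all_eq_true, beq_iff_eq]
  refine ⟨rel_sound B hl h g (by norm_num), fun a ha => or_iff_not_imp_left.2 fun e => ?_, ?_, ?_,
    relW_sound h B T.wf (by norm_num) hl (by omega), Or.inr ⟨_, T.cen, vsV_sound h B hn T.ord hl
      (by norm_num) (fun χ hχ => (yv_lt (B.mem χ hχ).2 T.ord).2) (fun χ hχ => ?_)
      (by simpa using budV h B T.ord ∅ (by simp)) ?_⟩, fun hP => hT ?_⟩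
  · obtain ⟨θ, k1, rfl⟩ := List.mem_map.1 ha
    have k2 := A.mem θ ((A.mem_R hm).2 k1)
    rw [← A.dg_ent hm k1] at e ⊢
    rw [q.cnt_eq B hl (by omega) (two k2.2), hMe,
      r.cnt_eq A hm (not_dvd_of_mem A r.h k2.1) (two k2.2)]
  · obtain ⟨a, a1, -⟩ := T.a
    rw [q.cnt_eq B hl (by norm_num) (by norm_num), ← a1]
    exact nd_ne a
  · rw [q.cnt_eq B hl (by norm_num) (by norm_num), q.cnt_eq B hl (by norm_num) (by norm_num)]
    rcases T.c with ⟨c, c1, -⟩ | ⟨-, c, c1⟩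
    exacts [Or.inl (c1 ▸ nd_ne c), Or.inr (c1 ▸ nd_ne c)]
  · rw [Bool.or_eq_true, beq_iff_eq]
    exact or_iff_not_imp_left.2 fun e => hal' χ (by omega) (two (B.mem χ hχ).2)
  · have k := finI_sound h B hn T.ord
    simp only [q.e, q.K1] at k
    exact k
  simp only [P6, Bool.and_eq_true, Bool.or_eq_true, List.all_eq_true, beq_iff_eq, Nat.blt_eq,
    List.contains_iff_mem, hMe, List.forall_mem_map, List.mem_cons, List.not_mem_nil,
    or_false] at hP
  obtain ⟨p1, p2, p3⟩ := hP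
  refine ⟨by rwa [q.cnt_eq B hl (by norm_num) (by norm_num)] at p1, fun ψ hψ => ?_,
    fun ψ hψ e => ?_, fun ψ hψ e => ?_⟩
  · simp only [List.mem_cons, List.not_mem_nil, or_false]
    by_cases e1 : dg ψ = 1
    · exact Or.inl e1
    by_cases e2 : 23 ∣ dg ψ
    · by_cases e3 : 11 ∣ dg ψ
      · have := dg_pos ψ
        omega
      · obtain ⟨θ, k1, k2, -⟩ := r.cov A hm e3 e1 T.ord
        have := p3 θ k1
        omega
    · obtain ⟨θ, k1, k2, -⟩ := q.cov B hl e2 e1 T.ord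
      have := p2 θ k1
      omega
  · have := hal' ψ (by omega) (by omega)
    simp [al, hψ, e] at this
  · have := hal' ψ (by omega) (by omega)
    simp [al, hψ, e] at this

end Cfsg.Agent.H1.B23
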