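import Cfsg.Agent.H7.B24Def
import Cfsg.Agent.H5.MtE
import Cfsg.Agent.H2.D1Ext

/-! The characters of degree `3840`. -/

set_option autoImplicit false
set_option linter.unusedSectionVars false

namespace Cfsg.Agent.H7.B24

open Cfsg Cfsg.Agent.H3 Cfsg.Agent.H2.D1 Cfsg.Agent.H5 Finset
open Cfsg.Agent.H9.Tri (blk mem_blk dg_mul)
open Cfsg.Agent.H9.Def
open scoped ComplexConjugate

namespace Q2

/-- Signed degrees with given `2`-part. -/
def sg (q : ℕ) : List ℤ :=
  (fun L : List ℕ => L.map (fun d : ℕ => (d : ℤ)) ++ L.map fun d : ℕ => -(d : ℤ))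
    ((1 :: (DN ++ DZ)).filter fun d => Nat.gcd d 1024 == q)

/-- Signed values. -/
def sv (f : ℕ → ℤ) (a : ℤ) : ℤ := a.sign * f a.natAbs

/-- The possible quadruples. -/
def ok (D : List ℕ) : Bool :=
  Nat.ble 4 (D.count 3840) || (Nat.ble 2 (D.count 45) ||
    (Nat.ble 2 (D.count 990) && Nat.ble 2 (D.count 4830) ||
    (Nat.ble 2 (D.count 528) && Nat.ble 2 (D.count 3312) ||
    (Nat.ble 2 (D.count 3520) && Nat.ble 2 (D.count 7360) ||
    (Nat.ble 2 (D.count 8832) && Nat.ble 2 (D.count 12672) ||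
    (D.any (· % 27 == 0) && (D.any (· % 7 == 0) && !D.contains 1)))))))

/-- The check. -/
def chk (M : List ℤ) : Bool :=
  M.all fun a => M.all fun b => M.all fun c => (fun d : ℤ =>
    244823040 % d.natAbs != 0 || (!M.contains d ||
      (sv Af a + sv Af b + sv Af c + sv Af d != -4 || (sv Cf a + sv Cf b + sv Cf c + sv Cf d != 2 ||
        ok [a.natAbs, b.natAbs, c.natAbs, d.natAbs])))) (7680 - a - b - c)

theorem chk_all : ([1, 2, 4, 8, 16, 32, 64, 128, 256, 512, 1024].all fun q => chk (sg q)) = true := by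
  decide +kernel

theorem gcd_mem (d : ℕ) : Nat.gcd d 1024 ∈ [1, 2, 4, 8, 16, 32, 64, 128, 256, 512, 1024] := by
  obtain ⟨k, h1, h2⟩ := (Nat.dvd_prime_pow Nat.prime_two).1
    (show Nat.gcd d 1024 ∣ 2 ^ 10 from Nat.gcd_dvd_right _ _)
  rw [h2]
  interval_cases k <;> simp

theorem two_part : ∀ a ∈ 1 :: (DN ++ DZ), 244823040 % a = 0 ∧
    (244823040 / a % 8 = 4 → a = 3840) ∧
    Nat.gcd a 1024 * Nat.gcd (244823040 / a) 1024 = 1024 := by decide +kernel

theorem gcd_eq {a b : ℕ} {y z : ℤ} (hy : ¬ 2 ∣ y) (hz : ¬ 2 ∣ z) (h : a * y = b * z) :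
    Nat.gcd a 1024 = Nat.gcd b 1024 := by
  have k : ∀ {y : ℤ}, ¬ 2 ∣ y → Nat.Coprime y.natAbs 1024 := fun {y} hy =>
    (Nat.Coprime.pow_right 10 ((Nat.coprime_comm.1 (Nat.prime_two.coprime_iff_not_dvd.2
      fun e => hy (Int.natCast_dvd.2 e)))) : Nat.Coprime _ (2 ^ 10))
  have := congrArg Int.natAbs h
  simp only [Int.natAbs_mul, Int.natAbs_natCast] at this
  rw [← (k hy).gcd_mul_right_cancel a, this, (k hz).gcd_mul_right_cancel]

variable {G : Type*} [Group G] [Fintype G]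

theorem dvd_of_vanish {p : ℕ} [Fact p.Prime] (P : Sylow p G) {φ : G → ℂ}
    (hφ : IsGeneralizedCharacter G φ) {d : ℕ} (hd : φ 1 = d)
    (hv : ∀ g, ¬ IsPReg p g → φ g = 0) : Nat.card P ∣ d := by
  classical
  obtain ⟨c, hc⟩ := classInner_genChar_int (genChar_res (P : Subgroup G) hφ)
    (genChar_of_char isCharacter_one)
  have h1 := card_mul_classInner (fun x : (P : Subgroup G) => φ x) 1
  rw [hc, sum_eq_single 1 (fun g _ hg => by
    rw [hv g fun e => hg (Subtype.ext ((IsPElt.of_mem P.2 g.2).eq_one e)), zero_mul]) (by simp)] at h1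
  simp only [Pi.one_apply, map_one, mul_one, OneMemClass.coe_one, hd] at h1
  exact Int.natCast_dvd_natCast.1 ⟨c, by exact_mod_cast h1.symm⟩

theorem omega_reg (p : ℕ) (χ : IrrCharacter G) :
    omega χ (regInd p G) = ((Nat.card G / dg χ : ℕ) : ℂ) * m p χ triv := by
  rw [← omega_kap]
  congr 1
  ext g
  simp [kap, triv]

theorem omega_zero {p : ℕ} (hp : p.Prime) {χ : IrrCharacter G}
    (h : ¬ Nat.card G / dg χ % p = 0) (f : G → ℂ) : omega χ (f * (1 - regInd p G)) = 0 := by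
  rw [omega, sum_eq_zero fun g _ => ?_, zero_div]
  by_cases e : IsPReg p g
  · simp [regInd_of_isPReg e]
  · rw [MT.defz hp (dg_eq χ) h (by_contra fun e' => e ((isPReg_iff_not_dvd hp).2 e')), mul_zero]

variable {x w : G}

theorem split (D : Data G x w) : regInd 2 G = delta G + regInd 2 G * (1 - regInd 3 G) +
    regInd 2 G * regInd 3 G * (1 - regInd 5 G) +
    regInd 2 G * regInd 3 G * regInd 5 G * (1 - regInd 7 G) + (1 - regInd 11 G) +
    (1 - regInd 23 G) := by
  ext g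
  have key : regInd 2 G g * regInd 3 G g * regInd 5 G g * regInd 7 G g =
      delta G g + (1 - regInd 11 G g) + (1 - regInd 23 G g) := by
    have k : ∀ {a : ℕ}, orderOf g = a → ∀ p, a.Coprime p → regInd p G g = 1 := fun h p e =>
      regInd_of_isPReg (by rwa [IsPReg, h])
    have k' : ∀ {a : ℕ}, orderOf g = a → a ≠ 1 → delta G g = 0 := fun h e =>
      if_neg fun e' => e (by rw [← h, e', orderOf_one])
    by_cases e1 : IsPReg 11 g
    swap
    · have := D.o11 g e1
      rw [k this 2 (by norm_num), k this 3 (by norm_num), k this 5 (by norm_num),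
        k this 7 (by norm_num), k this 23 (by norm_num), k' this (by norm_num), regInd_of_not e1]
      ring
    by_cases e2 : IsPReg 23 g
    swap
    · have := D.o23 g e2
      rw [k this 2 (by norm_num), k this 3 (by norm_num), k this 5 (by norm_num),
        k this 7 (by norm_num), k this 11 (by norm_num), k' this (by norm_num), regInd_of_not e2]
      ring
    rw [regInd_of_isPReg e1, regInd_of_isPReg e2]
    by_cases e : g = 1
    · subst e
      simp [regInd_of_isPReg (IsPReg.one _), delta]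
    rw [k' rfl (by simpa using e)]
    by_contra e3
    have k3 : ∀ p, regInd p G g ≠ 0 → IsPReg p g := fun p h => by_contra fun h' => h (regInd_of_not h')
    simp only [sub_self, add_zero, mul_eq_zero, not_or] at e3
    have h1 : (orderOf g).Coprime (2 ^ 10 * 3 ^ 3 * 5 * 7 * 11 * 23) :=
      ((((((k3 2 e3.1.1.1).pow_right _).mul_right ((k3 3 e3.1.1.2).pow_right _)).mul_right
        (k3 5 e3.1.2)).mul_right (k3 7 e3.2)).mul_right e1).mul_right e2
    exact e (orderOf_eq_one_iff.1 (h1.eq_one_of_dvd (by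
      have := orderOf_dvd_natCard g
      rwa [D.card] at this)))
  simp only [Pi.add_apply, Pi.mul_apply, Pi.sub_apply, Pi.one_apply]
  linear_combination key

theorem bad (D : Data G x w) {χ a b : IrrCharacter G} (h : dg χ = 3840) (h0 : m 2 χ triv = 0)
    (ha : m 2 χ a ≠ 0) (hb : m 2 χ b ≠ 0) (h3 : dg a % 27 = 0) (h7 : dg b % 7 = 0) : False := by
  have : Fact (Nat.Prime 11) := ⟨by norm_num⟩
  have : Fact (Nat.Prime 23) := ⟨by norm_num⟩
  obtain ⟨V, hv⟩ := exists_valuationSubring_prime Nat.prime_two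
  have hN : Nat.card G / dg χ = 63756 := by rw [D.card, h]
  have k : ∀ {ψ : IrrCharacter G} {p q : ℕ}, dg ψ % q = 0 → ¬ q * p ∣ 244823040 →
      ¬ Nat.card G / dg ψ % p = 0 := fun {ψ p q} h1 h2 h3 => h2 (by
    rw [← D.card, ← dg_mul ψ]
    exact mul_dvd_mul (Nat.dvd_of_mod_eq_zero h1) (Nat.dvd_of_mod_eq_zero h3))
  have r := fun p => regInd_isClassFunction (G := G) p
  have s : ∀ p, IsClassFunction G (1 - regInd p G) := fun p g c => by
    simp only [Pi.sub_apply, Pi.one_apply, r p g c]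
  have ri : ∀ p g, IsIntegral ℤ ((1 - regInd p G) g) := fun p g => isIntegral_one.sub (r_int g)
  have h1 := mem_blk.1 (mem_blk_of_m hv ha) _ (isClassFunction_mul (r 2) (s 3)) fun g =>
    val_le_of_isIntegral ((r_int g).mul (ri 3 g))
  have h2 := mem_blk.1 (mem_blk_of_m hv hb) _ (isClassFunction_mul (isClassFunction_mul
    (isClassFunction_mul (r 2) (r 3)) (r 5)) (s 7)) fun g =>
      val_le_of_isIntegral ((((r_int g).mul (r_int g)).mul (r_int g)).mul (ri 7 g))
  rw [omega_zero Nat.prime_three (k h3 (by norm_num))] at h1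
  rw [omega_zero (by norm_num) (k h7 (by norm_num))] at h2
  have h4 := congrArg (omega (χ : G → ℂ)) (split D)
  have t0 : χ ≠ triv := fun e => by rw [e, dg_triv] at h; omega
  have h5 : omega (χ : G → ℂ) 1 = 0 := by
    have := card_mul_classInner (χ : G → ℂ) (triv : IrrCharacter G)
    rw [classInner_irr_ne χ.2 (triv : IrrCharacter G).2 fun e => t0 (Subtype.ext e)] at this
    rw [omega, div_eq_zero_iff]
    exact Or.inl (by simpa [triv] using this.symm)
  obtain ⟨n1, e1⟩ := pow_m (p := 11) (k := 1) (χ := χ) (by rw [hN]; norm_num) triv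
  obtain ⟨n2, e2⟩ := pow_m (p := 23) (k := 1) (χ := χ) (by rw [hN]; norm_num) triv
  simp only [omega_add, omega_sub, h5, omega_delta χ.2] at h4
  rw [omega_zero (p := 5) (by norm_num) (by rw [hN]; norm_num)] at h4
  simp only [omega_reg, hN, h0] at h4
  have h6 := dvd_of_val_lt hv (z := 1 - 5796 * n1 - 2772 * n2) (by
    convert V.valuation.map_add_lt h1 h2 using 2
    push_cast at h4 e1 e2 ⊢
    linear_combination -h4 + 5796 * e1 + 2772 * e2)
  omega

theorem count_le {l : List (IrrCharacter G)} (hl : l.Nodup) (k : ℕ) :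
    (l.map dg).count k ≤ cnt G k := by
  classical
  rw [List.count, List.countP_map, List.countP_eq_length_filter,
    ← List.toFinset_card_of_nodup (hl.filter _)]
  exact card_le_card fun ψ hψ => by simp_all

end Q2

open Q2

variable {G : Type*} [Group G] [Fintype G] {x w : G}

set_option maxHeartbeats 1600000 in
theorem q2 (D : Data G x w) {χ : IrrCharacter G} (h : dg χ = 3840) :
    4 ≤ cnt G 3840 ∨ 2 ≤ cnt G 45 ∨ (2 ≤ cnt G 990 ∧ 2 ≤ cnt G 4830) ∨
      (2 ≤ cnt G 528 ∧ 2 ≤ cnt G 3312) ∨ (2 ≤ cnt G 3520 ∧ 2 ≤ cnt G 7360) ∨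
      (2 ≤ cnt G 8832 ∧ 2 ≤ cnt G 12672) := by
  classical
  have hN : Nat.card G / dg χ = 63756 := by rw [D.card, h]
  obtain ⟨n, z, h1, h2, h3, h4, h5, -, h6, -, h7, h8⟩ :=
    defect (p := 2) (k := 2) χ (by rw [hN]; norm_num)
  have h9 := h6 (by rw [hN]; norm_num)
  have hz := h7 χ
  rw [hN] at hz
  have hL : ∀ ψ : IrrCharacter G, dg ψ ∈ 1 :: (DN ++ DZ) := fun ψ => by
    by_cases e : ψ = triv
    · simp [e, dg_triv]
    · exact List.mem_cons_of_mem _ (List.mem_append.2 (D.deg ψ e))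
  set P := (univ.erase χ).filter fun ψ => n ψ ≠ 0 with hP
  have hs : ∀ {M : Type} [AddCommMonoid M] (F : IrrCharacter G → M), (∀ ψ, n ψ = 0 → F ψ = 0) →
      ∑ ψ, F ψ = F χ + ∑ ψ ∈ P, F ψ := fun F hF => by
    rw [← add_sum_erase _ _ (mem_univ χ), hP,
      sum_filter_of_ne (p := fun ψ => n ψ ≠ 0) fun ψ _ e e' => e (hF ψ e')]
  have hm : ∀ ψ ∈ P, ψ ≠ χ ∧ n ψ ≠ 0 := fun ψ hψ => by simpa [hP] using hψ
  rw [hs _ fun ψ e => by simp [e]] at h4
  have hle : ∀ ψ ∈ P, n ψ ^ 2 ≤ ∑ ψ ∈ P, n ψ ^ 2 := fun ψ hψ =>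
    single_le_sum (f := fun ψ => n ψ ^ 2) (fun _ _ => sq_nonneg _) hψ
  have hc : (∀ ψ ∈ P, n ψ = 1 ∨ n ψ = -1) → ∑ ψ ∈ P, n ψ ^ 2 = #P := fun e => by
    rw [sum_congr rfl (g := fun _ => 1) fun ψ hψ => by rcases e ψ hψ with e | e <;> simp [e]]
    simp
  have hb : ∀ {a : ℤ}, a ≠ 0 → a ^ 2 ≤ 4 → a = 1 ∨ a = -1 ∨ a ^ 2 = 4 := fun {a} a0 a1 => by
    have : -3 < a := by nlinarith
    have : a < 3 := by nlinarith
    interval_cases a <;> simp_all
  norm_num at h4 h9 hz
  by_cases e : n χ = 2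
  swap
  · left
    have e1 : ∑ ψ ∈ P, n ψ ^ 2 = 3 := by
      have : n χ = 1 ∨ n χ = 3 := by omega
      rcases this with e | e <;> rw [e] at h4 <;> omega
    have e2 : ∀ ψ ∈ P, n ψ = 1 ∨ n ψ = -1 := fun ψ hψ => by
      have := hle ψ hψ
      have := hb (hm ψ hψ).2 (by omega)
      omega
    have e3 : #(insert χ P) = 4 := by
      rw [card_insert_of_notMem fun e => (hm χ e).1 rfl]
      have := hc e2
      omega
    refine e3 ▸ card_le_card fun ψ hψ => mem_filter.2 ⟨mem_univ _, ?_⟩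
    rcases mem_insert.1 hψ with rfl | hψ
    · exact h
    refine (two_part _ (hL ψ)).2.1 ?_
    have a1 := h7 ψ
    have a2 := h8 ψ (hm ψ hψ).2
    rw [D.card] at a1
    rcases e2 ψ hψ with e | e <;> rw [e] at a1 <;> omega
  rw [e] at h4 hz
  have hr : ∀ g, IsPReg 2 g → 2 * (χ : G → ℂ) g = ∑ ψ ∈ P, n ψ * (ψ : G → ℂ) g := fun g hg => by
    have := h2 g hg
    rw [hs _ fun ψ e => by simp [e], e] at this
    push_cast at this
    linear_combination this
  have hd : ∑ ψ ∈ P, n ψ * dg ψ = 7680 := by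
    have := hr 1 (IsPReg.one 2)
    simp only [dg_eq, h] at this
    exact_mod_cast this.symm
  have e2 : ∀ ψ ∈ P, n ψ = 1 ∨ n ψ = -1 := fun ψ hψ => by
    by_contra e1
    have e2 : n ψ ^ 2 = 4 := by
      have := hle ψ hψ
      have := hb (hm ψ hψ).2 (by omega)
      omega
    have e3 : P = {ψ} := eq_singleton_iff_unique_mem.2 ⟨hψ, fun θ hθ => by_contra fun e' => by
      have := sum_le_sum_of_subset_of_nonneg (f := fun ψ => n ψ ^ 2) (s := {θ, ψ}) (t := P)
        (by simp [insert_subset_iff, hψ, hθ]) fun _ _ _ => sq_nonneg _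
      rw [sum_pair e'] at this
      have := sq_pos_of_ne_zero (hm θ hθ).2
      omega⟩
    rw [e3, sum_singleton] at hd
    have e4 : n ψ = 2 := by
      have : (n ψ - 2) * (n ψ + 2) = 0 := by linear_combination e2
      rcases mul_eq_zero.1 this with e | e
      · omega
      · rw [show n ψ = -2 by omega] at hd; omega
    obtain ⟨S⟩ : Nonempty (Sylow 2 G) := inferInstance
    have e5 := dvd_of_vanish S (genChar_add (genChar_of_irr χ.2) (genChar_of_irr ψ.2)) (d := 7680)
      (by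
        rw [e4] at hd
        simp only [Pi.add_apply, dg_eq, h, show dg ψ = 3840 by omega]; norm_num) fun g hg => by
      have := h3 g hg
      rw [hs _ fun ψ e => by simp [e], e, e3, sum_singleton, e4] at this
      simp only [Pi.add_apply]
      push_cast at this
      linear_combination this / 2
    have e6 : 2 ^ 10 ∣ Nat.card S := S.pow_dvd_card_of_pow_dvd_card (by rw [D.card]; norm_num)
    have := e6.trans e5
    omega
  have hA : ∑ ψ ∈ P, n ψ * Af (dg ψ) = -4 := by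
    have a1 := hr x (by rw [IsPReg, D.ox]; norm_num)
    have a2 := hr x⁻¹ (by rw [IsPReg, orderOf_inv, D.ox]; norm_num)
    have a3 := D.vA χ
    have : ∑ ψ ∈ P, (n ψ : ℂ) * Af (dg ψ) = -4 := by
      simp only [← D.vA, mul_add, sum_add_distrib, ← a1, ← a2]
      rw [h, show Af 3840 = -2 from rfl] at a3
      push_cast at a3
      linear_combination 2 * a3
    exact_mod_cast this
  have hC : ∑ ψ ∈ P, n ψ * Cf (dg ψ) = 2 := by
    have a1 := hr w (by rw [IsPReg, D.ow]; norm_num)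
    simp only [D.vC, h, show Cf 3840 = 1 from rfl] at a1
    exact_mod_cast a1.symm
  have n0 : ∀ ψ, n ψ ≠ 0 ↔ m 2 χ ψ ≠ 0 := fun ψ => by
    rw [← Int.cast_ne_zero (α := ℂ), ← h1, mul_ne_zero_iff, and_iff_right (by norm_num)]
  obtain ⟨V, hv⟩ := exists_valuationSubring_prime Nat.prime_two
  choose y hy using omega_int (G := G) (p := 2)
  have hodd : ∀ θ ∈ P, ∀ ψ ∈ P, ¬ 2 ∣ y ψ θ := fun θ hθ ψ hψ => by
    have a1 := congr_blk (p := 2) (mem_blk_of_m hv ((n0 θ).1 (hm θ hθ).2)) ψ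
    rw [hy, hy, ← Int.cast_sub] at a1
    have a2 := dvd_of_val_lt hv a1
    have a3 : y ψ χ = 15939 * n ψ := by
      have a4 := hy ψ χ
      have a5 := h1 ψ
      rw [hN] at a4
      refine Int.cast_injective (α := ℂ) ?_
      push_cast at a4 a5 ⊢
      linear_combination 15939 * a5 - a4
    rcases e2 ψ hψ with e | e <;> omega
  have hq : ∀ θ ∈ P, ∀ ψ ∈ P, Nat.gcd (dg θ) 1024 = Nat.gcd (dg ψ) 1024 := fun θ hθ ψ hψ => by
    have a1 := gcd_eq (a := Nat.card G / dg θ) (b := Nat.card G / dg ψ) (hodd ψ hψ θ hθ)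
      (hodd θ hθ ψ hψ) (by
        refine Int.cast_injective (α := ℂ) ?_
        rw [Int.cast_mul, Int.cast_mul, ← hy, ← hy, m_comm θ ψ, Int.cast_natCast, Int.cast_natCast]
        ring)
    have a2 := (two_part _ (hL θ)).2.2
    have a3 := (two_part _ (hL ψ)).2.2
    rw [D.card] at a1
    rw [a1] at a2
    exact Nat.eq_of_mul_eq_mul_right (Nat.gcd_pos_of_pos_right _ (by norm_num)) (a2.trans a3.symm)
  obtain ⟨a, b, c, d, hl⟩ := List.length_eq_four.1 (show P.toList.length = 4 by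
    have := hc e2
    rw [length_toList]; omega)
  have hmem : ∀ ψ, ψ ∈ [a, b, c, d] → ψ ∈ P := fun ψ hψ => mem_toList.1 (hl ▸ hψ)
  have ha := hmem a (by simp)
  have k1 : ∀ ψ ∈ P, (n ψ * dg ψ).natAbs = dg ψ ∧ n ψ * dg ψ ∈ sg (Nat.gcd (dg a) 1024) ∧
      ∀ f, sv f (n ψ * dg ψ) = n ψ * f (dg ψ) := fun ψ hψ => by
    have a1 : dg ψ ∈ (1 :: (DN ++ DZ)).filter fun d => Nat.gcd d 1024 == Nat.gcd (dg a) 1024 :=
      List.mem_filter.2 ⟨hL ψ, beq_iff_eq.2 (hq ψ hψ a ha)⟩
    have a2 : (dg ψ : ℤ).sign = 1 := Int.sign_eq_one_of_pos (Int.natCast_pos.2 (dg_pos ψ))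
    rcases e2 ψ hψ with e | e <;> rw [e]
    · exact ⟨by simp, List.mem_append_left _ (List.mem_map.2 ⟨_, a1, by simp⟩), fun f => by
        simp [sv, a2]⟩
    · exact ⟨by simp, List.mem_append_right _ (List.mem_map.2 ⟨_, a1, by simp⟩), fun f => by
        simp [sv, a2]⟩
  rw [← sum_map_toList, hl] at hd hA hC
  simp only [List.map_cons, List.sum_cons, List.map_nil, List.sum_nil, add_zero] at hd hA hC
  have kb := k1 b (hmem b (by simp))
  have kc := k1 c (hmem c (by simp))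
  have kd := k1 d (hmem d (by simp))
  have k2 := List.all_eq_true.1 (List.all_eq_true.1 (List.all_eq_true.1 (List.all_eq_true.1 chk_all
    _ (gcd_mem (dg a))) _ (k1 a ha).2.1) _ kb.2.1) _ kc.2.1
  rw [show 7680 - n a * dg a - n b * dg b - n c * dg c = n d * dg d by linarith] at k2
  simp only [(k1 a ha).1, kb.1, kc.1, kd.1, (k1 a ha).2.2, kb.2.2, kc.2.2, kd.2.2, add_assoc, hA, hC,
    (two_part _ (hL d)).1, List.contains_iff_mem.2 kd.2.1, bne_self_eq_false, Bool.not_true,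
    Bool.false_or, ok, Bool.or_eq_true, Bool.and_eq_true, Nat.ble_eq] at k2
  have k3 : ∀ k, [dg a, dg b, dg c, dg d].count k ≤ cnt G k :=
    count_le (l := [a, b, c, d]) (hl ▸ nodup_toList P)
  rcases k2 with k | k | k | k | k | k | ⟨k4, k5, k6⟩
  · exact .inl (k.trans (k3 _))
  · exact .inr (.inl (k.trans (k3 _)))
  · exact .inr (.inr (.inl ⟨k.1.trans (k3 _), k.2.trans (k3 _)⟩))
  · exact .inr (.inr (.inr (.inl ⟨k.1.trans (k3 _), k.2.trans (k3 _)⟩)))
  · exact .inr (.inr (.inr (.inr (.inl ⟨k.1.trans (k3 _), k.2.trans (k3 _)⟩))))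
  · exact .inr (.inr (.inr (.inr (.inr ⟨k.1.trans (k3 _), k.2.trans (k3 _)⟩))))
  change ([a, b, c, d].map dg).any _ = true at k4 k5
  simp only [List.any_map, List.any_eq_true, Function.comp, beq_iff_eq] at k4 k5
  obtain ⟨θ, l1, l2⟩ := k4
  obtain ⟨ψ, l3, l4⟩ := k5
  refine (bad D h (by_contra fun e' => ?_) ((n0 θ).1 (hm θ (hmem θ l1)).2)
    ((n0 ψ).1 (hm ψ (hmem ψ l3)).2) l2 l4).elim
  have l5 : triv ∈ P := by
    simp only [hP, mem_filter, mem_erase, mem_univ, and_true]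
    exact ⟨fun e => by rw [← e, dg_triv] at h; omega, (n0 _).2 e'⟩
  rw [← mem_toList, hl] at l5
  have := List.mem_map_of_mem (f := dg) l5
  rw [dg_triv] at this
  rw [List.contains_iff_mem.2 (show 1 ∈ [dg a, dg b, dg c, dg d] from this)] at k6
  simp at k6

end Cfsg.Agent.H7.B24
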