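import Cfsg.Agent.L0.C12CS
import Cfsg.Agent.L0.C12TI
import Cfsg.Agent.H4.C12P3

/-!
# The local configuration at an involution of `V` and the lemma on involutions with two conjugates
-/

set_option autoImplicit false

namespace Cfsg.Agent.L0.C12

open Subgroup Cfsg.Agent.L0.SC3 Cfsg.Agent.H9
open Cfsg.Agent.H1.T3 hiding mem_cent
open scoped Pointwise

universe u

theorem cent_conj {G : Type*} [Group G] (g u : G) :
    centralizer ({g * u * g⁻¹} : Set G) = MulAut.conj g • centralizer ({u} : Set G) := by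
  ext a
  rw [mem_conj_smul_iff, mem_cent, mem_cent]
  constructor
  · intro h
    change g⁻¹ * a * g * u = u * (g⁻¹ * a * g)
    calc _ = g⁻¹ * (a * (g * u * g⁻¹)) * g := by group
      _ = _ := by rw [h.eq]; group
  · intro h
    change a * (g * u * g⁻¹) = g * u * g⁻¹ * a
    calc _ = g * (g⁻¹ * a * g * u) * g⁻¹ := by group
      _ = _ := by rw [h.eq]; group

theorem Commute.cj {G : Type*} [Group G] {a b : G} (h : Commute a b) (g : G) :
    Commute (g * a * g⁻¹) (g * b * g⁻¹) := h.conj g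

theorem card_half {G : Type*} [Group G] [Finite G] {A D : Subgroup G}
    (h2 : ∀ a ∈ A, ∀ b ∈ A, a ∉ D → b ∉ D → a * b ∈ D) :
    Nat.card A ≤ 2 * Nat.card (A ⊓ D : Subgroup G) :=
  card_le_two_mul inf_le_left fun a ha b hb h h' =>
    ⟨mul_mem ha hb, h2 a ha b hb (fun e => h ⟨ha, e⟩) fun e => h' ⟨hb, e⟩⟩

theorem half_cent {G : Type*} [Group G] {A : Subgroup G} {w y : G}
    (h : ∀ k ∈ A, k * w * k⁻¹ = w ∨ k * w * k⁻¹ = w * y) :
    ∀ a ∈ A, ∀ b ∈ A, a ∉ centralizer ({w} : Set G) → b ∉ centralizer ({w} : Set G) →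
      a * b ∈ centralizer ({w} : Set G) := fun a ha b hb h1 h2 => by
  rw [mem_cent] at h1 h2 ⊢
  have k : ∀ c ∈ A, ¬ Commute c w → c * w * c⁻¹ = w * y := fun c hc hn =>
    (h c hc).resolve_left fun e => hn (mul_inv_eq_iff_eq_mul.mp e)
  have e1 := k _ (inv_mem ha) fun e => h1 (by simpa using e.inv_left)
  have e2 := k b hb h2
  change a * b * w = w * (a * b)
  calc _ = a * (b * w * b⁻¹) * b := by group
    _ = _ := by rw [e2, ← e1]; group

/-- The local configuration at `u ∈ V`. -/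
structure Lc {G : Type u} [Group G] (x s u : G) (V T : Subgroup G) : Prop extends Ctx x s V where
  card : Nat.card V = 4
  mem : u ∈ V
  ne : u ≠ 1
  ti : TI x (centralizer {u}) T
  two : IsPGroup 2 T
  norm : normalizer (T : Set G) = centralizer {u}
  big : 16 * Nat.card (T ⊓ centralizer (V : Set G) : Subgroup G) ≤ Nat.card T

variable {G : Type u} [Group G] {x s u : G} {V T : Subgroup G}

theorem CS'.lc {T : G → Subgroup G} (c : CS' x s V T) {v : G} (hv : v ∈ V) (h1 : v ≠ 1) : Lc x s v V (T v) :=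
  ⟨c.toCtx, c.card, hv, h1, c.ti v hv h1, c.two v hv h1, c.norm v hv h1, c.big v hv h1⟩

namespace Lc

variable (c : Lc x s u V T)
include c

theorem conj (g : G) :
    Lc (g * x * g⁻¹) (g * s * g⁻¹) (g * u * g⁻¹) (MulAut.conj g • V) (MulAut.conj g • T) := by
  refine ⟨c.toCtx.conj g, by rw [card_conj_smul, c.card], conj_mem_conj_smul c.mem g, by simpa using c.ne,
    by rw [cent_conj]; exact c.ti.conj g, c.two.map _, ?_, ?_⟩
  · rw [cent_conj, ← c.norm]
    exact (map_normalizer_eq_of_bijective T (f := (MulAut.conj g).toMonoidHom) (MulAut.conj g).bijective).symm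
  · have : (MulAut.conj g • T ⊓ centralizer ((MulAut.conj g • V : Subgroup G) : Set G) : Subgroup G) =
        MulAut.conj g • (T ⊓ centralizer (V : Set G)) := by
      ext a
      simp only [mem_inf, mem_conj_smul_iff, mem_centralizer_iff, SetLike.mem_coe]
      refine and_congr_right fun _ => ⟨fun h v hv => ?_, fun h v hv => ?_⟩
      · have := h (g * v * g⁻¹) (by simpa [mul_assoc] using hv)
        calc _ = g⁻¹ * (g * v * g⁻¹ * a) * g := by group
          _ = _ := by rw [this]; group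
      · have := h _ hv
        calc _ = g * (g⁻¹ * v * g * (g⁻¹ * a * g)) * g⁻¹ := by group
          _ = _ := by rw [this]; group
    rw [this, card_conj_smul, card_conj_smul]; exact c.big

theorem x3 : x ^ 3 = 1 := c.t3.cube

theorem xT {t : G} (ht : t ∈ T) : x * t * x⁻¹ ∈ T := c.ti.normal x c.ti.mem t ht

theorem xT' {t : G} (ht : t ∈ T) : x⁻¹ * t * x ∈ T := c.ti.normal' c.ti.mem ht

theorem xx (a : G) : x * (x * a * x⁻¹) * x⁻¹ = x⁻¹ * a * x := by
  calc _ = (x * x) * a * (x * x)⁻¹ := by group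
    _ = _ := by rw [mul_self_of_cube c.x3, inv_inv]

variable [Finite G]

theorem VT : V ≤ T := c.toCtx.le_TI c.ti (c.toCtx.le_cent c.mem)

theorem sT {t : G} (ht : t ∈ T) : s * t * s⁻¹ ∈ T := c.ti.normal s (c.toCtx.s_mem c.mem) t ht

theorem memS {g : G} : g ∈ T ⊔ zpowers s ↔ g ∈ T ∨ g * s ∈ T := mem_sup_invol c.ss fun _ => c.sT

theorem SH : T ⊔ zpowers s ≤ centralizer {u} := sup_le c.ti.le (zpowers_le.mpr (c.toCtx.s_mem c.mem))

theorem twoS : IsPGroup 2 (T ⊔ zpowers s : Subgroup G) := isPGroup_sup_invol c.ss (fun _ => c.sT) c.two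

theorem cardS : Nat.card (T ⊔ zpowers s : Subgroup G) = 2 * Nat.card T :=
  c.ti.card_S c.t3 (c.toCtx.s_mem c.mem) c.sx c.ss

theorem cardH : Nat.card (centralizer ({u} : Set G)) = 6 * Nat.card T :=
  c.ti.card c.t3 (c.toCtx.s_mem c.mem) c.sx

theorem sylS : IsSylowIn 2 (T ⊔ zpowers s) (centralizer {u}) :=
  c.ti.sylow c.t3 (c.toCtx.s_mem c.mem) c.sx c.ss c.two

theorem uS {k : G} (hk : k ∈ T ⊔ zpowers s) : Commute k u := mem_cent.mp (c.SH hk)

theorem cent_V {v g : G} (hv : v ∈ V) (h1 : v ≠ 1) (h2 : v ≠ u) (hg : g ∈ T) (h : Commute g v) :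
    g ∈ T ⊓ centralizer (V : Set G) := ⟨hg, fun w hw => by
  have hu : Commute g u := c.uS (mem_sup_left hg)
  rcases mem_four c.card c.mem hv (c.toCtx.sq c.mem) c.ne h1 h2.symm hw with rfl | rfl | rfl | rfl
  exacts [by simp, hu.eq.symm, h.eq.symm, (hu.mul_right h).eq.symm]⟩

theorem zV {v : G} (hv : v ∈ V) (h : ∀ t ∈ T, Commute t v) : v = 1 ∨ v = u := by
  by_contra hc
  push Not at hc
  have := card_le_of_le (show T ≤ T ⊓ centralizer (V : Set G) from fun t ht => c.cent_V hv hc.1 hc.2 ht (h t ht))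
  have h1 := c.big
  have h2 : 0 < Nat.card T := Nat.card_pos
  omega

theorem c64 : 64 ≤ Nat.card T := by
  have := card_le_of_le (show V ≤ T ⊓ centralizer (V : Set G) from fun v hv =>
    ⟨c.VT hv, fun w hw => (c.toCtx.comm hw hv).eq⟩)
  have h1 := c.big
  rw [c.card] at this
  omega

theorem sqrt4 {τ : G} (hτ : τ ∈ T ⊔ zpowers s) (h1 : τ ∉ T) {A : Subgroup G} (hA : A ≤ T)
    (h : ∀ a ∈ A, Commute a τ) : Nat.card A ^ 2 ≤ 4 * Nat.card T := by
  have out := c.ti.outer_of_notMem c.t3 (cube_of_two c.twoS) hτ (c.SH hτ) h1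
  have := card_mul_le hA (A' := MulAut.conj x • A) fun a ha => by
    simpa [mul_assoc] using c.xT (hA (mem_conj_smul_iff.mp ha))
  rw [card_conj_smul, ← sq] at this
  refine this.trans (Nat.mul_le_mul_right _ ?_)
  obtain ⟨m, w, hw, e⟩ := pow_conj (g := τ * (x * τ * x⁻¹)⁻¹) c.ti.inv c.x3 (by
    convert out using 1
    simp only [mul_inv_rev, inv_inv, mul_assoc, inv_mul_inv_of_cube c.x3])
  rw [← c.card, ← card_conj_smul V w]
  refine card_le_of_le fun a ⟨h2, h3⟩ => (c.toCtx.conj w).mem_of_commute c.ti.cube (hA h2) ?_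
  rw [← e]
  refine ((h a h2).mul_right (Commute.inv_right ?_)).symm.pow_left m
  simpa [mul_assoc] using Commute.cj (h _ (mem_conj_smul_iff.mp h3)) x

theorem inner {w : G} (hw : w ∈ T ⊔ zpowers s)
    (h : Nat.card T ≤ 2 * Nat.card (T ⊓ centralizer ({w} : Set G) : Subgroup G)) : w ∈ T := by
  by_contra hc
  have h1 := c.sqrt4 hw hc (A := T ⊓ centralizer {w}) inf_le_left fun a ha => mem_cent.mp ha.2
  have := c.c64
  nlinarith

theorem Zle {z : G} (hz : z ∈ T ⊔ zpowers s) (h : ∀ k ∈ T, Commute k z) : z ∈ T :=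
  c.inner hz (by
    rw [inf_eq_left.mpr fun k hk => mem_cent.mpr (h k hk)]; omega)

theorem cx {w : G} {k : G} (h : Commute (x⁻¹ * k * x) w) : Commute k (x * w * x⁻¹) := by
  simpa [mul_assoc] using Commute.cj h x

theorem cx' {w : G} {k : G} (h : Commute (x * k * x⁻¹) w) : Commute k (x⁻¹ * w * x) := by
  simpa [mul_assoc] using Commute.cj h x⁻¹

theorem normV {w : G} (hw : w ∈ T) (h1 : Commute w (x * w * x⁻¹)) :
    w * (x * w * x⁻¹) * (x⁻¹ * w * x) ∈ V := by
  refine c.toCtx.mem_of_commute c.ti.cube (mul_mem (mul_mem hw (c.xT hw)) (c.xT' hw)) ?_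
  have h2 : Commute (x⁻¹ * w * x) w := by simpa [mul_assoc] using Commute.cj h1 x⁻¹
  have h3 : Commute (x * w * x⁻¹) (x⁻¹ * w * x) := by rw [← c.xx]; exact Commute.cj h1 x
  have : x * (w * (x * w * x⁻¹) * (x⁻¹ * w * x)) * x⁻¹ = w * (x * w * x⁻¹) * (x⁻¹ * w * x) := by
    calc _ = x * w * x⁻¹ * (x * (x * w * x⁻¹) * x⁻¹) * w := by group
      _ = _ := by rw [c.xx, mul_assoc, h2.eq, ← mul_assoc, ← h1.eq]
  exact mul_inv_eq_iff_eq_mul.mp this

theorem pi {y : G} (hy : y ∈ T) (h : ∀ t ∈ T, Commute t y) :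
    y * (x * y * x⁻¹) * (x⁻¹ * y * x) = 1 ∨ y * (x * y * x⁻¹) * (x⁻¹ * y * x) = u :=
  c.zV (c.normV hy (h _ (c.xT hy)).symm) fun t ht =>
    ((h t ht).mul_right (c.cx (h _ (c.xT' ht)))).mul_right (c.cx' (h _ (c.xT ht)))

theorem DI {w y : G} (hw : w ∈ T ⊔ zpowers s) (h2 : w * w = 1)
    (h : ∀ k ∈ T ⊔ zpowers s, k * w * k⁻¹ = w ∨ k * w * k⁻¹ = w * y) (hk : ∃ k ∈ T, ¬ Commute k w)
    (hy : y ≠ u) : y * (x * y * x⁻¹) * (x⁻¹ * y * x) = 1 ∧
      ∀ d ∈ T, Commute d w → Commute (x * d * x⁻¹) w := by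
  have hT : ∀ k ∈ T, k * w * k⁻¹ = w ∨ k * w * k⁻¹ = w * y := fun k hk => h k (mem_sup_left hk)
  have wT : w ∈ T := c.inner hw (card_half (half_cent hT))
  have nc : ∀ k ∈ T, ¬ Commute k w → k * w * k⁻¹ = w * y := fun k hk hn =>
    (hT k hk).resolve_left fun e => hn (mul_inv_eq_iff_eq_mul.mp e)
  obtain ⟨k0, hk0, n0⟩ := hk
  have e0 := nc k0 hk0 n0
  have y1 : y ≠ 1 := fun e => n0 (mul_inv_eq_iff_eq_mul.mp (by rw [e0, e, mul_one]))
  have yT : y ∈ T := (mul_mem_cancel_left wT).mp (e0 ▸ mul_mem (mul_mem hk0 wT) (inv_mem hk0))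
  have wi : w⁻¹ = w := inv_eq_of_mul_eq_one_right h2
  have key : ∀ k ∈ T, k * y * k⁻¹ = y ∨ k * y * k⁻¹ = y⁻¹ := fun k hk => by
    have e1 : k * y * k⁻¹ = (k * w * k⁻¹)⁻¹ * (k * k0 * w * (k * k0)⁻¹) := by
      calc _ = (k * w * k⁻¹)⁻¹ * (k * (w * y) * k⁻¹) := by group
        _ = _ := by rw [← e0]; group
    rw [e1]
    have e2 : k * y * k⁻¹ ≠ 1 := by simpa using y1
    rw [e1] at e2
    rcases hT k hk with a | a <;> rcases hT _ (mul_mem hk hk0) with b | b <;> rw [a, b] at e2 ⊢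
    · simp at e2
    · exact .inl (by group)
    · exact .inr (by group)
    · simp at e2
  have y2 : y⁻¹ = y := by
    have e1 : w * y * (w * y) = 1 := by
      rw [← e0]
      calc _ = k0 * (w * w) * k0⁻¹ := by group
        _ = 1 := by rw [h2]; group
    have e2 : w * y * w⁻¹ = y⁻¹ := by rw [wi, eq_inv_iff_mul_eq_one, mul_assoc, e1]
    have e3 : w * k0 * w * (w * k0)⁻¹ = w * (w * y) * w⁻¹ := by rw [← e0]; group
    rcases hT _ (mul_mem wT hk0) with b | b
    · rw [e3, mul_assoc, e2, mul_eq_left, inv_eq_one] at b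
      exact absurd b y1
    · rw [e3, mul_assoc, mul_right_inj, e2] at b
      exact b
  have yc : ∀ k ∈ T, Commute k y := fun k hk => mul_inv_eq_iff_eq_mul.mp ((key k hk).elim id (·.trans y2))
  have yy : y * y = 1 := by rw [← mul_inv_cancel y, y2]
  have yx : x * y * x⁻¹ ≠ y := fun e => by
    rcases c.zV (c.toCtx.mem_of_commute c.ti.cube yT (mul_inv_eq_iff_eq_mul.mp e)) yc with e | e
    exacts [y1 e, hy e]
  have yx' : x⁻¹ * y * x ≠ y := fun e => yx (by nth_rewrite 1 [← e]; group)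
  have yx'' : x * y * x⁻¹ ≠ x⁻¹ * y * x := fun e => yx (by
    rw [← c.xx] at e
    simpa using e.symm)
  have h1 : ∀ k ∈ T, k * (x * w * x⁻¹) * k⁻¹ = x * w * x⁻¹ ∨
      k * (x * w * x⁻¹) * k⁻¹ = x * w * x⁻¹ * (x * y * x⁻¹) := fun k hk =>
    (hT _ (c.xT' hk)).imp (fun e => by
      calc _ = x * (x⁻¹ * k * x * w * (x⁻¹ * k * x)⁻¹) * x⁻¹ := by group
        _ = _ := by rw [e]) fun e => by
      calc _ = x * (x⁻¹ * k * x * w * (x⁻¹ * k * x)⁻¹) * x⁻¹ := by group
        _ = _ := by rw [e]; group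
  have h3 : ∀ k ∈ T, k * (x⁻¹ * w * x) * k⁻¹ = x⁻¹ * w * x ∨
      k * (x⁻¹ * w * x) * k⁻¹ = x⁻¹ * w * x * (x⁻¹ * y * x) := fun k hk =>
    (hT _ (c.xT hk)).imp (fun e => by
      calc _ = x⁻¹ * (x * k * x⁻¹ * w * (x * k * x⁻¹)⁻¹) * x := by group
        _ = _ := by rw [e]) fun e => by
      calc _ = x⁻¹ * (x * k * x⁻¹ * w * (x * k * x⁻¹)⁻¹) * x := by group
        _ = _ := by rw [e]; group
  have w1T := c.xT wT
  have w2T := c.xT' wT
  have y1T := c.xT yT
  have y2T := c.xT' yT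
  have y1c : ∀ k ∈ T, Commute k (x * y * x⁻¹) := fun k hk => c.cx (yc _ (c.xT' hk))
  have y2c : ∀ k ∈ T, Commute k (x⁻¹ * y * x) := fun k hk => c.cx' (yc _ (c.xT hk))
  have c01 : Commute w (x * w * x⁻¹) := by
    by_contra hn
    have a := nc _ w1T fun e => hn e.symm
    have b := (h1 w wT).resolve_left fun e => hn (mul_inv_eq_iff_eq_mul.mp e)
    apply yx
    have w1i : (x * w * x⁻¹)⁻¹ = x * w * x⁻¹ := by simp [wi, mul_assoc]
    generalize x * w * x⁻¹ = w' at *
    generalize x * y * x⁻¹ = y' at *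
    rw [mul_inv_eq_iff_eq_mul] at a b
    rw [mul_assoc w', ← (y1c w wT).eq, ← mul_assoc, a, mul_assoc w y, ← (yc w' w1T).eq, ← mul_assoc,
      mul_assoc, left_eq_mul, ← y2, inv_mul_eq_one] at b
    exact b.symm
  have hV := c.normV wT c01
  have y1y : x * y * x⁻¹ * (x * y * x⁻¹) = 1 := by
    calc _ = x * (y * y) * x⁻¹ := by group
      _ = 1 := by rw [yy]; group
  have y2y : x⁻¹ * y * x * (x⁻¹ * y * x) = 1 := by
    calc _ = x⁻¹ * (y * y) * x := by group
      _ = 1 := by rw [yy]; group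
  have y11 : x * y * x⁻¹ ≠ 1 := by simpa using y1
  have y21 : x⁻¹ * y * x ≠ 1 := fun e => y1 (by
    calc y = x * (x⁻¹ * y * x) * x⁻¹ := by group
      _ = 1 := by rw [e]; group)
  by_cases hc : ∀ k ∈ T, Commute k (w * (x * w * x⁻¹) * (x⁻¹ * w * x))
  · have all : ∀ k ∈ T, (Commute k w → Commute k (x⁻¹ * w * x)) ∧
        (¬ Commute k w → y * (x * y * x⁻¹) * (x⁻¹ * y * x) = 1) := fun k hk => by
      have e : k * w * k⁻¹ * (k * (x * w * x⁻¹) * k⁻¹) * (k * (x⁻¹ * w * x) * k⁻¹) =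
          w * (x * w * x⁻¹) * (x⁻¹ * w * x) := by
        rw [← mul_inv_eq_iff_eq_mul.mpr (hc k hk).eq]; group
      have a1 := h1 k hk
      have a2 := h3 k hk
      have p1 := (yc _ w1T).eq
      have p2 := (yc _ w2T).eq
      have p3 := (y1c _ w2T).eq
      generalize x * w * x⁻¹ = w' at *
      generalize x * y * x⁻¹ = y' at *
      generalize x⁻¹ * w * x = w'' at *
      generalize x⁻¹ * y * x = y'' at *
      have fin : ∀ a b d : G, w' * a = a * w' → w'' * a = a * w'' → w'' * b = b * w'' →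
          w * a * (w' * b) * (w'' * d) = w * w' * w'' → a * b * d = 1 := fun a b d q1 q2 q3 q => by
        have : w * a * (w' * b) * (w'' * d) = w * w' * w'' * (a * b * d) := by
          calc _ = w * (a * w') * (b * w'') * d := by group
            _ = w * w' * (a * w'') * b * d := by rw [← q1, ← q3]; group
            _ = _ := by rw [← q2]; group
        rwa [this, mul_eq_left] at q
      refine ⟨fun hw' => ?_, fun hw' => ?_⟩
      · rw [mul_inv_eq_iff_eq_mul.mpr hw'.eq] at e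
        refine mul_inv_eq_iff_eq_mul.mp (a2.resolve_right fun b => ?_)
        rcases a1 with a | a <;> rw [a, b] at e
        · exact y21 (by simpa using fin 1 1 y'' (by simp) (by simp) (by simp) (by simpa using e))
        · have := fin 1 y' y'' (by simp) (by simp) p3 (by simpa using e)
          rw [one_mul, ← y1y, mul_right_inj] at this
          exact yx'' this.symm
      · rw [nc k hk hw'] at e
        rcases a1 with a | a <;> rcases a2 with b | b <;> rw [a, b] at e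
        · exact absurd (by simpa using fin y 1 1 p1 p2 (by simp) (by simpa using e)) y1
        · have := fin y 1 y'' p1 p2 (by simp) (by simpa using e)
          rw [mul_one, ← yy, mul_right_inj] at this
          exact absurd this yx'
        · have := fin y y' 1 p1 p2 p3 (by simpa using e)
          rw [mul_one, ← yy, mul_right_inj] at this
          exact absurd this yx
        · exact fin y y' y'' p1 p2 p3 e
    refine ⟨(all k0 hk0).2 n0, fun d hd hw' => ?_⟩
    simpa [mul_assoc] using Commute.cj ((all d hd).1 hw') x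
  · exfalso
    have n1 : w * (x * w * x⁻¹) * (x⁻¹ * w * x) ≠ 1 := fun e => hc fun k _ => by rw [e]; exact Commute.one_right k
    have n2 : w * (x * w * x⁻¹) * (x⁻¹ * w * x) ≠ u := fun e => hc fun k hk => by
      rw [e]; exact c.uS (mem_sup_left hk)
    have a1 := card_half (half_cent hT)
    have a2 := card_half (half_cent (A := T ⊓ centralizer {w}) fun k hk => h1 k hk.1)
    have a3 := card_half (half_cent (A := T ⊓ centralizer {w} ⊓ centralizer {x * w * x⁻¹}) fun k hk => h3 k hk.1.1)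
    have a4 := card_le_of_le (show T ⊓ centralizer {w} ⊓ centralizer {x * w * x⁻¹} ⊓ centralizer {x⁻¹ * w * x} ≤
        T ⊓ centralizer (V : Set G) from fun k hk => c.cent_V hV n1 n2 hk.1.1.1
      (((mem_cent.mp hk.1.1.2).mul_right (mem_cent.mp hk.1.2)).mul_right (mem_cent.mp hk.2)))
    have := c.big
    have := c.c64
    omega

theorem two_conj {y : G} (hy : y ∈ T) (h2 : y * y = 1) (h : ∀ k ∈ T ⊔ zpowers s, Commute k y)
    (hp : y * (x * y * x⁻¹) * (x⁻¹ * y * x) = 1) {k : G} (hk : k ∈ T ⊔ zpowers s) :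
    (k ∈ T → k * (x * y * x⁻¹) * k⁻¹ = x * y * x⁻¹) ∧
      (k ∉ T → k * (x * y * x⁻¹) * k⁻¹ = x * y * x⁻¹ * y) := by
  have hc : ∀ t ∈ T, Commute t (x * y * x⁻¹) := fun t ht => c.cx (h _ (mem_sup_left (c.xT' ht)))
  refine ⟨fun hT => mul_inv_eq_iff_eq_mul.mpr (hc k hT).eq, fun hT => ?_⟩
  have h1 := (c.memS.mp hk).resolve_left hT
  have si : s⁻¹ = s := inv_eq_of_mul_eq_one_right c.ss
  have e1 : s * (x * y * x⁻¹) * s⁻¹ = x⁻¹ * y * x := by
    calc _ = s * x * s⁻¹ * (s * y * s⁻¹) * (s * x * s⁻¹)⁻¹ := by group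
      _ = _ := by
        rw [c.sx, mul_inv_eq_iff_eq_mul.mpr (h s (mem_sup_right (mem_zpowers s))).eq, inv_inv]
  have e2 : x⁻¹ * y * x = x * y * x⁻¹ * y := by
    rw [eq_inv_of_mul_eq_one_right hp, mul_inv_rev, inv_eq_of_mul_eq_one_right h2]
    simp [inv_eq_of_mul_eq_one_right h2, mul_assoc]
  calc _ = k * s * (s * (x * y * x⁻¹) * s⁻¹) * (k * s)⁻¹ := by
        rw [mul_inv_rev, si]
        calc _ = k * (s * s) * (x * y * x⁻¹) * (s * s) * k⁻¹ := by rw [c.ss]; group
          _ = _ := by group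
    _ = _ := by
        rw [e1, e2, mul_inv_eq_iff_eq_mul]
        exact ((hc _ h1).mul_right (h _ (mem_sup_left h1))).eq

end Lc

end Cfsg.Agent.L0.C12
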