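import Cfsg.Agent.H1.C12DI

/-!
# The case where the involutions of `V` are `2`-central
-/

set_option autoImplicit false

namespace Cfsg.Agent.L0.C12

open Subgroup Cfsg.Agent.L0.SC3 Cfsg.Agent.H9
open Cfsg.Agent.H1.T3 hiding mem_cent
open scoped Pointwise

universe u

variable {G : Type u} [Group G] [Finite G] {x s : G} {V : Subgroup G} {T : G → Subgroup G}

theorem sylow_of_card {P Q L : Subgroup G} (hP : IsSylowIn 2 P L) (hQ : IsPGroup 2 Q) (hL : Q ≤ L)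
    (h : Nat.card P ≤ Nat.card Q) : IsSylowIn 2 Q L := by
  obtain ⟨R, hR, hQR⟩ := exists_isSylowIn_ge hL hQ
  rwa [eq_of_le_of_card_ge hQR (by rw [hR.card_eq, ← hP.card_eq]; exact h)]

theorem sylow_mono {P L M : Subgroup G} (hP : IsSylowIn 2 P M) (h1 : P ≤ L) (h2 : L ≤ M) :
    IsSylowIn 2 P L := by
  obtain ⟨R, hR, hPR⟩ := exists_isSylowIn_ge h1 hP.isPGroup
  rwa [← hP.eq_of_le hR.isPGroup (hR.le.trans h2) hPR]

theorem CS.not_dvd (c : CS x s V T) : ¬ 3 ∣ Nat.card (centralizer ({s} : Set G)) :=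
  not_dvd_card_iff.mpr fun b hb h3 => by
    by_contra h1
    obtain ⟨v, hv, e⟩ := c.toCtx.isConj_of_commute c.ss h1 h3 (mem_cent.mp hb)
    exact c.sz v hv e

theorem CS'.exists_lc (c : CS' x s V T) {S : Subgroup G} (hS : IsPGroup 2 S) {v z : G} (hv : v ∈ V) (h1 : v ≠ 1)
    (hc : 2 * Nat.card (T v) ≤ Nat.card S) (hz : IsConj v z) (h : ∀ k ∈ S, Commute k z) :
    ∃ ξ s' V' T', Lc ξ s' z V' T' ∧ T' ⊔ zpowers s' = S := by
  obtain ⟨g, rfl⟩ := isConj_iff.mp hz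
  have d := (c.lc hv h1).conj g
  obtain ⟨l, hl, e⟩ := d.sylS.exists_conj (sylow_of_card d.sylS hS (fun k hk => mem_cent.mpr (h k hk))
    (by rw [d.cardS, card_conj_smul]; exact hc))
  have d' := d.conj l
  rw [mul_inv_eq_iff_eq_mul.mpr (mem_cent.mp hl).eq] at d'
  refine ⟨_, _, _, _, d', ?_⟩
  rw [← e, smul_sup]
  exact congrArg _ (MonoidHom.map_zpowers (MulAut.conj l).toMonoidHom _).symm

theorem CS'.caseA (c : CS' x s V T) {v : G} (hv : v ∈ V) (h1 : v ≠ 1)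
    (hS : IsSylowIn 2 (T v ⊔ zpowers s) ⊤) : False := by
  have hc := (c.lc hv h1).cardS
  generalize T v ⊔ zpowers s = S at hS hc
  have hp : 0 < Nat.card (T v) := Nat.card_pos
  have lc : ∀ z, z ≠ 1 → z * z = 1 → (∀ k ∈ S, Commute k z) →
      ∃ ξ s' V' T', Lc ξ s' z V' T' ∧ T' ⊔ zpowers s' = S := fun z z1 z2 hz => by
    rcases c.cls z z2 z1 with h | ⟨w, hw, h⟩
    · exfalso
      have e1 := sylow_mono hS (L := centralizer {z}) (fun k hk => mem_cent.mpr (hz k hk)) le_top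
      have e2 := card_mul_relIndex_of_le e1.le
      have e3 := e1.not_dvd
      have e4 := c.not_dvd
      have e5 := c.lo v hv h1
      have e6 := c.hi v hv h1
      rw [← card_cent_conj h, ← e2, hc] at e4 e5 e6
      generalize S.relIndex (centralizer {z}) = o at *
      have : o = 3 := by
        have : 2 ≤ o := by nlinarith
        have : o ≤ 4 := by nlinarith
        omega
      exact e4 (this ▸ Dvd.intro_left _ rfl)
    · have w1 : w ≠ 1 := by rintro rfl; exact z1 (isConj_one_left.mp h)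
      exact c.exists_lc hS.isPGroup hw w1 (by rw [hc, c.eq w hw w1 v hv h1]) h.symm hz
  have ex : ∀ w ∈ V, w ≠ 1 → ∃ z ∈ S, IsConj w z ∧ z ≠ 1 ∧ z * z = 1 ∧ ∀ k ∈ S, Commute k z := fun w hw w1 => by
    have d := c.lc hw w1
    obtain ⟨g, -, e⟩ := (sylow_of_card hS d.twoS le_top (by rw [d.cardS, hc, c.eq w hw w1 v hv h1])).exists_conj hS
    refine ⟨g * w * g⁻¹, e ▸ conj_mem_conj_smul (mem_sup_left (d.VT hw)) g, isConj_mk g w, by simpa using w1, ?_,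
      fun k hk => ?_⟩
    · calc _ = g * (w * w) * g⁻¹ := by group
        _ = 1 := by rw [c.toCtx.sq hw]; group
    · obtain ⟨b, hb, rfl⟩ := exists_of_mem_conj_smul (e ▸ hk)
      exact Commute.cj (d.uS hb) g
  let Z : G → Prop := fun z => z ∈ S ∧ z ≠ 1 ∧ z * z = 1 ∧ ∀ k ∈ S, Commute k z
  have Zm : ∀ {a b}, Z a → Z b → a ≠ b → Z (a * b) := fun {a b} ha hb h =>
    ⟨mul_mem ha.1 hb.1, fun e => h (by rw [eq_inv_of_mul_eq_one_left e, inv_eq_of_mul_eq_one_right hb.2.2.1]), by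
      rw [mul_assoc, ← mul_assoc b, (ha.2.2.2 b hb.1).eq, mul_assoc, hb.2.2.1, mul_one, ha.2.2.1],
      fun k hk => (ha.2.2.2 k hk).mul_right (hb.2.2.2 k hk)⟩
  choose ξ s' V' T' d e using fun z : {z // Z z} => lc z.1 z.2.2.1 z.2.2.2.1 z.2.2.2.2
  let N : {z // Z z} → G → G := fun a y => y * (ξ a * y * (ξ a)⁻¹) * ((ξ a)⁻¹ * y * ξ a)
  have ZT : ∀ a y, Z y → y ∈ T' a ∧ ∀ t ∈ T' a, Commute t y := fun a y hy =>
    have := fun t (ht : t ∈ T' a) => hy.2.2.2 t (e a ▸ mem_sup_left ht)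
    ⟨(d a).Zle (e a ▸ hy.1) this, this⟩
  have Nm : ∀ a y y', Z y → Z y' → N a (y * y') = N a y * N a y' := fun a y y' hy hy' => by
    have a1 := (ZT a y hy).1
    have b2 := (ZT a y' hy').2
    have p1 := (b2 _ ((d a).xT a1)).eq
    have p2 := (b2 _ ((d a).xT' a1)).eq
    have p3 := ((d a).cx (b2 _ ((d a).xT' ((d a).xT' a1)))).eq
    calc _ = y * (y' * (ξ a * y * (ξ a)⁻¹)) * (ξ a * y' * (ξ a)⁻¹ * ((ξ a)⁻¹ * y * ξ a)) *
          ((ξ a)⁻¹ * y' * ξ a) := by simp only [N]; group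
      _ = y * (ξ a * y * (ξ a)⁻¹) * (y' * ((ξ a)⁻¹ * y * ξ a)) * (ξ a * y' * (ξ a)⁻¹) *
          ((ξ a)⁻¹ * y' * ξ a) := by rw [← p1, ← p3]; simp only [mul_assoc]
      _ = _ := by rw [← p2]; simp only [N, mul_assoc]
  have Na : ∀ a, N a a = a := fun a => by
    have := ((d a).toCtx.cx (d a).mem).eq
    simp only [N]
    rw [mul_inv_eq_iff_eq_mul.mpr this, mul_assoc (ξ a)⁻¹, ← this, inv_mul_cancel_left, a.2.2.2.1, one_mul]
  have Nor : ∀ a y, Z y → N a y = 1 ∨ N a y = a := fun a y hy => (d a).pi (ZT a y hy).1 (ZT a y hy).2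
  have rule : ∀ a b y, a ≠ b → Z y → y ≠ a.1 → N b y = 1 → N a y = 1 := fun a b y hab hy hya hN => by
    have tc := fun k (hk : k ∈ S) => (d b).two_conj (ZT b y hy).1 hy.2.2.1 (fun k hk => hy.2.2.2 k (e b ▸ hk)) hN
      (e b ▸ hk)
    refine ((d a).DI (w := ξ b * y * (ξ b)⁻¹) (e a ▸ e b ▸ mem_sup_left ((d b).xT (ZT b y hy).1)) (by
      calc _ = ξ b * (y * y) * (ξ b)⁻¹ := by group
        _ = 1 := by rw [hy.2.2.1]; group) (fun k hk => by
      by_cases h : k ∈ T' b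
      exacts [.inl ((tc k (e a ▸ hk)).1 h), .inr ((tc k (e a ▸ hk)).2 h)]) ?_ hya).1
    by_contra hn
    push Not at hn
    have le : T' a ≤ T' b := fun k hk => by
      by_contra h
      have := (tc k (e a ▸ mem_sup_left hk)).2 h
      rw [mul_inv_eq_iff_eq_mul.mpr (hn k hk).eq, left_eq_mul] at this
      exact hy.2.1 this
    have eq : T' a = T' b := eq_of_le_of_card_ge le (by
      have e1 := (d a).cardS
      have e2 := (d b).cardS
      rw [e] at e1 e2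
      omega)
    have hx : ξ a ∈ centralizer {b.1} := by rw [← (d b).norm, ← eq, (d a).norm]; exact (d a).ti.mem
    rcases (d a).zV ((d a).toCtx.mem_of_commute (d a).ti.cube (ZT a b b.2).1 (mem_cent.mp hx)) (ZT a b b.2).2
      with h | h
    exacts [b.2.2.1 h, hab (Subtype.ext h.symm)]
  obtain ⟨w, hw, w1, wv⟩ := exists_ne_two c.card v
  obtain ⟨a, a0, a1, a2⟩ := ex v hv h1
  obtain ⟨b', b0, b1, b2⟩ := ex w hw w1
  have ha : Z a := ⟨a0, a2⟩
  have hb' : Z b' := ⟨b0, b2⟩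
  have ab' : a ≠ b' := fun h => wv (c.toCtx.eq_of_isConj hw hv (b1.trans (h ▸ a1.symm)))
  obtain ⟨b, hb, e1⟩ : ∃ b, Z b ∧ N ⟨a, ha⟩ b = 1 := by
    rcases Nor ⟨a, ha⟩ b' hb' with h | h
    · exact ⟨b', hb', h⟩
    · exact ⟨a * b', Zm ha hb' ab', by rw [Nm _ _ _ ha hb', h, Na ⟨a, ha⟩, ha.2.2.1]⟩
  have ab : a ≠ b := fun h => ha.2.1 ((Na ⟨a, ha⟩).symm.trans (by subst h; exact e1))
  have hc' := Zm ha hb ab
  have ca : a * b ≠ a := fun h => hb.2.1 (mul_eq_left.mp h)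
  have cb : a * b ≠ b := fun h => ha.2.1 (mul_eq_right.mp h)
  have e2 := rule ⟨_, hc'⟩ ⟨a, ha⟩ b (fun h => ca (congrArg Subtype.val h)) hb cb.symm e1
  rcases Nor ⟨b, hb⟩ a ha with h | h
  · have e3 := rule ⟨_, hc'⟩ ⟨b, hb⟩ a (fun h => cb (congrArg Subtype.val h)) ha ca.symm h
    have := Na ⟨_, hc'⟩
    rw [Nm _ _ _ ha hb, e2, e3, one_mul] at this
    exact hc'.2.1 this.symm
  · have e3 := rule ⟨a, ha⟩ ⟨b, hb⟩ (a * b) (fun h => ab (congrArg Subtype.val h)) hc' ca (by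
      rw [Nm _ _ _ ha hb, h, Na ⟨b, hb⟩, hb.2.2.1])
    rw [Nm _ _ _ ha hb, e1, Na ⟨a, ha⟩, mul_one] at e3
    exact ha.2.1 e3

end Cfsg.Agent.L0.C12
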