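import Cfsg.Agent.H1.C12S2
import Cfsg.Agent.H7.C12NC

/-!
# The case where the involutions of `V` are not `2`-central
-/

set_option autoImplicit false

namespace Cfsg.Agent.L0.C12

open Subgroup Cfsg.Agent.L0.SC3 Cfsg.Agent.H9
open Cfsg.Agent.H1.T3 hiding mem_cent
open scoped Pointwise

universe u

theorem exists_sq_mem {G : Type*} [Group G] {F : Subgroup G} {m : G} (h : El2 m) (hm : m ∉ F) :
    ∃ n ∈ zpowers m, n ∉ F ∧ n * n ∈ F := by
  obtain ⟨k, hk⟩ := h
  have : ∀ k, m ^ 2 ^ k ∈ F → ∃ n ∈ zpowers m, n ∉ F ∧ n * n ∈ F := fun k => by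
    induction k with
    | zero => exact fun h => absurd (by simpa using h) hm
    | succ k ih =>
      intro h
      by_cases h' : m ^ 2 ^ k ∈ F
      · exact ih h'
      · exact ⟨_, npow_mem_zpowers _ _, h', by rwa [← pow_add, ← two_mul, ← pow_succ']⟩
  exact this k (hk ▸ one_mem _)

theorem Quo.card_eq {G : Type*} [Group G] {S : Type} [Group S] {K M : Subgroup G} (h : Quo S K M) (hKM : K ≤ M) :
    Nat.card M = Nat.card K * Nat.card S := by
  obtain ⟨π, h1, h2⟩ := h
  have : π.ker = K.subgroupOf M := by ext g; exact h2 g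
  rw [← π.ker.card_mul_index, index_ker, MonoidHom.range_eq_top.mpr h1, card_top, this,
    Nat.card_congr (subgroupOfEquivOfLe hKM).toEquiv]

variable {G : Type u} [Group G] [Finite G] {x s : G} {V : Subgroup G}

theorem Ctx.card_II (c : Ctx x s V) {X K M : Subgroup G} (h : TII x X K M)
    (hp : ∀ t : G, t ≠ 1 → t * t = 1 → ∀ p : ℕ, p.Prime → 7 ≤ p → ¬ p ∣ Nat.card (centralizer ({t} : Set G))) :
    ¬ 1024 ∣ Nat.card X := by
  have hK := c.Lodd h
  obtain ⟨p, pp, p7, P, PM, hP, xP, PK⟩ := h.exists_theta c.t3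
  haveI := Fact.mk pp
  have P1 : P ≠ ⊥ := by rintro rfl; exact PK bot_le
  obtain ⟨k, hk⟩ := hP.exists_card_eq
  have pP : p ∣ Nat.card P := by
    rw [hk]; refine dvd_pow_self p ?_
    rintro rfl
    exact P1 (card_eq_one.mp hk)
  have e0 : K ⊓ centralizer (P : Set G) = ⊥ := by
    by_contra hn
    obtain ⟨z, hz, z1, z2, -⟩ := exists_invol_center (hK.to_le inf_le_left) hn
    exact hp z z1 z2 p pp p7 (pP.trans (card_dvd_of_le fun a ha => mem_cent.mpr (hz.2 a ha)))
  have xX : x ∈ X := h.le' h.mem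
  have w := wielandt3 c.t3.cube c.t3.ne hK P1 (by rw [hk]; exact (pp.odd_of_ne_two (by omega)).pow)
    (fun a ha => mem_normalizer_of_conj (h.nK a (h.le' (PM ha)))) (mem_normalizer_of_conj (h.nK x xX)) xP
    (eq_bot_iff.mpr fun a ha => by
      have e1 := orderOf_dvd_of_pow_eq_one (c.t3.six a (mem_cent.mp ha.2).symm)
      have e2 := Subgroup.orderOf_dvd_natCard P ha.1
      rw [hk] at e2
      have : (6 : ℕ).Coprime (p ^ k) := Nat.Coprime.pow_right _ ((pp.coprime_iff_not_dvd.mpr fun e => by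
        have := Nat.le_of_dvd (by norm_num) e; omega).symm)
      exact orderOf_eq_one_iff.mp (Nat.eq_one_of_dvd_coprimes this e1 e2))
  rw [e0, eq_bot_iff.mpr ((inf_le_inf_left K (centralizer_le (SetLike.coe_subset_coe.mpr le_sup_left))).trans e0.le),
    card_bot, one_pow, one_mul, mul_one] at w
  have KV : K ⊓ centralizer {x} ≤ V := fun a ha => c.mem_of_commute h.cube ha.1 (mem_cent.mp ha.2).symm
  obtain ⟨S, _, q, hS, hq⟩ := h.sf
  have e1 := hq.card_eq h.le
  have e2 := card_mul_relIndex_of_le h.le'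
  have e3 : Nat.card X ≤ Nat.card M * Nat.card V := by
    rw [← Nat.card_prod]
    choose m hm a ha h1 h2 h3 using fun g : X => h.fra g g.2
    exact Nat.card_le_card_of_injective (fun g => (⟨⟨m g, hm g⟩, ⟨a g, (c.memV _).mpr ⟨h1 g, h2 g⟩⟩⟩ : M × V))
      fun g g' e => Subtype.ext (by
        rw [h3 g, h3 g', show m g = m g' from congrArg (·.1.1) e, show a g = a g' from congrArg (·.2.1) e])
  have e4 := Nat.le_of_dvd (by norm_num) c.card_V_dvd
  have e5 : M.relIndex X ≤ 4 := by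
    have : 0 < Nat.card M := Nat.card_pos
    nlinarith
  have e6 := (card_dvd_of_le KV).trans c.card_V_dvd
  have e7 : Nat.card (K ⊓ centralizer {x} : Subgroup G) = 4 → M.relIndex X = 1 := fun e => by
    have : V ≤ K := (eq_of_le_of_card_ge KV (by omega)).ge.trans inf_le_left
    refine relIndex_eq_one.mpr fun g hg => ?_
    obtain ⟨m, hm, a, -, h1, h2, rfl⟩ := h.fra g hg
    exact mul_mem hm (h.le (this ((c.memV _).mpr ⟨h1, h2⟩)))
  have e8 : M.relIndex X ≠ 0 := fun e => by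
    have : 0 < Nat.card X := Nat.card_pos
    rw [e] at e2; omega
  rw [← e2, e1, w]
  have := (by intro j _ i _; interval_cases j <;> interval_cases i <;> simp : ∀ j : ℕ, j ≤ 4 → ∀ i : ℕ, i ≤ 4 → i ≠ 0 → j ≠ 0 → (j = 4 → i = 1) →
    ¬ 1024 ∣ j ^ 3 * 168 * i ∧ ¬ 1024 ∣ j ^ 3 * 1092 * i) _ (Nat.le_of_dvd (by norm_num) e6) _ e5 e8
    (Nat.card_pos (α := (K ⊓ centralizer {x} : Subgroup G))).ne'
  rcases hS.card with ⟨-, e⟩ | ⟨-, e⟩ <;> rw [e]
  exacts [(this e7).1, (this e7).2]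

theorem Lc.le_of {u : G} {T X : Subgroup G} (c : Lc x s u V T) (h : T ⊔ zpowers s ≤ X) (hx : x ∈ X) :
    centralizer {u} ≤ X := fun g hg => by
  have hT : T ≤ X := le_sup_left.trans h
  have hs : s ∈ X := h (mem_sup_right (mem_zpowers s))
  rcases c.ti.act g hg with e | e
  · rcases c.ti.decomp c.t3 hg e with e | e | e
    exacts [hT e, (mul_mem_cancel_right (inv_mem hx)).mp (hT e), (mul_mem_cancel_right hx).mp (hT e)]
  · rcases c.ti.decomp' c.t3 (c.toCtx.s_mem c.mem) c.sx hg e with e | e | e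
    exacts [(mul_mem_cancel_right hs).mp (hT e),
      (mul_mem_cancel_right hs).mp ((mul_mem_cancel_right (inv_mem hx)).mp (hT e)),
      (mul_mem_cancel_right hs).mp ((mul_mem_cancel_right hx).mp (hT e))]

theorem two_pow_dvd {a b n : ℕ} (h : 2 ^ a ≤ 2 ^ b) (h' : 2 ^ b ∣ n) : 2 ^ a ∣ n :=
  (pow_dvd_pow 2 ((Nat.pow_le_pow_iff_right (by norm_num)).mp h)).trans h'

theorem CS'.caseB {T : G → Subgroup G} (c : CS' x s V T) {v : G} (hv : v ∈ V) (h1 : v ≠ 1)
    (hS : ¬ IsSylowIn 2 (T v ⊔ zpowers s) ⊤) : False := by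
  have d := c.lc hv h1
  obtain ⟨S, hS', hle⟩ := exists_isSylowIn_ge le_top d.twoS
  have nle : ¬ S ≤ T v ⊔ zpowers s := fun h => hS (le_antisymm hle h ▸ hS')
  have hp0 : 0 < Nat.card (T v) := Nat.card_pos
  obtain ⟨a, ha⟩ := d.two.exists_card_eq
  have cH : ∀ t w, w ∈ V → w ≠ 1 → IsConj t w → Nat.card (centralizer ({t} : Set G)) = 6 * 2 ^ a :=
    fun t w hw w1 h => by rw [card_cent_conj h, (c.lc hw w1).cardH, c.eq w hw w1 v hv h1, ha]
  have cS := two_mul_card_le hle nle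
  rw [d.cardS] at cS
  obtain ⟨b, hb⟩ := hS'.isPGroup.exists_card_eq
  have hp : ∀ t : G, t ≠ 1 → t * t = 1 → ∀ p : ℕ, p.Prime → 7 ≤ p →
      ¬ p ∣ Nat.card (centralizer ({t} : Set G)) := by
    obtain ⟨z, -, z1, z2, hz⟩ := exists_invol_center hS'.isPGroup (fun e => nle (e ▸ bot_le))
    have e1 := sylow_mono hS' (L := centralizer {z}) (fun k hk => mem_cent.mpr (hz k hk).symm) le_top
    have e2 := card_mul_relIndex_of_le e1.le
    have e0 : Nat.card (centralizer ({s} : Set G)) = 2 ^ b := by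
      rcases c.cls z z2 z1 with h | ⟨w, hw, h⟩
      · have e3 := e1.not_dvd
        have e6 := c.hi v hv h1
        rw [← card_cent_conj h, ← e2] at e6 ⊢
        generalize S.relIndex (centralizer {z}) = o at *
        have : o = 1 := by
          have : o ≤ 2 := by nlinarith
          omega
        rw [this, mul_one, hb]
      · have := two_pow_dvd (a := a + 2) (b := b) (by rw [← hb, pow_add, ← ha]; omega)
          (hb ▸ card_dvd_of_le e1.le)
        rw [cH z w hw (by rintro rfl; exact z1 (isConj_one_left.mp h)) h, pow_add, mul_comm,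
          Nat.mul_dvd_mul_iff_right (by positivity)] at this
        norm_num at this
    intro t t1 t2 p pp p7 hd
    have k2 : ∀ n, ¬ p ∣ 2 ^ n := fun n e => by
      have := Nat.le_of_dvd two_pos (pp.dvd_of_dvd_pow e); omega
    rcases c.cls t t2 t1 with h | ⟨w, hw, h⟩
    · rw [card_cent_conj h, e0] at hd; exact k2 _ hd
    · rw [cH t w hw (by rintro rfl; exact t1 (isConj_one_left.mp h)) h] at hd
      rcases pp.dvd_mul.mp hd with e | e
      · have := Nat.le_of_dvd (by norm_num) e; omega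
      · exact k2 _ e
  obtain ⟨m, mS, m1, mN⟩ := exists_mem_normalizer hS'.isPGroup hle nle
  obtain ⟨n, hn, n1, n2⟩ := exists_sq_mem (El2.of_mem hS'.isPGroup mS) m1
  have nS : n ∈ S := zpowers_le.mpr mS hn
  have nN : n ∈ normalizer ((T v ⊔ zpowers s : Subgroup G) : Set G) := zpowers_le.mpr mN hn
  have P2 : IsPGroup 2 (T v ⊔ zpowers s ⊔ zpowers n : Subgroup G) :=
    hS'.isPGroup.to_le (sup_le hle (zpowers_le.mpr nS))
  have nP : n ∈ T v ⊔ zpowers s ⊔ zpowers n := mem_sup_right (mem_zpowers n)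
  have cP := two_mul_card_le (le_sup_left : T v ⊔ zpowers s ≤ T v ⊔ zpowers s ⊔ zpowers n) fun h => n1 (h nP)
  rw [d.cardS] at cP
  have nH : n ∉ centralizer {v} := fun h => n1 (d.sylS.eq_of_le P2 (sup_le d.SH (zpowers_le.mpr h)) le_sup_left ▸ nP)
  have du := d.conj n
  have eS : MulAut.conj n • T v ⊔ zpowers (n * s * n⁻¹) = T v ⊔ zpowers s := by
    rw [← conj_smul_eq_of_mem_normalizer nN, smul_sup]
    exact congrArg _ (MonoidHom.map_zpowers (MulAut.conj n).toMonoidHom _).symm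
  have uv : n * v * n⁻¹ ≠ v := fun e => nH (mem_cent.mpr (mul_inv_eq_iff_eq_mul.mp e))
  have uc : ∀ k ∈ T v ⊔ zpowers s, Commute k (n * v * n⁻¹) := fun k hk => du.uS (eS ▸ hk)
  have uT : n * v * n⁻¹ ∈ T v := d.Zle (eS ▸ mem_sup_left (du.VT du.mem)) fun k hk => uc k (mem_sup_left hk)
  have vT : v ∈ T v := d.VT hv
  have vv := c.toCtx.sq hv
  have uu := du.toCtx.sq du.mem
  have xv := (c.toCtx.cx hv).eq
  obtain ⟨y, yT, y1, y2, yc, yN⟩ : ∃ y ∈ T v, y ≠ 1 ∧ y * y = 1 ∧ (∀ k ∈ T v ⊔ zpowers s, Commute k y) ∧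
      y * (x * y * x⁻¹) * (x⁻¹ * y * x) = 1 := by
    rcases d.pi uT (fun k hk => uc k (mem_sup_left hk)) with e | e
    · exact ⟨_, uT, du.ne, uu, uc, e⟩
    · have p0 := (uc v (mem_sup_left vT)).eq
      have p1 := (d.uS (mem_sup_left (d.xT uT))).eq
      have p2 := (d.uS (mem_sup_left (d.xT' uT))).eq
      generalize n * v * n⁻¹ = u at *
      refine ⟨u * v, mul_mem uT vT, fun e => uv (by
        rw [eq_inv_of_mul_eq_one_left e, inv_eq_of_mul_eq_one_right vv]), by
          rw [mul_assoc, ← mul_assoc v, p0, mul_assoc, vv, mul_one, uu],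
        fun k hk => (uc k hk).mul_right (d.uS hk), ?_⟩
      calc _ = u * (v * (x * u * x⁻¹)) * (x * v * x⁻¹) * (x⁻¹ * u * x) * (x⁻¹ * (v * x)) := by group
        _ = u * (x * u * x⁻¹) * (v * v) * (x⁻¹ * u * x) * v := by
          rw [← p1, mul_inv_eq_iff_eq_mul.mpr xv, ← xv]; group
        _ = 1 := by rw [vv, mul_one, e, vv]
  have c256 : 256 ≤ Nat.card (T v) := by
    obtain ⟨j, hj⟩ := c.toCtx.card_four_pow c.card (B := T v ⊓ centralizer (V : Set G)) (d.two.to_le inf_le_left)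
      (fun b hb => ⟨d.xT hb.1, fun w hw => by
        have := (Commute.cj (show Commute w b from hb.2 w hw) x).eq
        rwa [mul_inv_eq_iff_eq_mul.mpr (c.toCtx.cx hw).eq] at this⟩)
      fun w hw => ⟨d.VT hw, fun w' hw' => (c.toCtx.comm hw' hw).eq⟩
    have big := d.big
    rcases j with _ | j
    · have : V = T v ⊓ centralizer (V : Set G) := eq_of_le_of_card_ge
        (fun w hw => ⟨d.VT hw, fun w' hw' => (c.toCtx.comm hw' hw).eq⟩) (by rw [hj, c.card]; rfl)
      have yV : y ∈ V := this ▸ ⟨yT, fun w hw => (yc w (mem_sup_left (d.VT hw))).eq⟩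
      have := (c.toCtx.cx yV).eq
      rw [mul_inv_eq_iff_eq_mul.mpr this, mul_assoc x⁻¹, ← this, inv_mul_cancel_left, y2, one_mul] at yN
      exact absurd yN y1
    · have : 0 < 4 ^ j := by positivity
      rw [hj, pow_succ, pow_succ] at big
      omega
  have OV : ∀ O : Subgroup G, O ≤ T v → v ∈ O → (∀ g ∈ T v ⊔ zpowers s, ∀ a ∈ O, g * a * g⁻¹ ∈ O) →
      (∀ a ∈ O, x * a * x⁻¹ ∈ O) → (∀ a ∈ O, n * a * n⁻¹ ∈ O) → False := fun O h2 h3 h4 h5 h6 => by
    have hx := mem_normalizer_of_conj h5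
    have HX := d.le_of (fun g hg => mem_normalizer_of_conj (h4 g hg)) hx
    have PX : T v ⊔ zpowers s ⊔ zpowers n ≤ normalizer (O : Set G) :=
      sup_le (d.SH.trans HX) (zpowers_le.mpr (mem_normalizer_of_conj h6))
    rcases c.toCtx.str_sub (c.toCtx.normalizer_ne_top' (fun e => h1 (mem_bot.mp (e ▸ h3)))
      fun b hb => d.ti.cube b (h2 hb)) hx with ⟨K, hK⟩ | ⟨K, M, hK⟩
    · have e1 := card_half (D := K) fun a ha b hb => hK.mul_mem_of_notMem c.t3 (cube_of_two P2) PX ha hb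
      obtain ⟨g, g1, g2, g3⟩ := exists_mem_normalizer (P2.to_le (inf_le_left (b := K)))
        (le_inf (le_sup_left.trans le_sup_left) (hK.le_of_inv c.t3 d.ti.inv (d.ti.le.trans HX)))
        fun h => by have := card_le_of_le h; omega
      rw [d.norm] at g3
      exact g2 (d.ti.le_of_normal c.t3 (N := centralizer {v} ⊓ K) inf_le_left
        (fun l hl r hr => ⟨Subgroup.mul_mem _ (Subgroup.mul_mem _ hl hr.1) (Subgroup.inv_mem _ hl), hK.normal l (HX hl) r hr.2⟩)
        (fun h => hK.notMem c.t3 h.2) ⟨g3, g1.2⟩)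
    · obtain ⟨k, hk⟩ := P2.exists_card_eq
      exact c.toCtx.card_II hK hp (two_pow_dvd (a := 10) (b := k) (by rw [← hk]; omega) (hk ▸ card_dvd_of_le PX))
  have tc := fun k (hk : k ∈ T v ⊔ zpowers s) => d.two_conj yT y2 yc yN hk
  have nT : ∀ k ∈ T v ⊔ zpowers s, ∀ t ∈ T v, k * t * k⁻¹ ∈ T v := fun k hk => d.ti.normal k (d.SH hk)
  have uS : MulAut.conj n • T v ≤ T v ⊔ zpowers s := eS ▸ le_sup_left
  by_cases yu : y = n * v * n⁻¹
  swap
  · have cw : ∀ k ∈ T v ⊔ zpowers s, Commute k (x * y * x⁻¹) → k ∈ T v := fun k hk h => by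
      by_contra hn
      have := (tc k hk).2 hn
      rw [mul_inv_eq_iff_eq_mul.mpr h.eq, left_eq_mul] at this
      exact y1 this
    have di := (du.DI (w := x * y * x⁻¹) (eS ▸ mem_sup_left (d.xT yT)) (by
      calc _ = x * (y * y) * x⁻¹ := by group
        _ = 1 := by rw [y2]; group) (fun k hk => by
      by_cases h : k ∈ T v
      exacts [.inl ((tc k (eS ▸ hk)).1 h), .inr ((tc k (eS ▸ hk)).2 h)]) (by
      by_contra hn
      push Not at hn
      exact nH (d.norm ▸ mem_normalizer_of_conj fun b hb =>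
        cw _ (uS (conj_mem_conj_smul hb n)) (hn _ (conj_mem_conj_smul hb n)))) yu).2
    have hn : ∀ a ∈ T v ⊓ MulAut.conj n • T v, n * a * n⁻¹ ∈ T v ⊓ MulAut.conj n • T v := fun a ha =>
      mem_inf.mpr ⟨by
        have := nT _ n2 _ (mem_conj_smul_iff.mp ha.2)
        convert this using 1; group, conj_mem_conj_smul ha.1 n⟩
    refine OV (T v ⊓ MulAut.conj n • T v) inf_le_left
      ⟨vT, du.Zle (eS ▸ mem_sup_left vT) fun k hk => d.uS (uS hk)⟩
      (fun g hg a ha => ⟨nT g hg a ha.1, du.ti.normal g (du.SH (eS ▸ hg)) a ha.2⟩) (fun a ha => ?_) hn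
    have e1 := hn a ha
    have e2 := du.xT e1.2
    have e3 := conj_mem_of_mem_normalizer (inv_mem (mem_normalizer_of_conj hn))
      (show _ ∈ T v ⊓ MulAut.conj n • T v from
        ⟨cw _ (uS e2) (di _ e1.2 (mul_inv_eq_iff_eq_mul.mp ((tc _ (uS e1.2)).1 e1.1))), e2⟩)
    convert e3 using 1; group
  have YH : ∀ h ∈ centralizer {v}, ∀ a ∈ T v ⊓ centralizer (T v : Set G),
      h * a * h⁻¹ ∈ T v ⊓ centralizer (T v : Set G) := fun h hh a ha => ⟨d.ti.normal h hh a ha.1, fun t ht => by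
    simpa [mul_assoc] using (Commute.cj (show Commute _ a from ha.2 _ (d.ti.normal' hh ht)) h).eq⟩
  have cp := CP1 (H := centralizer {v}) (K := T v) (Y := T v ⊓ centralizer (T v : Set G)) (n := n) d.ti.le d.ti.normal
    (fun k hk => d.SH (conj_mem_of_mem_normalizer nN (mem_sup_left hk)))
    (fun k hk => d.SH (by simpa using conj_mem_of_mem_normalizer (inv_mem nN) (mem_sup_left hk))) inf_le_left
    fun g _ g1 g2 a ha => by
      obtain ⟨l, hl, e1⟩ := exists_conj_mem_sylow d.sylS ((El2.of_mem d.two ha.1).conj g) (g1 a ha)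
      rw [← d.ti.conj_mem_iff hl]
      by_contra e2
      have wY : x * y * x⁻¹ ∈ T v ⊓ centralizer (T v : Set G) :=
        YH x d.ti.mem y ⟨yT, fun t ht => (yc t (mem_sup_left ht)).eq⟩
      have e3 := YH _ (g2 _ (by simpa using YH _ (inv_mem hl) _ wY)) a ha
      have e4 := (tc _ e1).2 e2
      have w2 : (x * y * x⁻¹)⁻¹ = x * y * x⁻¹ := by simp [inv_eq_of_mul_eq_one_right y2, mul_assoc]
      have e5 : (l * g)⁻¹ * y * (l * g) ∈ T v ⊓ centralizer (T v : Set G) := by
        have : (l * g)⁻¹ * y * (l * g) = (g⁻¹ * (l⁻¹ * (x * y * x⁻¹) * l) * g * a *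
            (g⁻¹ * (l⁻¹ * (x * y * x⁻¹) * l) * g)⁻¹) * a⁻¹ := by
          generalize x * y * x⁻¹ = w at e4 w2
          have e6 : y = w * (l * (g * a * g⁻¹) * l⁻¹ * w⁻¹ * (l * (g * a * g⁻¹) * l⁻¹)⁻¹) := by
            rw [w2, e4, ← mul_assoc, ← mul_inv_eq_one, mul_inv_rev, mul_inv_rev, w2, ← mul_assoc, mul_inv_cancel,
              one_mul, ← mul_inv_cancel w, w2]
          rw [e6]; group
        rw [this]; exact mul_mem e3 (inv_mem ha)
      have T2 : IsPGroup 2 (MulAut.conj (l * g) • T v : Subgroup G) := d.two.map _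
      have a1 := card_half (A := MulAut.conj (l * g) • T v) (D := MulAut.conj n • T v) fun a ha b hb =>
        du.ti.mul_mem_of_notMem du.t3 (cube_of_two T2) (fun k hk => mem_cent.mpr (by
          rw [← yu]
          simpa [mul_assoc] using Commute.cj (show Commute _ _ from e5.2 _ (mem_conj_smul_iff.mp hk)) (l * g))) ha hb
      have a2 := card_half (A := MulAut.conj (l * g) • T v ⊓ MulAut.conj n • T v) (D := T v) fun a ha b hb =>
        d.ti.mul_mem_of_notMem c.t3 (cube_of_two d.twoS) d.SH (uS ha.2) (uS hb.2)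
      have a3 := d.sqrt4 e1 e2 (A := MulAut.conj (l * g) • T v ⊓ MulAut.conj n • T v ⊓ T v) inf_le_right
        fun k hk => by
          simpa [mul_assoc] using Commute.cj (show Commute _ _ from ha.2 _ (mem_conj_smul_iff.mp hk.1.1)) (l * g)
      rw [card_conj_smul] at a1
      nlinarith
  let O : Subgroup G :=
    { carrier := {a | ∀ g ∈ centralizer {v} ⊔ zpowers n, g * a * g⁻¹ ∈ T v}
      one_mem' := fun g _ => by simp
      mul_mem' := fun {a b} ha hb g hg => by
        convert mul_mem (ha g hg) (hb g hg) using 1; group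
      inv_mem' := fun {a} ha g hg => by
        convert inv_mem (ha g hg) using 1; group }
  have hO : ∀ k ∈ centralizer {v} ⊔ zpowers n, ∀ a ∈ O, k * a * k⁻¹ ∈ O := fun k hk a ha g hg => by
    convert ha _ (mul_mem hg hk) using 1; group
  exact OV O (fun a ha => by simpa using ha 1 (one_mem _))
    (fun g hg => cp g hg v ⟨vT, fun t ht => (d.uS (mem_sup_left ht)).eq⟩)
    (fun g hg => hO g (mem_sup_left (d.SH hg))) (hO x (mem_sup_left d.ti.mem))
    (hO n (mem_sup_right (mem_zpowers n)))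

end Cfsg.Agent.L0.C12
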