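import Cfsg.Agent.H1.ElDef

set_option autoImplicit false
set_option linter.unusedSectionVars false

namespace Cfsg.Agent.H1.El

section general
variable {G : Type*} [Group G]

theorem cj_cj (w g : G) (E : Subgroup G) : cj w (cj g E) = cj (w * g) E := by
  ext y; simp [mem_cj, mul_assoc]

theorem cj_one (E : Subgroup G) : cj 1 E = E := by
  ext y; simp [mem_cj]

theorem conj_mem_cj {g e : G} {E : Subgroup G} (he : e ∈ E) : g * e * g⁻¹ ∈ cj g E := by
  simpa [mem_cj, mul_assoc] using he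

theorem card_cj (g : G) (E : Subgroup G) : Nat.card (cj g E) = Nat.card E :=
  Nat.card_congr
    { toFun := fun y => ⟨g⁻¹ * y * g, mem_cj.1 y.2⟩
      invFun := fun e => ⟨g * e * g⁻¹, conj_mem_cj e.2⟩
      left_inv := fun y => by ext; simp [mul_assoc]
      right_inv := fun y => by ext; simp [mul_assoc] }

theorem pg_cj {p : ℕ} {E : Subgroup G} (hE : IsPGroup p E) (g : G) : IsPGroup p (cj g E) := by
  intro y
  obtain ⟨k, hk⟩ := hE ⟨_, mem_cj.1 y.2⟩
  refine ⟨k, Subtype.ext ?_⟩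
  have h1 : (g⁻¹ * y * g) ^ p ^ k = 1 := congrArg Subtype.val hk
  have h2 : (g⁻¹ * y * g⁻¹⁻¹) ^ p ^ k = g⁻¹ * y ^ p ^ k * g⁻¹⁻¹ := conj_pow
  rw [inv_inv, h1] at h2
  have : (y : G) ^ p ^ k = g * (g⁻¹ * y ^ p ^ k * g) * g⁻¹ := by group
  rw [← h2] at this
  simpa using this

theorem mem_smul_syl {p : ℕ} (S : Sylow p G) (w y : G) :
    y ∈ ((w • S : Sylow p G) : Subgroup G) ↔ w⁻¹ * y * w ∈ (S : Subgroup G) := by
  rw [Sylow.coe_subgroup_smul, Subgroup.mem_pointwise_smul_iff_inv_smul_mem]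
  simp

/-- `A` is a Sylow subgroup of `W`; every `p`-subgroup of `W` is conjugate into `A`. -/
theorem sy [Finite G] {p : ℕ} (hp : p.Prime) {W A D : Subgroup G} (hA : IsPGroup p A)
    (hD : IsPGroup p D) (h1 : A ≤ W) (h2 : D ≤ W) (hn : ¬ p * Nat.card A ∣ Nat.card W) :
    ∃ w ∈ W, D ≤ cj w A := by
  haveI := Fact.mk hp
  have hA' : IsPGroup p (A.subgroupOf W) := hA.comap_subtype
  have hD' : IsPGroup p (D.subgroupOf W) := hD.comap_subtype
  obtain ⟨S, hS⟩ := hA'.exists_le_sylow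
  obtain ⟨T, hT⟩ := hD'.exists_le_sylow
  obtain ⟨w, hw⟩ := MulAction.exists_smul_eq W S T
  have hc : Nat.card (A.subgroupOf W) = Nat.card A :=
    Nat.card_congr (Subgroup.subgroupOfEquivOfLe h1).toEquiv
  have hSA : A.subgroupOf W = S := by
    obtain ⟨m, hm⟩ := Subgroup.card_dvd_of_le hS
    obtain ⟨k, hk⟩ := IsPGroup.iff_card.1 S.isPGroup'
    have hm1 : m = 1 := by
      have : m ∣ p ^ k := hk ▸ hm ▸ Dvd.intro_left _ rfl
      obtain ⟨i, -, rfl⟩ := (Nat.dvd_prime_pow hp).1 this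
      rcases i with _ | i
      · rfl
      · exfalso; apply hn
        refine Dvd.dvd.trans ?_ (Subgroup.card_subgroup_dvd_card (S : Subgroup W))
        rw [hm, hc]; exact ⟨p ^ i, by ring⟩
    exact Subgroup.eq_of_le_of_card_ge hS (by rw [hm, hm1, mul_one])
  refine ⟨w, w.2, fun d hd => ?_⟩
  have h3 : (⟨d, h2 hd⟩ : W) ∈ ((w • S : Sylow p W) : Subgroup W) := by
    rw [hw]; exact hT hd
  rw [mem_smul_syl, ← hSA] at h3
  exact mem_cj.2 h3

end general

variable {G : Type*} [Group G] [Finite G] {Ω : Type*} [MulAction G Ω] [FaithfulSMul G Ω]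
  [Fintype Ω] [DecidableEq Ω] {p q : ℕ}

theorem Bas.card_G (h : Bas G Ω p q) (a : Ω) :
    Nat.card G = Nat.card (MulAction.stabilizer G a) * (2 * p * q) := by
  haveI : MulAction.IsPretransitive G Ω := ⟨h.tr⟩
  rw [← h.card, ← Nat.card_eq_fintype_card, ← MulAction.index_stabilizer_of_transitive G a,
    Subgroup.card_mul_index]

variable {P : Sylow p G} {E : Subgroup G} {x : G} {F : Finset Ω}

theorem Cx.five (h : Cx p q P E x F) : 5 ≤ p ∧ q + 2 ≤ p ∧ p < 2 * q := by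
  have h1 := h.card; have h2 := h.cardF
  have q2 := h.hq.two_le; have q3 := h.q2; have qp := h.qp
  have hpo : p % 2 = 1 := Nat.odd_iff.1 (h.hp.odd_of_ne_two (by omega))
  have hqo : q % 2 = 1 := Nat.odd_iff.1 (h.hq.odd_of_ne_two q3)
  have : p ≤ 2 * q := by
    by_contra hc
    have : 2 * q < p := by omega
    nlinarith
  omega

theorem Cx.cF (h : Cx p q P E x F) : F.card = (2 * q - p) * p := by
  have h1 := h.card; have h2 := h.cardF
  obtain ⟨s, hs⟩ := Nat.exists_eq_add_of_le h.five.2.2.le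
  rw [hs, Nat.add_sub_cancel_left]
  have : 2 * p * q = p * (2 * q) := by ring
  rw [this, hs] at h1
  nlinarith

theorem Cx.nrm (h : Cx p q P E x F) : ∀ g ∈ (P : Subgroup G), ∀ e ∈ E, g * e * g⁻¹ ∈ E := by
  intro g hg e he
  refine (h.om _ (mul_mem (mul_mem hg (h.le he)) (inv_mem hg))).1 ?_
  rw [conj_pow, (h.om e (h.le he)).2 he]; simp

theorem Cx.normal (h : Cx p q P E x F) : (E.subgroupOf (P : Subgroup G)).Normal :=
  ⟨fun e he g => h.nrm g g.2 e he⟩

theorem Cx.index (h : Cx p q P E x F) : (E.subgroupOf (P : Subgroup G)).index = p := by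
  have h1 := (E.subgroupOf (P : Subgroup G)).card_mul_index
  have hc : Nat.card (E.subgroupOf (P : Subgroup G)) = Nat.card E :=
    Nat.card_congr (Subgroup.subgroupOfEquivOfLe h.le).toEquiv
  rw [hc, h.idx, mul_comm] at h1
  exact Nat.eq_of_mul_eq_mul_right Nat.card_pos h1

theorem Cx.zE (h : Cx p q P E x F) : x ^ p ∈ E := by
  haveI := h.normal
  have := (E.subgroupOf (P : Subgroup G)).pow_index_mem ⟨x, h.xP⟩
  rw [h.index] at this
  exact this

theorem Cx.exL (h : Cx p q P E x F) : ∃ a, a ∉ F := by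
  by_contra hc
  push Not at hc
  have h1 : F = Finset.univ := Finset.eq_univ_iff_forall.2 hc
  have h2 := h.cardF
  rw [h1, Finset.card_univ] at h2
  have := h.hp.pos
  have : 0 < p ^ 2 := by positivity
  omega

theorem Cx.exF (h : Cx p q P E x F) : ∃ a, a ∈ F := by
  have := h.five
  exact Finset.card_pos.1 (by rw [h.cF]; exact Nat.mul_pos (by omega) (by omega))

theorem Cx.ord (h : Cx p q P E x F) : orderOf x = p ^ 2 := by
  haveI := Fact.mk h.hp
  obtain ⟨a, ha⟩ := h.exL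
  refine orderOf_eq_prime_pow (n := 1) ?_ ?_
  · intro hc; apply h.zmv a ha; rw [pow_one] at hc; rw [hc, one_smul]
  · rw [show p ^ (1 + 1) = p * p by ring, pow_mul]
    exact (h.om _ (h.le h.zE)).2 h.zE

theorem Cx.gen (h : Cx p q P E x F) :
    ∀ g ∈ (P : Subgroup G), ∃ e ∈ E, ∃ k : ℕ, g = e * x ^ k := by
  intro g hg
  haveI := Fact.mk h.hp
  haveI := h.normal
  have hx : ((⟨x, h.xP⟩ : (P : Subgroup G)) : (P : Subgroup G) ⧸ E.subgroupOf (P : Subgroup G)) ≠ 1 := by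
    rw [Ne, QuotientGroup.eq_one_iff]; exact h.xE
  obtain ⟨k, hk⟩ := mem_powers_of_prime_card (p := p) h.index
    (g' := ((⟨g, hg⟩ : (P : Subgroup G)) : (P : Subgroup G) ⧸ E.subgroupOf (P : Subgroup G))) hx
  have hk' : (((⟨x, h.xP⟩ : (P : Subgroup G)) ^ k : (P : Subgroup G)) :
      (P : Subgroup G) ⧸ E.subgroupOf (P : Subgroup G)) = (⟨g, hg⟩ : (P : Subgroup G)) := by
    rw [QuotientGroup.mk_pow]; exact hk
  have h3 : (x ^ k)⁻¹ * g ∈ E := by
    have := QuotientGroup.eq.1 hk'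
    simpa [Subgroup.mem_subgroupOf] using this
  exact ⟨_, h.nrm (x ^ k) (pow_mem h.xP k) _ h3, k, by group⟩

theorem Cx.invF (h : Cx p q P E x F) {n : G} (hn : ∀ e ∈ E, n * e * n⁻¹ ∈ E) (a : Ω) :
    n • a ∈ F ↔ a ∈ F := by
  have hn' : ∀ e, e ∈ E ↔ n * e * n⁻¹ ∈ E :=
    Subgroup.mem_normalizer_fintype (S := (E : Set G)) hn
  rw [h.memF, h.memF]
  constructor
  · intro H e he
    have := H _ (hn e he)
    rw [smul_smul, inv_mul_cancel_right, mul_smul] at this
    exact smul_left_cancel n this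
  · intro H e he
    have h1 : n⁻¹ * e * n ∈ E := (hn' _).2 (by simpa [mul_assoc] using he)
    have := H _ h1
    rw [mul_smul, mul_smul, inv_smul_eq_iff] at this
    exact this

theorem Cx.invP (h : Cx p q P E x F) {g : G} (hg : g ∈ (P : Subgroup G)) (a : Ω) :
    g • a ∈ F ↔ a ∈ F := h.invF (h.nrm g hg) a

theorem Cx.reg (h : Cx p q P E x F) {a : Ω} (ha : a ∉ F) {k : ℕ} :
    x ^ k • a = a ↔ p ^ 2 ∣ k := by
  rw [MulAction.pow_smul_eq_iff_period_dvd]
  have h1 : MulAction.period x a ∣ p ^ 2 := h.ord ▸ MulAction.period_dvd_orderOf x a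
  have h2 : ¬ MulAction.period x a ∣ p := fun hc =>
    h.zmv a ha (MulAction.pow_smul_eq_iff_period_dvd.2 hc)
  obtain ⟨i, hi, he⟩ := (Nat.dvd_prime_pow h.hp).1 h1
  have : i = 2 := by
    by_contra hc
    apply h2; rw [he]
    have : i ≤ 1 := by omega
    simpa using pow_dvd_pow p this
  rw [he, this]

theorem Cx.trL (h : Cx p q P E x F) {a b : Ω} (ha : a ∉ F) (hb : b ∉ F) :
    ∃ k : ℕ, x ^ k • a = b := by
  have key : ∀ i j, i ≤ j → j < p ^ 2 → x ^ i • a = x ^ j • a → i = j := by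
    intro i j hij hj he
    obtain ⟨d, rfl⟩ := Nat.exists_eq_add_of_le hij
    rw [pow_add, mul_smul] at he
    have := (h.reg ha).1 (smul_left_cancel _ he).symm
    have := Nat.eq_zero_of_dvd_of_lt this (by omega)
    omega
  have h1 : ((Finset.range (p ^ 2)).image fun k => x ^ k • a) = Fᶜ := by
    apply Finset.eq_of_subset_of_card_le
    · intro c hc
      obtain ⟨k, -, rfl⟩ := Finset.mem_image.1 hc
      rw [Finset.mem_compl, h.invP (pow_mem h.xP k)]; exact ha
    · rw [Finset.card_image_of_injOn, Finset.card_range, Finset.card_compl, h.cardF]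
      · omega
      · intro i hi j hj he
        rcases le_total i j with hij | hij
        · exact key i j hij (by simpa using hj) he
        · exact (key j i hij (by simpa using hi) he.symm).symm
  have : b ∈ (Finset.range (p ^ 2)).image fun k => x ^ k • a := by
    rw [h1]; exact Finset.mem_compl.2 hb
  obtain ⟨k, -, hk⟩ := Finset.mem_image.1 this
  exact ⟨k, hk⟩

theorem Cx.ndvd (h : Cx p q P E x F) (a : Ω) :
    ¬ p * Nat.card E ∣ Nat.card (MulAction.stabilizer G a) := by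
  haveI := Fact.mk h.hp
  rintro ⟨m, hm⟩
  have h1 := h.toBas.card_G a
  have h2 := (P : Subgroup G).card_mul_index
  rw [h1, hm, ← h.idx, mul_assoc] at h2
  apply P.not_dvd_index
  rw [Nat.eq_of_mul_eq_mul_left Nat.card_pos h2]
  exact ⟨m * 2 * q, by ring⟩

theorem Cx.regF (h : Cx p q P E x F) {a : Ω} (ha : a ∈ F) {k : ℕ} :
    x ^ k • a = a ↔ p ∣ k := by
  rw [MulAction.pow_smul_eq_iff_period_dvd]
  have h1 : MulAction.period x a ∣ p :=
    MulAction.pow_smul_eq_iff_period_dvd.1 ((h.memF a).1 ha _ h.zE)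
  rcases (Nat.dvd_prime h.hp).1 h1 with he | he
  · exfalso
    have hx : x • a = a := MulAction.period_eq_one_iff.1 he
    apply h.ndvd a
    rw [← h.idx]
    apply Subgroup.card_dvd_of_le
    intro g hg
    obtain ⟨e, he, k, rfl⟩ := h.gen g hg
    exact mul_mem ((h.memF a).1 ha e he) (pow_mem (show x ∈ MulAction.stabilizer G a from hx) k)
  · rw [he]

theorem Cx.stabP (h : Cx p q P E x F) {y : G} (hy : y ∈ (P : Subgroup G)) {a : Ω}
    (ha : y • a = a) : y ∈ E := by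
  obtain ⟨e, he, k, rfl⟩ := h.gen y hy
  have hk : p ∣ k := by
    rw [mul_smul, ← eq_inv_smul_iff] at ha
    by_cases hF : a ∈ F
    · rw [(h.memF a).1 hF _ (inv_mem he)] at ha
      exact (h.regF hF).1 ha
    · obtain ⟨j, hj⟩ := h.orbE a hF _ (inv_mem he)
      obtain ⟨r, hr⟩ : ∃ r, p ^ 2 = r + 1 :=
        ⟨p ^ 2 - 1, (Nat.sub_add_cancel (pow_pos h.hp.pos 2)).symm⟩
      have h2 : x ^ (r * (p * j) + k) • a = a := by
        rw [pow_add, mul_smul, ha, hj, ← pow_mul, ← mul_smul, ← pow_add]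
        exact (h.reg hF).2 ⟨p * j, by rw [hr]; ring⟩
      have h3 : p ∣ r * (p * j) + k := (dvd_pow_self p two_ne_zero).trans ((h.reg hF).1 h2)
      exact (Nat.dvd_add_right ⟨r * j, by ring⟩).1 h3
  obtain ⟨j, rfl⟩ := hk
  rw [pow_mul]
  exact mul_mem he (pow_mem h.zE j)

theorem Cx.pgE (h : Cx p q P E x F) : IsPGroup p E := P.isPGroup'.to_le h.le

theorem Cx.fix_cj (h : Cx p q P E x F) (g : G) (a : Ω) :
    (∀ y ∈ cj g E, y • a = a) ↔ g⁻¹ • a ∈ F := by
  rw [h.memF]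
  constructor
  · intro H e he
    have := H _ (conj_mem_cj (g := g) he)
    rw [mul_smul, mul_smul, ← eq_inv_smul_iff] at this
    exact this
  · intro H y hy
    have := H _ (mem_cj.1 hy)
    rw [mul_smul, mul_smul, smul_inv_smul] at this
    exact smul_left_cancel _ this

/-- a `p`-subgroup fixing `a` lies in a conjugate of `E` fixing `a` -/
theorem Cx.syl (h : Cx p q P E x F) {D : Subgroup G} (hD : IsPGroup p D) {a : Ω}
    (ha : ∀ d ∈ D, d • a = a) : ∃ g, D ≤ cj g E ∧ ∀ y ∈ cj g E, y • a = a := by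
  obtain ⟨w, hw⟩ := h.exF
  obtain ⟨g, rfl⟩ := h.tr w a
  have h1 : cj g E ≤ MulAction.stabilizer G (g • w) :=
    (h.fix_cj g _).2 (by simpa using hw)
  obtain ⟨u, hu, hle⟩ := sy h.hp (pg_cj h.pgE g) hD h1 ha (by rw [card_cj]; exact h.ndvd _)
  rw [cj_cj] at hle
  refine ⟨u * g, hle, (h.fix_cj _ _).2 ?_⟩
  have hu' : u⁻¹ • g • w = g • w := inv_smul_eq_iff.2 (show u • g • w = g • w from hu).symm
  rw [mul_inv_rev, mul_smul, hu']
  simpa using hw

/-- two conjugates of `E` in a subgroup `W` fixing a point are conjugate in `W` -/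
theorem Cx.cjW (h : Cx p q P E x F) {W : Subgroup G} {a : Ω} (hW : ∀ w ∈ W, w • a = a) {g k : G}
    (hg : cj g E ≤ W) (hk : cj k E ≤ W) : ∃ w ∈ W, cj (w * g) E = cj k E := by
  obtain ⟨u, hu, hle⟩ := sy h.hp (pg_cj h.pgE g) (pg_cj h.pgE k) hg hk (by
    rw [card_cj]
    exact fun hc => h.ndvd a (hc.trans (Subgroup.card_dvd_of_le hW)))
  rw [cj_cj] at hle
  exact ⟨u, hu, (Subgroup.eq_of_le_of_card_ge hle (by rw [card_cj, card_cj])).symm⟩

/-- weak closure -/
theorem Cx.wc (h : Cx p q P E x F) {S : Subgroup G} (hS : IsPGroup p S) {g k : G}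
    (hg : cj g E ≤ S) (hk : cj k E ≤ S) : cj g E = cj k E := by
  haveI := Fact.mk h.hp
  obtain ⟨T, hT⟩ := hS.exists_le_sylow
  obtain ⟨m, rfl⟩ := MulAction.exists_smul_eq G P T
  have key : ∀ g, cj g E ≤ S → cj g E = cj m E := by
    intro g hg
    refine Subgroup.eq_of_le_of_card_ge (fun y hy => ?_) (by rw [card_cj, card_cj])
    have h1 := (mem_smul_syl P m y).1 (hT (hg hy))
    have h2 := (h.om _ (h.le (mem_cj.1 hy))).2 (mem_cj.1 hy)
    refine mem_cj.2 ((h.om _ h1).1 ?_)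
    have e1 : m⁻¹ * y * m = (m⁻¹ * g) * (g⁻¹ * y * g) * (m⁻¹ * g)⁻¹ := by group
    rw [e1, conj_pow, h2]; simp
  rw [key g hg, key k hk]

/-- Witt, for one and two points -/
theorem Cx.witt (h : Cx p q P E x F) {a b : Ω} {g : G} (ha : a ∈ F) (hb : b ∈ F)
    (ha' : g • a ∈ F) (hb' : g • b ∈ F) :
    ∃ n : G, (∀ e, e ∈ E ↔ n * e * n⁻¹ ∈ E) ∧ n • a = g • a ∧ n • b = g • b := by
  obtain ⟨w, hw, he⟩ := h.cjW (W := MulAction.stabilizer G (g • a) ⊓ MulAction.stabilizer G (g • b))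
    (a := g • a) (fun w hw => hw.1) (g := g) (k := 1)
    (le_inf ((h.fix_cj g _).2 (by simpa using ha)) ((h.fix_cj g _).2 (by simpa using hb)))
    (le_inf ((h.fix_cj 1 _).2 (by simpa using ha')) ((h.fix_cj 1 _).2 (by simpa using hb')))
  rw [cj_one] at he
  refine ⟨w * g, fun e => ?_, ?_, ?_⟩
  · conv_rhs => rw [← he, mem_cj]
    simp [mul_assoc]
  · rw [mul_smul]; exact hw.1
  · rw [mul_smul]; exact hw.2

/-- when `E = ⟨z⟩` -/
theorem Cx.cyc (h : Cx p q P E x F) (hE : E = Subgroup.zpowers (x ^ p)) :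
    Nat.card E = p ∧ (P : Subgroup G) = Subgroup.zpowers x ∧ ¬ p ^ 3 ∣ Nat.card G ∧
      ∀ a : Ω, ¬ p ^ 2 ∣ Nat.card (MulAction.stabilizer G a) := by
  haveI := Fact.mk h.hp
  have h1 : Nat.card E = p := by
    rw [hE, Nat.card_zpowers, orderOf_pow_of_dvd h.hp.ne_zero (by rw [h.ord]; exact dvd_pow_self p two_ne_zero),
      h.ord, pow_two, Nat.mul_div_cancel _ h.hp.pos]
  have h2 : Nat.card P = p ^ 2 := by rw [h.idx, h1, pow_two]
  refine ⟨h1, (Subgroup.eq_of_le_of_card_ge (Subgroup.zpowers_le.2 h.xP) ?_).symm, ?_, fun a => ?_⟩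
  · rw [Nat.card_zpowers, h.ord]; exact h2.le
  · rintro ⟨m, hm⟩
    have h3 := (P : Subgroup G).card_mul_index
    rw [hm, show Nat.card (P : Subgroup G) = p ^ 2 from h2, pow_succ p 2, mul_assoc (p ^ 2)] at h3
    apply P.not_dvd_index
    rw [Nat.eq_of_mul_eq_mul_left (pow_pos h.hp.pos 2) h3]
    exact ⟨m, rfl⟩
  · have := h.ndvd a
    rwa [h1, ← pow_two] at this

end Cfsg.Agent.H1.El
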