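import Mathlib

set_option autoImplicit false

namespace Cfsg.Agent.H1.El

variable {G : Type*} [Group G]

/-- the conjugate `g E g⁻¹` -/
def cj (g : G) (E : Subgroup G) : Subgroup G := E.comap (MulAut.conj g⁻¹).toMonoidHom

theorem mem_cj {g y : G} {E : Subgroup G} : y ∈ cj g E ↔ g⁻¹ * y * g ∈ E := by
  simp [cj]

/-- basic data: transitive of degree `2pq`, `q < p`, all elements of prime order fix a point -/
structure Bas (G Ω : Type*) [Group G] [MulAction G Ω] [Fintype Ω] (p q : ℕ) : Prop where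
  hp : p.Prime
  hq : q.Prime
  q2 : q ≠ 2
  qp : q < p
  card : Fintype.card Ω = 2 * p * q
  tr : ∀ a b : Ω, ∃ g : G, g • a = b
  el : ∀ g : G, (orderOf g).Prime → ∃ a : Ω, g • a = a

/-- case I: `E = Ω₁(P)` has index `p` in the Sylow subgroup `P`, fixes `F` pointwise, `x ∈ P \ E`,
`z = x ^ p` moves the `p ^ 2` points outside `F`. -/
structure Cx {Ω : Type*} [MulAction G Ω] [Fintype Ω] (p q : ℕ) (P : Sylow p G) (E : Subgroup G)
    (x : G) (F : Finset Ω) : Prop extends Bas G Ω p q where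
  le : E ≤ P
  idx : Nat.card P = p * Nat.card E
  comm : ∀ a ∈ E, ∀ b ∈ E, a * b = b * a
  om : ∀ y ∈ (P : Subgroup G), y ^ p = 1 ↔ y ∈ E
  xP : x ∈ (P : Subgroup G)
  xE : x ∉ E
  memF : ∀ a, a ∈ F ↔ ∀ e ∈ E, e • a = a
  cardF : Fintype.card Ω = p ^ 2 + F.card
  zmv : ∀ a, a ∉ F → x ^ p • a ≠ a
  orbE : ∀ a, a ∉ F → ∀ e ∈ E, ∃ k : ℕ, e • a = (x ^ p) ^ k • a

end Cfsg.Agent.H1.El
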