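import Cfsg.Agent.H1.ElA
import Cfsg.Agent.H8.Marggraff

set_option autoImplicit false
set_option linter.unusedSectionVars false

namespace Cfsg.Agent.H1.El

variable {G : Type*} [Group G] [Finite G] {Ω : Type*} [MulAction G Ω] [FaithfulSMul G Ω]
  [Fintype Ω] [DecidableEq Ω] {p q : ℕ}

theorem Bas.not_alt (h : Bas G Ω p q)
    (hA : alternatingGroup Ω ≤ (MulAction.toPermHom G Ω).range) : False := by
  haveI := Fact.mk h.hp
  have hp2 : p ≠ 2 := by have := h.hq.two_le; have := h.qp; omega
  let e : Ω ≃ Fin (2 * q) × ZMod p :=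
    Fintype.equivOfCardEq (by rw [h.card]; simp; ring)
  let τ : Equiv.Perm (Fin (2 * q) × ZMod p) := Equiv.prodCongr (Equiv.refl _) (Equiv.addRight 1)
  have hτ : ∀ (k : ℕ) (y : Fin (2 * q) × ZMod p), (τ ^ k) y = (y.1, y.2 + k) := by
    intro k
    induction k with
    | zero => intro y; simp
    | succ k ih =>
      intro y
      rw [pow_succ', Equiv.Perm.mul_apply, ih]
      simp [τ, add_assoc]
  let σ : Equiv.Perm Ω := e.symm.permCongrHom τ
  have hσ : σ ^ p = 1 := by
    have : τ ^ p = 1 := by ext1 y; rw [hτ]; simp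
    simp only [σ]; rw [← map_pow, this, map_one]
  have hs : Equiv.Perm.sign σ = 1 := by
    have h1 : Equiv.Perm.sign σ ^ p = 1 := by rw [← map_pow, hσ, map_one]
    rcases Int.units_eq_one_or (Equiv.Perm.sign σ) with h2 | h2
    · exact h2
    · rw [h2, (h.hp.odd_of_ne_two hp2).neg_one_pow] at h1
      exact absurd h1 (by decide)
  obtain ⟨g, hg⟩ := hA (Equiv.Perm.mem_alternatingGroup.2 hs)
  have hmv : ∀ a : Ω, g • a ≠ a := by
    intro a ha
    have h1 : σ a = a := by rw [← hg]; exact ha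
    have h2 : τ (e a) = e a := by
      have : e.symm (τ (e a)) = a := by simpa [σ] using h1
      exact (Equiv.symm_apply_eq e).1 this
    have h3 := hτ 1 (e a)
    rw [pow_one, h2] at h3
    have := congrArg Prod.snd h3
    simp at this
  have hgp : g ^ p = 1 := by
    apply MulAction.toPerm_injective (β := Ω)
    have : MulAction.toPermHom G Ω (g ^ p) = MulAction.toPermHom G Ω 1 := by
      rw [map_pow, hg, hσ, map_one]
    exact this
  have hne : Nonempty Ω := Fintype.card_pos_iff.1 (by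
    rw [h.card]; have := h.hp.pos; have := h.hq.pos; positivity)
  obtain ⟨a⟩ := hne
  have hg1 : g ≠ 1 := fun hc => hmv a (by rw [hc, one_smul])
  obtain ⟨b, hb⟩ := h.el g (by rw [orderOf_eq_prime hgp hg1]; exact h.hp)
  exact hmv b hb

theorem Bas.not_jordan (h : Bas G Ω p q) (hpr : MulAction.IsPreprimitive G Ω) (V : Subgroup G)
    (T : Finset Ω) (h2 : 2 ≤ T.card) (hlt : 2 * T.card < Fintype.card Ω)
    (hfix : ∀ v ∈ V, ∀ a, a ∉ T → v • a = a) (htr : ∀ a ∈ T, ∀ b ∈ T, ∃ v ∈ V, v • a = b) :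
    False := by
  apply h.not_alt
  refine H8.marggraff_alt hpr (Δ := Tᶜ) ?_ (by simpa using h2) ?_
  · intro a ha b hb
    obtain ⟨v, hv, he⟩ := htr a (by simpa using ha) b (by simpa using hb)
    exact ⟨v, fun c hc => hfix v hv c (by simpa using hc), he⟩
  · rw [compl_compl, Finset.card_compl]; omega

end Cfsg.Agent.H1.El
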