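import Mathlib

/-!
# A finite check on sequences with values in `{1, 2, 3}`
-/

set_option autoImplicit false

namespace Cfsg.Agent.H2.F23.Dich

/-- The test holds at `1`, `2`, `3`. -/
def all3 (f : ℕ → Bool) : Bool := f 1 && (f 2 && f 3)

theorem all3_spec {f : ℕ → Bool} (h : all3 f = true) {n : ℕ} (h1 : 1 ≤ n ∧ n ≤ 3) :
    f n = true := by
  simp only [all3, Bool.and_eq_true] at h
  obtain ⟨h1, h3⟩ := h1
  interval_cases n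
  · exact h.1
  · exact h.2.1
  · exact h.2.2

/-- One of the inequalities fails, or the sequence has one of the expected shapes. -/
def leaf (n1 n2 n3 n4 n5 n6 n7 n8 n9 n10 n11 : ℕ) : Bool :=
  Nat.ble 24 (Nat.add (Nat.add (Nat.add (Nat.add (Nat.add (Nat.add (Nat.add (Nat.add (Nat.add
    (Nat.add n1 n2) n3) n4) n5) n6) n7) n8) n9) n10) n11) || (
  Nat.ble (Nat.add (Nat.add (Nat.add (Nat.add (Nat.add (Nat.add 5 (Nat.mul 3 n6)) (Nat.mul 17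
    n7)) (Nat.mul 29 n8)) (Nat.mul 39 n9)) (Nat.mul 46 n10)) (Nat.mul 50 n11)) (Nat.add (Nat.add
    (Nat.add (Nat.add (Nat.mul 48 n1) (Nat.mul 44 n2)) (Nat.mul 34 n3)) (Nat.mul 24 n4))
    (Nat.mul 10 n5)) || (
  Nat.ble (Nat.add (Nat.add (Nat.add (Nat.add (Nat.add (Nat.add 5 (Nat.mul 3 n11)) (Nat.mul 17
    n9)) (Nat.mul 29 n7)) (Nat.mul 39 n5)) (Nat.mul 46 n3)) (Nat.mul 50 n1)) (Nat.add (Nat.add
    (Nat.add (Nat.add (Nat.mul 48 n2) (Nat.mul 44 n4)) (Nat.mul 34 n6)) (Nat.mul 24 n8))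
    (Nat.mul 10 n10)) || (
  Nat.ble (Nat.add (Nat.add (Nat.add (Nat.add (Nat.add (Nat.add 5 (Nat.mul 3 n5)) (Nat.mul 17
    n2)) (Nat.mul 29 n1)) (Nat.mul 39 n4)) (Nat.mul 46 n7)) (Nat.mul 50 n10)) (Nat.add (Nat.add
    (Nat.add (Nat.add (Nat.mul 48 n3) (Nat.mul 44 n6)) (Nat.mul 34 n9)) (Nat.mul 24 n11))
    (Nat.mul 10 n8)) || (
  Nat.ble (Nat.add (Nat.add (Nat.add (Nat.add (Nat.add (Nat.add 5 (Nat.mul 3 n1)) (Nat.mul 17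
    n5)) (Nat.mul 29 n9)) (Nat.mul 39 n10)) (Nat.mul 46 n6)) (Nat.mul 50 n2)) (Nat.add (Nat.add
    (Nat.add (Nat.add (Nat.mul 48 n4) (Nat.mul 44 n8)) (Nat.mul 34 n11)) (Nat.mul 24 n7))
    (Nat.mul 10 n3)) || (
  Nat.ble (Nat.add (Nat.add (Nat.add (Nat.add (Nat.add (Nat.add 5 (Nat.mul 3 n7)) (Nat.mul 17
    n11)) (Nat.mul 29 n6)) (Nat.mul 39 n1)) (Nat.mul 46 n4)) (Nat.mul 50 n9)) (Nat.add (Nat.add
    (Nat.add (Nat.add (Nat.mul 48 n5) (Nat.mul 44 n10)) (Nat.mul 34 n8)) (Nat.mul 24 n3))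
    (Nat.mul 10 n2)) || (
  Nat.ble (Nat.add (Nat.add (Nat.add (Nat.add (Nat.add (Nat.add 5 (Nat.mul 3 n10)) (Nat.mul 17
    n4)) (Nat.mul 29 n2)) (Nat.mul 39 n8)) (Nat.mul 46 n9)) (Nat.mul 50 n3)) (Nat.add (Nat.add
    (Nat.add (Nat.add (Nat.mul 48 n6) (Nat.mul 44 n11)) (Nat.mul 34 n5)) (Nat.mul 24 n1))
    (Nat.mul 10 n7)) || (
  Nat.ble (Nat.add (Nat.add (Nat.add (Nat.add (Nat.add (Nat.add 5 (Nat.mul 3 n4)) (Nat.mul 17
    n3)) (Nat.mul 29 n10)) (Nat.mul 39 n6)) (Nat.mul 46 n1)) (Nat.mul 50 n8)) (Nat.add (Nat.add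
    (Nat.add (Nat.add (Nat.mul 48 n7) (Nat.mul 44 n9)) (Nat.mul 34 n2)) (Nat.mul 24 n5))
    (Nat.mul 10 n11)) || (
  Nat.ble (Nat.add (Nat.add (Nat.add (Nat.add (Nat.add (Nat.add 5 (Nat.mul 3 n2)) (Nat.mul 17
    n10)) (Nat.mul 29 n5)) (Nat.mul 39 n3)) (Nat.mul 46 n11)) (Nat.mul 50 n4)) (Nat.add (Nat.add
    (Nat.add (Nat.add (Nat.mul 48 n8) (Nat.mul 44 n7)) (Nat.mul 34 n1)) (Nat.mul 24 n9))
    (Nat.mul 10 n6)) || (
  Nat.ble (Nat.add (Nat.add (Nat.add (Nat.add (Nat.add (Nat.add 5 (Nat.mul 3 n8)) (Nat.mul 17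
    n6)) (Nat.mul 29 n3)) (Nat.mul 39 n11)) (Nat.mul 46 n2)) (Nat.mul 50 n7)) (Nat.add (Nat.add
    (Nat.add (Nat.add (Nat.mul 48 n9) (Nat.mul 44 n5)) (Nat.mul 34 n4)) (Nat.mul 24 n10))
    (Nat.mul 10 n1)) || (
  Nat.ble (Nat.add (Nat.add (Nat.add (Nat.add (Nat.add (Nat.add 5 (Nat.mul 3 n9)) (Nat.mul 17
    n1)) (Nat.mul 29 n11)) (Nat.mul 39 n2)) (Nat.mul 46 n8)) (Nat.mul 50 n5)) (Nat.add (Nat.add
    (Nat.add (Nat.add (Nat.mul 48 n10) (Nat.mul 44 n3)) (Nat.mul 34 n7)) (Nat.mul 24 n6))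
    (Nat.mul 10 n4)) || (
  Nat.ble (Nat.add (Nat.add (Nat.add (Nat.add (Nat.add (Nat.add 5 (Nat.mul 3 n3)) (Nat.mul 17
    n8)) (Nat.mul 29 n4)) (Nat.mul 39 n7)) (Nat.mul 46 n5)) (Nat.mul 50 n6)) (Nat.add (Nat.add
    (Nat.add (Nat.add (Nat.mul 48 n11) (Nat.mul 44 n1)) (Nat.mul 34 n10)) (Nat.mul 24 n2))
    (Nat.mul 10 n9)) || (
  Nat.ble (Nat.add (Nat.add (Nat.add (Nat.add (Nat.add (Nat.add (Nat.add (Nat.add (Nat.add
    (Nat.add n1 n2) n3) n4) n5) n6) n7) n8) n9) n10) n11) 11 || (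
  Nat.ble (Nat.add (Nat.add (Nat.add (Nat.add (Nat.add (Nat.add (Nat.add (Nat.add (Nat.add
    (Nat.add (Nat.add 43 (Nat.mul n1 n1)) (Nat.mul n2 n2)) (Nat.mul n3 n3)) (Nat.mul n4 n4))
    (Nat.mul n5 n5)) (Nat.mul n6 n6)) (Nat.mul n7 n7)) (Nat.mul n8 n8)) (Nat.mul n9 n9))
    (Nat.mul n10 n10)) (Nat.mul n11 n11)) (Nat.mul 4 (Nat.add (Nat.add (Nat.add (Nat.add
    (Nat.add (Nat.add (Nat.add (Nat.add (Nat.add (Nat.add n1 n2) n3) n4) n5) n6) n7) n8) n9)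
    n10) n11)))))))))))))))

/-- The check with the first two values fixed. -/
def rest (n1 n2 : ℕ) : Bool := all3 fun n3 => all3 fun n4 => all3 fun n5 =>
    all3 fun n6 => all3 fun n7 => all3 fun n8 => all3 fun n9 => all3 fun n10 => all3 fun n11 =>
    leaf n1 n2 n3 n4 n5 n6 n7 n8 n9 n10 n11

theorem rest11 : rest 1 1 = true := by decide +kernel
theorem rest12 : rest 1 2 = true := by decide +kernel
theorem rest13 : rest 1 3 = true := by decide +kernel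
theorem rest21 : rest 2 1 = true := by decide +kernel
theorem rest22 : rest 2 2 = true := by decide +kernel
theorem rest23 : rest 2 3 = true := by decide +kernel
theorem rest31 : rest 3 1 = true := by decide +kernel
theorem rest32 : rest 3 2 = true := by decide +kernel
theorem rest33 : rest 3 3 = true := by decide +kernel

theorem rest_all : (all3 fun n1 => all3 fun n2 => rest n1 n2) = true := by
  simp only [all3, rest11, rest12, rest13, rest21, rest22, rest23, rest31, rest32, rest33,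
    Bool.and_self]

theorem comb (n : ℕ → ℕ) (hb : ∀ i, 1 ≤ i → i ≤ 11 → 1 ≤ n i ∧ n i ≤ 3)
    (hs : n 1 + n 2 + n 3 + n 4 + n 5 + n 6 + n 7 + n 8 + n 9 + n 10 + n 11 ≤ 23)
    (h1 : 48 * n 1 + 44 * n 2 + 34 * n 3 + 24 * n 4 + 10 * n 5 ≤ 4 + 3 * n 6 + 17 * n 7 + 29 * n
      8 + 39 * n 9 + 46 * n 10 + 50 * n 11)
    (h2 : 48 * n 2 + 44 * n 4 + 34 * n 6 + 24 * n 8 + 10 * n 10 ≤ 4 + 3 * n 11 + 17 * n 9 + 29 *
      n 7 + 39 * n 5 + 46 * n 3 + 50 * n 1)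
    (h3 : 48 * n 3 + 44 * n 6 + 34 * n 9 + 24 * n 11 + 10 * n 8 ≤ 4 + 3 * n 5 + 17 * n 2 + 29 *
      n 1 + 39 * n 4 + 46 * n 7 + 50 * n 10)
    (h4 : 48 * n 4 + 44 * n 8 + 34 * n 11 + 24 * n 7 + 10 * n 3 ≤ 4 + 3 * n 1 + 17 * n 5 + 29 *
      n 9 + 39 * n 10 + 46 * n 6 + 50 * n 2)
    (h5 : 48 * n 5 + 44 * n 10 + 34 * n 8 + 24 * n 3 + 10 * n 2 ≤ 4 + 3 * n 7 + 17 * n 11 + 29 *
      n 6 + 39 * n 1 + 46 * n 4 + 50 * n 9)
    (h6 : 48 * n 6 + 44 * n 11 + 34 * n 5 + 24 * n 1 + 10 * n 7 ≤ 4 + 3 * n 10 + 17 * n 4 + 29 *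
      n 2 + 39 * n 8 + 46 * n 9 + 50 * n 3)
    (h7 : 48 * n 7 + 44 * n 9 + 34 * n 2 + 24 * n 5 + 10 * n 11 ≤ 4 + 3 * n 4 + 17 * n 3 + 29 *
      n 10 + 39 * n 6 + 46 * n 1 + 50 * n 8)
    (h8 : 48 * n 8 + 44 * n 7 + 34 * n 1 + 24 * n 9 + 10 * n 6 ≤ 4 + 3 * n 2 + 17 * n 10 + 29 *
      n 5 + 39 * n 3 + 46 * n 11 + 50 * n 4)
    (h9 : 48 * n 9 + 44 * n 5 + 34 * n 4 + 24 * n 10 + 10 * n 1 ≤ 4 + 3 * n 8 + 17 * n 6 + 29 *
      n 3 + 39 * n 11 + 46 * n 2 + 50 * n 7)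
    (h10 : 48 * n 10 + 44 * n 3 + 34 * n 7 + 24 * n 6 + 10 * n 4 ≤ 4 + 3 * n 9 + 17 * n 1 + 29 *
      n 11 + 39 * n 2 + 46 * n 8 + 50 * n 5)
    (h11 : 48 * n 11 + 44 * n 1 + 34 * n 10 + 24 * n 2 + 10 * n 9 ≤ 4 + 3 * n 3 + 17 * n 8 + 29
      * n 4 + 39 * n 7 + 46 * n 5 + 50 * n 6)
    : n 1 + n 2 + n 3 + n 4 + n 5 + n 6 + n 7 + n 8 + n 9 + n 10 + n 11 ≤ 11 ∨ 43 + n 1 * n 1 +
      n 2 * n 2 + n 3 * n 3 + n 4 * n 4 + n 5 * n 5 + n 6 * n 6 + n 7 * n 7 + n 8 * n 8 + n 9 *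
      n 9 + n 10 * n 10 + n 11 * n 11 ≤ 4 * (n 1 + n 2 + n 3 + n 4 + n 5 + n 6 + n 7 + n 8 + n 9
      + n 10 + n 11) := by
  have e0 : rest (n 1) (n 2) = true := (all3_spec (all3_spec rest_all (hb 1 (by norm_num) (by
    norm_num))) (hb 2 (by norm_num) (by norm_num)))
  unfold rest at e0
  have e := (all3_spec (all3_spec (all3_spec (all3_spec (all3_spec (all3_spec (all3_spec
    (all3_spec (all3_spec e0 (hb 3 (by norm_num) (by norm_num))) (hb 4 (by norm_num) (by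
    norm_num))) (hb 5 (by norm_num) (by norm_num))) (hb 6 (by norm_num) (by norm_num))) (hb 7
    (by norm_num) (by norm_num))) (hb 8 (by norm_num) (by norm_num))) (hb 9 (by norm_num) (by
    norm_num))) (hb 10 (by norm_num) (by norm_num))) (hb 11 (by norm_num) (by norm_num)))
  simp only [leaf, Bool.or_eq_true, Nat.ble_eq, Nat.add_eq, Nat.mul_eq] at e
  rcases e with e | e | e | e | e | e | e | e | e | e | e | e | e | e
  · omega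
  · omega
  · omega
  · omega
  · omega
  · omega
  · omega
  · omega
  · omega
  · omega
  · omega
  · omega
  · exact Or.inl e
  · exact Or.inr e

end Cfsg.Agent.H2.F23.Dich
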