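import Cfsg.Agent.H1.F23Dich

/-!
# Rational representations of degree twenty-three: the root lattice of type `A` does not occur
-/

set_option autoImplicit false

namespace Cfsg.Agent.H2.F23

open Module

namespace Dich

theorem root_arith {d : ℕ} (sq : Squarefree d) (nd : ¬ 23 ∣ d) {k j r t N : ℤ}
    (hk : 22 + k ^ 2 * d = 23 * N) (hr : k * d * j = r + 23 * t) (r0 : 0 ≤ r) (r1 : r < 23)
    (hb : r * (23 - r) + d * j ^ 2 ≤ 46) : j = 0 ∨ d = 1 ∨ (d = 6 ∧ (j = 2 ∨ j = -2)) := by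
  by_cases j0 : j = 0
  · exact Or.inl j0
  right
  have e : (d : ℤ) * j ^ 2 = r ^ 2 + 23 * (2 * r * t + 23 * t ^ 2 - (N - 1) * (d * j ^ 2)) := by
    linear_combination (k * d * j + r + 23 * t) * hr - (d * j ^ 2) * hk
  generalize 2 * r * t + 23 * t ^ 2 - (N - 1) * (d * j ^ 2) = s at e
  have d0 : d ≠ 0 := sq.ne_zero
  have j1 : 1 ≤ j ^ 2 := by have := sq_pos_of_ne_zero j0; omega
  have d1 : (1 : ℤ) ≤ d := by exact_mod_cast Nat.pos_of_ne_zero d0
  have p : 1 ≤ (d : ℤ) * j ^ 2 := by nlinarith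
  have key : (d : ℤ) * j ^ 2 = 1 ∨ (d : ℤ) * j ^ 2 = 4 ∨ (d : ℤ) * j ^ 2 = 23 ∨
      (d : ℤ) * j ^ 2 = 24 ∨ (d : ℤ) * j ^ 2 = 46 := by
    generalize (d : ℤ) * j ^ 2 = u at *
    interval_cases r <;> omega
  have ja : j ≤ 6 := by nlinarith
  have jb : -6 ≤ j := by nlinarith
  have n4 : ¬ 4 ∣ d := fun e => by
    have := sq 2 e
    norm_num at this
  interval_cases j <;> omega

end Dich

open Dich

variable {V : Type*} [AddCommGroup V] [Module ℚ V] {G : Type*} [Group G]

namespace Lat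

variable {ρ : Representation ℚ G V} {B : LinearMap.BilinForm ℚ V} {L : Submodule ℤ V}
  {x : G} {w : V} {d : ℕ} (h : Lat ρ B L x w d)
include h

theorem notA_norm {u : V} (u0 : B u w = 0)
    (hu : ∀ i, 0 < i → i < 23 → B u (ρ (x ^ i) u) = -1 / 23) : B u u = 22 / 23 := by
  have := h.norm_eq u0
  rw [Finset.sum_congr rfl fun i hi => by
    rw [hu (i + 1) (by omega) (by have := Finset.mem_range.mp hi; omega)]] at this
  simp only [Finset.sum_const, Finset.card_range, nsmul_eq_mul] at this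
  push_cast at this
  linarith

theorem notA_frame {u : V} (u0 : B u w = 0)
    (hu : ∀ i, 0 < i → i < 23 → B u (ρ (x ^ i) u) = -1 / 23) {a b : V} (a0 : B a w = 0)
    (b0 : B b w = 0) :
    B a b = ∑ i ∈ Finset.range 23, B a (ρ (x ^ i) u) * B b (ρ (x ^ i) u) := by
  have uu := h.notA_norm u0 hu
  have e1 := h.dich_frame u0 uu hu a0
  have e2 := h.dich_frame u0 uu hu b0
  have e3 := h.dich_frame u0 uu hu (z := a + b) (by simp [a0, b0])
  simp only [map_add, LinearMap.add_apply, add_sq, Finset.sum_add_distrib, h.symm b a, mul_assoc,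
    ← Finset.mul_sum] at e3
  linarith

theorem notA_lift {u : V} (hy : PP B L w u) (uu : B u u = 22 / 23) :
    ∃ k N : ℤ, u + ((k : ℚ) * d / 23) • w ∈ L ∧ 22 + k ^ 2 * d = 23 * N := by
  obtain ⟨k, hk⟩ := h.PP_add hy
  obtain ⟨N, hN⟩ := h.int _ hk _ hk
  simp only [map_add, map_smul, LinearMap.add_apply, LinearMap.smul_apply, smul_eq_mul,
    h.symm w u, hy.1, uu] at hN
  have : (22 : ℚ) + k ^ 2 * d = 23 * N := by
    linear_combination 23 * hN - (k ^ 2 * d / 23) * h.ww
  exact ⟨k, N, hk, by exact_mod_cast this⟩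

theorem notA_root {u : V} (hy : PP B L w u)
    (hu : ∀ i, 0 < i → i < 23 → B u (ρ (x ^ i) u) = -1 / 23) {z : V} (hz : z ∈ L)
    (z2 : B z z = 2) : B z w = 0 ∨ d = 1 ∨ (d = 6 ∧ (B z w = 2 ∨ B z w = -2)) := by
  have uu := h.notA_norm hy.1 hu
  obtain ⟨k, N, hk, hN⟩ := h.notA_lift hy uu
  obtain ⟨j, hj⟩ := h.wint z hz
  obtain ⟨r, t, hr, r0, r1⟩ : ∃ r t : ℤ, k * d * j = r + 23 * t ∧ 0 ≤ r ∧ r < 23 :=
    ⟨k * d * j % 23, k * d * j / 23, by omega, by omega, by omega⟩
  have hr' : (k : ℚ) * d * j = r + 23 * t := by exact_mod_cast hr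
  have ex : ∀ i, ∃ m : ℤ, B z (ρ (x ^ i) u) = m - r / 23 := fun i => by
    obtain ⟨m, hm⟩ := h.int z hz _ (h.invL (x ^ i) _ hk)
    simp only [map_add, map_smul, h.xiw, smul_eq_mul, hj] at hm
    exact ⟨m - t, by push_cast; linear_combination hm - hr' / 23⟩
  choose m hm using ex
  have s0 : ∑ i ∈ Finset.range 23, B z (ρ (x ^ i) u) = 0 := by
    rw [← map_sum, h.sumX, hy.1, mul_zero, zero_smul, map_zero]
  have p0 : B (z - (d * B z w / 23) • w) w = 0 := by
    simp only [map_sub, map_smul, LinearMap.sub_apply, LinearMap.smul_apply, smul_eq_mul]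
    linear_combination (-(B z w) / 23) * h.ww
  have fr := h.dich_frame hy.1 uu hu p0
  rw [h.norm_proj, z2, hj] at fr
  simp only [map_sub, map_smul, LinearMap.sub_apply, LinearMap.smul_apply, smul_eq_mul,
    h.symm w, h.B_xi_w, hy.1, mul_zero, sub_zero] at fr
  have pos : 0 ≤ ∑ i ∈ Finset.range 23, ((m i : ℚ) ^ 2 - m i) := Finset.sum_nonneg fun i _ => by
    have : 0 ≤ m i ^ 2 - m i := by nlinarith [sq_nonneg (2 * m i - 1), Int.le_self_sq (m i)]
    exact_mod_cast this
  simp only [hm, sub_sq, Finset.sum_add_distrib, Finset.sum_sub_distrib, Finset.sum_const,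
    Finset.card_range, nsmul_eq_mul, ← Finset.sum_mul, ← Finset.mul_sum] at fr s0 pos
  push_cast at fr s0
  have sm : ∑ i ∈ Finset.range 23, (m i : ℚ) = r := by linarith
  rw [sm] at fr pos
  have hb : (r : ℚ) * (23 - r) + d * j ^ 2 ≤ 46 := by linarith
  rw [hj]
  rcases root_arith h.sqf h.nd hN hr r0 r1 (by exact_mod_cast hb) with e | e | ⟨e, e' | e'⟩
  · left; exact_mod_cast e
  · right; left; exact e
  · right; right; exact ⟨e, Or.inl (by exact_mod_cast e')⟩
  · right; right; exact ⟨e, Or.inr (by exact_mod_cast e')⟩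

theorem notA_diff {u : V} (u0 : B u w = 0)
    (hu : ∀ i, 0 < i → i < 23 → B u (ρ (x ^ i) u) = -1 / 23) {i : ℕ} (i0 : 0 < i) (i1 : i < 23) :
    B (u - ρ (x ^ i) u) (u - ρ (x ^ i) u) = 2 := by
  simp only [map_sub, LinearMap.sub_apply, h.inv, h.symm (ρ (x ^ i) u) u, hu i i0 i1,
    h.notA_norm u0 hu]
  norm_num

theorem notA'
    (i23 : ∀ a, a ≠ 0 → ¬ ∀ g, ρ g a = a ∨ ρ g a = -a ∨ B (ρ g a) a = 0)
    (i24 : ¬ ∀ g, ρ g w = w ∨ ρ g w = -w ∨ ((d : ℚ) * B (ρ g w) w) ^ 2 = 1) :
    ¬ CaseA ρ B L x w := by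
  rintro ⟨u, hy, hu⟩
  have uu := h.notA_norm hy.1 hu
  by_cases d1 : d = 1
  · obtain ⟨k, N, hk, hN⟩ := h.notA_lift hy uu
    subst d1
    obtain ⟨e, t, ht, he⟩ : ∃ e t : ℤ, k = e + 23 * t ∧ e ^ 2 = 1 := by
      have : (23 : ℤ) ∣ (k - 1) * (k + 1) := ⟨N - 1, by push_cast at hN; linarith⟩
      rcases (Int.prime_iff_natAbs_prime.mpr (by norm_num)).dvd_or_dvd this with ⟨t, ht⟩ | ⟨t, ht⟩
      · exact ⟨1, t, by linarith, by norm_num⟩
      · exact ⟨-1, t, by linarith, by norm_num⟩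
    have he' : (e : ℚ) ^ 2 = 1 := by exact_mod_cast he
    have hl : u + ((e : ℚ) / 23) • w ∈ L := by
      have := L.sub_mem hk ((h.dw t).mpr ⟨t, by simp⟩)
      rw [add_sub_assoc, ← sub_smul] at this
      convert this using 3
      rw [ht]
      push_cast
      ring
    have ll : B (u + ((e : ℚ) / 23) • w) (u + ((e : ℚ) / 23) • w) = 1 := by
      have := h.ww
      simp only [map_add, map_smul, LinearMap.add_apply, LinearMap.smul_apply, smul_eq_mul,
        h.symm w u, hy.1, uu]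
      push_cast at this
      linear_combination (e ^ 2 / 529) * this + he' / 23
    generalize u + ((e : ℚ) / 23) • w = l at hl ll
    refine i23 l (by rintro rfl; simp at ll) fun g => ?_
    obtain ⟨n, hn⟩ := h.int _ (h.invL g l hl) l hl
    have p1 : B (ρ g l - l) (ρ g l - l) = 2 - 2 * n := by
      simp only [map_sub, LinearMap.sub_apply, h.inv, h.symm l (ρ g l), hn, ll]
      ring
    have p2 : B (ρ g l + l) (ρ g l + l) = 2 + 2 * n := by
      simp only [map_add, LinearMap.add_apply, h.inv, h.symm l (ρ g l), hn, ll]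
      ring
    have q1 := h.toRep.nonneg (ρ g l - l)
    have q2 := h.toRep.nonneg (ρ g l + l)
    have n1 : n ≤ 1 := by
      have : (n : ℚ) ≤ 1 := by linarith
      exact_mod_cast this
    have n2 : -1 ≤ n := by
      have : (-1 : ℚ) ≤ n := by linarith
      exact_mod_cast this
    interval_cases n
    · exact Or.inr (Or.inl (eq_neg_of_add_eq_zero_left (h.toRep.eq_zero (by rw [p2]; norm_num))))
    · exact Or.inr (Or.inr (by rw [hn]; norm_num))
    · exact Or.inl (sub_eq_zero.mp (h.toRep.eq_zero (by rw [p1]; norm_num)))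
  by_cases d6 : d = 6
  · refine i24 fun g => ?_
    have ev : ∀ i < 23, ∃ k : ℤ, B (ρ g w) (u - ρ (x ^ i) u) = 2 * k := fun i hi => by
      rcases Nat.eq_zero_or_pos i with rfl | i0
      · exact ⟨0, by simp⟩
      rw [h.toRep.adj, h.symm]
      rcases h.notA_root hy hu (h.invL g⁻¹ _ (h.PP_sub hy i))
        (by rw [h.inv]; exact h.notA_diff hy.1 hu i0 hi) with e | e | ⟨-, e | e⟩
      · exact ⟨0, by rw [e]; norm_num⟩
      · exact absurd e d1
      · exact ⟨1, by rw [e]; norm_num⟩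
      · exact ⟨-1, by rw [e]; norm_num⟩
    have p0 : B (ρ g w - (d * B (ρ g w) w / 23) • w) w = 0 := by
      simp only [map_sub, map_smul, LinearMap.sub_apply, LinearMap.smul_apply, smul_eq_mul]
      linear_combination (-(B (ρ g w) w) / 23) * h.ww
    have np := h.norm_proj (ρ g w)
    have hP : PP B L w ((1 / 2 : ℚ) • (ρ g w - (d * B (ρ g w) w / 23) • w)) := by
      refine ⟨by rw [LinearMap.map_smul₂, p0, smul_zero], fun a ha a0 => ?_⟩
      rw [LinearMap.map_smul₂, h.notA_frame hy.1 hu p0 a0]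
      have s0 : ∑ i ∈ Finset.range 23, B a (ρ (x ^ i) u) = 0 := by
        rw [← map_sum, h.sumX, hy.1, mul_zero, zero_smul, map_zero]
      obtain ⟨k, hk⟩ := exists_int_sum (Finset.range 23)
        (fun i => -(1 / 2) * B (ρ g w) (u - ρ (x ^ i) u) * B a (ρ (x ^ i) u)) fun i hi => by
          obtain ⟨k, hk⟩ := ev i (Finset.mem_range.mp hi)
          obtain ⟨m, hm⟩ := (h.PP_x hy i).2 a ha a0
          exact ⟨-k * m, by rw [hk, h.symm a, hm]; push_cast; ring⟩
      refine ⟨k, ?_⟩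
      rw [← hk]
      simp only [map_sub, map_smul, LinearMap.sub_apply, LinearMap.smul_apply, smul_eq_mul,
        h.symm w, h.B_xi_w, hy.1, mul_zero, sub_zero, mul_sub, sub_mul, Finset.sum_sub_distrib,
        ← Finset.mul_sum, s0, mul_assoc]
      ring
    obtain ⟨n, hn, n11⟩ := h.PP_norm hP
    by_cases y0 : (1 / 2 : ℚ) • (ρ g w - (d * B (ρ g w) w / 23) • w) = 0
    · have e := sub_eq_zero.mp ((smul_eq_zero.mp y0).resolve_left (by norm_num))
      generalize (d * B (ρ g w) w / 23 : ℚ) = c at e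
      have e2 := h.inv g w w
      rw [e, LinearMap.map_smul₂, map_smul, smul_eq_mul, smul_eq_mul, ← mul_assoc] at e2
      have e3 : c * c = 1 := mul_right_cancel₀ (h.pos w h.w0).ne' (by rw [e2, one_mul])
      rcases mul_self_eq_one_iff.mp e3 with rfl | rfl
      · exact Or.inl (by rw [e, one_smul])
      · exact Or.inr (Or.inl (by rw [e, neg_one_smul]))
    · have n1 := n11 y0
      rw [LinearMap.map_smul₂, map_smul, np, h.inv, h.ww', smul_eq_mul, smul_eq_mul] at hn
      subst d6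
      push_cast at hn ⊢
      have n2 : n < 12 := by
        have : (n : ℚ) < 12 := by nlinarith [sq_nonneg (B (ρ g w) w)]
        exact_mod_cast this
      have n3 : n = 11 := by omega
      rw [n3] at hn
      push_cast at hn
      right; right
      linarith
  · rcases h.irr (Submodule.span ℚ {z | z ∈ L ∧ B z z = 2}) (fun g y hy => by
      have : Submodule.span ℚ {z | z ∈ L ∧ B z z = 2} ≤
          (Submodule.span ℚ {z | z ∈ L ∧ B z z = 2}).comap (ρ g) :=
        Submodule.span_le.mpr fun z hz =>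
          Submodule.subset_span ⟨h.invL g z hz.1, by rw [h.inv, hz.2]⟩
      exact this hy) with e | e
    · have m : u - ρ (x ^ 1) u ∈ Submodule.span ℚ {z | z ∈ L ∧ B z z = 2} :=
        Submodule.subset_span ⟨h.PP_sub hy 1, h.notA_diff hy.1 hu (by norm_num) (by norm_num)⟩
      have := h.notA_diff hy.1 hu (i := 1) (by norm_num) (by norm_num)
      rw [(Submodule.eq_bot_iff _).mp e _ m] at this
      simp at this
    · have : Submodule.span ℚ {z | z ∈ L ∧ B z z = 2} ≤ LinearMap.ker (B w) :=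
        Submodule.span_le.mpr fun z hz => by
          rcases h.notA_root hy hu hz.1 hz.2 with e | e | ⟨e, -⟩
          · exact (h.symm w z).trans e
          · exact absurd e d1
          · exact absurd e d6
      exact (h.pos w h.w0).ne' (this (e ▸ trivial : w ∈ _))

end Lat

end Cfsg.Agent.H2.F23
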