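import Cfsg.Agent.H2.F23d

/-!
# Rational representations of degree twenty-three: the case `d = 2`
-/

set_option autoImplicit false

namespace Cfsg.Agent.H2.F23

open Module

variable {V : Type*} [AddCommGroup V] [Module ℚ V] {G : Type*} [Group G]

namespace Lat

variable {ρ : Representation ℚ G V} {B : LinearMap.BilinForm ℚ V} {L : Submodule ℤ V}
  {x : G} {w : V} (h : Lat ρ B L x w 2)
include h

theorem two_root (hn : NonA B L w) {r : V} (hr : r ∈ L) (r2 : B r r = 2) : B r w ^ 2 = 1 := by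
  obtain ⟨j, hj⟩ := h.wint r hr
  have np := h.norm_proj r
  have hP := h.PP_proj (y := r) fun a ha _ => h.int r hr a ha
  rw [r2] at np
  push_cast at np hP
  have := hn _ hP (fun e => by
    rw [e, hj] at np
    have e2 : (j : ℚ) ^ 2 = 23 := by
      simp only [map_zero] at np
      linarith
    have e3 : j ^ 2 = 23 := by exact_mod_cast e2
    have : j ≤ 5 := by nlinarith
    have : -5 ≤ j := by nlinarith
    interval_cases j <;> omega) (by rw [np]; nlinarith [sq_nonneg (B r w)])
  linarith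

theorem two' (hn : NonA B L w)
    (i23 : ∀ a, a ≠ 0 → ¬ ∀ g, ρ g a = a ∨ ρ g a = -a ∨ B (ρ g a) a = 0) :
    ¬ ∃ y, PP B L w y ∧ B y y = 44 / 23 := by
  rintro ⟨u, hy, uu⟩
  have ww := h.ww
  obtain ⟨k, hk⟩ := h.PP_add hy
  obtain ⟨N, hN⟩ := h.int _ hk _ hk
  simp only [map_add, map_smul, LinearMap.add_apply, LinearMap.smul_apply, smul_eq_mul,
    h.symm w u, hy.1, uu] at hN
  push_cast at hN ww hk
  have e0 : (44 : ℚ) + k ^ 2 * 2 = 23 * N := by
    linear_combination 23 * hN - (k ^ 2 * 2 / 23) * ww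
  have e1 : (44 : ℤ) + k ^ 2 * 2 = 23 * N := by exact_mod_cast e0
  obtain ⟨e, t, ht, he⟩ : ∃ e t : ℤ, k = e + 23 * t ∧ e ^ 2 = 1 := by
    have : (23 : ℤ) ∣ (k - 1) * (k + 1) := ⟨12 * N - k ^ 2 - 23, by linarith⟩
    rcases (Int.prime_iff_natAbs_prime.mpr (by norm_num)).dvd_or_dvd this with ⟨t, ht⟩ | ⟨t, ht⟩
    · exact ⟨1, t, by linarith, by norm_num⟩
    · exact ⟨-1, t, by linarith, by norm_num⟩
  have he' : (e : ℚ) ^ 2 = 1 := by exact_mod_cast he
  have hl : u + ((e : ℚ) * 2 / 23) • w ∈ L := by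
    have := L.sub_mem hk ((h.dw (2 * t)).mpr ⟨t, by simp⟩)
    rw [add_sub_assoc, ← sub_smul] at this
    convert this using 3
    rw [ht]
    push_cast
    ring
  have ll : B (u + ((e : ℚ) * 2 / 23) • w) (u + ((e : ℚ) * 2 / 23) • w) = 2 := by
    simp only [map_add, map_smul, LinearMap.add_apply, LinearMap.smul_apply, smul_eq_mul,
      h.symm w u, hy.1, uu]
    linear_combination (e ^ 2 * 2 / 529) * ww + he' * 2 / 23
  generalize u + ((e : ℚ) * 2 / 23) • w = l at hl ll
  refine i23 l (by rintro rfl; simp at ll) fun g => ?_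
  have gl := h.invL g l hl
  obtain ⟨n, hn'⟩ := h.int _ gl l hl
  have p1 : B (ρ g l - l) (ρ g l - l) = 4 - 2 * n := by
    simp only [map_sub, LinearMap.sub_apply, h.inv, h.symm l (ρ g l), hn', ll]
    ring
  have p2 : B (ρ g l + l) (ρ g l + l) = 4 + 2 * n := by
    simp only [map_add, LinearMap.add_apply, h.inv, h.symm l (ρ g l), hn', ll]
    ring
  have q1 := h.toRep.nonneg (ρ g l - l)
  have q2 := h.toRep.nonneg (ρ g l + l)
  have n1 : n ≤ 2 := by
    have : (n : ℚ) ≤ 2 := by linarith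
    exact_mod_cast this
  have n2 : -2 ≤ n := by
    have : (-2 : ℚ) ≤ n := by linarith
    exact_mod_cast this
  have a1 := sq_eq_one_iff.mp (h.two_root hn hl ll)
  have a2 := sq_eq_one_iff.mp (h.two_root hn gl (by rw [h.inv, ll]))
  interval_cases n
  · exact Or.inr (Or.inl (eq_neg_of_add_eq_zero_left (h.toRep.eq_zero (by rw [p2]; norm_num))))
  · exfalso
    have := h.two_root hn (L.add_mem gl hl) (by rw [p2]; norm_num)
    rw [map_add, LinearMap.add_apply] at this
    rcases a1 with a1 | a1 <;> rcases a2 with a2 | a2 <;> rw [a1, a2] at this <;> norm_num at this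
  · exact Or.inr (Or.inr (by rw [hn']; norm_num))
  · exfalso
    have := h.two_root hn (L.sub_mem gl hl) (by rw [p1]; norm_num)
    rw [map_sub, LinearMap.sub_apply] at this
    rcases a1 with a1 | a1 <;> rcases a2 with a2 | a2 <;> rw [a1, a2] at this <;> norm_num at this
  · exact Or.inl (sub_eq_zero.mp (h.toRep.eq_zero (by rw [p1]; norm_num)))

end Lat

end Cfsg.Agent.H2.F23
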