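import Cfsg.Agent.H1.UStd2

/-!
Phan's theorem over the fields with four and nine elements.
-/

set_option autoImplicit false
set_option linter.unusedSectionVars false
set_option linter.unusedSimpArgs false

namespace Cfsg.Agent.H1

open Matrix

theorem exists_seq_choice {α : Type*} (m : ℕ) (P : ℕ → α → Prop) (R : α → α → Prop) (h0 : ∃ a, P 0 a)
    (hs : ∀ j a, j + 1 < m → P j a → ∃ b, P (j + 1) b ∧ R a b) :
    ∃ f : ℕ → α, ∀ j, (j < m → P j (f j)) ∧ (j + 1 < m → R (f j) (f (j + 1))) := by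
  obtain ⟨a0, h0⟩ := h0
  haveI : Nonempty α := ⟨a0⟩
  choose! g hg using hs
  let f : ℕ → α := fun j => Nat.rec a0 g j
  have h1 : ∀ j, j < m → P j (f j) := fun j => by
    induction j with
    | zero => exact fun _ => h0
    | succ j ih => exact fun hj => (hg j _ hj (ih (by omega))).1
  exact ⟨f, fun j => ⟨h1 j, fun hj => (hg j _ hj (h1 j (by omega))).2⟩⟩

variable {F : Type*} [Field F] [Fintype F] {q : ℕ} {G : Type*} [Group G] {N m : ℕ}

namespace UField

variable (U : UField F q)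

theorem exists_uPair' {V A B : Subgroup G} (h : IsStandardUnitaryPair V A B F q) :
    ∃ φ : SU 3 F q →* G, KerScal φ ∧ φ.range = V ∧ U.UPair φ A B := by
  rcases h with ⟨ψ, h1, h2⟩ | ⟨ψ, h1, h2⟩
  · rw [U.suBlock_eq, ← range_f01, ← U.range_emb, ← MonoidHom.range_comp] at h1
    rw [U.suBlock_eq, ← range_f12, ← U.range_emb, ← MonoidHom.range_comp] at h2
    refine ⟨_, kerScal_of_inj (Subtype.val_injective.comp ψ.injective), ?_, ⟨h1, h2⟩⟩
    rw [MonoidHom.range_comp, MonoidHom.range_eq_top.mpr ψ.surjective, ← MonoidHom.range_eq_map,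
      Subgroup.range_subtype]
  · rw [U.suBlock_eq, ← range_f01, ← U.range_emb, ← MonoidHom.range_comp] at h1
    rw [U.suBlock_eq, ← range_f12, ← U.range_emb, ← MonoidHom.range_comp] at h2
    refine ⟨_, fun A hA => U.isScal_of_center le_rfl ?_, ?_, ⟨h1, h2⟩⟩
    · have : ψ (QuotientGroup.mk A) = 1 := Subtype.ext hA
      rwa [map_eq_one_iff _ ψ.injective, QuotientGroup.eq_one_iff] at this
    · rw [MonoidHom.range_comp,
        MonoidHom.range_eq_top.mpr (ψ.surjective.comp (QuotientGroup.mk'_surjective _)),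
        ← MonoidHom.range_eq_map, Subgroup.range_subtype]

theorem range_semi_emb (g : SU N F q →* G) (τ : F →+* F) (d : Fin N → F) (hd : ∀ i, d i * U.σ (d i) = 1)
    (f : Fin m ↪ Fin N) : ((g.comp (U.semi τ d hd)).comp (U.emb f)).range = (g.comp (U.emb f)).range := by
  rw [MonoidHom.range_comp, MonoidHom.range_comp, range_emb, ← Subgroup.map_map, semi_map_suFix]

theorem exists_step (hq : q = 2 ∨ q = 3) {g : SU 4 F q →* G} {φ φ' : SU 3 F q →* G} (k : KerScal φ)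
    (k' : KerScal φ') (hU : (φ.comp (U.emb f12)).range = (φ'.comp (U.emb f01)).range)
    (hc : ∀ b c, φ (U.emb f01 b) * φ' (U.emb f12 c) = φ' (U.emb f12 c) * φ (U.emb f01 b))
    (hg : g.range = φ.range ⊔ φ'.range) :
    ∃ Φ : SU 4 F q →* G, Φ.comp (U.emb i012) = φ ∧ KerScal (Φ.comp (U.emb i123)) ∧
      (Φ.comp (U.emb i123)).range = φ'.range ∧
      U.UPair (Φ.comp (U.emb i123)) (φ'.comp (U.emb f01)).range (φ'.comp (U.emb f12)).range := by
  obtain ⟨g', h⟩ : ∃ g', U.UTriple g' φ φ' :=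
    hq.elim (fun hq => U.std2 hq k k' hU hc hg) (fun hq => U.std3 hq k k' hU hc hg)
  have iρ := U.inj_emb h.ker i012 (a := 3) (by decide)
  obtain ⟨β, hβ⟩ := exists_lift_inj iρ φ fun A => h.v0.ge ⟨A, rfl⟩
  have iφ : Function.Injective φ := injective_of_card h.v0.symm
    (Nat.card_congr (MonoidHom.ofInjective iρ).toEquiv).symm
  have key : ∀ (f : Fin 2 ↪ Fin 3), (g'.comp (U.emb (f.trans i012))).range = (φ.comp (U.emb f)).range →
      (U.emb f).range.map β = (U.emb f).range := fun f e => by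
    apply le_antisymm
    · rintro _ ⟨_, ⟨b, rfl⟩, rfl⟩
      obtain ⟨B, hB⟩ := e.ge ⟨b, rfl⟩
      exact ⟨B, iρ (by rw [hβ, MonoidHom.comp_apply, ← emb_trans]; exact hB)⟩
    · rintro _ ⟨B, rfl⟩
      obtain ⟨b, hb⟩ := e.le ⟨B, rfl⟩
      exact ⟨_, ⟨b, rfl⟩, iρ (by rw [hβ, MonoidHom.comp_apply, ← emb_trans]; exact hb)⟩
  obtain ⟨τ, d, hd, e⟩ := U.aut_su3 hq β (fun A B e => iφ (by rw [← hβ, ← hβ, e]))
    (by simpa only [range_emb, range_f01'] using key f01 h.u0)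
    (by simpa only [range_emb, range_f12'] using key f12 h.u1)
  have hd' : ∀ i, ![d 0, d 1, d 2, 1] i * U.σ (![d 0, d 1, d 2, 1] i) = 1 := fun i => by
    fin_cases i <;> simp [hd]
  refine ⟨g'.comp (U.semi τ _ hd'), ?_, kerScal_of_inj fun A B e => ?_, ?_, ?_, ?_⟩
  · ext A
    rw [← hβ, e, MonoidHom.comp_apply, MonoidHom.comp_apply, semi_emb, MonoidHom.comp_apply]
    have : ![d 0, d 1, d 2, 1] ∘ i012 = d := by
      ext i
      fin_cases i <;> rfl
    simp only [this]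
  · simp only [MonoidHom.comp_apply, semi_emb] at e
    exact U.semi_injective _ _ _ (U.inj_emb h.ker i123 (a := 0) (by decide) e)
  · rw [range_semi_emb, h.v1]
  · rw [comp_emb_trans, range_semi_emb, j12_eq, h.u1, hU]
  · rw [comp_emb_trans, range_semi_emb]; exact h.u2

theorem range_fAt_three {n : ℕ} (j : ℕ) (h : j + 3 ≤ n + 1) :
    (Set.range (fAt 3 j h))ᶜ = {m | m.val < j ∨ j + 2 < m.val} := by
  ext k
  simp only [Set.mem_compl_iff, Set.mem_range, Fin.ext_iff, fAt_val, Set.mem_setOf_eq]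
  constructor
  · intro hk
    by_contra hc
    exact hk ⟨⟨k.val - j, by omega⟩, by simp only; omega⟩
  · rintro hk ⟨a, ha⟩
    have := a.2
    omega

include U in
theorem phan_small (hq : q = 2 ∨ q = 3) {n : ℕ} (hn : 3 ≤ n) (Us Vs : ℕ → Subgroup G)
    (hpair : ∀ j, j + 2 ≤ n → IsStandardUnitaryPair (Vs j) (Us j) (Us (j + 1)) F q)
    (h1 : ∀ j, j + 3 ≤ n → ∀ x ∈ Us j, ∀ y ∈ Us (j + 2), x * y = y * x)
    (h4 : ∀ j, j + 3 ≤ n → ∃ g : SU 4 F q →* G, g.range = Vs j ⊔ Vs (j + 1))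
    (h5 : ∀ i j, i + 2 ≤ n → j + 2 ≤ i → ∀ x ∈ Vs j, ∀ y ∈ Us (i + 1), x * y = y * x)
    (h6 : ∀ i j, i + 2 ≤ n → j + 3 ≤ i → ∀ x ∈ Vs j, ∀ y ∈ Vs i, x * y = y * x) :
    ∃ f : SU (n + 1) F q →* G, ∀ j, j + 2 ≤ n → Vs j ≤ f.range := by
  obtain ⟨φ, hφ⟩ := exists_seq_choice (α := SU 3 F q →* G) (n - 1)
    (fun j φ => KerScal φ ∧ φ.range = Vs j ∧ U.UPair φ (Us j) (Us (j + 1)))
    (fun φ φ' => ∃ Φ : SU 4 F q →* G, Φ.comp (U.emb i012) = φ ∧ Φ.comp (U.emb i123) = φ')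
    (U.exists_uPair' (hpair 0 (by omega))) (by
      rintro j φ hj ⟨k, e, p⟩
      obtain ⟨φ', k', e', p'⟩ := U.exists_uPair' (hpair (j + 1) (by omega))
      obtain ⟨g, hg⟩ := h4 j (by omega)
      obtain ⟨Φ, a1, a2, a3, a4⟩ := U.exists_step hq k k' (p.right.trans p'.left.symm)
        (fun b c => h1 j (by omega) _ (p.left.le ⟨b, rfl⟩) _ (p'.right.le ⟨c, rfl⟩)) (by rw [hg, e, e'])
      exact ⟨_, ⟨a2, a3.trans e', p'.left ▸ p'.right ▸ a4⟩, Φ, a1, rfl⟩)
  let Vt : ℕ → Subgroup (G × SU (n + 1) F q) := fun j =>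
    if h : j + 2 ≤ n then ((φ j).prod (U.emb (fAt 3 j (by omega)))).range else ⊥
  have hV : ∀ j (h : j + 2 ≤ n), Vt j = ((φ j).prod (U.emb (fAt 3 j (by omega)))).range :=
    fun j h => dif_pos h
  have fx : ∀ j (h : j + 3 ≤ n + 1) A, U.emb (fAt 3 j h) A ∈ suFix F q {m | m.val < j ∨ j + 2 < m.val} :=
    fun j h A => by rw [← range_fAt_three j h, ← U.range_emb]; exact ⟨A, rfl⟩
  have hA : UAmalgam2 U (MonoidHom.snd G (SU (n + 1) F q)) Vt :=
    { mapV := fun j h => by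
        rw [hV j h, ← range_fAt_three, ← U.range_emb, ← MonoidHom.range_comp]; rfl
      inj := fun j h => by
        obtain ⟨Φ, e1, e2⟩ := (hφ j).2 (by omega)
        have : InjSub (MonoidHom.snd G (SU (n + 1) F q))
            (Φ.prod (U.emb (fAt 4 j (by omega)))).range := by
          rintro _ ⟨A, rfl⟩ e
          rw [U.emb_injective _ (e.trans (map_one _).symm), map_one]
        rw [hV j (by omega), hV (j + 1) h]
        refine this.mono (sup_le ?_ ?_)
        · rintro _ ⟨A, rfl⟩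
          refine ⟨U.emb i012 A, Prod.ext (by rw [← e1]; rfl) ?_⟩
          change U.emb _ (U.emb i012 A) = U.emb _ A
          rw [← emb_trans]
          congr 2
          ext a
          simp [fAt_val, i012]
        · rintro _ ⟨A, rfl⟩
          refine ⟨U.emb i123 A, Prod.ext (by rw [← e2]; rfl) ?_⟩
          change U.emb _ (U.emb i123 A) = U.emb _ A
          rw [← emb_trans]
          congr 2
          ext a
          simp [fAt_val, i123]; omega
      comm5 := fun i j hi hj => by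
        rw [hV i hi, hV j (by omega)]
        rintro _ ⟨A, rfl⟩ _ ⟨B, rfl⟩ hB
        refine Prod.ext (h5 i j hi hj _ (((hφ j).1 (by omega)).2.1.le ⟨A, rfl⟩) _ ?_)
          (U.suFix_commute (fun c => by simp only [Set.mem_setOf_eq]; omega) (fx j _ A) hB)
        obtain ⟨b, rfl⟩ := U.exists_emb f12 (A := B) fun a ha => by
          rw [show a = 0 from range_f12'.le ha]
          have := hB (fAt 3 i (by omega) 0) (by simp [fAt_val])
          ext c
          have e := congrFun this (fAt 3 i (by omega) c)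
          change suAct (U.emb _ B) _ _ = _ at e
          rw [suAct_ev, suMat_emb, blk_apply] at e
          rw [suAct_ev, e]
          simp [ev, Pi.single_apply]
        exact ((hφ i).1 (by omega)).2.2.right.le ⟨b, rfl⟩
      comm6 := fun i j hi hj => by
        rw [hV i hi, hV j (by omega)]
        rintro _ ⟨A, rfl⟩ _ ⟨B, rfl⟩
        exact Prod.ext (h6 i j hi hj _ (((hφ j).1 (by omega)).2.1.le ⟨A, rfl⟩) _
          (((hφ i).1 (by omega)).2.1.le ⟨B, rfl⟩))
          (U.suFix_commute (fun c => by simp only [Set.mem_setOf_eq]; omega) (fx j _ A) (fx i _ B)) }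
  obtain ⟨i1, i2⟩ := hA.final hn
  obtain ⟨Φ, hΦ⟩ := exists_hom_of_injSub (MonoidHom.fst G _) i1 i2
  refine ⟨Φ, fun j hj => ?_⟩
  rw [← ((hφ j).1 (by omega)).2.1]
  rintro _ ⟨A, rfl⟩
  exact ⟨_, hΦ _ (le_vGk Vt (i := j) (by omega) (by rw [hV j hj]; exact ⟨A, rfl⟩))⟩

theorem le_of_pair {V A B : Subgroup G} (h : IsStandardUnitaryPair V A B F q) : A ≤ V ∧ B ≤ V := by
  rcases h with ⟨ψ, rfl, rfl⟩ | ⟨ψ, rfl, rfl⟩ <;> constructor <;> rintro _ ⟨x, -, rfl⟩ <;>
    exact Subtype.property _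

include U in
theorem phan_small' (hq : q = 2 ∨ q = 3) {n : ℕ} (hn : 3 ≤ n) (Us : Fin n → Subgroup G)
    (V : Fin n → Fin n → Subgroup G)
    (h1 : ∀ i j : Fin n, (i : ℕ) + 2 ≤ j → ∀ x ∈ Us i, ∀ y ∈ Us j, x * y = y * x)
    (h2 : ∀ i j : Fin n, (i : ℕ) + 1 = j → IsStandardUnitaryPair (V i j) (Us i) (Us j) F q)
    (hgen : (⨆ i, Us i) ⊔ (⨆ (i : Fin n) (j : Fin n) (_ : (i : ℕ) + 1 = j), V i j) = ⊤)
    (h4 : ∀ i j k : Fin n, (i : ℕ) + 1 = j → (j : ℕ) + 1 = k →
      ∃ g : SU 4 F q →* ↥(V i j ⊔ V j k), Function.Surjective g)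
    (h5 : ∀ i j k : Fin n, (j : ℕ) + 1 = k → (k : ℕ) + 2 ≤ i → ∀ x ∈ Us i, ∀ y ∈ V j k, x * y = y * x)
    (h6 : ∀ i j k l : Fin n, (i : ℕ) + 1 = j → (k : ℕ) + 1 = l → (j : ℕ) + 2 ≤ k →
      ∀ x ∈ V i j, ∀ y ∈ V k l, x * y = y * x) :
    ∃ f : SU (n + 1) F q →* G, Function.Surjective f := by
  let Us' : ℕ → Subgroup G := fun j => if h : j < n then Us ⟨j, h⟩ else ⊥
  let Vs : ℕ → Subgroup G := fun j => if h : j + 1 < n then V ⟨j, by omega⟩ ⟨j + 1, h⟩ else ⊥
  have hU : ∀ j (h : j < n), Us' j = Us ⟨j, h⟩ := fun j h => dif_pos h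
  have hV : ∀ j (h : j + 1 < n), Vs j = V ⟨j, by omega⟩ ⟨j + 1, h⟩ := fun j h => dif_pos h
  obtain ⟨f, hf⟩ := U.phan_small hq hn Us' Vs
    (fun j h => by rw [hV j h, hU j (by omega), hU (j + 1) h]; exact h2 _ _ rfl)
    (fun j h => by rw [hU j (by omega), hU (j + 2) h]; exact h1 _ _ le_rfl)
    (fun j h => by
      rw [hV j (by omega), hV (j + 1) h]
      obtain ⟨g, hg⟩ := h4 ⟨j, by omega⟩ ⟨j + 1, by omega⟩ ⟨j + 1 + 1, h⟩ rfl rfl
      exact ⟨(Subgroup.subtype _).comp g, by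
        rw [MonoidHom.range_comp, MonoidHom.range_eq_top.mpr hg, ← MonoidHom.range_eq_map,
          Subgroup.range_subtype]⟩)
    (fun i j hi hj => by
      rw [hV j (by omega), hU (i + 1) hi]
      exact fun x hx y hy => (h5 _ _ _ rfl (by simp only; omega) y hy x hx).symm)
    (fun i j hi hj => by
      rw [hV j (by omega), hV i hi]
      exact h6 _ _ _ _ rfl rfl (by simp only; omega))
  have hf' : ∀ i j : Fin n, (i : ℕ) + 1 = j → V i j ≤ f.range := fun i j hij => by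
    have := hf i (by omega)
    rwa [hV i (by omega), show (⟨i + 1, by omega⟩ : Fin n) = j from Fin.ext hij] at this
  refine ⟨f, MonoidHom.range_eq_top.mp ?_⟩
  rw [eq_top_iff, ← hgen]
  refine sup_le (iSup_le fun i => ?_) (iSup_le fun i => iSup₂_le (hf' i))
  by_cases h : i.val + 1 < n
  · exact (le_of_pair (h2 i ⟨i + 1, h⟩ rfl)).1.trans (hf' _ _ rfl)
  · have e : ((⟨i - 1, by omega⟩ : Fin n) : ℕ) + 1 = i := by simp only; omega
    exact (le_of_pair (h2 _ i e)).2.trans (hf' _ _ e)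

end UField

end Cfsg.Agent.H1
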