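import Cfsg.Agent.H4.TC

/-!
# A presentation of a group of order 64
-/

set_option autoImplicit false
set_option maxRecDepth 100000

namespace Cfsg.Agent.H1.S8T

open Cfsg.Agent.H4

/-- Certificate data. -/
def t64_par : Trie :=
    (.node (.node (.node (.node (.node (.node (.leaf (nat_lit 0)) (.leaf (nat_lit 2564))) (.node
    (.leaf (nat_lit 772)) (.leaf (nat_lit 5638)))) (.node (.node (.leaf (nat_lit 259)) (.leaf
    (nat_lit 3590))) (.node (.leaf (nat_lit 1795)) (.leaf (nat_lit 8710))))) (.node (.node (.node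
    (.leaf (nat_lit 4)) (.leaf (nat_lit 3078))) (.node (.leaf (nat_lit 1030)) (.leaf (nat_lit
    6918)))) (.node (.node (.leaf (nat_lit 515)) (.leaf (nat_lit 4866))) (.node (.leaf (nat_lit
    2053)) (.leaf (nat_lit 10758)))))) (.node (.node (.node (.node (.leaf (nat_lit 2)) (.leaf
    (nat_lit 3076))) (.node (.leaf (nat_lit 774)) (.leaf (nat_lit 6150)))) (.node (.node (.leaf
    (nat_lit 261)) (.leaf (nat_lit 4354))) (.node (.leaf (nat_lit 1798)) (.leaf (nat_lit 9478)))))
    (.node (.node (.node (.leaf (nat_lit 6)) (.leaf (nat_lit 3334))) (.node (.leaf (nat_lit 1284))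
    (.leaf (nat_lit 7686)))) (.node (.node (.leaf (nat_lit 517)) (.leaf (nat_lit 5380))) (.node
    (.leaf (nat_lit 2309)) (.leaf (nat_lit 11782))))))) (.node (.node (.node (.node (.node (.leaf
    (nat_lit 1)) (.leaf (nat_lit 2566))) (.node (.leaf (nat_lit 773)) (.leaf (nat_lit 6148))))
    (.node (.node (.leaf (nat_lit 260)) (.leaf (nat_lit 4102))) (.node (.leaf (nat_lit 1796))
    (.leaf (nat_lit 8966))))) (.node (.node (.node (.leaf (nat_lit 5)) (.leaf (nat_lit 3333)))
    (.node (.leaf (nat_lit 1282)) (.leaf (nat_lit 7174)))) (.node (.node (.leaf (nat_lit 516))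
    (.leaf (nat_lit 4870))) (.node (.leaf (nat_lit 2054)) (.leaf (nat_lit 11270)))))) (.node (.node
    (.node (.node (.leaf (nat_lit 3)) (.leaf (nat_lit 3077))) (.node (.leaf (nat_lit 1029)) (.leaf
    (nat_lit 6406)))) (.node (.node (.leaf (nat_lit 262)) (.leaf (nat_lit 4358))) (.node (.leaf
    (nat_lit 2052)) (.leaf (nat_lit 9990))))) (.node (.node (.node (.leaf (nat_lit 258)) (.leaf
    (nat_lit 3588))) (.node (.leaf (nat_lit 1286)) (.leaf (nat_lit 8198)))) (.node (.node (.leaf
    (nat_lit 518)) (.leaf (nat_lit 5382))) (.node (.leaf (nat_lit 2310)) (.leaf (nat_lit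
    12550))))))))

/-- Certificate data. -/
def t64_fact : Trie :=
    (.node (.node (.node (.node (.node (.node (.node (.node (.leaf (nat_lit 16385)) (.leaf (nat_lit
    766213))) (.leaf (nat_lit 335619))) (.node (.node (.leaf (nat_lit 328710)) (.leaf (nat_lit
    882948))) (.leaf (nat_lit 338177)))) (.node (.node (.node (.leaf (nat_lit 197123)) (.leaf
    (nat_lit 488709))) (.leaf (nat_lit 254977))) (.node (.node (.leaf (nat_lit 427782)) (.leaf
    (nat_lit 1010694))) (.leaf (nat_lit 759044))))) (.node (.node (.node (.node (.leaf (nat_lit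
    131331)) (.leaf (nat_lit 439042))) (.leaf (nat_lit 188677))) (.node (.node (.leaf (nat_lit
    378118)) (.leaf (nat_lit 916228))) (.leaf (nat_lit 305925)))) (.node (.node (.node (.leaf
    (nat_lit 262916)) (.leaf (nat_lit 554754))) (.leaf (nat_lit 642564))) (.node (.node (.leaf
    (nat_lit 171011)) (.leaf (nat_lit 802308))) (.leaf (nat_lit 792070)))))) (.node (.node (.node
    (.node (.node (.leaf (nat_lit 81925)) (.leaf (nat_lit 487940))) (.leaf (nat_lit 499715)))
    (.node (.node (.leaf (nat_lit 120069)) (.leaf (nat_lit 948738))) (.leaf (nat_lit 354819))))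
    (.node (.node (.node (.leaf (nat_lit 229893)) (.leaf (nat_lit 521733))) (.leaf (nat_lit
    582916))) (.node (.node (.leaf (nat_lit 269057)) (.leaf (nat_lit 851205))) (.leaf (nat_lit
    775430))))) (.node (.node (.node (.node (.leaf (nat_lit 164101)) (.leaf (nat_lit 488450)))
    (.leaf (nat_lit 576517))) (.node (.node (.leaf (nat_lit 137218)) (.leaf (nat_lit 949251)))
    (.leaf (nat_lit 420869)))) (.node (.node (.node (.leaf (nat_lit 295686)) (.leaf (nat_lit
    686084))) (.leaf (nat_lit 658950))) (.node (.node (.leaf (nat_lit 493829)) (.leaf (nat_lit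
    851713))) (.leaf (nat_lit 808964))))))) (.node (.node (.node (.node (.node (.node (.leaf
    (nat_lit 49155)) (.leaf (nat_lit 602627))) (.leaf (nat_lit 526852))) (.node (.node (.leaf
    (nat_lit 345346)) (.leaf (nat_lit 959750))) (.leaf (nat_lit 692482)))) (.node (.node (.node
    (.leaf (nat_lit 213508)) (.leaf (nat_lit 751107))) (.leaf (nat_lit 609541))) (.node (.node
    (.leaf (nat_lit 186884)) (.leaf (nat_lit 752900))) (.leaf (nat_lit 372226))))) (.node (.node
    (.node (.node (.leaf (nat_lit 147716)) (.leaf (nat_lit 685059))) (.leaf (nat_lit 270850)))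
    (.node (.node (.leaf (nat_lit 395011)) (.leaf (nat_lit 932613))) (.leaf (nat_lit 617473))))
    (.node (.node (.node (.leaf (nat_lit 279301)) (.leaf (nat_lit 926214))) (.leaf (nat_lit
    616195))) (.node (.node (.leaf (nat_lit 302339)) (.leaf (nat_lit 1044742))) (.leaf (nat_lit
    389122)))))) (.node (.node (.node (.node (.node (.leaf (nat_lit 114946)) (.leaf (nat_lit
    635651))) (.leaf (nat_lit 543238))) (.node (.node (.leaf (nat_lit 316931)) (.leaf (nat_lit
    976646))) (.leaf (nat_lit 708870)))) (.node (.node (.node (.leaf (nat_lit 246278)) (.leaf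
    (nat_lit 800515))) (.leaf (nat_lit 337412))) (.node (.node (.leaf (nat_lit 460805)) (.leaf
    (nat_lit 982531))) (.leaf (nat_lit 388868))))) (.node (.node (.node (.node (.leaf (nat_lit
    180486)) (.leaf (nat_lit 718083))) (.leaf (nat_lit 467714))) (.node (.node (.leaf (nat_lit
    219393)) (.leaf (nat_lit 719876))) (.leaf (nat_lit 716034)))) (.node (.node (.node (.leaf
    (nat_lit 312325)) (.leaf (nat_lit 942854))) (.leaf (nat_lit 256005))) (.node (.node (.leaf
    (nat_lit 466436)) (.leaf (nat_lit 835330))) (.leaf (nat_lit 454914)))))))) (.node (.node (.node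
    (.node (.node (.node (.node (.leaf (nat_lit 32770)) (.leaf (nat_lit 825350))) (.leaf (nat_lit
    188162))) (.node (.node (.leaf (nat_lit 103426)) (.leaf (nat_lit 604421))) (.leaf (nat_lit
    305410)))) (.node (.node (.node (.leaf (nat_lit 52226)) (.leaf (nat_lit 892422))) (.leaf
    (nat_lit 304132))) (.node (.node (.leaf (nat_lit 252419)) (.leaf (nat_lit 965891))) (.leaf
    (nat_lit 650753))))) (.node (.node (.node (.node (.leaf (nat_lit 51201)) (.leaf (nat_lit
    858886))) (.leaf (nat_lit 560132))) (.node (.node (.leaf (nat_lit 104197)) (.leaf (nat_lit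
    670466))) (.leaf (nat_lit 725762)))) (.node (.node (.node (.leaf (nat_lit 69635)) (.leaf
    (nat_lit 866053))) (.leaf (nat_lit 534274))) (.node (.node (.leaf (nat_lit 477190)) (.leaf
    (nat_lit 785922))) (.leaf (nat_lit 749569)))))) (.node (.node (.node (.node (.node (.leaf
    (nat_lit 98310)) (.leaf (nat_lit 841990))) (.leaf (nat_lit 450565))) (.node (.node (.leaf
    (nat_lit 361732)) (.leaf (nat_lit 637445))) (.leaf (nat_lit 403973)))) (.node (.node (.node
    (.leaf (nat_lit 167426)) (.leaf (nat_lit 909318))) (.leaf (nat_lit 625926))) (.node (.node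
    (.leaf (nat_lit 154371)) (.leaf (nat_lit 1027590))) (.leaf (nat_lit 667395))))) (.node (.node
    (.node (.node (.leaf (nat_lit 84481)) (.leaf (nat_lit 875526))) (.leaf (nat_lit 238339)))
    (.node (.node (.leaf (nat_lit 411396)) (.leaf (nat_lit 785409))) (.leaf (nat_lit 742150))))
    (.node (.node (.node (.leaf (nat_lit 102913)) (.leaf (nat_lit 604162))) (.leaf (nat_lit
    550916))) (.node (.node (.leaf (nat_lit 318977)) (.leaf (nat_lit 868100))) (.leaf (nat_lit
    569601))))))) (.node (.node (.node (.node (.node (.node (.leaf (nat_lit 65540)) (.leaf (nat_lit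
    438785))) (.leaf (nat_lit 368641))) (.node (.node (.leaf (nat_lit 234753)) (.leaf (nat_lit
    899588))) (.leaf (nat_lit 584193)))) (.node (.node (.node (.leaf (nat_lit 68866)) (.leaf
    (nat_lit 882178))) (.leaf (nat_lit 500994))) (.node (.node (.leaf (nat_lit 444420)) (.leaf
    (nat_lit 998658))) (.leaf (nat_lit 732675))))) (.node (.node (.node (.node (.leaf (nat_lit
    67841)) (.leaf (nat_lit 521217))) (.leaf (nat_lit 221699))) (.node (.node (.leaf (nat_lit
    202753)) (.leaf (nat_lit 993798))) (.leaf (nat_lit 699396)))) (.node (.node (.node (.leaf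
    (nat_lit 86275)) (.leaf (nat_lit 636929))) (.leaf (nat_lit 567045))) (.node (.node (.leaf
    (nat_lit 187649)) (.leaf (nat_lit 933635))) (.leaf (nat_lit 684037)))))) (.node (.node (.node
    (.node (.node (.leaf (nat_lit 34561)) (.leaf (nat_lit 520964))) (.leaf (nat_lit 385283)))
    (.node (.node (.leaf (nat_lit 267781)) (.leaf (nat_lit 965377))) (.leaf (nat_lit 387841))))
    (.node (.node (.node (.leaf (nat_lit 102148)) (.leaf (nat_lit 898817))) (.leaf (nat_lit
    255490))) (.node (.node (.leaf (nat_lit 285697)) (.leaf (nat_lit 1015297))) (.leaf (nat_lit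
    438021))))) (.node (.node (.node (.node (.leaf (nat_lit 101123)) (.leaf (nat_lit 554241)))
    (.leaf (nat_lit 592902))) (.node (.node (.leaf (nat_lit 153858)) (.leaf (nat_lit 834565)))
    (.leaf (nat_lit 339205)))) (.node (.node (.node (.leaf (nat_lit 283396)) (.leaf (nat_lit
    669953))) (.leaf (nat_lit 675846))) (.node (.node (.leaf (nat_lit 510214)) (.leaf (nat_lit
    1031941))) (.leaf (nat_lit 422147)))))))))

/-- Certificate data. -/
def t64_just : Trie :=
    (.node (.node (.node (.node (.node (.node (.node (.node (.leaf (nat_lit 0)) (.leaf (nat_lit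
    133404949733229985810))) (.leaf (nat_lit 72106518010593287))) (.node (.node (.leaf (nat_lit 0))
    (.leaf (nat_lit 317848182862315531))) (.leaf (nat_lit 72168365539655694)))) (.node (.node
    (.node (.leaf (nat_lit 0)) (.leaf (nat_lit 128593498390855699))) (.leaf (nat_lit
    49612846568505358))) (.node (.node (.leaf (nat_lit 0)) (.leaf (nat_lit 0))) (.leaf (nat_lit
    0))))) (.node (.node (.node (.node (.leaf (nat_lit 0)) (.leaf (nat_lit 108287648929611792)))
    (.leaf (nat_lit 31580778563567635))) (.node (.node (.leaf (nat_lit 0)) (.leaf (nat_lit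
    335911028602896395))) (.leaf (nat_lit 63167823484223507)))) (.node (.node (.node (.leaf
    (nat_lit 0)) (.leaf (nat_lit 157919741246373904))) (.leaf (nat_lit 0))) (.node (.node (.leaf
    (nat_lit 27059449311199245)) (.leaf (nat_lit 270718914017820683))) (.leaf (nat_lit 0))))))
    (.node (.node (.node (.node (.node (.leaf (nat_lit 0)) (.leaf (nat_lit 128547215823273995)))
    (.leaf (nat_lit 140986549214052364))) (.node (.node (.leaf (nat_lit 8649183171927343121))
    (.leaf (nat_lit 356155202333769744))) (.leaf (nat_lit 76680787029852180)))) (.node (.node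
    (.node (.leaf (nat_lit 0)) (.leaf (nat_lit 142130719911772179))) (.leaf (nat_lit
    87658145219669655567))) (.node (.node (.leaf (nat_lit 54083220328873989)) (.leaf (nat_lit
    299965880366989331))) (.leaf (nat_lit 0))))) (.node (.node (.node (.node (.leaf (nat_lit 0))
    (.leaf (nat_lit 128580269891584016))) (.leaf (nat_lit 0))) (.node (.node (.leaf (nat_lit
    18043350884220936)) (.leaf (nat_lit 356221250340847623))) (.leaf (nat_lit
    53654895107242197009)))) (.node (.node (.node (.leaf (nat_lit 0)) (.leaf (nat_lit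
    214247764887011339))) (.leaf (nat_lit 0))) (.node (.node (.leaf (nat_lit 0)) (.leaf (nat_lit
    300049529150046222))) (.leaf (nat_lit 0))))))) (.node (.node (.node (.node (.node (.node (.leaf
    (nat_lit 0)) (.leaf (nat_lit 178082413677838343))) (.leaf (nat_lit 0))) (.node (.node (.leaf
    (nat_lit 0)) (.leaf (nat_lit 0))) (.leaf (nat_lit 0)))) (.node (.node (.node (.leaf (nat_lit
    0)) (.leaf (nat_lit 245715710364549127))) (.leaf (nat_lit 0))) (.node (.node (.leaf (nat_lit
    31554201305939979)) (.leaf (nat_lit 245911689722265611))) (.leaf (nat_lit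
    83469292078825481))))) (.node (.node (.node (.node (.leaf (nat_lit 0)) (.leaf (nat_lit
    214150861834878983))) (.leaf (nat_lit 54118593679523849))) (.node (.node (.leaf (nat_lit 0))
    (.leaf (nat_lit 347178823764344851))) (.leaf (nat_lit 188296670541447171)))) (.node (.node
    (.node (.leaf (nat_lit 0)) (.leaf (nat_lit 0))) (.leaf (nat_lit 190618693070422028))) (.node
    (.node (.leaf (nat_lit 63090471123222535)) (.leaf (nat_lit 0))) (.leaf (nat_lit
    90237954378891280)))))) (.node (.node (.node (.node (.node (.leaf (nat_lit 0)) (.leaf (nat_lit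
    191606441059221511))) (.leaf (nat_lit 0))) (.node (.node (.leaf (nat_lit 71052962532884492))
    (.leaf (nat_lit 0))) (.leaf (nat_lit 0)))) (.node (.node (.node (.leaf (nat_lit 0)) (.leaf
    (nat_lit 270511930953891847))) (.leaf (nat_lit 72141891361243147))) (.node (.node (.leaf
    (nat_lit 0)) (.leaf (nat_lit 374297307400830983))) (.leaf (nat_lit 90224725879619595)))))
    (.node (.node (.node (.node (.leaf (nat_lit 0)) (.leaf (nat_lit 229926689029947399))) (.leaf
    (nat_lit 62279228770920693770))) (.node (.node (.leaf (nat_lit 40563573814132741)) (.leaf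
    (nat_lit 230118261751218187))) (.leaf (nat_lit 229820861035773968)))) (.node (.node (.node
    (.leaf (nat_lit 0)) (.leaf (nat_lit 0))) (.leaf (nat_lit 49630550423699475))) (.node (.node
    (.leaf (nat_lit 62275822346458890255)) (.leaf (nat_lit 291031334779027472))) (.leaf (nat_lit
    115036373991489545)))))))) (.node (.node (.node (.node (.node (.node (.node (.leaf (nat_lit 0))
    (.leaf (nat_lit 0))) (.leaf (nat_lit 31571922341003280))) (.node (.node (.leaf (nat_lit
    11274671404285968)) (.leaf (nat_lit 178229997344063507))) (.leaf (nat_lit 63158967261659152))))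
    (.node (.node (.node (.leaf (nat_lit 4510338431254536)) (.leaf (nat_lit 0))) (.leaf (nat_lit
    63125844473872395))) (.node (.node (.leaf (nat_lit 49570798838677511)) (.leaf (nat_lit
    365259278870839303))) (.leaf (nat_lit 198313281600028677))))) (.node (.node (.node (.node
    (.leaf (nat_lit 4505871665266692)) (.leaf (nat_lit 0))) (.leaf (nat_lit 0))) (.node (.node
    (.leaf (nat_lit 11279138170273811)) (.leaf (nat_lit 207556240199581712))) (.leaf (nat_lit 0))))
    (.node (.node (.node (.leaf (nat_lit 6766605010927628)) (.leaf (nat_lit 308801323879563283)))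
    (.leaf (nat_lit 148711906889367561))) (.node (.node (.leaf (nat_lit 0)) (.leaf (nat_lit
    261705117693313040))) (.leaf (nat_lit 245614340546428942)))))) (.node (.node (.node (.node
    (.node (.leaf (nat_lit 0)) (.leaf (nat_lit 0))) (.leaf (nat_lit 61703874041415467026))) (.node
    (.node (.leaf (nat_lit 0)) (.leaf (nat_lit 191767218864979987))) (.leaf (nat_lit
    50191609341478699025)))) (.node (.node (.node (.leaf (nat_lit 13835064828445851658)) (.leaf
    (nat_lit 0))) (.leaf (nat_lit 0))) (.node (.node (.leaf (nat_lit 22555823914024972)) (.leaf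
    (nat_lit 0))) (.leaf (nat_lit 207320515214508039))))) (.node (.node (.node (.node (.leaf
    (nat_lit 9009505652375558)) (.leaf (nat_lit 0))) (.leaf (nat_lit 45109221171331085))) (.node
    (.node (.leaf (nat_lit 0)) (.leaf (nat_lit 261650056212578318))) (.leaf (nat_lit 0)))) (.node
    (.node (.node (.leaf (nat_lit 11270238998036494)) (.leaf (nat_lit 178216768844791824))) (.leaf
    (nat_lit 157719140503846923))) (.node (.node (.leaf (nat_lit 67602892613419014)) (.leaf
    (nat_lit 309052330358276107))) (.leaf (nat_lit 164571571846053893))))))) (.node (.node (.node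
    (.node (.node (.node (.leaf (nat_lit 0)) (.leaf (nat_lit 108274420430340110))) (.leaf (nat_lit
    83374338941845509))) (.node (.node (.leaf (nat_lit 48473365975072771)) (.leaf (nat_lit
    326877406709350411))) (.leaf (nat_lit 177011223064412163)))) (.node (.node (.node (.leaf
    (nat_lit 6762155424808969)) (.leaf (nat_lit 317777702448988176))) (.leaf (nat_lit
    69201270245821775882))) (.node (.node (.leaf (nat_lit 0)) (.leaf (nat_lit 385529875240517648)))
    (.leaf (nat_lit 242511450013368332))))) (.node (.node (.node (.node (.leaf (nat_lit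
    6757688658821125)) (.leaf (nat_lit 142097665843462158))) (.leaf (nat_lit 40605595774156812)))
    (.node (.node (.leaf (nat_lit 36059948416958468)) (.leaf (nat_lit 0))) (.leaf (nat_lit
    220813627421294613)))) (.node (.node (.node (.leaf (nat_lit 9018422004482061)) (.leaf (nat_lit
    191734164796669966))) (.leaf (nat_lit 87086196914626232338))) (.node (.node (.leaf (nat_lit
    31563074708373518)) (.leaf (nat_lit 347328529144414215))) (.leaf (nat_lit
    214093541201346579)))))) (.node (.node (.node (.node (.node (.leaf (nat_lit 2254054671712259))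
    (.leaf (nat_lit 142071243204657163))) (.leaf (nat_lit 90129772742639623))) (.node (.node (.leaf
    (nat_lit 29406273880247762962)) (.leaf (nat_lit 365188824227315726))) (.leaf (nat_lit
    90191620271702030)))) (.node (.node (.node (.leaf (nat_lit 11265789411917835)) (.leaf (nat_lit
    326811324342534158))) (.leaf (nat_lit 49621694201135120))) (.node (.node (.leaf (nat_lit
    58586845726048262)) (.leaf (nat_lit 396824101630705678))) (.leaf (nat_lit
    108245721458868243))))) (.node (.node (.node (.node (.leaf (nat_lit 11261322645929991)) (.leaf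
    (nat_lit 157873493038530574))) (.leaf (nat_lit 0))) (.node (.node (.leaf (nat_lit
    22546976281395209)) (.leaf (nat_lit 290927851836997651))) (.leaf (nat_lit 72192675054551059))))
    (.node (.node (.node (.leaf (nat_lit 29980478374561447951)) (.leaf (nat_lit
    207505593945227278))) (.leaf (nat_lit 0))) (.node (.node (.leaf (nat_lit 0)) (.leaf (nat_lit
    408140318253449235))) (.leaf (nat_lit 101518978039611404)))))))))

/-- Certificate data. -/
def t64_rel : Trie :=
    (.node (.node (.node (.node (.node (.leaf (nat_lit 0)) (.leaf (nat_lit 17264018181))) (.leaf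
    (nat_lit 21508457730))) (.node (.leaf (nat_lit 83952897)) (.leaf (nat_lit 100861441)))) (.node
    (.node (.node (.leaf (nat_lit 50397953)) (.leaf (nat_lit 33751555))) (.leaf (nat_lit
    67306499))) (.node (.leaf (nat_lit 50463490)) (.leaf (nat_lit 100926978))))) (.node (.node
    (.node (.node (.leaf (nat_lit 33620481)) (.leaf (nat_lit 100992517))) (.leaf (nat_lit
    100795908))) (.node (.leaf (nat_lit 100730371)) (.leaf (nat_lit 21542143236)))) (.node (.node
    (.node (.leaf (nat_lit 67175425)) (.leaf (nat_lit 33817092))) (.leaf (nat_lit 84083971)))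
    (.node (.leaf (nat_lit 67240962)) (.leaf (nat_lit 8673952005))))))

/-- Certificate data. -/
def t64_rc : Trie :=
    (.node (.node (.node (.node (.node (.leaf (nat_lit 38)) (.leaf (nat_lit 524319))) (.leaf
    (nat_lit 393245))) (.node (.leaf (nat_lit 131096)) (.leaf (nat_lit 131104)))) (.node (.node
    (.node (.leaf (nat_lit 14)) (.leaf (nat_lit 131090))) (.leaf (nat_lit 22))) (.node (.leaf
    (nat_lit 18)) (.leaf (nat_lit 131106))))) (.node (.node (.node (.node (.leaf (nat_lit 12))
    (.leaf (nat_lit 131108))) (.leaf (nat_lit 393250))) (.node (.leaf (nat_lit 393248)) (.leaf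
    (nat_lit 393247)))) (.node (.node (.node (.leaf (nat_lit 16)) (.leaf (nat_lit 131092))) (.leaf
    (nat_lit 131098))) (.node (.leaf (nat_lit 20)) (.leaf (nat_lit 524317))))))

/-- Certificate data. -/
def t64_lv : Trie :=
    (.node (.node (.node (.node (.node (.node (.leaf (nat_lit 0)) (.leaf (nat_lit 32))) (.node
    (.leaf (nat_lit 16)) (.leaf (nat_lit 48)))) (.node (.node (.leaf (nat_lit 8)) (.leaf (nat_lit
    40))) (.node (.leaf (nat_lit 24)) (.leaf (nat_lit 56))))) (.node (.node (.node (.leaf (nat_lit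
    4)) (.leaf (nat_lit 36))) (.node (.leaf (nat_lit 20)) (.leaf (nat_lit 52)))) (.node (.node
    (.leaf (nat_lit 12)) (.leaf (nat_lit 44))) (.node (.leaf (nat_lit 28)) (.leaf (nat_lit 60))))))
    (.node (.node (.node (.node (.leaf (nat_lit 2)) (.leaf (nat_lit 34))) (.node (.leaf (nat_lit
    18)) (.leaf (nat_lit 50)))) (.node (.node (.leaf (nat_lit 10)) (.leaf (nat_lit 42))) (.node
    (.leaf (nat_lit 26)) (.leaf (nat_lit 58))))) (.node (.node (.node (.leaf (nat_lit 6)) (.leaf
    (nat_lit 38))) (.node (.leaf (nat_lit 22)) (.leaf (nat_lit 54)))) (.node (.node (.leaf (nat_lit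
    14)) (.leaf (nat_lit 46))) (.node (.leaf (nat_lit 30)) (.leaf (nat_lit 62))))))) (.node (.node
    (.node (.node (.node (.leaf (nat_lit 1)) (.leaf (nat_lit 33))) (.node (.leaf (nat_lit 17))
    (.leaf (nat_lit 49)))) (.node (.node (.leaf (nat_lit 9)) (.leaf (nat_lit 41))) (.node (.leaf
    (nat_lit 25)) (.leaf (nat_lit 57))))) (.node (.node (.node (.leaf (nat_lit 5)) (.leaf (nat_lit
    37))) (.node (.leaf (nat_lit 21)) (.leaf (nat_lit 53)))) (.node (.node (.leaf (nat_lit 13))
    (.leaf (nat_lit 45))) (.node (.leaf (nat_lit 29)) (.leaf (nat_lit 61)))))) (.node (.node (.node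
    (.node (.leaf (nat_lit 3)) (.leaf (nat_lit 35))) (.node (.leaf (nat_lit 19)) (.leaf (nat_lit
    51)))) (.node (.node (.leaf (nat_lit 11)) (.leaf (nat_lit 43))) (.node (.leaf (nat_lit 27))
    (.leaf (nat_lit 59))))) (.node (.node (.node (.leaf (nat_lit 7)) (.leaf (nat_lit 39))) (.node
    (.leaf (nat_lit 23)) (.leaf (nat_lit 55)))) (.node (.node (.leaf (nat_lit 15)) (.leaf (nat_lit
    47))) (.node (.leaf (nat_lit 31)) (.leaf (nat_lit 63))))))))

/-- Certificate data. -/
def t64_tb : Trie :=
    (.node (.node (.node (.node (.node (.node (.node (.node (.node (.leaf (nat_lit 512)) (.leaf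
    (nat_lit 2568))) (.leaf (nat_lit 1540))) (.node (.node (.leaf (nat_lit 1026)) (.leaf (nat_lit
    3082))) (.leaf (nat_lit 2054)))) (.node (.node (.node (.leaf (nat_lit 11398)) (.leaf (nat_lit
    13962))) (.leaf (nat_lit 15496))) (.node (.node (.leaf (nat_lit 20147)) (.leaf (nat_lit
    28458))) (.leaf (nat_lit 5253))))) (.node (.node (.node (.node (.leaf (nat_lit 13929)) (.leaf
    (nat_lit 11343))) (.leaf (nat_lit 2098))) (.node (.node (.leaf (nat_lit 17557)) (.leaf (nat_lit
    21182))) (.leaf (nat_lit 1585)))) (.node (.node (.node (.leaf (nat_lit 23282)) (.leaf (nat_lit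
    21238))) (.leaf (nat_lit 28461))) (.node (.node (.leaf (nat_lit 12020)) (.leaf (nat_lit
    11505))) (.leaf (nat_lit 32113)))))) (.node (.node (.node (.node (.node (.leaf (nat_lit 1554))
    (.leaf (nat_lit 14444))) (.leaf (nat_lit 529))) (.node (.node (.leaf (nat_lit 12377)) (.leaf
    (nat_lit 14962))) (.leaf (nat_lit 13926)))) (.node (.node (.node (.leaf (nat_lit 29503)) (.leaf
    (nat_lit 7868))) (.leaf (nat_lit 24299))) (.node (.node (.leaf (nat_lit 30547)) (.leaf (nat_lit
    7353))) (.leaf (nat_lit 17082))))) (.node (.node (.node (.node (.leaf (nat_lit 6230)) (.leaf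
    (nat_lit 21707))) (.leaf (nat_lit 3669))) (.node (.node (.leaf (nat_lit 4184)) (.leaf (nat_lit
    25858))) (.leaf (nat_lit 25336)))) (.node (.node (.node (.leaf (nat_lit 19766)) (.leaf (nat_lit
    30549))) (.leaf (nat_lit 32631))) (.node (.node (.leaf (nat_lit 18746)) (.leaf (nat_lit
    17717))) (.leaf (nat_lit 21304))))))) (.node (.node (.node (.node (.node (.node (.leaf (nat_lit
    4631)) (.leaf (nat_lit 9788))) (.leaf (nat_lit 8243))) (.node (.node (.leaf (nat_lit 6695))
    (.leaf (nat_lit 10304))) (.leaf (nat_lit 7)))) (.node (.node (.node (.leaf (nat_lit 7840))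
    (.leaf (nat_lit 29507))) (.leaf (nat_lit 25861))) (.node (.node (.leaf (nat_lit 28987)) (.leaf
    (nat_lit 6303))) (.leaf (nat_lit 9378))))) (.node (.node (.node (.node (.leaf (nat_lit 21185))
    (.leaf (nat_lit 23263))) (.leaf (nat_lit 16001))) (.node (.node (.leaf (nat_lit 3138)) (.leaf
    (nat_lit 2113))) (.leaf (nat_lit 19629)))) (.node (.node (.node (.leaf (nat_lit 16150)) (.leaf
    (nat_lit 28467))) (.leaf (nat_lit 21268))) (.node (.node (.leaf (nat_lit 15128)) (.leaf
    (nat_lit 14099))) (.leaf (nat_lit 32635)))))) (.node (.node (.node (.node (.node (.leaf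
    (nat_lit 12375)) (.leaf (nat_lit 18072))) (.leaf (nat_lit 1057))) (.node (.node (.leaf (nat_lit
    1570)) (.leaf (nat_lit 18590))) (.leaf (nat_lit 17554)))) (.node (.node (.node (.leaf (nat_lit
    19156)) (.leaf (nat_lit 13016))) (.leaf (nat_lit 23783))) (.node (.node (.leaf (nat_lit 9939))
    (.leaf (nat_lit 31584))) (.leaf (nat_lit 21718))))) (.node (.node (.node (.node (.leaf (nat_lit
    8814)) (.leaf (nat_lit 4205))) (.leaf (nat_lit 5232))) (.node (.node (.leaf (nat_lit 18077))
    (.leaf (nat_lit 27418))) (.leaf (nat_lit 15485)))) (.node (.node (.node (.leaf (nat_lit 24410))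
    (.leaf (nat_lit 25950))) (.leaf (nat_lit 29528))) (.node (.node (.leaf (nat_lit 31591)) (.leaf
    (nat_lit 21847))) (.leaf (nat_lit 22364)))))))) (.node (.node (.node (.node (.node (.node
    (.node (.leaf (nat_lit 3599)) (.leaf (nat_lit 7208))) (.leaf (nat_lit 6176))) (.node (.node
    (.leaf (nat_lit 3)) (.leaf (nat_lit 7724))) (.leaf (nat_lit 6692)))) (.node (.node (.node
    (.leaf (nat_lit 25339)) (.leaf (nat_lit 20151))) (.leaf (nat_lit 6806))) (.node (.node (.leaf
    (nat_lit 8340)) (.leaf (nat_lit 28980))) (.leaf (nat_lit 6291))))) (.node (.node (.node (.node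
    (.leaf (nat_lit 3130)) (.leaf (nat_lit 22225))) (.leaf (nat_lit 14965))) (.node (.node (.leaf
    (nat_lit 21187)) (.leaf (nat_lit 1593))) (.leaf (nat_lit 18595)))) (.node (.node (.node (.leaf
    (nat_lit 13574)) (.leaf (nat_lit 31071))) (.leaf (nat_lit 18692))) (.node (.node (.leaf
    (nat_lit 32637)) (.leaf (nat_lit 12547))) (.leaf (nat_lit 15112)))))) (.node (.node (.node
    (.node (.node (.leaf (nat_lit 2586)) (.leaf (nat_lit 537))) (.leaf (nat_lit 14449))) (.node
    (.node (.leaf (nat_lit 7211)) (.leaf (nat_lit 17036))) (.leaf (nat_lit 16516)))) (.node (.node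
    (.node (.leaf (nat_lit 18118)) (.leaf (nat_lit 12490))) (.leaf (nat_lit 10952))) (.node (.node
    (.leaf (nat_lit 8901)) (.leaf (nat_lit 31062))) (.leaf (nat_lit 22743))))) (.node (.node (.node
    (.node (.leaf (nat_lit 25863)) (.leaf (nat_lit 24303))) (.leaf (nat_lit 7778))) (.node (.node
    (.leaf (nat_lit 26385)) (.leaf (nat_lit 3681))) (.leaf (nat_lit 5732)))) (.node (.node (.node
    (.leaf (nat_lit 30543)) (.leaf (nat_lit 19786))) (.leaf (nat_lit 31587))) (.node (.node (.leaf
    (nat_lit 29512)) (.leaf (nat_lit 19269))) (.leaf (nat_lit 27974))))))) (.node (.node (.node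
    (.node (.node (.node (.leaf (nat_lit 9275)) (.leaf (nat_lit 11859))) (.leaf (nat_lit 5663)))
    (.node (.node (.leaf (nat_lit 10307)) (.leaf (nat_lit 11))) (.leaf (nat_lit 7727)))) (.node
    (.node (.node (.leaf (nat_lit 28983)) (.leaf (nat_lit 30027))) (.leaf (nat_lit 26381))) (.node
    (.node (.leaf (nat_lit 7854)) (.leaf (nat_lit 6827))) (.leaf (nat_lit 10412))))) (.node (.node
    (.node (.node (.leaf (nat_lit 16519)) (.leaf (nat_lit 8270))) (.leaf (nat_lit 9804))) (.node
    (.node (.leaf (nat_lit 23781)) (.leaf (nat_lit 24816))) (.leaf (nat_lit 2635)))) (.node (.node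
    (.node (.leaf (nat_lit 28463)) (.leaf (nat_lit 16168))) (.leaf (nat_lit 23332))) (.node (.node
    (.leaf (nat_lit 27430)) (.leaf (nat_lit 15651))) (.leaf (nat_lit 30023)))))) (.node (.node
    (.node (.node (.node (.leaf (nat_lit 10823)) (.leaf (nat_lit 1065))) (.leaf (nat_lit 18075)))
    (.node (.node (.leaf (nat_lit 5162)) (.leaf (nat_lit 20664))) (.leaf (nat_lit 20144)))) (.node
    (.node (.node (.leaf (nat_lit 20194)) (.leaf (nat_lit 25345))) (.leaf (nat_lit 22758))) (.node
    (.node (.leaf (nat_lit 11492)) (.leaf (nat_lit 32106))) (.leaf (nat_lit 10977))))) (.node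
    (.node (.node (.node (.leaf (nat_lit 9850)) (.leaf (nat_lit 4729))) (.leaf (nat_lit 16521)))
    (.node (.node (.leaf (nat_lit 19111)) (.leaf (nat_lit 27938))) (.leaf (nat_lit 14460)))) (.node
    (.node (.node (.leaf (nat_lit 31598)) (.leaf (nat_lit 32639))) (.leaf (nat_lit 30572))) (.node
    (.node (.leaf (nat_lit 24434)) (.leaf (nat_lit 23915))) (.leaf (nat_lit 24944))))))))) (.node
    (.node (.node (.node (.node (.node (.node (.node (.leaf (nat_lit 1)) (.leaf (nat_lit 5144)))
    (.leaf (nat_lit 4112))) (.node (.node (.leaf (nat_lit 3596)) (.leaf (nat_lit 5660))) (.leaf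
    (nat_lit 4628)))) (.node (.node (.node (.leaf (nat_lit 27423)) (.leaf (nat_lit 5776))) (.leaf
    (nat_lit 11918))) (.node (.node (.leaf (nat_lit 28465)) (.leaf (nat_lit 5261))) (.leaf (nat_lit
    20667))))) (.node (.node (.node (.node (.leaf (nat_lit 14447)) (.leaf (nat_lit 1589))) (.leaf
    (nat_lit 2614))) (.node (.node (.leaf (nat_lit 21700)) (.leaf (nat_lit 22220))) (.leaf (nat_lit
    9791)))) (.node (.node (.node (.leaf (nat_lit 17658)) (.leaf (nat_lit 23808))) (.leaf (nat_lit
    13054))) (.node (.node (.leaf (nat_lit 14076)) (.leaf (nat_lit 32628))) (.leaf (nat_lit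
    12537)))))) (.node (.node (.node (.node (.node (.leaf (nat_lit 2070)) (.leaf (nat_lit 15480)))
    (.leaf (nat_lit 13931))) (.node (.node (.leaf (nat_lit 12895)) (.leaf (nat_lit 15998))) (.leaf
    (nat_lit 533)))) (.node (.node (.node (.leaf (nat_lit 10432)) (.leaf (nat_lit 24823))) (.leaf
    (nat_lit 26901))) (.node (.node (.leaf (nat_lit 9410)) (.leaf (nat_lit 8383))) (.leaf (nat_lit
    28985))))) (.node (.node (.node (.node (.leaf (nat_lit 6748)) (.leaf (nat_lit 22745))) (.leaf
    (nat_lit 25343))) (.node (.node (.leaf (nat_lit 4702)) (.leaf (nat_lit 26378))) (.leaf (nat_lit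
    3675)))) (.node (.node (.node (.leaf (nat_lit 20798)) (.leaf (nat_lit 18754))) (.leaf (nat_lit
    31065))) (.node (.node (.leaf (nat_lit 30025)) (.leaf (nat_lit 18237))) (.leaf (nat_lit
    27456))))))) (.node (.node (.node (.node (.node (.node (.leaf (nat_lit 5147)) (.leaf (nat_lit
    9))) (.leaf (nat_lit 8759))) (.node (.node (.leaf (nat_lit 10820)) (.leaf (nat_lit 11856)))
    (.leaf (nat_lit 11338)))) (.node (.node (.node (.leaf (nat_lit 22741)) (.leaf (nat_lit 6821)))
    (.leaf (nat_lit 20149))) (.node (.node (.leaf (nat_lit 15526)) (.leaf (nat_lit 30020))) (.leaf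
    (nat_lit 18088))))) (.node (.node (.node (.node (.leaf (nat_lit 7238)) (.leaf (nat_lit 3656)))
    (.leaf (nat_lit 21705))) (.node (.node (.leaf (nat_lit 2629)) (.leaf (nat_lit 24296))) (.leaf
    (nat_lit 23776)))) (.node (.node (.node (.leaf (nat_lit 17182)) (.leaf (nat_lit 15136))) (.leaf
    (nat_lit 22300))) (.node (.node (.leaf (nat_lit 27943)) (.leaf (nat_lit 14619))) (.leaf
    (nat_lit 29505)))))) (.node (.node (.node (.node (.node (.leaf (nat_lit 12893)) (.leaf (nat_lit
    19108))) (.leaf (nat_lit 17559))) (.node (.node (.leaf (nat_lit 2086)) (.leaf (nat_lit 19626)))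
    (.leaf (nat_lit 1061)))) (.node (.node (.node (.leaf (nat_lit 24819)) (.leaf (nat_lit 10462)))
    (.leaf (nat_lit 27941))) (.node (.node (.leaf (nat_lit 22236)) (.leaf (nat_lit 9947))) (.leaf
    (nat_lit 31589))))) (.node (.node (.node (.node (.leaf (nat_lit 5750)) (.leaf (nat_lit 27425)))
    (.leaf (nat_lit 9332))) (.node (.node (.leaf (nat_lit 26905)) (.leaf (nat_lit 4211))) (.leaf
    (nat_lit 25865)))) (.node (.node (.node (.leaf (nat_lit 32111)) (.leaf (nat_lit 26472))) (.leaf
    (nat_lit 30050))) (.node (.node (.leaf (nat_lit 31078)) (.leaf (nat_lit 22881))) (.leaf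
    (nat_lit 23396)))))))) (.node (.node (.node (.node (.node (.node (.node (.leaf (nat_lit 4115))
    (.leaf (nat_lit 8756))) (.leaf (nat_lit 5))) (.node (.node (.leaf (nat_lit 6179)) (.leaf
    (nat_lit 9272))) (.leaf (nat_lit 8240)))) (.node (.node (.node (.leaf (nat_lit 21703)) (.leaf
    (nat_lit 6297))) (.leaf (nat_lit 7322))) (.node (.node (.leaf (nat_lit 14492)) (.leaf (nat_lit
    29500))) (.leaf (nat_lit 19113))))) (.node (.node (.node (.node (.leaf (nat_lit 15483)) (.leaf
    (nat_lit 2109))) (.leaf (nat_lit 11341))) (.node (.node (.leaf (nat_lit 22738)) (.leaf (nat_lit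
    23258))) (.leaf (nat_lit 8766)))) (.node (.node (.node (.leaf (nat_lit 32633)) (.leaf (nat_lit
    31593))) (.leaf (nat_lit 19724))) (.node (.node (.leaf (nat_lit 13584)) (.leaf (nat_lit
    13067))) (.leaf (nat_lit 16142)))))) (.node (.node (.node (.node (.node (.leaf (nat_lit 14967))
    (.leaf (nat_lit 17041))) (.leaf (nat_lit 3102))) (.node (.node (.leaf (nat_lit 16003)) (.leaf
    (nat_lit 541))) (.leaf (nat_lit 13413)))) (.node (.node (.node (.leaf (nat_lit 11982)) (.leaf
    (nat_lit 9424))) (.leaf (nat_lit 27421))) (.node (.node (.leaf (nat_lit 23261)) (.leaf (nat_lit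
    8909))) (.leaf (nat_lit 31069))))) (.node (.node (.node (.node (.leaf (nat_lit 8296)) (.leaf
    (nat_lit 16523))) (.leaf (nat_lit 4714))) (.node (.node (.leaf (nat_lit 25341)) (.leaf (nat_lit
    26898))) (.leaf (nat_lit 4199)))) (.node (.node (.node (.leaf (nat_lit 30030)) (.leaf (nat_lit
    29012))) (.leaf (nat_lit 32109))) (.node (.node (.leaf (nat_lit 20818)) (.leaf (nat_lit
    20301))) (.leaf (nat_lit 28496))))))) (.node (.node (.node (.node (.node (.node (.leaf (nat_lit
    1038)) (.leaf (nat_lit 10825))) (.leaf (nat_lit 12372))) (.node (.node (.leaf (nat_lit 525))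
    (.leaf (nat_lit 13408))) (.leaf (nat_lit 12890)))) (.node (.node (.node (.leaf (nat_lit 23779))
    (.leaf (nat_lit 17590))) (.leaf (nat_lit 19124))) (.node (.node (.leaf (nat_lit 16562)) (.leaf
    (nat_lit 30540))) (.leaf (nat_lit 7345))))) (.node (.node (.node (.node (.leaf (nat_lit 22223))
    (.leaf (nat_lit 3154))) (.leaf (nat_lit 17039))) (.node (.node (.leaf (nat_lit 24821)) (.leaf
    (nat_lit 2641))) (.leaf (nat_lit 24301)))) (.node (.node (.node (.leaf (nat_lit 27950)) (.leaf
    (nat_lit 26930))) (.leaf (nat_lit 24876))) (.node (.node (.leaf (nat_lit 17200)) (.leaf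
    (nat_lit 16683))) (.leaf (nat_lit 30545)))))) (.node (.node (.node (.node (.node (.leaf
    (nat_lit 18593)) (.leaf (nat_lit 20669))) (.leaf (nat_lit 13411))) (.node (.node (.leaf
    (nat_lit 19631)) (.leaf (nat_lit 1069))) (.leaf (nat_lit 3118)))) (.node (.node (.node (.leaf
    (nat_lit 31067)) (.leaf (nat_lit 13550))) (.leaf (nat_lit 20714))) (.node (.node (.leaf
    (nat_lit 32115)) (.leaf (nat_lit 10985))) (.leaf (nat_lit 12012))))) (.node (.node (.node
    (.node (.leaf (nat_lit 26903)) (.leaf (nat_lit 27945))) (.leaf (nat_lit 10368))) (.node (.node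
    (.leaf (nat_lit 5762)) (.leaf (nat_lit 4735))) (.leaf (nat_lit 26383)))) (.node (.node (.node
    (.leaf (nat_lit 26488)) (.leaf (nat_lit 32126))) (.leaf (nat_lit 29046))) (.node (.node (.leaf
    (nat_lit 25980)) (.leaf (nat_lit 25461))) (.leaf (nat_lit 27002))))))))))

/-- Certificate data. -/
def t64_C : TC.Cert := ⟨6, 63, 9, 511, 1694364648734976, 0, t64_par, t64_fact, t64_just, t64_rel, 20⟩

/-- Certificate data. -/
def t64_rs : List (List ℕ) := [[1, 1], [2, 2], [3, 3], [4, 4], [5, 5], [6, 6], [1, 2, 1, 2], [1, 3, 1, 3], [1, 4, 1, 4], [2, 3, 2, 3], [2, 4, 2, 4], [3, 4, 3, 4], [5, 1, 5, 1], [5, 3, 5, 3], [5, 2, 5, 2, 1], [5, 4, 5, 4, 3], [6, 1, 6, 3], [6, 2, 6, 4], [6, 5, 6, 5]]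

/-- Certificate data. -/
def t64_gl : List ℕ := [1, 16386, 32771, 49156, 65541, 81926]

theorem t64_h1 : allB t64_C.factChk 192 = true := by decide +kernel

theorem t64_h2 : t64_C.finChk 192 64 t64_lv t64_tb t64_gl = true := by decide +kernel

theorem t64_h3 : TC.relChk t64_C.ivc t64_rs t64_C.rel t64_rc t64_C.nrel = true := by decide +kernel

theorem t64_bound {G : Type*} [Group G] {v1 v2 w1 w2 x sg : G}
    (r0 : v1 * v1 = 1)
    (r1 : v2 * v2 = 1)
    (r2 : w1 * w1 = 1)
    (r3 : w2 * w2 = 1)
    (r4 : x * x = 1)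
    (r5 : sg * sg = 1)
    (r6 : v1 * v2 * v1 * v2 = 1)
    (r7 : v1 * w1 * v1 * w1 = 1)
    (r8 : v1 * w2 * v1 * w2 = 1)
    (r9 : v2 * w1 * v2 * w1 = 1)
    (r10 : v2 * w2 * v2 * w2 = 1)
    (r11 : w1 * w2 * w1 * w2 = 1)
    (r12 : x * v1 * x * v1 = 1)
    (r13 : x * w1 * x * w1 = 1)
    (r14 : x * v2 * x * v2 * v1 = 1)
    (r15 : x * w2 * x * w2 * w1 = 1)
    (r16 : sg * v1 * sg * w1 = 1)
    (r17 : sg * v2 * sg * w2 = 1)
    (r18 : sg * x * sg * x = 1)
    (H : Subgroup G) [Finite H] :
    Finite (Subgroup.closure ({v1, v2, w1, w2, x, sg} : Set G)) ∧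
      Nat.card (Subgroup.closure ({v1, v2, w1, w2, x, sg} : Set G)) ≤ 64 * Nat.card H := by
  have hL : TC.Lett (TC.lett [v1, v2, w1, w2, x, sg]) t64_C.ivc :=
    TC.lett_ok (show Nat.shiftRight t64_C.ivc (8 * 7) = 0 by decide +kernel) (by
      intro a ha
      change a < 7 at ha
      interval_cases a
      · exact inv_one.symm
      · exact (inv_eq_of_mul_eq_one_right r0).symm
      · exact (inv_eq_of_mul_eq_one_right r1).symm
      · exact (inv_eq_of_mul_eq_one_right r2).symm
      · exact (inv_eq_of_mul_eq_one_right r3).symm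
      · exact (inv_eq_of_mul_eq_one_right r4).symm
      · exact (inv_eq_of_mul_eq_one_right r5).symm)
  have h := TC.card_le t64_h1 t64_h2 t64_h3 (by decide) hL (by
    simp only [t64_rs, List.forall_mem_cons]
    refine ⟨?_, ?_, ?_, ?_, ?_, ?_, ?_, ?_, ?_, ?_, ?_, ?_, ?_, ?_, ?_, ?_, ?_, ?_, ?_,
    List.forall_mem_nil _⟩
    · show v1 * (v1 * 1) = 1
      simp only [mul_one] at r0 ⊢
      exact r0
    · show v2 * (v2 * 1) = 1
      simp only [mul_one] at r1 ⊢
      exact r1
    · show w1 * (w1 * 1) = 1
      simp only [mul_one] at r2 ⊢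
      exact r2
    · show w2 * (w2 * 1) = 1
      simp only [mul_one] at r3 ⊢
      exact r3
    · show x * (x * 1) = 1
      simp only [mul_one] at r4 ⊢
      exact r4
    · show sg * (sg * 1) = 1
      simp only [mul_one] at r5 ⊢
      exact r5
    · show v1 * (v2 * (v1 * (v2 * 1))) = 1
      simp only [mul_assoc, mul_one] at r6 ⊢
      exact r6
    · show v1 * (w1 * (v1 * (w1 * 1))) = 1
      simp only [mul_assoc, mul_one] at r7 ⊢
      exact r7
    · show v1 * (w2 * (v1 * (w2 * 1))) = 1
      simp only [mul_assoc, mul_one] at r8 ⊢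
      exact r8
    · show v2 * (w1 * (v2 * (w1 * 1))) = 1
      simp only [mul_assoc, mul_one] at r9 ⊢
      exact r9
    · show v2 * (w2 * (v2 * (w2 * 1))) = 1
      simp only [mul_assoc, mul_one] at r10 ⊢
      exact r10
    · show w1 * (w2 * (w1 * (w2 * 1))) = 1
      simp only [mul_assoc, mul_one] at r11 ⊢
      exact r11
    · show x * (v1 * (x * (v1 * 1))) = 1
      simp only [mul_assoc, mul_one] at r12 ⊢
      exact r12
    · show x * (w1 * (x * (w1 * 1))) = 1
      simp only [mul_assoc, mul_one] at r13 ⊢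
      exact r13
    · show x * (v2 * (x * (v2 * (v1 * 1)))) = 1
      simp only [mul_assoc, mul_one] at r14 ⊢
      exact r14
    · show x * (w2 * (x * (w2 * (w1 * 1)))) = 1
      simp only [mul_assoc, mul_one] at r15 ⊢
      exact r15
    · show sg * (v1 * (sg * (w1 * 1))) = 1
      simp only [mul_assoc, mul_one] at r16 ⊢
      exact r16
    · show sg * (v2 * (sg * (w2 * 1))) = 1
      simp only [mul_assoc, mul_one] at r17 ⊢
      exact r17
    · show sg * (x * (sg * (x * 1))) = 1
      simp only [mul_assoc, mul_one] at r18 ⊢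
      exact r18) H
    (TC.forall_subs (K := 7) (by decide +kernel) (by
      intro a ha hb
      interval_cases a
      · exact absurd hb (by decide +kernel)
      · exact absurd hb (by decide +kernel)
      · exact absurd hb (by decide +kernel)
      · exact absurd hb (by decide +kernel)
      · exact absurd hb (by decide +kernel)
      · exact absurd hb (by decide +kernel)
      · exact absurd hb (by decide +kernel)))
  have e : {g₀ | ∃ ak ∈ t64_gl, TC.lett [v1, v2, w1, w2, x, sg] (ak % 256) = g₀} =
      {v1, v2, w1, w2, x, sg} := by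
    ext g₀
    simp only [t64_gl, List.mem_cons, List.not_mem_nil, or_false, exists_eq_or_imp,
      exists_eq_left, Set.mem_ofPred_eq, Set.mem_insert_iff, Set.mem_singleton_iff]
    exact or_congr eq_comm (or_congr eq_comm (or_congr eq_comm (or_congr eq_comm (or_congr eq_comm (eq_comm)))))
  rw [e] at h
  exact h

end Cfsg.Agent.H1.S8T
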