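import Cfsg.Agent.H1.A8Data
import Cfsg.Agent.H1.PCode3

/-!
# Data in the normalizer of a three-cycle in the symmetric group of degree eight
-/

set_option autoImplicit false
set_option maxRecDepth 100000
set_option synthInstance.maxSize 100000
set_option synthInstance.maxHeartbeats 1000000
set_option linter.unusedSimpArgs false

namespace Cfsg.Agent.H1.S8K

open Cfsg.Agent.L0 Cfsg.Agent.L0.Code Equiv Cfsg.Agent.H1.PC

open Cfsg.Agent.H1.A8 (h8 sp_eq)

/-- Generators (0 1), (1 2), (5 6), (6 7), (4 7), (3 4). -/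
def gK0 : List ℕ := [nat_lit 0x76543201, nat_lit 0x76543120, nat_lit 0x75643210, nat_lit 0x67543210, nat_lit 0x46573210, nat_lit 0x76534210]
def LK0 : List ℕ := [
  nat_lit 0x74365012, nat_lit 0x74365021, nat_lit 0x74365102, nat_lit 0x73465012,
  nat_lit 0x47365012, nat_lit 0x64375012, nat_lit 0x74356012, nat_lit 0x74365120,
  nat_lit 0x73465021, nat_lit 0x47365021, nat_lit 0x64375021, nat_lit 0x74356021,
  nat_lit 0x74365201, nat_lit 0x73465102, nat_lit 0x47365102, nat_lit 0x64375102,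
  nat_lit 0x74356102, nat_lit 0x43765012, nat_lit 0x63475012, nat_lit 0x73456012,
  nat_lit 0x37465012, nat_lit 0x46375012, nat_lit 0x47356012, nat_lit 0x67345012,
  nat_lit 0x54376012, nat_lit 0x64357012, nat_lit 0x74365210, nat_lit 0x73465120,
  nat_lit 0x47365120, nat_lit 0x64375120, nat_lit 0x74356120, nat_lit 0x43765021,
  nat_lit 0x63475021, nat_lit 0x73456021, nat_lit 0x37465021, nat_lit 0x46375021,
  nat_lit 0x47356021, nat_lit 0x67345021, nat_lit 0x54376021, nat_lit 0x64357021,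
  nat_lit 0x73465201, nat_lit 0x47365201, nat_lit 0x64375201, nat_lit 0x74356201,
  nat_lit 0x43765102, nat_lit 0x63475102, nat_lit 0x73456102, nat_lit 0x37465102,
  nat_lit 0x46375102, nat_lit 0x47356102, nat_lit 0x67345102, nat_lit 0x54376102,
  nat_lit 0x64357102, nat_lit 0x34765012, nat_lit 0x43675012, nat_lit 0x43756012,
  nat_lit 0x63745012, nat_lit 0x53476012, nat_lit 0x63457012, nat_lit 0x36475012,
  nat_lit 0x37456012, nat_lit 0x76345012, nat_lit 0x45376012, nat_lit 0x46357012,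
  nat_lit 0x67435012, nat_lit 0x57346012, nat_lit 0x54367012, nat_lit 0x67354012,
  nat_lit 0x73465210, nat_lit 0x47365210, nat_lit 0x64375210, nat_lit 0x74356210,
  nat_lit 0x43765120, nat_lit 0x63475120, nat_lit 0x73456120, nat_lit 0x37465120,
  nat_lit 0x46375120, nat_lit 0x47356120, nat_lit 0x67345120, nat_lit 0x54376120,
  nat_lit 0x64357120, nat_lit 0x34765021, nat_lit 0x43675021, nat_lit 0x43756021,
  nat_lit 0x63745021, nat_lit 0x53476021, nat_lit 0x63457021, nat_lit 0x36475021,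
  nat_lit 0x37456021, nat_lit 0x76345021, nat_lit 0x45376021, nat_lit 0x46357021,
  nat_lit 0x67435021, nat_lit 0x57346021, nat_lit 0x54367021, nat_lit 0x67354021,
  nat_lit 0x43765201, nat_lit 0x63475201, nat_lit 0x73456201, nat_lit 0x37465201,
  nat_lit 0x46375201, nat_lit 0x47356201, nat_lit 0x67345201, nat_lit 0x54376201,
  nat_lit 0x64357201, nat_lit 0x34765102, nat_lit 0x43675102, nat_lit 0x43756102,
  nat_lit 0x63745102, nat_lit 0x53476102, nat_lit 0x63457102, nat_lit 0x36475102,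
  nat_lit 0x37456102, nat_lit 0x76345102, nat_lit 0x45376102, nat_lit 0x46357102,
  nat_lit 0x67435102, nat_lit 0x57346102, nat_lit 0x54367102, nat_lit 0x67354102,
  nat_lit 0x34675012, nat_lit 0x34756012, nat_lit 0x73645012, nat_lit 0x43576012,
  nat_lit 0x43657012, nat_lit 0x64735012, nat_lit 0x53746012, nat_lit 0x53467012,
  nat_lit 0x63754012, nat_lit 0x36745012, nat_lit 0x35476012, nat_lit 0x36457012,
  nat_lit 0x76435012, nat_lit 0x75346012, nat_lit 0x45367012, nat_lit 0x76354012,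
  nat_lit 0x57436012, nat_lit 0x56347012, nat_lit 0x57364012, nat_lit 0x67453012,
  nat_lit 0x43765210, nat_lit 0x63475210, nat_lit 0x73456210, nat_lit 0x37465210,
  nat_lit 0x46375210, nat_lit 0x47356210, nat_lit 0x67345210, nat_lit 0x54376210,
  nat_lit 0x64357210, nat_lit 0x34765120, nat_lit 0x43675120, nat_lit 0x43756120,
  nat_lit 0x63745120, nat_lit 0x53476120, nat_lit 0x63457120, nat_lit 0x36475120,
  nat_lit 0x37456120, nat_lit 0x76345120, nat_lit 0x45376120, nat_lit 0x46357120,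
  nat_lit 0x67435120, nat_lit 0x57346120, nat_lit 0x54367120, nat_lit 0x67354120,
  nat_lit 0x34675021, nat_lit 0x34756021, nat_lit 0x73645021, nat_lit 0x43576021,
  nat_lit 0x43657021, nat_lit 0x64735021, nat_lit 0x53746021, nat_lit 0x53467021,
  nat_lit 0x63754021, nat_lit 0x36745021, nat_lit 0x35476021, nat_lit 0x36457021,
  nat_lit 0x76435021, nat_lit 0x75346021, nat_lit 0x45367021, nat_lit 0x76354021,
  nat_lit 0x57436021, nat_lit 0x56347021, nat_lit 0x57364021, nat_lit 0x67453021,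
  nat_lit 0x34765201, nat_lit 0x43675201, nat_lit 0x43756201, nat_lit 0x63745201,
  nat_lit 0x53476201, nat_lit 0x63457201, nat_lit 0x36475201, nat_lit 0x37456201,
  nat_lit 0x76345201, nat_lit 0x45376201, nat_lit 0x46357201, nat_lit 0x67435201,
  nat_lit 0x57346201, nat_lit 0x54367201, nat_lit 0x67354201, nat_lit 0x34675102,
  nat_lit 0x34756102, nat_lit 0x73645102, nat_lit 0x43576102, nat_lit 0x43657102,
  nat_lit 0x64735102, nat_lit 0x53746102, nat_lit 0x53467102, nat_lit 0x63754102,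
  nat_lit 0x36745102, nat_lit 0x35476102, nat_lit 0x36457102, nat_lit 0x76435102,
  nat_lit 0x75346102, nat_lit 0x45367102, nat_lit 0x76354102, nat_lit 0x57436102,
  nat_lit 0x56347102, nat_lit 0x57364102, nat_lit 0x67453102, nat_lit 0x37645012,
  nat_lit 0x34576012, nat_lit 0x34657012, nat_lit 0x74635012, nat_lit 0x73546012,
  nat_lit 0x43567012, nat_lit 0x73654012, nat_lit 0x54736012, nat_lit 0x53647012,
  nat_lit 0x53764012, nat_lit 0x64753012, nat_lit 0x46735012, nat_lit 0x35746012,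
  nat_lit 0x35467012, nat_lit 0x36754012, nat_lit 0x75436012, nat_lit 0x65347012,
  nat_lit 0x75364012, nat_lit 0x76453012, nat_lit 0x56437012, nat_lit 0x56374012,
  nat_lit 0x57463012, nat_lit 0x34765210, nat_lit 0x43675210, nat_lit 0x43756210,
  nat_lit 0x63745210, nat_lit 0x53476210, nat_lit 0x63457210, nat_lit 0x36475210,
  nat_lit 0x37456210, nat_lit 0x76345210, nat_lit 0x45376210, nat_lit 0x46357210,
  nat_lit 0x67435210, nat_lit 0x57346210, nat_lit 0x54367210, nat_lit 0x67354210,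
  nat_lit 0x34675120, nat_lit 0x34756120, nat_lit 0x73645120, nat_lit 0x43576120,
  nat_lit 0x43657120, nat_lit 0x64735120, nat_lit 0x53746120, nat_lit 0x53467120,
  nat_lit 0x63754120, nat_lit 0x36745120, nat_lit 0x35476120, nat_lit 0x36457120,
  nat_lit 0x76435120, nat_lit 0x75346120, nat_lit 0x45367120, nat_lit 0x76354120,
  nat_lit 0x57436120, nat_lit 0x56347120, nat_lit 0x57364120, nat_lit 0x67453120,
  nat_lit 0x37645021, nat_lit 0x34576021, nat_lit 0x34657021, nat_lit 0x74635021,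
  nat_lit 0x73546021, nat_lit 0x43567021, nat_lit 0x73654021, nat_lit 0x54736021,
  nat_lit 0x53647021, nat_lit 0x53764021, nat_lit 0x64753021, nat_lit 0x46735021,
  nat_lit 0x35746021, nat_lit 0x35467021, nat_lit 0x36754021, nat_lit 0x75436021,
  nat_lit 0x65347021, nat_lit 0x75364021, nat_lit 0x76453021, nat_lit 0x56437021,
  nat_lit 0x56374021, nat_lit 0x57463021, nat_lit 0x34675201, nat_lit 0x34756201,
  nat_lit 0x73645201, nat_lit 0x43576201, nat_lit 0x43657201, nat_lit 0x64735201,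
  nat_lit 0x53746201, nat_lit 0x53467201, nat_lit 0x63754201, nat_lit 0x36745201,
  nat_lit 0x35476201, nat_lit 0x36457201, nat_lit 0x76435201, nat_lit 0x75346201,
  nat_lit 0x45367201, nat_lit 0x76354201, nat_lit 0x57436201, nat_lit 0x56347201,
  nat_lit 0x57364201, nat_lit 0x67453201, nat_lit 0x37645102, nat_lit 0x34576102,
  nat_lit 0x34657102, nat_lit 0x74635102, nat_lit 0x73546102, nat_lit 0x43567102,
  nat_lit 0x73654102, nat_lit 0x54736102, nat_lit 0x53647102, nat_lit 0x53764102,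
  nat_lit 0x64753102, nat_lit 0x46735102, nat_lit 0x35746102, nat_lit 0x35467102,
  nat_lit 0x36754102, nat_lit 0x75436102, nat_lit 0x65347102, nat_lit 0x75364102,
  nat_lit 0x76453102, nat_lit 0x56437102, nat_lit 0x56374102, nat_lit 0x57463102,
  nat_lit 0x47635012, nat_lit 0x37546012, nat_lit 0x34567012, nat_lit 0x37654012,
  nat_lit 0x74536012, nat_lit 0x63547012, nat_lit 0x73564012, nat_lit 0x74653012,
  nat_lit 0x54637012, nat_lit 0x53674012, nat_lit 0x54763012, nat_lit 0x45736012,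
  nat_lit 0x35647012, nat_lit 0x35764012, nat_lit 0x46753012, nat_lit 0x65437012,
  nat_lit 0x65374012, nat_lit 0x75463012, nat_lit 0x56734012, nat_lit 0x56473012,
  nat_lit 0x34675210, nat_lit 0x34756210, nat_lit 0x73645210, nat_lit 0x43576210,
  nat_lit 0x43657210, nat_lit 0x64735210, nat_lit 0x53746210, nat_lit 0x53467210,
  nat_lit 0x63754210, nat_lit 0x36745210, nat_lit 0x35476210, nat_lit 0x36457210,
  nat_lit 0x76435210, nat_lit 0x75346210, nat_lit 0x45367210, nat_lit 0x76354210,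
  nat_lit 0x57436210, nat_lit 0x56347210, nat_lit 0x57364210, nat_lit 0x67453210,
  nat_lit 0x37645120, nat_lit 0x34576120, nat_lit 0x34657120, nat_lit 0x74635120,
  nat_lit 0x73546120, nat_lit 0x43567120, nat_lit 0x73654120, nat_lit 0x54736120,
  nat_lit 0x53647120, nat_lit 0x53764120, nat_lit 0x64753120, nat_lit 0x46735120,
  nat_lit 0x35746120, nat_lit 0x35467120, nat_lit 0x36754120, nat_lit 0x75436120,
  nat_lit 0x65347120, nat_lit 0x75364120, nat_lit 0x76453120, nat_lit 0x56437120,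
  nat_lit 0x56374120, nat_lit 0x57463120, nat_lit 0x47635021, nat_lit 0x37546021,
  nat_lit 0x34567021, nat_lit 0x37654021, nat_lit 0x74536021, nat_lit 0x63547021,
  nat_lit 0x73564021, nat_lit 0x74653021, nat_lit 0x54637021, nat_lit 0x53674021,
  nat_lit 0x54763021, nat_lit 0x45736021, nat_lit 0x35647021, nat_lit 0x35764021,
  nat_lit 0x46753021, nat_lit 0x65437021, nat_lit 0x65374021, nat_lit 0x75463021,
  nat_lit 0x56734021, nat_lit 0x56473021, nat_lit 0x37645201, nat_lit 0x34576201,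
  nat_lit 0x34657201, nat_lit 0x74635201, nat_lit 0x73546201, nat_lit 0x43567201,
  nat_lit 0x73654201, nat_lit 0x54736201, nat_lit 0x53647201, nat_lit 0x53764201,
  nat_lit 0x64753201, nat_lit 0x46735201, nat_lit 0x35746201, nat_lit 0x35467201,
  nat_lit 0x36754201, nat_lit 0x75436201, nat_lit 0x65347201, nat_lit 0x75364201,
  nat_lit 0x76453201, nat_lit 0x56437201, nat_lit 0x56374201, nat_lit 0x57463201,
  nat_lit 0x47635102, nat_lit 0x37546102, nat_lit 0x34567102, nat_lit 0x37654102,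
  nat_lit 0x74536102, nat_lit 0x63547102, nat_lit 0x73564102, nat_lit 0x74653102,
  nat_lit 0x54637102, nat_lit 0x53674102, nat_lit 0x54763102, nat_lit 0x45736102,
  nat_lit 0x35647102, nat_lit 0x35764102, nat_lit 0x46753102, nat_lit 0x65437102,
  nat_lit 0x65374102, nat_lit 0x75463102, nat_lit 0x56734102, nat_lit 0x56473102,
  nat_lit 0x47536012, nat_lit 0x36547012, nat_lit 0x37564012, nat_lit 0x47653012,
  nat_lit 0x64537012, nat_lit 0x63574012, nat_lit 0x74563012, nat_lit 0x57634012,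
  nat_lit 0x54673012, nat_lit 0x45637012, nat_lit 0x35674012, nat_lit 0x45763012,
  nat_lit 0x65734012, nat_lit 0x65473012, nat_lit 0x56743012, nat_lit 0x37645210,
  nat_lit 0x34576210, nat_lit 0x34657210, nat_lit 0x74635210, nat_lit 0x73546210,
  nat_lit 0x43567210, nat_lit 0x73654210, nat_lit 0x54736210, nat_lit 0x53647210,
  nat_lit 0x53764210, nat_lit 0x64753210, nat_lit 0x46735210, nat_lit 0x35746210,
  nat_lit 0x35467210, nat_lit 0x36754210, nat_lit 0x75436210, nat_lit 0x65347210,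
  nat_lit 0x75364210, nat_lit 0x76453210, nat_lit 0x56437210, nat_lit 0x56374210,
  nat_lit 0x57463210, nat_lit 0x47635120, nat_lit 0x37546120, nat_lit 0x34567120,
  nat_lit 0x37654120, nat_lit 0x74536120, nat_lit 0x63547120, nat_lit 0x73564120,
  nat_lit 0x74653120, nat_lit 0x54637120, nat_lit 0x53674120, nat_lit 0x54763120,
  nat_lit 0x45736120, nat_lit 0x35647120, nat_lit 0x35764120, nat_lit 0x46753120,
  nat_lit 0x65437120, nat_lit 0x65374120, nat_lit 0x75463120, nat_lit 0x56734120,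
  nat_lit 0x56473120, nat_lit 0x47536021, nat_lit 0x36547021, nat_lit 0x37564021,
  nat_lit 0x47653021, nat_lit 0x64537021, nat_lit 0x63574021, nat_lit 0x74563021,
  nat_lit 0x57634021, nat_lit 0x54673021, nat_lit 0x45637021, nat_lit 0x35674021,
  nat_lit 0x45763021, nat_lit 0x65734021, nat_lit 0x65473021, nat_lit 0x56743021,
  nat_lit 0x47635201, nat_lit 0x37546201, nat_lit 0x34567201, nat_lit 0x37654201,
  nat_lit 0x74536201, nat_lit 0x63547201, nat_lit 0x73564201, nat_lit 0x74653201,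
  nat_lit 0x54637201, nat_lit 0x53674201, nat_lit 0x54763201, nat_lit 0x45736201,
  nat_lit 0x35647201, nat_lit 0x35764201, nat_lit 0x46753201, nat_lit 0x65437201,
  nat_lit 0x65374201, nat_lit 0x75463201, nat_lit 0x56734201, nat_lit 0x56473201,
  nat_lit 0x47536102, nat_lit 0x36547102, nat_lit 0x37564102, nat_lit 0x47653102,
  nat_lit 0x64537102, nat_lit 0x63574102, nat_lit 0x74563102, nat_lit 0x57634102,
  nat_lit 0x54673102, nat_lit 0x45637102, nat_lit 0x35674102, nat_lit 0x45763102,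
  nat_lit 0x65734102, nat_lit 0x65473102, nat_lit 0x56743102, nat_lit 0x46537012,
  nat_lit 0x36574012, nat_lit 0x47563012, nat_lit 0x67534012, nat_lit 0x64573012,
  nat_lit 0x57643012, nat_lit 0x75634012, nat_lit 0x45673012, nat_lit 0x65743012,
  nat_lit 0x47635210, nat_lit 0x37546210, nat_lit 0x34567210, nat_lit 0x37654210,
  nat_lit 0x74536210, nat_lit 0x63547210, nat_lit 0x73564210, nat_lit 0x74653210,
  nat_lit 0x54637210, nat_lit 0x53674210, nat_lit 0x54763210, nat_lit 0x45736210,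
  nat_lit 0x35647210, nat_lit 0x35764210, nat_lit 0x46753210, nat_lit 0x65437210,
  nat_lit 0x65374210, nat_lit 0x75463210, nat_lit 0x56734210, nat_lit 0x56473210,
  nat_lit 0x47536120, nat_lit 0x36547120, nat_lit 0x37564120, nat_lit 0x47653120,
  nat_lit 0x64537120, nat_lit 0x63574120, nat_lit 0x74563120, nat_lit 0x57634120,
  nat_lit 0x54673120, nat_lit 0x45637120, nat_lit 0x35674120, nat_lit 0x45763120,
  nat_lit 0x65734120, nat_lit 0x65473120, nat_lit 0x56743120, nat_lit 0x46537021,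
  nat_lit 0x36574021, nat_lit 0x47563021, nat_lit 0x67534021, nat_lit 0x64573021,
  nat_lit 0x57643021, nat_lit 0x75634021, nat_lit 0x45673021, nat_lit 0x65743021,
  nat_lit 0x47536201, nat_lit 0x36547201, nat_lit 0x37564201, nat_lit 0x47653201,
  nat_lit 0x64537201, nat_lit 0x63574201, nat_lit 0x74563201, nat_lit 0x57634201,
  nat_lit 0x54673201, nat_lit 0x45637201, nat_lit 0x35674201, nat_lit 0x45763201,
  nat_lit 0x65734201, nat_lit 0x65473201, nat_lit 0x56743201, nat_lit 0x46537102,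
  nat_lit 0x36574102, nat_lit 0x47563102, nat_lit 0x67534102, nat_lit 0x64573102,
  nat_lit 0x57643102, nat_lit 0x75634102, nat_lit 0x45673102, nat_lit 0x65743102,
  nat_lit 0x76534012, nat_lit 0x46573012, nat_lit 0x67543012, nat_lit 0x75643012,
  nat_lit 0x47536210, nat_lit 0x36547210, nat_lit 0x37564210, nat_lit 0x47653210,
  nat_lit 0x64537210, nat_lit 0x63574210, nat_lit 0x74563210, nat_lit 0x57634210,
  nat_lit 0x54673210, nat_lit 0x45637210, nat_lit 0x35674210, nat_lit 0x45763210,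
  nat_lit 0x65734210, nat_lit 0x65473210, nat_lit 0x56743210, nat_lit 0x46537120,
  nat_lit 0x36574120, nat_lit 0x47563120, nat_lit 0x67534120, nat_lit 0x64573120,
  nat_lit 0x57643120, nat_lit 0x75634120, nat_lit 0x45673120, nat_lit 0x65743120,
  nat_lit 0x76534021, nat_lit 0x46573021, nat_lit 0x67543021, nat_lit 0x75643021,
  nat_lit 0x46537201, nat_lit 0x36574201, nat_lit 0x47563201, nat_lit 0x67534201,
  nat_lit 0x64573201, nat_lit 0x57643201, nat_lit 0x75634201, nat_lit 0x45673201,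
  nat_lit 0x65743201, nat_lit 0x76534102, nat_lit 0x46573102, nat_lit 0x67543102,
  nat_lit 0x75643102, nat_lit 0x76543012, nat_lit 0x46537210, nat_lit 0x36574210,
  nat_lit 0x47563210, nat_lit 0x67534210, nat_lit 0x64573210, nat_lit 0x57643210,
  nat_lit 0x75634210, nat_lit 0x45673210, nat_lit 0x65743210, nat_lit 0x76534120,
  nat_lit 0x46573120, nat_lit 0x67543120, nat_lit 0x75643120, nat_lit 0x76543021,
  nat_lit 0x76534201, nat_lit 0x46573201, nat_lit 0x67543201, nat_lit 0x75643201,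
  nat_lit 0x76543102, nat_lit 0x76534210, nat_lit 0x46573210, nat_lit 0x67543210,
  nat_lit 0x75643210, nat_lit 0x76543120, nat_lit 0x76543201, nat_lit 0x76543210]
/-- A group of order 720. -/
def K0 : Subgroup (Perm (Fin 8)) := cl 8 gK0
theorem hK0 : Lists K0 LK0 :=
  lists_cl (by norm_num) _ _ (by decide +kernel) (by decide +kernel) (by decide +kernel)
    (by decide +kernel) (by decide +kernel) (by decide +kernel)
theorem card_K0 : Nat.card K0 = 720 := hK0.card_eq.trans (by decide +kernel)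

/-- `(0 1 2)` -/
noncomputable def z : K0 := ⟨dec 8 0x76543021, hK0.memd le_rfl (by decide +kernel)⟩
theorem enc_z : enc (z : Perm (Fin 8)) = nat_lit 0x76543021 := enc_dec h8 (by decide +kernel)

/-- `(5 6 7)` -/
noncomputable def w : K0 := ⟨dec 8 0x57643210, hK0.memd le_rfl (by decide +kernel)⟩
theorem enc_w : enc (w : Perm (Fin 8)) = nat_lit 0x57643210 := enc_dec h8 (by decide +kernel)

/-- `(0 1 2)(5 6 7)` -/
noncomputable def y : K0 := ⟨dec 8 0x57643021, hK0.memd le_rfl (by decide +kernel)⟩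
theorem enc_y : enc (y : Perm (Fin 8)) = nat_lit 0x57643021 := enc_dec h8 (by decide +kernel)

/-- `(3 4)` -/
noncomputable def a : K0 := ⟨dec 8 0x76534210, hK0.memd le_rfl (by decide +kernel)⟩
theorem enc_a : enc (a : Perm (Fin 8)) = nat_lit 0x76534210 := enc_dec h8 (by decide +kernel)

/-- `(0 1)` -/
noncomputable def s0 : K0 := ⟨dec 8 0x76543201, hK0.memd le_rfl (by decide +kernel)⟩
theorem enc_s0 : enc (s0 : Perm (Fin 8)) = nat_lit 0x76543201 := enc_dec h8 (by decide +kernel)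

/-- `(1 2)` -/
noncomputable def s1 : K0 := ⟨dec 8 0x76543120, hK0.memd le_rfl (by decide +kernel)⟩
theorem enc_s1 : enc (s1 : Perm (Fin 8)) = nat_lit 0x76543120 := enc_dec h8 (by decide +kernel)

/-- `(5 6)` -/
noncomputable def t : K0 := ⟨dec 8 0x75643210, hK0.memd le_rfl (by decide +kernel)⟩
theorem enc_t : enc (t : Perm (Fin 8)) = nat_lit 0x75643210 := enc_dec h8 (by decide +kernel)

/-- `(6 7)` -/
noncomputable def t1 : K0 := ⟨dec 8 0x67543210, hK0.memd le_rfl (by decide +kernel)⟩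
theorem enc_t1 : enc (t1 : Perm (Fin 8)) = nat_lit 0x67543210 := enc_dec h8 (by decide +kernel)

/-- `(4 7)` -/
noncomputable def x5 : K0 := ⟨dec 8 0x46573210, hK0.memd le_rfl (by decide +kernel)⟩
theorem enc_x5 : enc (x5 : Perm (Fin 8)) = nat_lit 0x46573210 := enc_dec h8 (by decide +kernel)

/-- `(3 4)(5 6)` -/
noncomputable def ta : K0 := ⟨dec 8 0x75634210, hK0.memd le_rfl (by decide +kernel)⟩
theorem enc_ta : enc (ta : Perm (Fin 8)) = nat_lit 0x75634210 := enc_dec h8 (by decide +kernel)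

/-- `(3 5)(4 6)` -/
noncomputable def u1 : K0 := ⟨dec 8 0x74365210, hK0.memd le_rfl (by decide +kernel)⟩
theorem enc_u1 : enc (u1 : Perm (Fin 8)) = nat_lit 0x74365210 := enc_dec h8 (by decide +kernel)

/-- `(3 4 5 6 7)` -/
noncomputable def a5 : K0 := ⟨dec 8 0x37654210, hK0.memd le_rfl (by decide +kernel)⟩
theorem enc_a5 : enc (a5 : Perm (Fin 8)) = nat_lit 0x37654210 := enc_dec h8 (by decide +kernel)

/-- `(3 6 4 5 7)` -/
noncomputable def ka : K0 := ⟨dec 8 0x34756210, hK0.memd le_rfl (by decide +kernel)⟩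
theorem enc_ka : enc (ka : Perm (Fin 8)) = nat_lit 0x34756210 := enc_dec h8 (by decide +kernel)

/-- `(4 5)(6 7)` -/
noncomputable def v : K0 := ⟨dec 8 0x67453210, hK0.memd le_rfl (by decide +kernel)⟩
theorem enc_v : enc (v : Perm (Fin 8)) = nat_lit 0x67453210 := enc_dec h8 (by decide +kernel)

/-- `(3 5 7 4 6)` -/
noncomputable def l1 : K0 := ⟨dec 8 0x43765210, hK0.memd le_rfl (by decide +kernel)⟩
theorem enc_l1 : enc (l1 : Perm (Fin 8)) = nat_lit 0x43765210 := enc_dec h8 (by decide +kernel)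

/-- `(3 6 4 5 7)` -/
noncomputable def l2 : K0 := ⟨dec 8 0x34756210, hK0.memd le_rfl (by decide +kernel)⟩
theorem enc_l2 : enc (l2 : Perm (Fin 8)) = nat_lit 0x34756210 := enc_dec h8 (by decide +kernel)

/-- Generators (0 1 2), (5 6 7). -/
def gD0 : List ℕ := [nat_lit 0x76543021, nat_lit 0x57643210]
def LD0 : List ℕ := [
  nat_lit 0x65743102, nat_lit 0x65743021, nat_lit 0x57643102, nat_lit 0x65743210,
  nat_lit 0x57643021, nat_lit 0x76543102, nat_lit 0x57643210, nat_lit 0x76543021,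
  nat_lit 0x76543210]
/-- A group of order 9. -/
def D0 : Subgroup (Perm (Fin 8)) := cl 8 gD0
theorem hD0 : Lists D0 LD0 :=
  lists_cl (by norm_num) _ _ (by decide +kernel) (by decide +kernel) (by decide +kernel)
    (by decide +kernel) (by decide +kernel) (by decide +kernel)
theorem card_D0 : Nat.card D0 = 9 := hD0.card_eq.trans (by decide +kernel)

theorem le_D : D0 ≤ K0 := hD0.le_of hK0 (by decide +kernel)
abbrev D : Subgroup K0 := D0.subgroupOf K0
theorem card_D : Nat.card D = 9 := (hD0.card_sub le_D).trans (by decide +kernel)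

/-- Generators (0 1 2), (5 6 7), (0 1), (5 6), (3 4). -/
def gB0 : List ℕ := [nat_lit 0x76543021, nat_lit 0x57643210, nat_lit 0x76543201, nat_lit 0x75643210, nat_lit 0x76534210]
def LB0 : List ℕ := [
  nat_lit 0x56734012, nat_lit 0x67534012, nat_lit 0x65734012, nat_lit 0x56734120,
  nat_lit 0x67534120, nat_lit 0x65734120, nat_lit 0x56734102, nat_lit 0x67534102,
  nat_lit 0x65734102, nat_lit 0x56734201, nat_lit 0x75634012, nat_lit 0x56743012,
  nat_lit 0x67534201, nat_lit 0x57634012, nat_lit 0x67543012, nat_lit 0x65734201,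
  nat_lit 0x65743012, nat_lit 0x56734021, nat_lit 0x75634120, nat_lit 0x56743120,
  nat_lit 0x67534021, nat_lit 0x57634120, nat_lit 0x67543120, nat_lit 0x65734021,
  nat_lit 0x65743120, nat_lit 0x75634102, nat_lit 0x56743102, nat_lit 0x57634102,
  nat_lit 0x67543102, nat_lit 0x65743102, nat_lit 0x56734210, nat_lit 0x75634201,
  nat_lit 0x56743201, nat_lit 0x76534012, nat_lit 0x75643012, nat_lit 0x67534210,
  nat_lit 0x57634201, nat_lit 0x67543201, nat_lit 0x57643012, nat_lit 0x65734210,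
  nat_lit 0x65743201, nat_lit 0x75634021, nat_lit 0x56743021, nat_lit 0x76534120,
  nat_lit 0x75643120, nat_lit 0x57634021, nat_lit 0x67543021, nat_lit 0x57643120,
  nat_lit 0x65743021, nat_lit 0x76534102, nat_lit 0x75643102, nat_lit 0x57643102,
  nat_lit 0x75634210, nat_lit 0x56743210, nat_lit 0x76534201, nat_lit 0x75643201,
  nat_lit 0x76543012, nat_lit 0x57634210, nat_lit 0x67543210, nat_lit 0x57643201,
  nat_lit 0x65743210, nat_lit 0x76534021, nat_lit 0x75643021, nat_lit 0x76543120,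
  nat_lit 0x57643021, nat_lit 0x76543102, nat_lit 0x76534210, nat_lit 0x75643210,
  nat_lit 0x76543201, nat_lit 0x57643210, nat_lit 0x76543021, nat_lit 0x76543210]
/-- A group of order 72. -/
def B0 : Subgroup (Perm (Fin 8)) := cl 8 gB0
theorem hB0 : Lists B0 LB0 :=
  lists_cl (by norm_num) _ _ (by decide +kernel) (by decide +kernel) (by decide +kernel)
    (by decide +kernel) (by decide +kernel) (by decide +kernel)
theorem card_B0 : Nat.card B0 = 72 := hB0.card_eq.trans (by decide +kernel)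

theorem le_B : B0 ≤ K0 := hB0.le_of hK0 (by decide +kernel)
abbrev B : Subgroup K0 := B0.subgroupOf K0
theorem card_B : Nat.card B = 72 := (hB0.card_sub le_B).trans (by decide +kernel)

/-- Generators (3 5)(4 6), (5 6 7), (3 4)(5 6). -/
def gL0 : List ℕ := [nat_lit 0x74365210, nat_lit 0x57643210, nat_lit 0x75634210]
def LL0 : List ℕ := [
  nat_lit 0x57364210, nat_lit 0x75463210, nat_lit 0x74536210, nat_lit 0x75346210,
  nat_lit 0x76435210, nat_lit 0x56473210, nat_lit 0x76354210, nat_lit 0x73645210,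
  nat_lit 0x74653210, nat_lit 0x73564210, nat_lit 0x54763210, nat_lit 0x37546210,
  nat_lit 0x45736210, nat_lit 0x67453210, nat_lit 0x64735210, nat_lit 0x53746210,
  nat_lit 0x67345210, nat_lit 0x65437210, nat_lit 0x56347210, nat_lit 0x34675210,
  nat_lit 0x43657210, nat_lit 0x65374210, nat_lit 0x63547210, nat_lit 0x54637210,
  nat_lit 0x64573210, nat_lit 0x63754210, nat_lit 0x36745210, nat_lit 0x47635210,
  nat_lit 0x46753210, nat_lit 0x47563210, nat_lit 0x35764210, nat_lit 0x57436210,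
  nat_lit 0x34567210, nat_lit 0x43576210, nat_lit 0x45367210, nat_lit 0x46375210,
  nat_lit 0x36457210, nat_lit 0x53674210, nat_lit 0x35647210, nat_lit 0x46537210,
  nat_lit 0x45673210, nat_lit 0x37654210, nat_lit 0x34756210, nat_lit 0x43765210,
  nat_lit 0x47356210, nat_lit 0x35476210, nat_lit 0x53467210, nat_lit 0x63475210,
  nat_lit 0x64357210, nat_lit 0x36574210, nat_lit 0x56734210, nat_lit 0x67534210,
  nat_lit 0x65743210, nat_lit 0x37465210, nat_lit 0x73456210, nat_lit 0x54376210,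
  nat_lit 0x75634210, nat_lit 0x57643210, nat_lit 0x74365210, nat_lit 0x76543210]
/-- A group of order 60. -/
def L0 : Subgroup (Perm (Fin 8)) := cl 8 gL0
theorem hL0 : Lists L0 LL0 :=
  lists_cl (by norm_num) _ _ (by decide +kernel) (by decide +kernel) (by decide +kernel)
    (by decide +kernel) (by decide +kernel) (by decide +kernel)
theorem card_L0 : Nat.card L0 = 60 := hL0.card_eq.trans (by decide +kernel)

theorem le_L : L0 ≤ K0 := hL0.le_of hK0 (by decide +kernel)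
abbrev L : Subgroup K0 := L0.subgroupOf K0
theorem card_L : Nat.card L = 60 := (hL0.card_sub le_L).trans (by decide +kernel)

/-- Generators (3 4)(5 6), (3 5)(4 6). -/
def gV10 : List ℕ := [nat_lit 0x75634210, nat_lit 0x74365210]
def LV10 : List ℕ := [
  nat_lit 0x73456210, nat_lit 0x74365210, nat_lit 0x75634210, nat_lit 0x76543210]
/-- A group of order 4. -/
def V10 : Subgroup (Perm (Fin 8)) := cl 8 gV10
theorem hV10 : Lists V10 LV10 :=
  lists_cl (by norm_num) _ _ (by decide +kernel) (by decide +kernel) (by decide +kernel)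
    (by decide +kernel) (by decide +kernel) (by decide +kernel)
theorem card_V10 : Nat.card V10 = 4 := hV10.card_eq.trans (by decide +kernel)

theorem le_V1 : V10 ≤ K0 := hV10.le_of hK0 (by decide +kernel)
abbrev V1 : Subgroup K0 := V10.subgroupOf K0
theorem card_V1 : Nat.card V1 = 4 := (hV10.card_sub le_V1).trans (by decide +kernel)

/-- Generators (4 5)(6 7), (4 6)(5 7). -/
def gVV0 : List ℕ := [nat_lit 0x67453210, nat_lit 0x54763210]
def LVV0 : List ℕ := [
  nat_lit 0x45673210, nat_lit 0x54763210, nat_lit 0x67453210, nat_lit 0x76543210]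
/-- A group of order 4. -/
def VV0 : Subgroup (Perm (Fin 8)) := cl 8 gVV0
theorem hVV0 : Lists VV0 LVV0 :=
  lists_cl (by norm_num) _ _ (by decide +kernel) (by decide +kernel) (by decide +kernel)
    (by decide +kernel) (by decide +kernel) (by decide +kernel)
theorem card_VV0 : Nat.card VV0 = 4 := hVV0.card_eq.trans (by decide +kernel)

theorem le_VV : VV0 ≤ K0 := hVV0.le_of hK0 (by decide +kernel)
abbrev VV : Subgroup K0 := VV0.subgroupOf K0
theorem card_VV : Nat.card VV = 4 := (hVV0.card_sub le_VV).trans (by decide +kernel)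

/-- Generators (0 1), (3 4)(5 6), (3 4). -/
def gB20 : List ℕ := [nat_lit 0x76543201, nat_lit 0x75634210, nat_lit 0x76534210]
def LB20 : List ℕ := [
  nat_lit 0x75643201, nat_lit 0x75643210, nat_lit 0x76534201, nat_lit 0x75634201,
  nat_lit 0x76534210, nat_lit 0x75634210, nat_lit 0x76543201, nat_lit 0x76543210]
/-- A group of order 8. -/
def B20 : Subgroup (Perm (Fin 8)) := cl 8 gB20
theorem hB20 : Lists B20 LB20 :=
  lists_cl (by norm_num) _ _ (by decide +kernel) (by decide +kernel) (by decide +kernel)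
    (by decide +kernel) (by decide +kernel) (by decide +kernel)
theorem card_B20 : Nat.card B20 = 8 := hB20.card_eq.trans (by decide +kernel)

theorem le_B2 : B20 ≤ K0 := hB20.le_of hK0 (by decide +kernel)
abbrev B2 : Subgroup K0 := B20.subgroupOf K0
theorem card_B2 : Nat.card B2 = 8 := (hB20.card_sub le_B2).trans (by decide +kernel)

theorem k_z : ∀ k : K0, (∀ h : K0, h * k * h⁻¹ = 1 ∨ h * k * h⁻¹ = k ∨ h * k * h⁻¹ = k⁻¹) → k ^ 3 = 1 →
    k = 1 ∨ k = z ∨ k = z⁻¹ := by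
  simp only [hK0.tball]
  simp +contextual only [
    ne_eq, Subtype.ext_iff, Subgroup.coe_mul, Subgroup.coe_inv, Subgroup.coe_pow,
    Subgroup.coe_one, Subgroup.mem_subgroupOf, eq_iff_enc h8, enc_mul h8, enc_inv h8, enc_one',
    enc_pow h8 enc_one', sp_eq, exists_prop, enc_z, hK0.encd]
  decide +kernel

theorem k_y : ∀ k : K0, k * z = z * k → k ^ 3 = 1 → ∃ h : K0, h * z * h⁻¹ = z ∧ h * k * h⁻¹ ∈ D := by
  simp only [hK0.tball, hK0.tbex]
  simp +contextual only [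
    ne_eq, Subtype.ext_iff, Subgroup.coe_mul, Subgroup.coe_inv, Subgroup.coe_pow,
    Subgroup.coe_one, Subgroup.mem_subgroupOf, eq_iff_enc h8, enc_mul h8, enc_inv h8, enc_one',
    enc_pow h8 enc_one', sp_eq, exists_prop, hD0.encd, hD0.mem_memF, enc_z, hK0.encd]
  decide +kernel

theorem k_nz : ∀ k : K0, k * z * k⁻¹ ≠ w := by
  simp only [hK0.tball]
  simp +contextual only [
    ne_eq, Subtype.ext_iff, Subgroup.coe_mul, Subgroup.coe_inv, Subgroup.coe_pow,
    Subgroup.coe_one, Subgroup.mem_subgroupOf, eq_iff_enc h8, enc_mul h8, enc_inv h8, enc_one',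
    enc_pow h8 enc_one', sp_eq, exists_prop, enc_z, enc_w, hK0.encd]
  decide +kernel

theorem k_B : ∀ k : K0, (k ∈ B ↔ (k * z * k⁻¹ ∈ D ∧ k * w * k⁻¹ ∈ D)) := by
  simp only [hK0.tball]
  simp +contextual only [
    ne_eq, Subtype.ext_iff, Subgroup.coe_mul, Subgroup.coe_inv, Subgroup.coe_pow,
    Subgroup.coe_one, Subgroup.mem_subgroupOf, eq_iff_enc h8, enc_mul h8, enc_inv h8, enc_one',
    enc_pow h8 enc_one', sp_eq, exists_prop, hD0.encd, hB0.encd, hD0.mem_memF, hB0.mem_memF,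
    enc_z, enc_w, hK0.encd]
  decide +kernel

theorem k_BD : ∀ k ∈ B, k * a = a * k ∧ k * ta * k⁻¹ ≠ s0 ∧ ∀ d ∈ D, k * d * k⁻¹ ∈ D := by
  simp only [hD0.sball le_D, hB0.sball le_B]
  simp +contextual only [
    ne_eq, Subtype.ext_iff, Subgroup.coe_mul, Subgroup.coe_inv, Subgroup.coe_pow,
    Subgroup.coe_one, Subgroup.mem_subgroupOf, eq_iff_enc h8, enc_mul h8, enc_inv h8, enc_one',
    enc_pow h8 enc_one', sp_eq, exists_prop, hD0.encd, hB0.encd, hD0.mem_memF, hB0.mem_memF,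
    enc_a, enc_s0, enc_ta, hK0.encd]
  decide +kernel

theorem k_sig : ∀ p ∈ B, p ^ 3 = 1 → p ≠ 1 → p ≠ z → p ≠ z⁻¹ → ∀ q ∈ B, q ^ 3 = 1 → q ≠ 1 → q ≠ p → q ≠ p⁻¹ →
    ∀ c ∈ B, c * c = 1 → c * q = q * c → c * p * c⁻¹ = p⁻¹ → ∀ d ∈ B, d * d = 1 → d * p = p * d →
    d * q * d⁻¹ = q⁻¹ → ∃ h ∈ B, h * p * h⁻¹ = w ∧ h * q * h⁻¹ = z ∧ (h * c * h⁻¹ = t ∨ h * c * h⁻¹ = ta) ∧
    (h * d * h⁻¹ = s0 ∨ h * d * h⁻¹ = s0 * a) := by
  simp only [hB0.sball le_B, hB0.sbex le_B]
  simp +contextual only [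
    ne_eq, Subtype.ext_iff, Subgroup.coe_mul, Subgroup.coe_inv, Subgroup.coe_pow,
    Subgroup.coe_one, Subgroup.mem_subgroupOf, eq_iff_enc h8, enc_mul h8, enc_inv h8, enc_one',
    enc_pow h8 enc_one', sp_eq, exists_prop, hB0.encd, hB0.mem_memF, enc_z, enc_w, enc_a, enc_s0,
    enc_t, enc_ta, hK0.encd]
  decide +kernel

theorem k_sq : ∀ d ∈ D, (d * s0 * d⁻¹ = s0 ∨ d * s0 * d⁻¹ = s0 * a) → (d * t * d⁻¹ = t ∨ d * t * d⁻¹ = ta) → d = 1 := by
  simp only [hD0.sball le_D]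
  simp +contextual only [
    ne_eq, Subtype.ext_iff, Subgroup.coe_mul, Subgroup.coe_inv, Subgroup.coe_pow,
    Subgroup.coe_one, Subgroup.mem_subgroupOf, eq_iff_enc h8, enc_mul h8, enc_inv h8, enc_one',
    enc_pow h8 enc_one', sp_eq, exists_prop, hD0.encd, hD0.mem_memF, enc_a, enc_s0, enc_t,
    enc_ta, hK0.encd]
  decide +kernel

theorem k_D : ∀ d ∈ D, (∀ e ∈ D, d * e = e * d) ∧ d ^ 3 = 1 ∧
    (d = 1 ∨ (d = z ∨ d = z⁻¹) ∨ (d = w ∨ d = w⁻¹) ∨ ∃ u ∈ B, u * d * u⁻¹ = y) := by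
  simp only [hD0.sball le_D, hB0.sbex le_B]
  simp +contextual only [
    ne_eq, Subtype.ext_iff, Subgroup.coe_mul, Subgroup.coe_inv, Subgroup.coe_pow,
    Subgroup.coe_one, Subgroup.mem_subgroupOf, eq_iff_enc h8, enc_mul h8, enc_inv h8, enc_one',
    enc_pow h8 enc_one', sp_eq, exists_prop, hD0.encd, hB0.encd, hD0.mem_memF, hB0.mem_memF,
    enc_z, enc_w, enc_y, hK0.encd]
  decide +kernel

theorem k_cD : ∀ k : K0, k * z = z * k → (k * a = a * k → k ∈ B) ∧ (k * w = w * k → (k ∈ D ∨ a * k ∈ D) ∧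
    (k * k = 1 → k = 1 ∨ k = a)) := by
  simp only [hK0.tball]
  simp +contextual only [
    ne_eq, Subtype.ext_iff, Subgroup.coe_mul, Subgroup.coe_inv, Subgroup.coe_pow,
    Subgroup.coe_one, Subgroup.mem_subgroupOf, eq_iff_enc h8, enc_mul h8, enc_inv h8, enc_one',
    enc_pow h8 enc_one', sp_eq, exists_prop, hD0.encd, hB0.encd, hD0.mem_memF, hB0.mem_memF,
    enc_z, enc_w, enc_a, hK0.encd]
  decide +kernel

theorem k_rel : z ^ 3 = 1 ∧ z ≠ 1 ∧ w ^ 3 = 1 ∧ w ≠ 1 ∧ z * w = w * z ∧ w ≠ z ∧ w ≠ z⁻¹ ∧ s0 * s0 = 1 ∧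
    s0 * w = w * s0 ∧ s0 * z * s0⁻¹ = z⁻¹ ∧ t * t = 1 ∧ t * z = z * t ∧ t * w * t⁻¹ = w⁻¹ ∧ y = z * w := by
  simp +contextual only [
    ne_eq, Subtype.ext_iff, Subgroup.coe_mul, Subgroup.coe_inv, Subgroup.coe_pow,
    Subgroup.coe_one, Subgroup.mem_subgroupOf, eq_iff_enc h8, enc_mul h8, enc_inv h8, enc_one',
    enc_pow h8 enc_one', sp_eq, exists_prop, enc_z, enc_w, enc_y, enc_s0, enc_t, hK0.encd]
  decide +kernel

theorem k_rel2 : z ∈ D ∧ w ∈ D ∧ z ∈ B ∧ w ∈ B ∧ s0 ∈ B ∧ t ∈ B ∧ a ∈ B ∧ y ∈ D ∧ a5 * z = z * a5 ∧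
    a5 ^ 5 = 1 ∧ a5 ≠ 1 ∧ a * a = 1 ∧ a ≠ 1 ∧ a * z = z * a ∧ a * w = w * a ∧ ta = t * a ∧ ta * a = t ∧ s0 * a * a = s0 := by
  simp +contextual only [
    ne_eq, Subtype.ext_iff, Subgroup.coe_mul, Subgroup.coe_inv, Subgroup.coe_pow,
    Subgroup.coe_one, Subgroup.mem_subgroupOf, eq_iff_enc h8, enc_mul h8, enc_inv h8, enc_one',
    enc_pow h8 enc_one', sp_eq, exists_prop, hD0.encd, hB0.encd, hD0.mem_memF, hB0.mem_memF,
    enc_z, enc_w, enc_y, enc_a, enc_s0, enc_t, enc_ta, enc_a5, hK0.encd]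
  decide +kernel

theorem k_rel3 : s1 * s1 = 1 ∧ (s0 * s1) ^ 3 = 1 ∧ s0 * s1 ≠ 1 ∧ s1 = s0 * z ∧ t1 = t * w ∧ s1 ∈ B ∧ t1 ∈ B ∧
    s0 * t = t * s0 ∧ s0 * t1 = t1 * s0 ∧ s1 * t = t * s1 ∧ s1 * t1 = t1 * s1 ∧ s0 * ta = ta * s0 ∧
    s0 * (ta * w) = ta * w * s0 ∧ s1 * ta = ta * s1 ∧ s1 * (ta * w) = ta * w * s1 ∧
    t * s0 * (t * s0) = 1 ∧ t * s0 ≠ 1 ∧ t * s0 ≠ a ∧ ta * s0 * (ta * s0) = 1 ∧ ta * s0 ≠ 1 ∧ ta * s0 ≠ a := by
  simp +contextual only [
    ne_eq, Subtype.ext_iff, Subgroup.coe_mul, Subgroup.coe_inv, Subgroup.coe_pow,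
    Subgroup.coe_one, Subgroup.mem_subgroupOf, eq_iff_enc h8, enc_mul h8, enc_inv h8, enc_one',
    enc_pow h8 enc_one', sp_eq, exists_prop, hB0.encd, hB0.mem_memF, enc_z, enc_w, enc_a, enc_s0,
    enc_s1, enc_t, enc_t1, enc_ta, hK0.encd]
  decide +kernel

theorem k_A : ka * a * ka⁻¹ = t ∧ a5 * s0 = s0 * a5 ∧ x5 * s0 = s0 * x5 ∧ a * s0 = s0 * a ∧ t1 * t1 = 1 ∧ x5 * x5 = 1 ∧
    (t * t1) ^ 3 = 1 ∧ t * x5 = x5 * t ∧ (t1 * x5) ^ 3 = 1 ∧ t * a = a * t ∧ t1 * a = a * t1 ∧ (x5 * a) ^ 3 = 1 ∧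
    t * t1⁻¹ ≠ 1 ∧ t * t1⁻¹ ≠ s0 ∧ t * x5⁻¹ ≠ 1 ∧ t * x5⁻¹ ≠ s0 ∧ s1 * x5 = x5 * s1 ∧ s1 * a = a * s1 := by
  simp +contextual only [
    ne_eq, Subtype.ext_iff, Subgroup.coe_mul, Subgroup.coe_inv, Subgroup.coe_pow,
    Subgroup.coe_one, Subgroup.mem_subgroupOf, eq_iff_enc h8, enc_mul h8, enc_inv h8, enc_one',
    enc_pow h8 enc_one', sp_eq, exists_prop, enc_a, enc_s0, enc_s1, enc_t, enc_t1, enc_x5,
    enc_a5, enc_ka, hK0.encd]
  decide +kernel

theorem k_B2 : ∀ k ∈ B, k * s0 = s0 * k → k * ta = ta * k → k ∈ B2 ∧ k * k = 1 ∧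
    (k * u1 = u1 * k → k = 1 ∨ k = s0 ∨ k = ta ∨ k = s0 * ta) := by
  simp only [hB0.sball le_B]
  simp +contextual only [
    ne_eq, Subtype.ext_iff, Subgroup.coe_mul, Subgroup.coe_inv, Subgroup.coe_pow,
    Subgroup.coe_one, Subgroup.mem_subgroupOf, eq_iff_enc h8, enc_mul h8, enc_inv h8, enc_one',
    enc_pow h8 enc_one', sp_eq, exists_prop, hB0.encd, hB20.encd, hB0.mem_memF, hB20.mem_memF,
    enc_s0, enc_ta, enc_u1, hK0.encd]
  decide +kernel

theorem k_u : u1 * u1 = 1 ∧ u1 * z = z * u1 ∧ u1 * s0 = s0 * u1 ∧ u1 * ta = ta * u1 ∧ u1 * a * u1⁻¹ = a * ta ∧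
    (u1 * w) ^ 5 = 1 ∧ (u1 * (s0 * ta) * w) ^ 5 ≠ 1 ∧ ta * ta = 1 ∧ ta * z = z * ta ∧ ta * a = a * ta ∧
    s0 ≠ ta ∧ s0 ≠ 1 ∧ ta ≠ 1 ∧ u1 ≠ 1 ∧ u1 ≠ ta ∧ u1 ∈ L ∧ w ∈ L ∧ ta ∈ L ∧ u1 ∈ V1 ∧ ta ∈ V1 ∧
    a * u1 * a * u1 * ta = 1 ∧ s0 * ta * (s0 * ta) = 1 ∧ s0 * ta ≠ 1 ∧ a * u1 * a⁻¹ = ta * u1 := by
  simp +contextual only [
    ne_eq, Subtype.ext_iff, Subgroup.coe_mul, Subgroup.coe_inv, Subgroup.coe_pow,
    Subgroup.coe_one, Subgroup.mem_subgroupOf, eq_iff_enc h8, enc_mul h8, enc_inv h8, enc_one',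
    enc_pow h8 enc_one', sp_eq, exists_prop, hL0.encd, hV10.encd, hL0.mem_memF, hV10.mem_memF,
    enc_z, enc_w, enc_a, enc_s0, enc_ta, enc_u1, hK0.encd]
  decide +kernel

theorem k_L : ∀ l ∈ L, a * l * a⁻¹ ∈ L ∧ (l * l = 1 → l = 1 ∨ ∃ m ∈ L, m * l * m⁻¹ = ta) ∧ (l * ta = ta * l → l * l = 1) ∧
    (l ≠ 1 → ∃ m ∈ L, m * l ≠ l * m) ∧ ∃ p ∈ L, p ^ 3 = 1 ∧ (p * l) ^ 3 = 1 := by
  simp only [hL0.sball le_L, hL0.sbex le_L]
  simp +contextual only [
    ne_eq, Subtype.ext_iff, Subgroup.coe_mul, Subgroup.coe_inv, Subgroup.coe_pow,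
    Subgroup.coe_one, Subgroup.mem_subgroupOf, eq_iff_enc h8, enc_mul h8, enc_inv h8, enc_one',
    enc_pow h8 enc_one', sp_eq, exists_prop, hL0.encd, hL0.mem_memF, enc_a, enc_ta, hK0.encd]
  decide +kernel

theorem k_cL : ∀ k : K0, k * z = z * k → k * ta = ta * k → (k ^ 45 = 1 → k = 1 ∨ k = z ∨ k = z⁻¹) ∧
    (k * u1 = u1 * k → (k ∈ V1 ∨ k * z⁻¹ ∈ V1 ∨ k * z ∈ V1) ∧ (k * w = w * k → k * s0 = s0 * k → k = 1)) := by
  simp only [hK0.tball]
  simp +contextual only [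
    ne_eq, Subtype.ext_iff, Subgroup.coe_mul, Subgroup.coe_inv, Subgroup.coe_pow,
    Subgroup.coe_one, Subgroup.mem_subgroupOf, eq_iff_enc h8, enc_mul h8, enc_inv h8, enc_one',
    enc_pow h8 enc_one', sp_eq, exists_prop, hV10.encd, hV10.mem_memF, enc_z, enc_w, enc_s0,
    enc_ta, enc_u1, hK0.encd]
  decide +kernel

theorem k_VV : (∀ b ∈ VV, b ∈ L ∧ w * b * w⁻¹ ∈ VV ∧ (b * w = w * b → b = 1)) ∧ v ∈ VV ∧ l1 ∈ L ∧ l2 ∈ L ∧
    l1 * v * l1⁻¹ * (l2 * v * l2⁻¹) = w ∧ v * w * v⁻¹ * w⁻¹ ≠ 1 ∧ (v * w * v⁻¹ * w⁻¹) ^ 2 = 1 := by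
  simp only [hVV0.sball le_VV]
  simp +contextual only [
    ne_eq, Subtype.ext_iff, Subgroup.coe_mul, Subgroup.coe_inv, Subgroup.coe_pow,
    Subgroup.coe_one, Subgroup.mem_subgroupOf, eq_iff_enc h8, enc_mul h8, enc_inv h8, enc_one',
    enc_pow h8 enc_one', sp_eq, exists_prop, hL0.encd, hVV0.encd, hL0.mem_memF, hVV0.mem_memF,
    enc_w, enc_v, enc_l1, enc_l2, hK0.encd]
  decide +kernel

theorem k_V1 : ∀ b ∈ V1, b ∈ L ∧ b * ta = ta * b ∧ b * u1 = u1 * b ∧ b * b = 1 ∧ b * s0 = s0 * b ∧ (∀ c ∈ V1, b * c = c * b) ∧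
    (b = 1 ∨ b = ta ∨ b = u1 ∨ b = ta * u1) := by
  simp only [hV10.sball le_V1]
  simp +contextual only [
    ne_eq, Subtype.ext_iff, Subgroup.coe_mul, Subgroup.coe_inv, Subgroup.coe_pow,
    Subgroup.coe_one, Subgroup.mem_subgroupOf, eq_iff_enc h8, enc_mul h8, enc_inv h8, enc_one',
    enc_pow h8 enc_one', sp_eq, exists_prop, hL0.encd, hV10.encd, hL0.mem_memF, hV10.mem_memF,
    enc_s0, enc_ta, enc_u1, hK0.encd]
  decide +kernel

theorem k_Ls : (∀ l ∈ L, l * s0 = s0 * l ∧ l * z = z * l) ∧ (∀ b ∈ B2, b * a = a * b ∧ b * s0 = s0 * b ∧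
    (b = 1 ∨ b = s0 ∨ b = ta ∨ b = a ∨ b = s0 * ta ∨ b = s0 * a ∨ b = ta * a ∨ b = s0 * ta * a)) := by
  simp only [hL0.sball le_L, hB20.sball le_B2]
  simp +contextual only [
    ne_eq, Subtype.ext_iff, Subgroup.coe_mul, Subgroup.coe_inv, Subgroup.coe_pow,
    Subgroup.coe_one, Subgroup.mem_subgroupOf, eq_iff_enc h8, enc_mul h8, enc_inv h8, enc_one',
    enc_pow h8 enc_one', sp_eq, exists_prop, hL0.encd, hB20.encd, hL0.mem_memF, hB20.mem_memF,
    enc_z, enc_a, enc_s0, enc_ta, hK0.encd]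
  decide +kernel

end Cfsg.Agent.H1.S8K
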