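import Cfsg.Agent.H1.S8Data
import Cfsg.Agent.H1.A8Data2

/-!
# Data in the symmetric group of degree eight
-/

set_option autoImplicit false
set_option maxRecDepth 100000
set_option synthInstance.maxSize 100000
set_option synthInstance.maxHeartbeats 1000000
set_option linter.unusedSimpArgs false

namespace Cfsg.Agent.H1.S8

open Cfsg.Agent.L0 Cfsg.Agent.L0.Code Equiv Cfsg.Agent.H1.PC

open Cfsg.Agent.H1.A8 (h8 K10 ND0 hK10 hND0 D0 hD0)
open Cfsg.Agent.H1.S8K (K0 hK0)

/-- `(3 4)` -/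
noncomputable def a : Perm (Fin 8) := dec 8 0x76534210
theorem enc_a : enc a = nat_lit 0x76534210 := enc_dec h8 (by decide +kernel)

/-- `(0 1 2)` -/
noncomputable def z : Perm (Fin 8) := dec 8 0x76543021
theorem enc_z : enc z = nat_lit 0x76543021 := enc_dec h8 (by decide +kernel)

/-- `(5 6 7)` -/
noncomputable def w : Perm (Fin 8) := dec 8 0x57643210
theorem enc_w : enc w = nat_lit 0x57643210 := enc_dec h8 (by decide +kernel)

/-- `(0 1 2)(5 6 7)` -/
noncomputable def y : Perm (Fin 8) := dec 8 0x57643021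
theorem enc_y : enc y = nat_lit 0x57643021 := enc_dec h8 (by decide +kernel)

/-- `(0 5)(1 6)(2 7)` -/
noncomputable def b : Perm (Fin 8) := dec 8 0x21043765
theorem enc_b : enc b = nat_lit 0x21043765 := enc_dec h8 (by decide +kernel)

/-- `(2 7)(3 4)` -/
noncomputable def vv : Perm (Fin 8) := dec 8 0x26534710
theorem enc_vv : enc vv = nat_lit 0x26534710 := enc_dec h8 (by decide +kernel)

/-- `(0 1)(2 7)(3 4)(5 6)` -/
noncomputable def f : Perm (Fin 8) := dec 8 0x25634701
theorem enc_f : enc f = nat_lit 0x25634701 := enc_dec h8 (by decide +kernel)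

/-- `(3 7 5)(4 6)` -/
noncomputable def kap : Perm (Fin 8) := dec 8 0x54367210
theorem enc_kap : enc kap = nat_lit 0x54367210 := enc_dec h8 (by decide +kernel)

/-- `(2 5)` -/
noncomputable def x2 : Perm (Fin 8) := dec 8 0x76243510
theorem enc_x2 : enc x2 = nat_lit 0x76243510 := enc_dec h8 (by decide +kernel)

/-- `(0 1)` -/
noncomputable def d0 : Perm (Fin 8) := dec 8 0x76543201
theorem enc_d0 : enc d0 = nat_lit 0x76543201 := enc_dec h8 (by decide +kernel)

theorem adj0 : H4.adjSwap 7 0 = d0 := dec_eq h8 (by decide +kernel)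

/-- `(1 2)` -/
noncomputable def d1 : Perm (Fin 8) := dec 8 0x76543120
theorem enc_d1 : enc d1 = nat_lit 0x76543120 := enc_dec h8 (by decide +kernel)

theorem adj1 : H4.adjSwap 7 1 = d1 := dec_eq h8 (by decide +kernel)

/-- `(2 3)` -/
noncomputable def d2 : Perm (Fin 8) := dec 8 0x76542310
theorem enc_d2 : enc d2 = nat_lit 0x76542310 := enc_dec h8 (by decide +kernel)

theorem adj2 : H4.adjSwap 7 2 = d2 := dec_eq h8 (by decide +kernel)

/-- `(3 4)` -/
noncomputable def d3 : Perm (Fin 8) := dec 8 0x76534210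
theorem enc_d3 : enc d3 = nat_lit 0x76534210 := enc_dec h8 (by decide +kernel)

theorem adj3 : H4.adjSwap 7 3 = d3 := dec_eq h8 (by decide +kernel)

/-- `(4 5)` -/
noncomputable def d4 : Perm (Fin 8) := dec 8 0x76453210
theorem enc_d4 : enc d4 = nat_lit 0x76453210 := enc_dec h8 (by decide +kernel)

theorem adj4 : H4.adjSwap 7 4 = d4 := dec_eq h8 (by decide +kernel)

/-- `(5 6)` -/
noncomputable def d5 : Perm (Fin 8) := dec 8 0x75643210
theorem enc_d5 : enc d5 = nat_lit 0x75643210 := enc_dec h8 (by decide +kernel)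

theorem adj5 : H4.adjSwap 7 5 = d5 := dec_eq h8 (by decide +kernel)

/-- `(6 7)` -/
noncomputable def d6 : Perm (Fin 8) := dec 8 0x67543210
theorem enc_d6 : enc d6 = nat_lit 0x67543210 := enc_dec h8 (by decide +kernel)

theorem adj6 : H4.adjSwap 7 6 = d6 := dec_eq h8 (by decide +kernel)

/-- `(0 1)` -/
noncomputable def s0 : Perm (Fin 8) := dec 8 0x76543201
theorem enc_s0 : enc s0 = nat_lit 0x76543201 := enc_dec h8 (by decide +kernel)

/-- `(1 2)` -/
noncomputable def s1 : Perm (Fin 8) := dec 8 0x76543120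
theorem enc_s1 : enc s1 = nat_lit 0x76543120 := enc_dec h8 (by decide +kernel)

/-- `(5 6)` -/
noncomputable def t : Perm (Fin 8) := dec 8 0x75643210
theorem enc_t : enc t = nat_lit 0x75643210 := enc_dec h8 (by decide +kernel)

/-- `(6 7)` -/
noncomputable def t1 : Perm (Fin 8) := dec 8 0x67543210
theorem enc_t1 : enc t1 = nat_lit 0x67543210 := enc_dec h8 (by decide +kernel)

/-- `(4 7)` -/
noncomputable def x5 : Perm (Fin 8) := dec 8 0x46573210
theorem enc_x5 : enc x5 = nat_lit 0x46573210 := enc_dec h8 (by decide +kernel)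

/-- Generators (3 4), (2 7), (2 3)(4 7), (0 1), (5 6), (0 5)(1 6), (0 3)(1 4)(2 5)(6 7). -/
def gT8 : List ℕ := [nat_lit 0x76534210, nat_lit 0x26543710, nat_lit 0x46572310, nat_lit 0x76543201, nat_lit 0x75643210, nat_lit 0x71043265, nat_lit 0x67210543]
def LT8 : List ℕ := [
  nat_lit 0x03456127, nat_lit 0x03465127, nat_lit 0x13456027, nat_lit 0x53401627,
  nat_lit 0x03456172, nat_lit 0x04356127, nat_lit 0x02756134, nat_lit 0x30127456,
  nat_lit 0x13465027, nat_lit 0x53410627, nat_lit 0x03465172, nat_lit 0x04365127,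
  nat_lit 0x02765134, nat_lit 0x30172456, nat_lit 0x63401527, nat_lit 0x13456072,
  nat_lit 0x14356027, nat_lit 0x12756034, nat_lit 0x40127356, nat_lit 0x53401672,
  nat_lit 0x54301627, nat_lit 0x52701634, nat_lit 0x20134756, nat_lit 0x04356172,
  nat_lit 0x02756143, nat_lit 0x30127465, nat_lit 0x07256134, nat_lit 0x31027456,
  nat_lit 0x35627401, nat_lit 0x63410527, nat_lit 0x13465072, nat_lit 0x14365027,
  nat_lit 0x12765034, nat_lit 0x40172356, nat_lit 0x53410672, nat_lit 0x54310627,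
  nat_lit 0x52710634, nat_lit 0x20143756, nat_lit 0x04365172, nat_lit 0x02765143,
  nat_lit 0x30172465, nat_lit 0x07265134, nat_lit 0x31072456, nat_lit 0x35672401,
  nat_lit 0x63401572, nat_lit 0x64301527, nat_lit 0x62701534, nat_lit 0x70134256,
  nat_lit 0x14356072, nat_lit 0x12756043, nat_lit 0x40127365, nat_lit 0x17256034,
  nat_lit 0x41027356, nat_lit 0x45627301, nat_lit 0x54301672, nat_lit 0x52701643,
  nat_lit 0x20134765, nat_lit 0x57201634, nat_lit 0x21034756, nat_lit 0x25634701,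
  nat_lit 0x07256143, nat_lit 0x31027465, nat_lit 0x35627410, nat_lit 0x36527401,
  nat_lit 0x63410572, nat_lit 0x64310527, nat_lit 0x62710534, nat_lit 0x70143256,
  nat_lit 0x14365072, nat_lit 0x12765043, nat_lit 0x40172365, nat_lit 0x17265034,
  nat_lit 0x41072356, nat_lit 0x45672301, nat_lit 0x54310672, nat_lit 0x52710643,
  nat_lit 0x20143765, nat_lit 0x57210634, nat_lit 0x21043756, nat_lit 0x25643701,
  nat_lit 0x07265143, nat_lit 0x31072465, nat_lit 0x35672410, nat_lit 0x36572401,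
  nat_lit 0x64301572, nat_lit 0x62701543, nat_lit 0x70134265, nat_lit 0x67201534,
  nat_lit 0x71034256, nat_lit 0x75634201, nat_lit 0x17256043, nat_lit 0x41027365,
  nat_lit 0x45627310, nat_lit 0x46527301, nat_lit 0x57201643, nat_lit 0x21034765,
  nat_lit 0x25634710, nat_lit 0x26534701, nat_lit 0x36527410, nat_lit 0x64310572,
  nat_lit 0x62710543, nat_lit 0x70143265, nat_lit 0x67210534, nat_lit 0x71043256,
  nat_lit 0x75643201, nat_lit 0x17265043, nat_lit 0x41072365, nat_lit 0x45672310,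
  nat_lit 0x46572301, nat_lit 0x57210643, nat_lit 0x21043765, nat_lit 0x25643710,
  nat_lit 0x26543701, nat_lit 0x36572410, nat_lit 0x67201543, nat_lit 0x71034265,
  nat_lit 0x75634210, nat_lit 0x76534201, nat_lit 0x46527310, nat_lit 0x26534710,
  nat_lit 0x67210543, nat_lit 0x71043265, nat_lit 0x75643210, nat_lit 0x76543201,
  nat_lit 0x46572310, nat_lit 0x26543710, nat_lit 0x76534210, nat_lit 0x76543210]
/-- A group of order 128. -/
def T8 : Subgroup (Perm (Fin 8)) := cl 8 gT8
theorem hT8 : Lists T8 LT8 :=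
  lists_cl (by norm_num) _ _ (by decide +kernel) (by decide +kernel) (by decide +kernel)
    (by decide +kernel) (by decide +kernel) (by decide +kernel)
theorem card_T8 : Nat.card T8 = 128 := hT8.card_eq.trans (by decide +kernel)

/-- Generators (3 4), (2 7), (2 3)(4 7), (0 1), (5 6), (0 5)(1 6). -/
def gT4 : List ℕ := [nat_lit 0x76534210, nat_lit 0x26543710, nat_lit 0x46572310, nat_lit 0x76543201, nat_lit 0x75643210, nat_lit 0x71043265]
def LT4 : List ℕ := [
  nat_lit 0x30127456, nat_lit 0x30172456, nat_lit 0x40127356, nat_lit 0x20134756,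
  nat_lit 0x30127465, nat_lit 0x31027456, nat_lit 0x35627401, nat_lit 0x40172356,
  nat_lit 0x20143756, nat_lit 0x30172465, nat_lit 0x31072456, nat_lit 0x35672401,
  nat_lit 0x70134256, nat_lit 0x40127365, nat_lit 0x41027356, nat_lit 0x45627301,
  nat_lit 0x20134765, nat_lit 0x21034756, nat_lit 0x25634701, nat_lit 0x31027465,
  nat_lit 0x35627410, nat_lit 0x36527401, nat_lit 0x70143256, nat_lit 0x40172365,
  nat_lit 0x41072356, nat_lit 0x45672301, nat_lit 0x20143765, nat_lit 0x21043756,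
  nat_lit 0x25643701, nat_lit 0x31072465, nat_lit 0x35672410, nat_lit 0x36572401,
  nat_lit 0x70134265, nat_lit 0x71034256, nat_lit 0x75634201, nat_lit 0x41027365,
  nat_lit 0x45627310, nat_lit 0x46527301, nat_lit 0x21034765, nat_lit 0x25634710,
  nat_lit 0x26534701, nat_lit 0x36527410, nat_lit 0x70143265, nat_lit 0x71043256,
  nat_lit 0x75643201, nat_lit 0x41072365, nat_lit 0x45672310, nat_lit 0x46572301,
  nat_lit 0x21043765, nat_lit 0x25643710, nat_lit 0x26543701, nat_lit 0x36572410,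
  nat_lit 0x71034265, nat_lit 0x75634210, nat_lit 0x76534201, nat_lit 0x46527310,
  nat_lit 0x26534710, nat_lit 0x71043265, nat_lit 0x75643210, nat_lit 0x76543201,
  nat_lit 0x46572310, nat_lit 0x26543710, nat_lit 0x76534210, nat_lit 0x76543210]
/-- A group of order 64. -/
def T4 : Subgroup (Perm (Fin 8)) := cl 8 gT4
theorem hT4 : Lists T4 LT4 :=
  lists_cl (by norm_num) _ _ (by decide +kernel) (by decide +kernel) (by decide +kernel)
    (by decide +kernel) (by decide +kernel) (by decide +kernel)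
theorem card_T4 : Nat.card T4 = 64 := hT4.card_eq.trans (by decide +kernel)

/-- Generators (3 4), (2 7), (0 1), (5 6), (0 5)(1 6). -/
def gTa : List ℕ := [nat_lit 0x76534210, nat_lit 0x26543710, nat_lit 0x76543201, nat_lit 0x75643210, nat_lit 0x71043265]
def LTa : List ℕ := [
  nat_lit 0x20134756, nat_lit 0x20143756, nat_lit 0x70134256, nat_lit 0x20134765,
  nat_lit 0x21034756, nat_lit 0x25634701, nat_lit 0x70143256, nat_lit 0x20143765,
  nat_lit 0x21043756, nat_lit 0x25643701, nat_lit 0x70134265, nat_lit 0x71034256,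
  nat_lit 0x75634201, nat_lit 0x21034765, nat_lit 0x25634710, nat_lit 0x26534701,
  nat_lit 0x70143265, nat_lit 0x71043256, nat_lit 0x75643201, nat_lit 0x21043765,
  nat_lit 0x25643710, nat_lit 0x26543701, nat_lit 0x71034265, nat_lit 0x75634210,
  nat_lit 0x76534201, nat_lit 0x26534710, nat_lit 0x71043265, nat_lit 0x75643210,
  nat_lit 0x76543201, nat_lit 0x26543710, nat_lit 0x76534210, nat_lit 0x76543210]
/-- A group of order 32. -/
def Ta : Subgroup (Perm (Fin 8)) := cl 8 gTa
theorem hTa : Lists Ta LTa :=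
  lists_cl (by norm_num) _ _ (by decide +kernel) (by decide +kernel) (by decide +kernel)
    (by decide +kernel) (by decide +kernel) (by decide +kernel)
theorem card_Ta : Nat.card Ta = 32 := hTa.card_eq.trans (by decide +kernel)

/-- Generators (0 1 2), (5 6 7), (0 1), (5 6), (3 4), (0 5)(1 6)(2 7). -/
def gN8 : List ℕ := [nat_lit 0x76543021, nat_lit 0x57643210, nat_lit 0x76543201, nat_lit 0x75643210, nat_lit 0x76534210, nat_lit 0x21043765]
def LN8 : List ℕ := [
  nat_lit 0x01234567, nat_lit 0x12034567, nat_lit 0x10234567, nat_lit 0x01234675,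
  nat_lit 0x12034675, nat_lit 0x10234675, nat_lit 0x01234657, nat_lit 0x12034657,
  nat_lit 0x10234657, nat_lit 0x01234756, nat_lit 0x20134567, nat_lit 0x01243567,
  nat_lit 0x56734012, nat_lit 0x12034756, nat_lit 0x02134567, nat_lit 0x12043567,
  nat_lit 0x67534012, nat_lit 0x10234756, nat_lit 0x10243567, nat_lit 0x65734012,
  nat_lit 0x01234576, nat_lit 0x20134675, nat_lit 0x01243675, nat_lit 0x56734120,
  nat_lit 0x12034576, nat_lit 0x02134675, nat_lit 0x12043675, nat_lit 0x67534120,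
  nat_lit 0x10234576, nat_lit 0x10243675, nat_lit 0x65734120, nat_lit 0x20134657,
  nat_lit 0x01243657, nat_lit 0x56734102, nat_lit 0x02134657, nat_lit 0x12043657,
  nat_lit 0x67534102, nat_lit 0x10243657, nat_lit 0x65734102, nat_lit 0x01234765,
  nat_lit 0x20134756, nat_lit 0x01243756, nat_lit 0x56734201, nat_lit 0x21034567,
  nat_lit 0x20143567, nat_lit 0x75634012, nat_lit 0x56743012, nat_lit 0x12034765,
  nat_lit 0x02134756, nat_lit 0x12043756, nat_lit 0x67534201, nat_lit 0x02143567,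
  nat_lit 0x57634012, nat_lit 0x67543012, nat_lit 0x10234765, nat_lit 0x10243756,
  nat_lit 0x65734201, nat_lit 0x65743012, nat_lit 0x20134576, nat_lit 0x01243576,
  nat_lit 0x56734021, nat_lit 0x21034675, nat_lit 0x20143675, nat_lit 0x75634120,
  nat_lit 0x56743120, nat_lit 0x02134576, nat_lit 0x12043576, nat_lit 0x67534021,
  nat_lit 0x02143675, nat_lit 0x57634120, nat_lit 0x67543120, nat_lit 0x10243576,
  nat_lit 0x65734021, nat_lit 0x65743120, nat_lit 0x21034657, nat_lit 0x20143657,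
  nat_lit 0x75634102, nat_lit 0x56743102, nat_lit 0x02143657, nat_lit 0x57634102,
  nat_lit 0x67543102, nat_lit 0x65743102, nat_lit 0x20134765, nat_lit 0x01243765,
  nat_lit 0x56734210, nat_lit 0x21034756, nat_lit 0x20143756, nat_lit 0x75634201,
  nat_lit 0x56743201, nat_lit 0x21043567, nat_lit 0x76534012, nat_lit 0x75643012,
  nat_lit 0x02134765, nat_lit 0x12043765, nat_lit 0x67534210, nat_lit 0x02143756,
  nat_lit 0x57634201, nat_lit 0x67543201, nat_lit 0x57643012, nat_lit 0x10243765,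
  nat_lit 0x65734210, nat_lit 0x65743201, nat_lit 0x21034576, nat_lit 0x20143576,
  nat_lit 0x75634021, nat_lit 0x56743021, nat_lit 0x21043675, nat_lit 0x76534120,
  nat_lit 0x75643120, nat_lit 0x02143576, nat_lit 0x57634021, nat_lit 0x67543021,
  nat_lit 0x57643120, nat_lit 0x65743021, nat_lit 0x21043657, nat_lit 0x76534102,
  nat_lit 0x75643102, nat_lit 0x57643102, nat_lit 0x21034765, nat_lit 0x20143765,
  nat_lit 0x75634210, nat_lit 0x56743210, nat_lit 0x21043756, nat_lit 0x76534201,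
  nat_lit 0x75643201, nat_lit 0x76543012, nat_lit 0x02143765, nat_lit 0x57634210,
  nat_lit 0x67543210, nat_lit 0x57643201, nat_lit 0x65743210, nat_lit 0x21043576,
  nat_lit 0x76534021, nat_lit 0x75643021, nat_lit 0x76543120, nat_lit 0x57643021,
  nat_lit 0x76543102, nat_lit 0x21043765, nat_lit 0x76534210, nat_lit 0x75643210,
  nat_lit 0x76543201, nat_lit 0x57643210, nat_lit 0x76543021, nat_lit 0x76543210]
/-- A group of order 144. -/
def N8 : Subgroup (Perm (Fin 8)) := cl 8 gN8
theorem hN8 : Lists N8 LN8 :=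
  lists_cl (by norm_num) _ _ (by decide +kernel) (by decide +kernel) (by decide +kernel)
    (by decide +kernel) (by decide +kernel) (by decide +kernel)
theorem card_N8 : Nat.card N8 = 144 := hN8.card_eq.trans (by decide +kernel)

theorem e_T : (∀ r ∈ T8, r * f = f * r ∧ (r.support.card = 2 → ∃ e ∈ T8, e * r * e⁻¹ = a)) ∧
    (∀ r ∈ T4, r * vv = vv * r) ∧ (∀ r ∈ Ta, r ∈ T8 ∧ r * a = a * r) ∧ a ∈ T8 := by
  simp only [hT8.ball, hT8.bex', hT4.ball, hTa.ball]
  simp +contextual only [
    ne_eq, eq_iff_enc h8, enc_mul h8, enc_inv h8, enc_one', enc_pow h8 enc_one', card_support h8,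
    mem_alt_iff h8, exists_prop, hT8.encd, hT4.encd, hTa.encd, hT8.mem_memF, hT4.mem_memF,
    hTa.mem_memF, enc_a, enc_vv, enc_f]
  decide +kernel

theorem e_rel : b * y = y * b ∧ b * z ≠ z * b ∧ a * a = 1 ∧ vv * vv = 1 ∧ b * b = 1 ∧ f * f = 1 ∧ a.support.card = 2 ∧
    vv.support.card = 4 ∧ b.support.card = 6 ∧ f.support.card = 8 ∧ a ∉ alternatingGroup (Fin 8) ∧ z ^ 3 = 1 ∧
    kap * s0 * kap⁻¹ = d0 ∧ kap * s1 * kap⁻¹ = d1 ∧ kap * x2 * kap⁻¹ = d2 ∧ kap * t * kap⁻¹ = d3 ∧
    kap * t1 * kap⁻¹ = d4 ∧ kap * x5 * kap⁻¹ = d5 ∧ kap * a * kap⁻¹ = d6 := by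
  simp +contextual only [
    ne_eq, eq_iff_enc h8, enc_mul h8, enc_inv h8, enc_one', enc_pow h8 enc_one', card_support h8,
    mem_alt_iff h8, exists_prop, enc_a, enc_z, enc_y, enc_b, enc_vv, enc_f, enc_kap, enc_x2,
    enc_d0, enc_d1, enc_d2, enc_d3, enc_d4, enc_d5, enc_d6, enc_s0, enc_s1, enc_t, enc_t1, enc_x5]
  decide +kernel

theorem e_K : (∀ k ∈ K0, k ∈ alternatingGroup (Fin 8) → k ∈ K10) ∧
    (∀ k ∈ N8, (k ∈ alternatingGroup (Fin 8) → k ∈ ND0) ∧ ∀ d ∈ D0, k * d * k⁻¹ ∈ D0) := by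
  simp only [hK0.ball, hD0.ball, hN8.ball]
  simp +contextual only [
    ne_eq, eq_iff_enc h8, enc_mul h8, enc_inv h8, enc_one', enc_pow h8 enc_one', card_support h8,
    mem_alt_iff h8, exists_prop, hK0.encd, hK10.encd, hND0.encd, hD0.encd, hN8.encd,
    hK0.mem_memF, hK10.mem_memF, hND0.mem_memF, hD0.mem_memF, hN8.mem_memF]
  decide +kernel

end Cfsg.Agent.H1.S8
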