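import Cfsg.Agent.H1.S8Cert
import Cfsg.Agent.H1.A8Data

/-!
# Data in a group of order 64
-/

set_option autoImplicit false
set_option maxRecDepth 100000
set_option synthInstance.maxSize 100000
set_option synthInstance.maxHeartbeats 1000000
set_option linter.unusedSimpArgs false

namespace Cfsg.Agent.H1.S8T

open Cfsg.Agent.L0 Cfsg.Agent.L0.Code Equiv Cfsg.Agent.H1.PC

open Cfsg.Agent.H1.A8 (h8 sp_eq T0 gT0 LT0 hT0 card_T0)

/-- `(4 5)(6 7)` -/
noncomputable def v1 : T0 := ⟨dec 8 0x67453210, hT0.memd le_rfl (by decide +kernel)⟩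
theorem enc_v1 : enc (v1 : Perm (Fin 8)) = nat_lit 0x67453210 := enc_dec h8 (by decide +kernel)

/-- `(4 6)(5 7)` -/
noncomputable def v2 : T0 := ⟨dec 8 0x54763210, hT0.memd le_rfl (by decide +kernel)⟩
theorem enc_v2 : enc (v2 : Perm (Fin 8)) = nat_lit 0x54763210 := enc_dec h8 (by decide +kernel)

/-- `(0 1)(2 3)` -/
noncomputable def w1 : T0 := ⟨dec 8 0x76542301, hT0.memd le_rfl (by decide +kernel)⟩
theorem enc_w1 : enc (w1 : Perm (Fin 8)) = nat_lit 0x76542301 := enc_dec h8 (by decide +kernel)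

/-- `(0 2)(1 3)` -/
noncomputable def w2 : T0 := ⟨dec 8 0x76541032, hT0.memd le_rfl (by decide +kernel)⟩
theorem enc_w2 : enc (w2 : Perm (Fin 8)) = nat_lit 0x76541032 := enc_dec h8 (by decide +kernel)

/-- `(0 1)(4 5)` -/
noncomputable def x : T0 := ⟨dec 8 0x76453201, hT0.memd le_rfl (by decide +kernel)⟩
theorem enc_x : enc (x : Perm (Fin 8)) = nat_lit 0x76453201 := enc_dec h8 (by decide +kernel)

/-- `(0 4)(1 5)(2 6)(3 7)` -/
noncomputable def sg : T0 := ⟨dec 8 0x32107654, hT0.memd le_rfl (by decide +kernel)⟩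
theorem enc_sg : enc (sg : Perm (Fin 8)) = nat_lit 0x32107654 := enc_dec h8 (by decide +kernel)

/-- Generators (4 5)(6 7), (4 6)(5 7), (0 1)(2 3), (0 2)(1 3). -/
def gE0 : List ℕ := [nat_lit 0x67453210, nat_lit 0x54763210, nat_lit 0x76542301, nat_lit 0x76541032]
def LE0 : List ℕ := [
  nat_lit 0x45670123, nat_lit 0x54760123, nat_lit 0x67450123, nat_lit 0x45671032,
  nat_lit 0x45672301, nat_lit 0x76540123, nat_lit 0x54761032, nat_lit 0x54762301,
  nat_lit 0x67451032, nat_lit 0x67452301, nat_lit 0x45673210, nat_lit 0x76541032,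
  nat_lit 0x76542301, nat_lit 0x54763210, nat_lit 0x67453210, nat_lit 0x76543210]
/-- A group of order 16. -/
def E0 : Subgroup (Perm (Fin 8)) := cl 8 gE0
theorem hE0 : Lists E0 LE0 :=
  lists_cl (by norm_num) _ _ (by decide +kernel) (by decide +kernel) (by decide +kernel)
    (by decide +kernel) (by decide +kernel) (by decide +kernel)
theorem card_E0 : Nat.card E0 = 16 := hE0.card_eq.trans (by decide +kernel)

theorem le_E : E0 ≤ T0 := hE0.le_of hT0 (by decide +kernel)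
abbrev E : Subgroup T0 := E0.subgroupOf T0
theorem card_E : Nat.card E = 16 := (hE0.card_sub le_E).trans (by decide +kernel)

/-- Generators (4 5)(6 7), (4 6)(5 7). -/
def gV0 : List ℕ := [nat_lit 0x67453210, nat_lit 0x54763210]
def LV0 : List ℕ := [
  nat_lit 0x45673210, nat_lit 0x54763210, nat_lit 0x67453210, nat_lit 0x76543210]
/-- A group of order 4. -/
def V0 : Subgroup (Perm (Fin 8)) := cl 8 gV0
theorem hV0 : Lists V0 LV0 :=
  lists_cl (by norm_num) _ _ (by decide +kernel) (by decide +kernel) (by decide +kernel)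
    (by decide +kernel) (by decide +kernel) (by decide +kernel)
theorem card_V0 : Nat.card V0 = 4 := hV0.card_eq.trans (by decide +kernel)

theorem le_V : V0 ≤ T0 := hV0.le_of hT0 (by decide +kernel)
abbrev V : Subgroup T0 := V0.subgroupOf T0
theorem card_V : Nat.card V = 4 := (hV0.card_sub le_V).trans (by decide +kernel)

/-- Generators (0 1)(2 3), (0 2)(1 3). -/
def gW0 : List ℕ := [nat_lit 0x76542301, nat_lit 0x76541032]
def LW0 : List ℕ := [
  nat_lit 0x76540123, nat_lit 0x76541032, nat_lit 0x76542301, nat_lit 0x76543210]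
/-- A group of order 4. -/
def W0 : Subgroup (Perm (Fin 8)) := cl 8 gW0
theorem hW0 : Lists W0 LW0 :=
  lists_cl (by norm_num) _ _ (by decide +kernel) (by decide +kernel) (by decide +kernel)
    (by decide +kernel) (by decide +kernel) (by decide +kernel)
theorem card_W0 : Nat.card W0 = 4 := hW0.card_eq.trans (by decide +kernel)

theorem le_W : W0 ≤ T0 := hW0.le_of hT0 (by decide +kernel)
abbrev W : Subgroup T0 := W0.subgroupOf T0
theorem card_W : Nat.card W = 4 := (hW0.card_sub le_W).trans (by decide +kernel)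

/-- Generators (4 5)(6 7), (4 6)(5 7), (0 1)(2 3), (0 2)(1 3), (0 1)(4 5). -/
def gT10 : List ℕ := [nat_lit 0x67453210, nat_lit 0x54763210, nat_lit 0x76542301, nat_lit 0x76541032, nat_lit 0x76453201]
def LT10 : List ℕ := [
  nat_lit 0x45670123, nat_lit 0x54671023, nat_lit 0x54670132, nat_lit 0x54672310,
  nat_lit 0x45761023, nat_lit 0x45760132, nat_lit 0x45762310, nat_lit 0x54760123,
  nat_lit 0x67541023, nat_lit 0x67540132, nat_lit 0x67542310, nat_lit 0x67450123,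
  nat_lit 0x45671032, nat_lit 0x45672301, nat_lit 0x76451023, nat_lit 0x54673201,
  nat_lit 0x76450132, nat_lit 0x76452310, nat_lit 0x76540123, nat_lit 0x45763201,
  nat_lit 0x54761032, nat_lit 0x54762301, nat_lit 0x67543201, nat_lit 0x67451032,
  nat_lit 0x67452301, nat_lit 0x45673210, nat_lit 0x76453201, nat_lit 0x76541032,
  nat_lit 0x76542301, nat_lit 0x54763210, nat_lit 0x67453210, nat_lit 0x76543210]
/-- A group of order 32. -/
def T10 : Subgroup (Perm (Fin 8)) := cl 8 gT10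
theorem hT10 : Lists T10 LT10 :=
  lists_cl (by norm_num) _ _ (by decide +kernel) (by decide +kernel) (by decide +kernel)
    (by decide +kernel) (by decide +kernel) (by decide +kernel)
theorem card_T10 : Nat.card T10 = 32 := hT10.card_eq.trans (by decide +kernel)

theorem le_T1 : T10 ≤ T0 := hT10.le_of hT0 (by decide +kernel)
abbrev T1 : Subgroup T0 := T10.subgroupOf T0
theorem card_T1 : Nat.card T1 = 32 := (hT10.card_sub le_T1).trans (by decide +kernel)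

/-- Generators (4 5)(6 7), (4 6)(5 7), (0 1)(2 3), (0 2)(1 3), (0 4)(1 5)(2 6)(3 7). -/
def gEs0 : List ℕ := [nat_lit 0x67453210, nat_lit 0x54763210, nat_lit 0x76542301, nat_lit 0x76541032, nat_lit 0x32107654]
def LEs0 : List ℕ := [
  nat_lit 0x01234567, nat_lit 0x10324567, nat_lit 0x23014567, nat_lit 0x01235476,
  nat_lit 0x01236745, nat_lit 0x45670123, nat_lit 0x32104567, nat_lit 0x10325476,
  nat_lit 0x10326745, nat_lit 0x54760123, nat_lit 0x23015476, nat_lit 0x23016745,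
  nat_lit 0x67450123, nat_lit 0x01237654, nat_lit 0x45671032, nat_lit 0x45672301,
  nat_lit 0x32105476, nat_lit 0x32106745, nat_lit 0x76540123, nat_lit 0x10327654,
  nat_lit 0x54761032, nat_lit 0x54762301, nat_lit 0x23017654, nat_lit 0x67451032,
  nat_lit 0x67452301, nat_lit 0x45673210, nat_lit 0x32107654, nat_lit 0x76541032,
  nat_lit 0x76542301, nat_lit 0x54763210, nat_lit 0x67453210, nat_lit 0x76543210]
/-- A group of order 32. -/
def Es0 : Subgroup (Perm (Fin 8)) := cl 8 gEs0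
theorem hEs0 : Lists Es0 LEs0 :=
  lists_cl (by norm_num) _ _ (by decide +kernel) (by decide +kernel) (by decide +kernel)
    (by decide +kernel) (by decide +kernel) (by decide +kernel)
theorem card_Es0 : Nat.card Es0 = 32 := hEs0.card_eq.trans (by decide +kernel)

theorem le_Es : Es0 ≤ T0 := hEs0.le_of hT0 (by decide +kernel)
abbrev Es : Subgroup T0 := Es0.subgroupOf T0
theorem card_Es : Nat.card Es = 32 := (hEs0.card_sub le_Es).trans (by decide +kernel)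

/-- Generators (0 1)(2 3)(4 5)(6 7), (0 2)(1 3)(4 6)(5 7), (0 1)(4 5), (0 4)(1 5)(2 6)(3 7). -/
def gRa0 : List ℕ := [nat_lit 0x67452301, nat_lit 0x54761032, nat_lit 0x76453201, nat_lit 0x32107654]
def LRa0 : List ℕ := [
  nat_lit 0x10235467, nat_lit 0x01324576, nat_lit 0x23106754, nat_lit 0x01234567,
  nat_lit 0x32017645, nat_lit 0x54671023, nat_lit 0x10325476, nat_lit 0x45760132,
  nat_lit 0x23016745, nat_lit 0x67542310, nat_lit 0x45670123, nat_lit 0x32107654,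
  nat_lit 0x76453201, nat_lit 0x54761032, nat_lit 0x67452301, nat_lit 0x76543210]
/-- A group of order 16. -/
def Ra0 : Subgroup (Perm (Fin 8)) := cl 8 gRa0
theorem hRa0 : Lists Ra0 LRa0 :=
  lists_cl (by norm_num) _ _ (by decide +kernel) (by decide +kernel) (by decide +kernel)
    (by decide +kernel) (by decide +kernel) (by decide +kernel)
theorem card_Ra0 : Nat.card Ra0 = 16 := hRa0.card_eq.trans (by decide +kernel)

theorem le_Ra : Ra0 ≤ T0 := hRa0.le_of hT0 (by decide +kernel)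
abbrev Ra : Subgroup T0 := Ra0.subgroupOf T0
theorem card_Ra : Nat.card Ra = 16 := (hRa0.card_sub le_Ra).trans (by decide +kernel)

/-- Generators (0 1)(2 3)(4 5)(6 7), (0 3)(1 2)(4 6)(5 7), (0 1)(4 5), (0 4)(1 5)(2 6)(3 7). -/
def gRb0 : List ℕ := [nat_lit 0x67452301, nat_lit 0x54760123, nat_lit 0x76453201, nat_lit 0x32107654]
def LRb0 : List ℕ := [
  nat_lit 0x10234576, nat_lit 0x01325467, nat_lit 0x23106754, nat_lit 0x01235476,
  nat_lit 0x32017645, nat_lit 0x54670132, nat_lit 0x10324567, nat_lit 0x45761023,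
  nat_lit 0x23016745, nat_lit 0x67542310, nat_lit 0x45671032, nat_lit 0x32107654,
  nat_lit 0x76453201, nat_lit 0x54760123, nat_lit 0x67452301, nat_lit 0x76543210]
/-- A group of order 16. -/
def Rb0 : Subgroup (Perm (Fin 8)) := cl 8 gRb0
theorem hRb0 : Lists Rb0 LRb0 :=
  lists_cl (by norm_num) _ _ (by decide +kernel) (by decide +kernel) (by decide +kernel)
    (by decide +kernel) (by decide +kernel) (by decide +kernel)
theorem card_Rb0 : Nat.card Rb0 = 16 := hRb0.card_eq.trans (by decide +kernel)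

theorem le_Rb : Rb0 ≤ T0 := hRb0.le_of hT0 (by decide +kernel)
abbrev Rb : Subgroup T0 := Rb0.subgroupOf T0
theorem card_Rb : Nat.card Rb = 16 := (hRb0.card_sub le_Rb).trans (by decide +kernel)

/-- Generators (4 5)(6 7), (0 1)(2 3), (0 1)(4 5), (0 4)(1 5)(2 6)(3 7). -/
def gR160 : List ℕ := [nat_lit 0x67453210, nat_lit 0x76542301, nat_lit 0x76453201, nat_lit 0x32107654]
def LR160 : List ℕ := [
  nat_lit 0x23106754, nat_lit 0x32016754, nat_lit 0x23107645, nat_lit 0x23016745,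
  nat_lit 0x67542310, nat_lit 0x32017645, nat_lit 0x32106745, nat_lit 0x76452310,
  nat_lit 0x23017654, nat_lit 0x67543201, nat_lit 0x67452301, nat_lit 0x32107654,
  nat_lit 0x76453201, nat_lit 0x76542301, nat_lit 0x67453210, nat_lit 0x76543210]
/-- A group of order 16. -/
def R160 : Subgroup (Perm (Fin 8)) := cl 8 gR160
theorem hR160 : Lists R160 LR160 :=
  lists_cl (by norm_num) _ _ (by decide +kernel) (by decide +kernel) (by decide +kernel)
    (by decide +kernel) (by decide +kernel) (by decide +kernel)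
theorem card_R160 : Nat.card R160 = 16 := hR160.card_eq.trans (by decide +kernel)

theorem le_R16 : R160 ≤ T0 := hR160.le_of hT0 (by decide +kernel)
abbrev R16 : Subgroup T0 := R160.subgroupOf T0
theorem card_R16 : Nat.card R16 = 16 := (hR160.card_sub le_R16).trans (by decide +kernel)

/-- Generators (0 1)(2 3)(4 5)(6 7), (0 1)(4 5), (0 4)(1 5)(2 6)(3 7). -/
def gR80 : List ℕ := [nat_lit 0x67452301, nat_lit 0x76453201, nat_lit 0x32107654]
def LR80 : List ℕ := [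
  nat_lit 0x23106754, nat_lit 0x32017645, nat_lit 0x23016745, nat_lit 0x67542310,
  nat_lit 0x32107654, nat_lit 0x76453201, nat_lit 0x67452301, nat_lit 0x76543210]
/-- A group of order 8. -/
def R80 : Subgroup (Perm (Fin 8)) := cl 8 gR80
theorem hR80 : Lists R80 LR80 :=
  lists_cl (by norm_num) _ _ (by decide +kernel) (by decide +kernel) (by decide +kernel)
    (by decide +kernel) (by decide +kernel) (by decide +kernel)
theorem card_R80 : Nat.card R80 = 8 := hR80.card_eq.trans (by decide +kernel)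

theorem le_R8 : R80 ≤ T0 := hR80.le_of hT0 (by decide +kernel)
abbrev R8 : Subgroup T0 := R80.subgroupOf T0
theorem card_R8 : Nat.card R8 = 8 := (hR80.card_sub le_R8).trans (by decide +kernel)

/-- Generators (4 5)(6 7), (0 1)(2 3), (0 1)(4 5). -/
def gF80 : List ℕ := [nat_lit 0x67453210, nat_lit 0x76542301, nat_lit 0x76453201]
def LF80 : List ℕ := [
  nat_lit 0x67542310, nat_lit 0x76452310, nat_lit 0x67543201, nat_lit 0x67452301,
  nat_lit 0x76453201, nat_lit 0x76542301, nat_lit 0x67453210, nat_lit 0x76543210]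
/-- A group of order 8. -/
def F80 : Subgroup (Perm (Fin 8)) := cl 8 gF80
theorem hF80 : Lists F80 LF80 :=
  lists_cl (by norm_num) _ _ (by decide +kernel) (by decide +kernel) (by decide +kernel)
    (by decide +kernel) (by decide +kernel) (by decide +kernel)
theorem card_F80 : Nat.card F80 = 8 := hF80.card_eq.trans (by decide +kernel)

theorem le_F8 : F80 ≤ T0 := hF80.le_of hT0 (by decide +kernel)
abbrev F8 : Subgroup T0 := F80.subgroupOf T0
theorem card_F8 : Nat.card F8 = 8 := (hF80.card_sub le_F8).trans (by decide +kernel)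

theorem t64_model : v1 * v1 = 1 ∧
    v2 * v2 = 1 ∧
    w1 * w1 = 1 ∧
    w2 * w2 = 1 ∧
    x * x = 1 ∧
    sg * sg = 1 ∧
    v1 * v2 * v1 * v2 = 1 ∧
    v1 * w1 * v1 * w1 = 1 ∧
    v1 * w2 * v1 * w2 = 1 ∧
    v2 * w1 * v2 * w1 = 1 ∧
    v2 * w2 * v2 * w2 = 1 ∧
    w1 * w2 * w1 * w2 = 1 ∧
    x * v1 * x * v1 = 1 ∧
    x * w1 * x * w1 = 1 ∧
    x * v2 * x * v2 * v1 = 1 ∧
    x * w2 * x * w2 * w1 = 1 ∧
    sg * v1 * sg * w1 = 1 ∧
    sg * v2 * sg * w2 = 1 ∧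
    sg * x * sg * x = 1 := by
  simp +contextual only [
    ne_eq, Subtype.ext_iff, Subgroup.coe_mul, Subgroup.coe_inv, Subgroup.coe_pow,
    Subgroup.coe_one, Subgroup.mem_subgroupOf, eq_iff_enc h8, enc_mul h8, enc_inv h8, enc_one',
    enc_pow h8 enc_one', sp_eq, exists_prop, enc_v1, enc_v2, enc_w1, enc_w2, enc_x, enc_sg,
    hT0.encd]
  decide +kernel

theorem t64_hom {G : Type*} [Group G] {xv1 xv2 xw1 xw2 xx xsg : G}
    (r0 : xv1 * xv1 = 1)
    (r1 : xv2 * xv2 = 1)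
    (r2 : xw1 * xw1 = 1)
    (r3 : xw2 * xw2 = 1)
    (r4 : xx * xx = 1)
    (r5 : xsg * xsg = 1)
    (r6 : xv1 * xv2 * xv1 * xv2 = 1)
    (r7 : xv1 * xw1 * xv1 * xw1 = 1)
    (r8 : xv1 * xw2 * xv1 * xw2 = 1)
    (r9 : xv2 * xw1 * xv2 * xw1 = 1)
    (r10 : xv2 * xw2 * xv2 * xw2 = 1)
    (r11 : xw1 * xw2 * xw1 * xw2 = 1)
    (r12 : xx * xv1 * xx * xv1 = 1)
    (r13 : xx * xw1 * xx * xw1 = 1)
    (r14 : xx * xv2 * xx * xv2 * xv1 = 1)
    (r15 : xx * xw2 * xx * xw2 * xw1 = 1)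
    (r16 : xsg * xv1 * xsg * xw1 = 1)
    (r17 : xsg * xv2 * xsg * xw2 = 1)
    (r18 : xsg * xx * xsg * xx = 1) :
    ∃ φ : T0 →* G, φ v1 = xv1 ∧ φ v2 = xv2 ∧ φ w1 = xw1 ∧ φ w2 = xw2 ∧ φ x = xx ∧ φ sg = xsg := by
  obtain ⟨m0, m1, m2, m3, m4, m5, m6, m7, m8, m9, m10, m11, m12, m13, m14, m15, m16, m17, m18⟩ := t64_model
  obtain ⟨hf, hc⟩ := t64_bound (G := G × T0)
    (v1 := (xv1, v1)) (v2 := (xv2, v2)) (w1 := (xw1, w1)) (w2 := (xw2, w2)) (x := (xx, x))
    (sg := (xsg, sg))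
    (Prod.ext r0 m0) (Prod.ext r1 m1) (Prod.ext r2 m2) (Prod.ext r3 m3) (Prod.ext r4 m4)
    (Prod.ext r5 m5) (Prod.ext r6 m6) (Prod.ext r7 m7) (Prod.ext r8 m8) (Prod.ext r9 m9)
    (Prod.ext r10 m10) (Prod.ext r11 m11) (Prod.ext r12 m12) (Prod.ext r13 m13)
    (Prod.ext r14 m14) (Prod.ext r15 m15) (Prod.ext r16 m16) (Prod.ext r17 m17)
    (Prod.ext r18 m18) ⊥
  obtain ⟨φ, hφ⟩ := H4.TC.exists_hom_of_card_le
    (hc.trans (by rw [Subgroup.card_bot, card_T0])) (by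
      rw [eq_top_iff, ← Subgroup.subgroupOf_self]
      refine cl_induction (gs := gT0) le_rfl ?_
      simp only [gT0, List.mem_cons, List.not_mem_nil, or_false]
      rintro c (rfl | rfl | rfl | rfl | rfl | rfl)
      · exact ⟨(xv1, v1), Subgroup.subset_closure (by simp), rfl⟩
      · exact ⟨(xv2, v2), Subgroup.subset_closure (by simp), rfl⟩
      · exact ⟨(xw1, w1), Subgroup.subset_closure (by simp), rfl⟩
      · exact ⟨(xw2, w2), Subgroup.subset_closure (by simp), rfl⟩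
      · exact ⟨(xx, x), Subgroup.subset_closure (by simp), rfl⟩
      · exact ⟨(xsg, sg), Subgroup.subset_closure (by simp), rfl⟩)
  exact ⟨φ, hφ _ _ (Subgroup.subset_closure (by simp)),
    hφ _ _ (Subgroup.subset_closure (by simp)),
    hφ _ _ (Subgroup.subset_closure (by simp)),
    hφ _ _ (Subgroup.subset_closure (by simp)),
    hφ _ _ (Subgroup.subset_closure (by simp)),
    hφ _ _ (Subgroup.subset_closure (by simp))⟩

theorem t_cl : (∀ r : T0, r * r = 1 → r ∈ E ∨ (∃ e : T0, e * r * e⁻¹ = x) ∨ ∃ e : T0, e * r * e⁻¹ = sg ∨ e * r * e⁻¹ = sg * x) ∧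
    (∀ r ∈ T1, r * r = 1 → r ∈ E ∨ (∃ e ∈ T1, e * r * e⁻¹ = x) ∨ ∃ e : T0, e * r * e⁻¹ = sg ∨ e * r * e⁻¹ = sg * x) ∧
    (∀ r ∈ Ra, r * r = 1 → r ∈ E ∨ (∃ e ∈ Ra, e * r * e⁻¹ = x) ∨ ∃ e : T0, e * r * e⁻¹ = sg ∨ e * r * e⁻¹ = sg * x) ∧
    (∀ r ∈ Rb, r * r = 1 → r ∈ E ∨ (∃ e ∈ Rb, e * r * e⁻¹ = x) ∨ ∃ e : T0, e * r * e⁻¹ = sg ∨ e * r * e⁻¹ = sg * x) := by
  simp only [hT10.sball le_T1, hT10.sbex le_T1, hRa0.sball le_Ra, hRa0.sbex le_Ra, hRb0.sball le_Rb, hRb0.sbex le_Rb, hT0.tball, hT0.tbex]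
  simp +contextual only [
    ne_eq, Subtype.ext_iff, Subgroup.coe_mul, Subgroup.coe_inv, Subgroup.coe_pow,
    Subgroup.coe_one, Subgroup.mem_subgroupOf, eq_iff_enc h8, enc_mul h8, enc_inv h8, enc_one',
    enc_pow h8 enc_one', sp_eq, exists_prop, hE0.encd, hT10.encd, hRa0.encd, hRb0.encd,
    hE0.mem_memF, hT10.mem_memF, hRa0.mem_memF, hRb0.mem_memF, enc_x, enc_sg, hT0.encd]
  decide +kernel

theorem t_E : (∀ r ∈ E, r ∈ V ∨ r ∈ W ∨ ∃ p ∈ W, p ≠ 1 ∧ ∃ q ∈ V, q ≠ 1 ∧ r = p * q) ∧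
    (∀ r ∈ V, r = 1 ∨ r = v1 ∨ r = v2 ∨ r = v1 * v2) ∧ (∀ r ∈ W, r = 1 ∨ r = w1 ∨ r = w2 ∨ r = w1 * w2) ∧
    (∀ r : T0, r * r ∈ E ∧ r * (w1 * v1) = w1 * v1 * r ∧ (r ∈ E ∨ r * x ∈ E ∨ r * sg ∈ E ∨ r * (sg * x) ∈ E)) := by
  simp only [hE0.sball le_E, hV0.sball le_V, hV0.sbex le_V, hW0.sball le_W, hW0.sbex le_W, hT0.tball]
  simp +contextual only [
    ne_eq, Subtype.ext_iff, Subgroup.coe_mul, Subgroup.coe_inv, Subgroup.coe_pow,
    Subgroup.coe_one, Subgroup.mem_subgroupOf, eq_iff_enc h8, enc_mul h8, enc_inv h8, enc_one',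
    enc_pow h8 enc_one', sp_eq, exists_prop, hE0.encd, hV0.encd, hW0.encd, hE0.mem_memF,
    hV0.mem_memF, hW0.mem_memF, enc_v1, enc_v2, enc_w1, enc_w2, enc_x, enc_sg, hT0.encd]
  decide +kernel

theorem t_key : ∀ r : T0, r ≠ 1 → r ∈ V ∨ r ∈ W → (v1 * r ≠ 1 → v1 * r ∈ V ∨ v1 * r ∈ W → r = v2 ∨ r = v1 * v2) ∧
    (w1 * v1 * r ∈ V ∨ w1 * v1 * r ∈ W → r = v1 ∨ r = w1 * v1 * v1) := by
  simp only [hT0.tball]
  simp +contextual only [
    ne_eq, Subtype.ext_iff, Subgroup.coe_mul, Subgroup.coe_inv, Subgroup.coe_pow,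
    Subgroup.coe_one, Subgroup.mem_subgroupOf, eq_iff_enc h8, enc_mul h8, enc_inv h8, enc_one',
    enc_pow h8 enc_one', sp_eq, exists_prop, hV0.encd, hW0.encd, hV0.mem_memF, hW0.mem_memF,
    enc_v1, enc_v2, enc_w1, hT0.encd]
  decide +kernel

theorem t_inj : ∀ r : T0, r ≠ 1 → r = w1 * v1 ∨ ∃ e : T0, e * r * e⁻¹ * r⁻¹ = w1 * v1 ∨
    ∃ f : T0, f * (e * r * e⁻¹ * r⁻¹) * f⁻¹ * (e * r * e⁻¹ * r⁻¹)⁻¹ = w1 * v1 := by
  simp only [hT0.tball, hT0.tbex]
  simp +contextual only [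
    ne_eq, Subtype.ext_iff, Subgroup.coe_mul, Subgroup.coe_inv, Subgroup.coe_pow,
    Subgroup.coe_one, Subgroup.mem_subgroupOf, eq_iff_enc h8, enc_mul h8, enc_inv h8, enc_one',
    enc_pow h8 enc_one', sp_eq, exists_prop, enc_v1, enc_w1, hT0.encd]
  decide +kernel

theorem t_m : v1 ≠ 1 ∧ v2 ≠ 1 ∧ v2 ≠ v1 ∧ v1 * v2 ≠ 1 ∧ v1 ∈ V ∧ v2 ∈ V ∧ x * (v1 * v2) * x⁻¹ = v2 ∧ w1 * v1 * v1 = w1 ∧
    sg * (w1 * v1 * v1) * sg⁻¹ = v1 ∧ (∀ r ∈ V, r ∈ E) ∧ (∀ r ∈ W, r ∈ E) ∧ (∀ r ∈ E, r * r = 1) ∧ sg * x * x = sg ∧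
    (sg * x) * (sg * x) = 1 ∧ v1 ≠ w1 * v1 ∧ w1 * v1 ≠ 1 := by
  simp only [hE0.sball le_E, hV0.sball le_V, hW0.sball le_W]
  simp +contextual only [
    ne_eq, Subtype.ext_iff, Subgroup.coe_mul, Subgroup.coe_inv, Subgroup.coe_pow,
    Subgroup.coe_one, Subgroup.mem_subgroupOf, eq_iff_enc h8, enc_mul h8, enc_inv h8, enc_one',
    enc_pow h8 enc_one', sp_eq, exists_prop, hE0.encd, hV0.encd, hW0.encd, hE0.mem_memF,
    hV0.mem_memF, hW0.mem_memF, enc_v1, enc_v2, enc_w1, enc_x, enc_sg, hT0.encd]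
  decide +kernel

theorem t_c : (∀ r ∈ T1, r * v1 = v1 * r) ∧ (∀ r ∈ Ra, r * sg = sg * r) ∧ (∀ r ∈ Rb, r * (sg * x) = sg * x * r) ∧
    (∀ r ∈ R16, r * x = x * r) ∧ (∀ r ∈ R8, r ∈ Ra ∧ r ∈ Rb ∧ r ∈ R16) ∧ (∀ r ∈ F8, r ∈ T1 ∧ r ∈ R16) ∧
    (∀ r ∈ Es, r * r = 1 → r ∈ E ∨ ∃ e : T0, e * r * e⁻¹ = sg) ∧ x ∈ T1 ∧ x ∈ Ra ∧ x ∈ Rb ∧ v1 ∈ R16 := by
  simp only [hT10.sball le_T1, hEs0.sball le_Es, hRa0.sball le_Ra, hRb0.sball le_Rb, hR160.sball le_R16, hR80.sball le_R8, hF80.sball le_F8, hT0.tbex]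
  simp +contextual only [
    ne_eq, Subtype.ext_iff, Subgroup.coe_mul, Subgroup.coe_inv, Subgroup.coe_pow,
    Subgroup.coe_one, Subgroup.mem_subgroupOf, eq_iff_enc h8, enc_mul h8, enc_inv h8, enc_one',
    enc_pow h8 enc_one', sp_eq, exists_prop, hE0.encd, hT10.encd, hEs0.encd, hRa0.encd,
    hRb0.encd, hR160.encd, hR80.encd, hF80.encd, hE0.mem_memF, hT10.mem_memF, hEs0.mem_memF,
    hRa0.mem_memF, hRb0.mem_memF, hR160.mem_memF, hR80.mem_memF, hF80.mem_memF, enc_v1, enc_x,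
    enc_sg, hT0.encd]
  decide +kernel

end Cfsg.Agent.H1.S8T
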