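import Cfsg.Agent.H1.S9Def

/-!
# Tables in `S_3 ≀ S_3`
-/

set_option autoImplicit false
set_option maxRecDepth 100000
set_option synthInstance.maxSize 100000
set_option synthInstance.maxHeartbeats 1000000
set_option linter.unusedSimpArgs false

namespace Cfsg.Agent.H1.S9

open Cfsg.Agent.L0 Cfsg.Agent.L0.Code Equiv Cfsg.Agent.H1.PC

open Cfsg.Agent.H1.A9K (h9 J0 hJ0 S0 hS0)
open Cfsg.Agent.S3702 (K hK)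

theorem d_m : u ∈ C9 ∧ ta ∈ C9 ∧ e1 ∈ C9 ∧ x3 ∈ J0 ∧ y ∈ J0 ∧ yp ∈ J0 ∧ xe ∈ J0 ∧ x3 ≠ 1 ∧ y ≠ 1 ∧ yp ≠ 1 ∧ e3 ≠ 1 ∧
    u ∉ J0 ∧ u ^ 3 = 1 ∧ u * x3 = x3 * u ∧ ta * u * ta⁻¹ = u⁻¹ ∧ x3 = y * e3 ∧ u * (w * z) * u⁻¹ = t1 ∧
    u ∈ S3 ∧ ta ∈ S3 ∧ x3⁻¹ ≠ x3 ∧ t1 ∈ M ∧ t3 ∈ M ∧ w ∈ H4 ∧ z ∈ H2 := by
  simp +contextual only [
    ne_eq, eq_iff_enc h9, enc_mul h9, enc_inv h9, enc_one', enc_pow h9 enc_one', card_support h9,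
    mem_alt_iff h9, exists_prop, enc_e2, 
    hJ0.encd, hC9.encd, hM.encd, hH2.encd, hH4.encd, hS3.encd,
    hJ0.mem_memF, hC9.mem_memF, hM.mem_memF, hH2.mem_memF, hH4.mem_memF, hS3.mem_memF, enc_e1,
    enc_e3, enc_x3, enc_u, enc_ta, enc_t1, enc_t3, enc_z, enc_w, enc_y, enc_yp, enc_xe]
  decide +kernel

theorem d_U : u * e1 * u⁻¹ = e2 ∧ u * e2 * u⁻¹ = e3 ∧ u * e3 * u⁻¹ = e1 ∧ ta * e1 * ta⁻¹ = e2 ∧ ta * e2 * ta⁻¹ = e1 ∧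
    ta * e3 * ta⁻¹ = e3 := by
  simp +contextual only [
    ne_eq, eq_iff_enc h9, enc_mul h9, enc_inv h9, enc_one', enc_pow h9 enc_one', card_support h9,
    mem_alt_iff h9, exists_prop, enc_x3, 
    enc_e1, enc_e2, enc_e3, enc_u, enc_ta]
  decide +kernel

theorem d_J : ∀ j ∈ J0, j ^ 3 = 1 ∧ (∀ i ∈ J0, j * i = i * j) ∧ j ∈ S0 ∧ j ∈ C9 ∧ (∃ v < 27, j = E v) ∧
    (j * u = u * j → j = 1 ∨ j = x3 ∨ j = x3⁻¹) ∧ (j ∈ Y → j = 1) ∧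
    (j = 1 ∨ ∃ a, (a = j ∨ a = j⁻¹ * (u * j * u⁻¹) ∨ a = j * (u * j * u⁻¹) * (u⁻¹ * j * u⁻¹⁻¹)) ∧ (a = x3 ∨ a = x3⁻¹)) := by
  simp only [E, exists_eq_or_imp, exists_eq_left, hJ0.ball]
  simp +contextual only [
    ne_eq, eq_iff_enc h9, enc_mul h9, enc_inv h9, enc_one', enc_pow h9 enc_one', card_support h9,
    mem_alt_iff h9, exists_prop, enc_e1, enc_e2, enc_e3, 
    hJ0.encd, hC9.encd, hS0.encd, hY.encd, hJ0.mem_memF,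
    hC9.mem_memF, hS0.mem_memF, hY.mem_memF, enc_x3, enc_u]
  decide +kernel

theorem d_E : ∀ v < 27, E v ∈ J0 ∧ ∀ v' < 27, E v = E v' → v = v' := by
  simp only [E]
  simp +contextual only [
    ne_eq, eq_iff_enc h9, enc_mul h9, enc_inv h9, enc_one', enc_pow h9 enc_one', card_support h9,
    mem_alt_iff h9, exists_prop, enc_e1, enc_e2, enc_e3, enc_x3, enc_u, 
    hJ0.encd, hJ0.mem_memF]
  decide +kernel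

theorem d_C : ∀ k ∈ C9, k ∈ H2 ∧ k ∈ H4 ∧ (∀ a, IsE a → IsE (k * a * k⁻¹)) ∧
    (k * e1 = e1 * k → k * u = u * k → k = 1 ∨ k = x3 ∨ k = x3⁻¹) ∧ k * x3 ≠ x3⁻¹ * k ∧
    (k ^ 3 = 1 → k ∈ J0 ∨ ∃ h ∈ C9, h * k = u * h) := by
  simp only [IsE, forall_eq_or_imp, forall_eq, hC9.ball, hC9.bex']
  simp +contextual only [
    ne_eq, eq_iff_enc h9, enc_mul h9, enc_inv h9, enc_one', enc_pow h9 enc_one', card_support h9,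
    mem_alt_iff h9, exists_prop, enc_e2, enc_e3, 
    hJ0.encd, hC9.encd, hH2.encd, hH4.encd, hJ0.mem_memF,
    hC9.mem_memF, hH2.mem_memF, hH4.mem_memF, enc_e1, enc_x3, enc_u]
  decide +kernel

theorem d_al : ∀ c < 3, al c x3 = x3 ∧ (∀ j ∈ J0, al c j ∈ J0 ∧ (al c j = 1 → j = 1) ∧ (∃ i ∈ J0, al c i = j) ∧
    (∀ i ∈ J0, al c (i * j) = al c i * al c j) ∧ ∀ p ∈ S3, al c (p * j * p⁻¹) = p * al c j * p⁻¹) ∧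
    (∀ a, IsE a → ∃ v ∈ S9C.LB.getD c [], al c a = E v) ∧
    ∀ v ∈ S9C.LS.getD c [], ∃ a ∈ J0, a.support.card = 3 ∧ al c a = E v := by
  simp only [IsE, forall_eq_or_imp, forall_eq, E, al, hJ0.ball, hJ0.bex', hS3.ball]
  simp +contextual only [
    ne_eq, eq_iff_enc h9, enc_mul h9, enc_inv h9, enc_one', enc_pow h9 enc_one', card_support h9,
    mem_alt_iff h9, exists_prop, enc_e1, enc_e2, enc_e3, enc_u, 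
    hJ0.encd, hS3.encd, hJ0.mem_memF, hS3.mem_memF, enc_x3]
  decide +kernel

theorem d_Y : ∀ s ∈ Y, s ∈ M ∧ (∀ j ∈ J0, s * j * s⁻¹ ∈ J0) ∧ (∀ a, IsE a → IsE (s * a * s⁻¹) ∨ IsE (s * a * s⁻¹)⁻¹) ∧
    (∃ p ∈ S3, ∀ a, IsE a → p * s * a * (p * s)⁻¹ = a ∨ p * s * a * (p * s)⁻¹ = a⁻¹) ∧
    ((∀ a, IsE a → s * a * s⁻¹ = a ∨ s * a * s⁻¹ = a⁻¹) → s * x3 * s⁻¹ = x3 → s = 1) ∧
    ∃ p ∈ S3, ∃ q ∈ S3, p * s * q = 1 ∨ p * s * q = z ∨ p * s * q = w ∨ p * s * q = t1 := by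
  simp only [IsE, forall_eq_or_imp, forall_eq, hJ0.ball, hY.ball, hS3.bex']
  simp +contextual only [
    ne_eq, eq_iff_enc h9, enc_mul h9, enc_inv h9, enc_one', enc_pow h9 enc_one', card_support h9,
    mem_alt_iff h9, exists_prop, enc_e1, enc_e2, enc_e3, enc_u, 
    hJ0.encd, hM.encd, hY.encd, hS3.encd, hJ0.mem_memF, hM.mem_memF,
    hY.mem_memF, hS3.mem_memF, enc_x3, enc_t1, enc_z, enc_w]
  decide +kernel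

theorem d_S3 : ∀ p ∈ S3, p ∈ Y ∧ p ∈ C9 := by
  simp only [hS3.ball]
  simp +contextual only [
    ne_eq, eq_iff_enc h9, enc_mul h9, enc_inv h9, enc_one', enc_pow h9 enc_one', card_support h9,
    mem_alt_iff h9, exists_prop, enc_e1, enc_e2, enc_e3, enc_x3, enc_u, 
    hC9.encd, hY.encd, hS3.encd, hC9.mem_memF, hY.mem_memF,
    hS3.mem_memF]
  decide +kernel

theorem d_sY : ∀ a ∈ J0, a.support.card = 3 → ∀ b ∈ J0, b.support.card = 3 → b ≠ a → b ≠ a⁻¹ →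
    ∀ c ∈ J0, c.support.card = 3 → c ≠ a → c ≠ a⁻¹ → c ≠ b → c ≠ b⁻¹ →
    ∃ s ∈ Y, s * e1 * s⁻¹ = a ∧ s * e2 * s⁻¹ = b ∧ s * e3 * s⁻¹ = c := by
  simp only [hJ0.ball, hY.bex']
  simp +contextual only [
    ne_eq, eq_iff_enc h9, enc_mul h9, enc_inv h9, enc_one', enc_pow h9 enc_one', card_support h9,
    mem_alt_iff h9, exists_prop, enc_x3, enc_u, 
    hJ0.encd, hY.encd, hJ0.mem_memF, hY.mem_memF, enc_e1, enc_e2,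
    enc_e3]
  decide +kernel

theorem d_M : ∀ k ∈ M, (k ^ 3 = 1 → k ∈ J0 ∨ ∃ h ∈ M, h * k = u * h) ∧ (k * u = u * k → k ∈ P18) ∧
    (∀ j ∈ J0, k * j * k⁻¹ ∈ J0) := by
  simp only [hJ0.ball, hM.ball, hM.bex']
  simp +contextual only [
    ne_eq, eq_iff_enc h9, enc_mul h9, enc_inv h9, enc_one', enc_pow h9 enc_one', card_support h9,
    mem_alt_iff h9, exists_prop, enc_e1, enc_e2, enc_e3, enc_x3, 
    hJ0.encd, hM.encd, hP18.encd, hJ0.mem_memF, hM.mem_memF,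
    hP18.mem_memF, enc_u]
  decide +kernel

theorem d_H : (∀ k ∈ H2, k ∈ M ∧ (k ^ 3 = 1 → k ∈ J0 ∨ ∃ h ∈ H2, h * k = u * h) ∧
      ∀ a ∈ J0, k * a * k⁻¹ = x3 ∨ k * a * k⁻¹ = x3⁻¹ → a = x3 ∨ a = x3⁻¹) ∧
    ∀ k ∈ H4, k ∈ M ∧ (k ^ 3 = 1 → k ∈ J0 ∨ ∃ h ∈ H4, h * k = u * h) ∧ k * x3 ≠ x3⁻¹ * k := by
  simp only [hJ0.ball, hH2.ball, hH2.bex', hH4.ball, hH4.bex']
  simp +contextual only [
    ne_eq, eq_iff_enc h9, enc_mul h9, enc_inv h9, enc_one', enc_pow h9 enc_one', card_support h9,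
    mem_alt_iff h9, exists_prop, enc_e1, enc_e2, enc_e3, 
    hJ0.encd, hM.encd, hH2.encd, hH4.encd, hJ0.mem_memF,
    hM.mem_memF, hH2.mem_memF, hH4.mem_memF, enc_x3, enc_u]
  decide +kernel

theorem g_c2 : ∀ k ∈ M, k * y = y * k → k * yp = yp * k → k ^ 4 ∈ J0 ∧ (k * e3 = e3 * k → k ∈ J0) ∧
    ∀ j ∈ J0, k * j * k⁻¹ * j⁻¹ = 1 ∨ k * j * k⁻¹ * j⁻¹ = e3 ∨ k * j * k⁻¹ * j⁻¹ = e3⁻¹ := by
  simp only [hJ0.ball, hM.ball]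
  simp +contextual only [
    ne_eq, eq_iff_enc h9, enc_mul h9, enc_inv h9, enc_one', enc_pow h9 enc_one', card_support h9,
    mem_alt_iff h9, exists_prop, enc_e1, enc_e2, enc_x3, enc_u, 
    hJ0.encd, hM.encd, hJ0.mem_memF, hM.mem_memF, enc_e3, enc_y,
    enc_yp]
  decide +kernel

theorem g_1 : ∀ k ∈ C9, k * yp = yp * k → k * yp = yp * k → k ^ 4 ∈ J0 ∧ (k * x3 = x3 * k → k ∈ J0) ∧
    ∀ j ∈ J0, k * j * k⁻¹ * j⁻¹ = 1 ∨ k * j * k⁻¹ * j⁻¹ = x3 ∨ k * j * k⁻¹ * j⁻¹ = x3⁻¹ := by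
  simp only [hJ0.ball, hC9.ball]
  simp +contextual only [
    ne_eq, eq_iff_enc h9, enc_mul h9, enc_inv h9, enc_one', enc_pow h9 enc_one', card_support h9,
    mem_alt_iff h9, exists_prop, enc_e1, enc_e2, enc_e3, enc_u, 
    hJ0.encd, hC9.encd, hJ0.mem_memF, hC9.mem_memF, enc_x3, enc_yp]
  decide +kernel

theorem g_e : ∀ k ∈ H2, k * e3 = e3 * k → k * e3 = e3 * k → k ^ 4 ∈ J0 ∧ (k * yp = yp * k → k ∈ J0) ∧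
    ∀ j ∈ J0, k * j * k⁻¹ * j⁻¹ = 1 ∨ k * j * k⁻¹ * j⁻¹ = yp ∨ k * j * k⁻¹ * j⁻¹ = yp⁻¹ := by
  simp only [hJ0.ball, hH2.ball]
  simp +contextual only [
    ne_eq, eq_iff_enc h9, enc_mul h9, enc_inv h9, enc_one', enc_pow h9 enc_one', card_support h9,
    mem_alt_iff h9, exists_prop, enc_e1, enc_e2, enc_x3, enc_u, 
    hJ0.encd, hH2.encd, hJ0.mem_memF, hH2.mem_memF, enc_e3, enc_yp]
  decide +kernel

theorem g_y : ∀ k ∈ H4, k * y = y * k → k * y = y * k → k ^ 4 ∈ J0 ∧ (k * yp = yp * k → k ∈ J0) ∧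
    ∀ j ∈ J0, k * j * k⁻¹ * j⁻¹ = 1 ∨ k * j * k⁻¹ * j⁻¹ = yp ∨ k * j * k⁻¹ * j⁻¹ = yp⁻¹ := by
  simp only [hJ0.ball, hH4.ball]
  simp +contextual only [
    ne_eq, eq_iff_enc h9, enc_mul h9, enc_inv h9, enc_one', enc_pow h9 enc_one', card_support h9,
    mem_alt_iff h9, exists_prop, enc_e1, enc_e2, enc_e3, enc_x3, enc_u, 
    hJ0.encd, hH4.encd, hJ0.mem_memF, hH4.mem_memF, enc_y, enc_yp]
  decide +kernel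

theorem g_y2 : ∀ k ∈ H2, k * y = y * k → k * y = y * k → k ^ 4 ∈ J0 ∧ (k * yp = yp * k → k ∈ J0) ∧
    ∀ j ∈ J0, k * j * k⁻¹ * j⁻¹ = 1 ∨ k * j * k⁻¹ * j⁻¹ = yp ∨ k * j * k⁻¹ * j⁻¹ = yp⁻¹ := by
  simp only [hJ0.ball, hH2.ball]
  simp +contextual only [
    ne_eq, eq_iff_enc h9, enc_mul h9, enc_inv h9, enc_one', enc_pow h9 enc_one', card_support h9,
    mem_alt_iff h9, exists_prop, enc_e1, enc_e2, enc_e3, enc_x3, enc_u, 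
    hJ0.encd, hH2.encd, hJ0.mem_memF, hH2.mem_memF, enc_y, enc_yp]
  decide +kernel

theorem g_x : ∀ k ∈ H2, k * xe = xe * k → k * xe = xe * k → k ^ 4 ∈ J0 ∧ (k * yp = yp * k → k ∈ J0) ∧
    ∀ j ∈ J0, k * j * k⁻¹ * j⁻¹ = 1 ∨ k * j * k⁻¹ * j⁻¹ = yp ∨ k * j * k⁻¹ * j⁻¹ = yp⁻¹ := by
  simp only [hJ0.ball, hH2.ball]
  simp +contextual only [
    ne_eq, eq_iff_enc h9, enc_mul h9, enc_inv h9, enc_one', enc_pow h9 enc_one', card_support h9,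
    mem_alt_iff h9, exists_prop, enc_e1, enc_e2, enc_e3, enc_x3, enc_u, 
    hJ0.encd, hH2.encd, hJ0.mem_memF, hH2.mem_memF, enc_yp, enc_xe]
  decide +kernel

theorem g_st : (∀ k ∈ H2, k * yp = yp * k → k ^ 4 ∈ J0 ∧ ∀ j ∈ J0,
      (k * j * k⁻¹ * j⁻¹ = 1 ∨ k * j * k⁻¹ * j⁻¹ = yp ∨ k * j * k⁻¹ * j⁻¹ = yp⁻¹) ∨
      (k * j * k⁻¹ * j = 1 ∨ k * j * k⁻¹ * j = yp ∨ k * j * k⁻¹ * j = yp⁻¹)) ∧ ta * z * yp = yp * (ta * z) ∧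
    ∀ j ∈ J0, ta * z * j * (ta * z)⁻¹ * j = 1 ∨ ta * z * j * (ta * z)⁻¹ * j = yp ∨
      ta * z * j * (ta * z)⁻¹ * j = yp⁻¹ := by
  simp only [hJ0.ball, hH2.ball]
  simp +contextual only [
    ne_eq, eq_iff_enc h9, enc_mul h9, enc_inv h9, enc_one', enc_pow h9 enc_one', card_support h9,
    mem_alt_iff h9, exists_prop, enc_e1, enc_e2, enc_e3, enc_x3, enc_u, 
    hJ0.encd, hH2.encd, hJ0.mem_memF, hH2.mem_memF, enc_ta, enc_z,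
    enc_yp]
  decide +kernel

theorem g_cl : ∀ j ∈ J0, j ≠ 1 → (∃ h ∈ C9, ∃ a, (a = j ∨ a = j⁻¹) ∧
      (h * a = x3 * h ∨ h * a = yp * h ∨ h * a = e3 * h ∨ h * a = y * h ∨ h * a = xe * h)) ∧
    ∃ h ∈ H4, ∃ a, (a = j ∨ a = j⁻¹) ∧ (h * a = x3 * h ∨ h * a = y * h ∨ h * a = e3 * h) := by
  simp only [exists_eq_or_imp, exists_eq_left, hJ0.ball, hC9.bex', hH4.bex']
  simp +contextual only [
    ne_eq, eq_iff_enc h9, enc_mul h9, enc_inv h9, enc_one', enc_pow h9 enc_one', card_support h9,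
    mem_alt_iff h9, exists_prop, enc_e1, enc_e2, enc_u, 
    hJ0.encd, hC9.encd, hH4.encd, hJ0.mem_memF, hC9.mem_memF,
    hH4.mem_memF, enc_e3, enc_x3, enc_y, enc_yp, enc_xe]
  decide +kernel

theorem v_a : (∀ a ∈ KVa, a ∈ H4 ∧ a * e3 = e3 * a ∧ a ≠ e3 ∧ a ≠ e3⁻¹ ∧ (enc a ∈ V4a.LA ↔ a ^ 3 = 1 ∧ a ≠ 1) ∧
      (a ^ 3 = 1 → a ∈ J0 ∧ (a = 1 ∨ ∃ b, (b = a ∨ b = a * e3 ∨ b = a * e3⁻¹) ∧
        ∃ h ∈ H4, h * b = x3 * h ∨ h * b⁻¹ = x3 * h ∨ h * b = y * h))) ∧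
    ∀ k ∈ H4, k * e3 = e3 * k → ∃ l ∈ KVa, k * l⁻¹ = 1 ∨ k * l⁻¹ = e3 ∨ k * l⁻¹ = e3⁻¹ := by
  simp only [exists_eq_or_imp, exists_eq_left, hH4.ball, hH4.bex', hKVa.ball, hKVa.bex']
  simp +contextual only [
    ne_eq, eq_iff_enc h9, enc_mul h9, enc_inv h9, enc_one', enc_pow h9 enc_one', card_support h9,
    mem_alt_iff h9, exists_prop, enc_e1, enc_e2, enc_u, 
    hJ0.encd, hH4.encd, hKVa.encd, hJ0.mem_memF, hH4.mem_memF,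
    hKVa.mem_memF, enc_e3, enc_x3, enc_y]
  decide +kernel

theorem v_b : (∀ a ∈ KVb, a ∈ M ∧ a * y = y * a ∧ a ≠ y ∧ a ≠ y⁻¹ ∧ (enc a ∈ V4b.LA ↔ a ^ 3 = 1 ∧ a ≠ 1) ∧
      (a ^ 3 = 1 → a ∈ J0 ∧ (a = 1 ∨ a = yp ∨ a = yp⁻¹ ∨ ∃ b, (b = a ∨ b = a * y ∨ b = a * y⁻¹) ∧
        ∃ h ∈ H4, h * b = x3 * h ∨ h * b⁻¹ = x3 * h))) ∧
    ∀ k ∈ M, k * y = y * k → ∃ l ∈ KVb, k * l⁻¹ = 1 ∨ k * l⁻¹ = y ∨ k * l⁻¹ = y⁻¹ := by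
  simp only [exists_eq_or_imp, exists_eq_left, hM.ball, hH4.bex', hKVb.ball, hKVb.bex']
  simp +contextual only [
    ne_eq, eq_iff_enc h9, enc_mul h9, enc_inv h9, enc_one', enc_pow h9 enc_one', card_support h9,
    mem_alt_iff h9, exists_prop, enc_e1, enc_e2, enc_e3, enc_u, 
    hJ0.encd, hM.encd, hH4.encd, hKVb.encd, hJ0.mem_memF,
    hM.mem_memF, hH4.mem_memF, hKVb.mem_memF, enc_x3, enc_y, enc_yp]
  decide +kernel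

end Cfsg.Agent.H1.S9
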