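import Cfsg.Agent.H1.S9Def3
import Cfsg.Agent.H1.A9Data2
import Cfsg.Agent.H1.S6Data

/-!
# Tables for the centralizers of involutions
-/

set_option autoImplicit false
set_option maxRecDepth 100000
set_option synthInstance.maxSize 100000
set_option synthInstance.maxHeartbeats 1000000
set_option linter.unusedSimpArgs false

namespace Cfsg.Agent.H1.S9

open Cfsg.Agent.L0 Cfsg.Agent.L0.Code Equiv Cfsg.Agent.H1.PC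

open Cfsg.Agent.H1.A9K (h9 J0 hJ0 S0 hS0)
open Cfsg.Agent.S3702 (K hK)
open Cfsg.Agent.H1.A9L (K1 hK1)

theorem n_m : r4 ^ 4 = 1 ∧ ta * ta = 1 ∧ ta * r4 * ta⁻¹ = r4⁻¹ ∧ ¬ (r4 * r4 = 1 ∨ r4 * r4 = e3 ∨ r4 * r4 = e3⁻¹) ∧ r4 ∈ C216 ∧ ta ∈ C216 ∧
    s0 ∈ C216 ∧ t1 ∈ C216 ∧ s3 ∈ C216 ∧ t2 ∈ C216 ∧ s0 * s0 = 1 ∧ t1 * t1 = 1 ∧ s3 * s3 = 1 ∧ t2 * t2 = 1 ∧
    (s0 * t1) ^ 3 = 1 ∧ (s3 * t2) ^ 3 = 1 ∧ ¬ (s0 * t1 = 1 ∨ s0 * t1 = e3 ∨ s0 * t1 = e3⁻¹) ∧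
    ¬ (s3 * t2 = 1 ∨ s3 * t2 = e3 ∨ s3 * t2 = e3⁻¹) ∧ s0 * s3 = s3 * s0 ∧ s0 * t2 = t2 * s0 ∧ t1 * s3 = s3 * t1 ∧
    t1 * t2 = t2 * t1 ∧ s2 * s2 = 1 ∧ (t1 * s2) ^ 3 = 1 ∧ (s2 * s3) ^ 3 = 1 ∧ s0 * s2 = s2 * s0 ∧ s2 * t2 = t2 * s2 ∧
    ta * s0 * ta⁻¹ = s3 ∧ ta * t1 * ta⁻¹ = t2 ∧ t3 * e3 = e3⁻¹ * t3 ∧ t3 ∈ S3p ∧ e3 ∈ S3p ∧ s0 * t1 ≠ 1 := by
  simp +contextual only [
    ne_eq, eq_iff_enc h9, enc_mul h9, enc_inv h9, enc_one', enc_pow h9 enc_one', card_support h9,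
    mem_alt_iff h9, exists_prop, hS3p.encd, hC216.encd, hS3p.mem_memF, hC216.mem_memF, enc_e3,
    enc_ta, enc_t1, enc_t3, enc_s0, enc_s2, enc_s3, enc_t2, enc_r4]
  decide +kernel

theorem n_i : ta * ta = 1 ∧ t3 * t3 = 1 ∧ w * w = 1 ∧ tp * tp = 1 ∧ z * z = 1 ∧ ta ≠ 1 ∧ t3 ≠ 1 ∧ ta ∈ M ∧ w ∈ M ∧
    tp ∈ M ∧ z ∈ M ∧ wp ∈ M ∧ u ∈ M ∧ e3 * w = w * e3 ∧ y * tp = tp * y ∧ u * t3 = t1 * u ∧ u * wp = w * u ∧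
    t3 * ta = ta * t3 ∧ t3 ∈ C72 ∧ ta ∈ C72 ∧ ta ∈ T16 ∧ z = w * t3 ∧ w = t1 * (u * t1 * u⁻¹) ∧ pz ∈ W6 ∧ pz * zp = z * pz ∧
    zp ∈ R32 ∧ ta ∈ R32 ∧ a1 ∈ R32 ∧ sw ∈ R32 ∧ y ∈ B288 ∧ a1 * a2 * a3 = ta ∧ SP a1 ∧ SP a2 ∧ SP a3 ∧ SP t3 ∧
    a1 ≠ a2 ∧ a1 ≠ a3 ∧ a2 ≠ a3 ∧ a1 ≠ t3 ∧ a2 ≠ t3 ∧ a3 ≠ t3 ∧ e3 ∈ B288 ∧ w ∈ W6 ∧ ta ∈ W6 := by
  simp +contextual only [
    ne_eq, eq_iff_enc h9, enc_mul h9, enc_inv h9, enc_one', enc_pow h9 enc_one', card_support h9,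
    mem_alt_iff h9, exists_prop, hM.encd, hW6.encd, hC72.encd, hB288.encd, hT16.encd, hR32.encd,
    hM.mem_memF, hW6.mem_memF, hC72.mem_memF, hB288.mem_memF, hT16.mem_memF, hR32.mem_memF,
    enc_e3, enc_u, enc_ta, enc_t1, enc_t3, enc_z, enc_w, enc_y, enc_tp, enc_wp, enc_a1, enc_a2,
    enc_a3, enc_sw, enc_zp, enc_pz, SP_iff]
  decide +kernel

theorem n_3 : ∀ k ∈ M, (k * e3 = e3 * k → k ^ 4 ∈ J0 ∧ k ∈ C216 ∧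
      ((k * e1 * k⁻¹ * e1⁻¹ = 1 ∨ k * e1 * k⁻¹ * e1⁻¹ = e3 ∨ k * e1 * k⁻¹ * e1⁻¹ = e3⁻¹) →
      (k * e2 * k⁻¹ * e2⁻¹ = 1 ∨ k * e2 * k⁻¹ * e2⁻¹ = e3 ∨ k * e2 * k⁻¹ * e2⁻¹ = e3⁻¹) → k ∈ J0) ∧
      (k * w = w * k → (k ^ 4 = 1 ∨ k ^ 4 = e3 ∨ k ^ 4 = e3⁻¹))) ∧
    (k * y = y * k → k * tp = tp * k → (k ^ 4 = 1 ∨ k ^ 4 = y ∨ k ^ 4 = y⁻¹)) ∧ (k * ta = ta * k → k ∈ C72) := by
  simp only [hM.ball]
  simp +contextual only [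
    ne_eq, eq_iff_enc h9, enc_mul h9, enc_inv h9, enc_one', enc_pow h9 enc_one', card_support h9,
    mem_alt_iff h9, exists_prop, hJ0.encd, hM.encd, hC216.encd, hC72.encd, hJ0.mem_memF,
    hM.mem_memF, hC216.mem_memF, hC72.mem_memF, enc_e1, enc_e2, enc_e3, enc_ta, enc_w, enc_y,
    enc_tp]
  decide +kernel

theorem n_C : ∀ k ∈ C216, k * e3 = e3 * k := by
  simp only [hC216.ball]
  simp +contextual only [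
    ne_eq, eq_iff_enc h9, enc_mul h9, enc_inv h9, enc_one', enc_pow h9 enc_one', card_support h9,
    mem_alt_iff h9, exists_prop, hC216.encd, hC216.mem_memF, enc_e3]
  decide +kernel

theorem n_D : ∀ d ∈ J0, (¬ (d = 1 ∨ d = e3 ∨ d = e3⁻¹) → ∃ b, (b = d ∨ b = d * e3 ∨ b = d * e3⁻¹) ∧ ∃ k ∈ Y, k * b = y * k) ∧
    (d.support.card = 3 → d * ta = ta * d → d = e3 ∨ d = e3⁻¹) ∧
    (d = 1 ∨ d.support.card = 3 ∨ ∃ k ∈ Y, k * d = x3 * k ∨ k * d = y * k) := by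
  simp only [exists_eq_or_imp, exists_eq_left, hJ0.ball, hY.bex']
  simp +contextual only [
    ne_eq, eq_iff_enc h9, enc_mul h9, enc_inv h9, enc_one', enc_pow h9 enc_one', card_support h9,
    mem_alt_iff h9, exists_prop, hJ0.encd, hY.encd, hJ0.mem_memF, hY.mem_memF, enc_e3, enc_x3,
    enc_ta, enc_y]
  decide +kernel

theorem n_Kc : (∀ a ∈ KVc, a ∈ C72 ∧ a ≠ ta ∧ (enc a ∈ V4c.LA ↔ a ^ 3 = 1 ∧ a ≠ 1) ∧ (a ^ 3 = 1 → ∃ k ∈ KVc, k * a * k⁻¹ ∈ J0)) ∧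
    ∀ c ∈ C72, c * ta = ta * c ∧ (c ∈ KVc ∨ c * ta ∈ KVc) := by
  simp only [hC72.ball, hKVc.ball, hKVc.bex']
  simp +contextual only [
    ne_eq, eq_iff_enc h9, enc_mul h9, enc_inv h9, enc_one', enc_pow h9 enc_one', card_support h9,
    mem_alt_iff h9, exists_prop, hJ0.encd, hC72.encd, hKVc.encd, hJ0.mem_memF, hC72.mem_memF,
    hKVc.mem_memF, enc_ta]
  decide +kernel

theorem n_Kd : (∀ a ∈ KVd, a ∈ B288 ∧ a ≠ ta ∧ (enc a ∈ V4d.LA ↔ a ^ 3 = 1 ∧ a ≠ 1) ∧ (a ^ 3 = 1 → ∃ k ∈ KVd, k * a * k⁻¹ ∈ J0)) ∧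
    ∀ c ∈ B288, c * ta = ta * c ∧ (c ∈ KVd ∨ c * ta ∈ KVd) := by
  simp only [hB288.ball, hKVd.ball, hKVd.bex']
  simp +contextual only [
    ne_eq, eq_iff_enc h9, enc_mul h9, enc_inv h9, enc_one', enc_pow h9 enc_one', card_support h9,
    mem_alt_iff h9, exists_prop, hJ0.encd, hB288.encd, hKVd.encd, hJ0.mem_memF, hB288.mem_memF,
    hKVd.mem_memF, enc_ta]
  decide +kernel

theorem n_W : ∀ p ∈ W6, (p * e1 * p⁻¹ ∈ J0 → p ∈ W72) ∧ (p * ta = ta * p → p ∈ B288) ∧ (p * w = w * p → p ^ 4 = 1) ∧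
    p * t3 = t3 * p ∧ p * e3 = e3 * p ∧ (p * s0 = s3 * p → p * t1 = t2 * p → p * p = 1 → p = ta) := by
  simp only [hW6.ball]
  simp +contextual only [
    ne_eq, eq_iff_enc h9, enc_mul h9, enc_inv h9, enc_one', enc_pow h9 enc_one', card_support h9,
    mem_alt_iff h9, exists_prop, hJ0.encd, hW6.encd, hW72.encd, hB288.encd, hJ0.mem_memF,
    hW6.mem_memF, hW72.mem_memF, hB288.mem_memF, enc_e1, enc_e3, enc_ta, enc_t1, enc_t3, enc_w,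
    enc_s0, enc_s3, enc_t2]
  decide +kernel

theorem n_S : ∀ q ∈ S3p, q ∈ M ∧ (q ∈ W6 → q = 1) ∧ (q * e3 = e3 * q → (q = 1 ∨ q = e3 ∨ q = e3⁻¹)) ∧ q * s0 = s0 * q ∧
    q * t1 = t1 * q ∧ q * s2 = s2 * q ∧ q * s3 = s3 * q ∧ q * t2 = t2 * q := by
  simp only [hS3p.ball]
  simp +contextual only [
    ne_eq, eq_iff_enc h9, enc_mul h9, enc_inv h9, enc_one', enc_pow h9 enc_one', card_support h9,
    mem_alt_iff h9, exists_prop, hM.encd, hW6.encd, hS3p.encd, hM.mem_memF, hW6.mem_memF,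
    hS3p.mem_memF, enc_e3, enc_t1, enc_s0, enc_s2, enc_s3, enc_t2]
  decide +kernel

theorem n_T : (∀ r ∈ T16, r ∈ Y ∧ r * t3 = t3 * r ∧ r * z = z * r ∧ (r * r = 1 → r = 1 ∨
      (∃ k ∈ Y, k * r = t3 * k ∨ k * r = z * k ∨ k * r = w * k ∨ k * r = tp * k) ∨ ∃ l ∈ T16, l * r * l⁻¹ = ta)) ∧
    (∀ a ∈ A8, a ∈ T16 ∧ (a * a = 1 → a = 1 ∨ ∃ k ∈ Y, k * a = w * k ∨ k * a = tp * k)) ∧
    ∀ r ∈ R8, r ∈ T16 ∧ r * ta = ta * r := by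
  simp only [hY.bex', hT16.ball, hT16.bex', hA8.ball, hR8.ball]
  simp +contextual only [
    ne_eq, eq_iff_enc h9, enc_mul h9, enc_inv h9, enc_one', enc_pow h9 enc_one', card_support h9,
    mem_alt_iff h9, exists_prop, hY.encd, hT16.encd, hA8.encd, hR8.encd, hY.mem_memF,
    hT16.mem_memF, hA8.mem_memF, hR8.mem_memF, enc_ta, enc_t3, enc_z, enc_w, enc_tp]
  decide +kernel

theorem n_B : (∀ b ∈ B288, b * b = 1 → b = 1 ∨ (b.support.card = 2 ∧ (Cj b t1 ∨ Cj b t3)) ∨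
      (b.support.card = 4 ∧ (Cj b w ∨ Cj b wp)) ∨ (b.support.card = 6 ∧ SX b ∧ (Cj b ta ∨ Cj b z)) ∨
      (b.support.card = 8 ∧ Cj b tp)) ∧ (∀ p, SQ p → p ∈ W6) ∧
    ∀ p, SX p → p ∈ B288 ∧ p * p = 1 ∧ p.support.card = 6 := by
  simp only [Cj, hS3p.bex', hSQ.bex, hSQ.ball, hSX.ball, hB288.ball]
  simp +contextual only [
    ne_eq, eq_iff_enc h9, enc_mul h9, enc_inv h9, enc_one', enc_pow h9 enc_one', card_support h9,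
    mem_alt_iff h9, exists_prop, hW6.encd, hB288.encd, hW6.mem_memF, hB288.mem_memF, enc_ta,
    enc_t1, enc_t3, enc_z, enc_w, enc_tp, enc_wp, hSQ.encd, hSX.encd, SX_iff, hS3p.encd]
  decide +kernel

theorem n_R : (∀ r ∈ R32, r ∈ B288 ∧ r * t3 = t3 * r ∧ (r.support.card = 2 → SP r) ∧
      (r.support.card = 6 → r * r = 1 → r * a1 = a1 * r → r * sw = sw * r → r = ta ∨ r = zp)) ∧
    (∀ r ∈ R16, r ∈ R32 ∧ (r * r = 1 → r.support.card ≠ 2 ∧ r.support.card ≠ 6)) ∧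
    ∀ p, SP p → p ∈ R32 ∧ p * p = 1 ∧ p.support.card = 2 ∧ (∀ r ∈ R32, SP (r * p * r⁻¹)) ∧ SP (y * p * y⁻¹) ∧
      (p ≠ t3 → ∀ q, SP q → (q = t3 ∨ q = p ∨ q = y * p * y⁻¹ ∨ q = y * (y * p * y⁻¹) * y⁻¹) ∧
        (q ≠ t3 → p ≠ q → ∀ r, SP r → r ≠ t3 → p ≠ r → q ≠ r → p * q * r = ta)) := by
  simp only [hSP.ball, hR32.ball, hR16.ball]
  simp +contextual only [
    ne_eq, eq_iff_enc h9, enc_mul h9, enc_inv h9, enc_one', enc_pow h9 enc_one', card_support h9,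
    mem_alt_iff h9, exists_prop, hB288.encd, hR32.encd, hR16.encd, hB288.mem_memF, hR32.mem_memF,
    hR16.mem_memF, enc_ta, enc_t3, enc_y, enc_a1, enc_sw, enc_zp, hSP.encd, SP_iff]
  decide +kernel

theorem e_P : (∀ k ∈ P18, k * e1 = e1 * k → k * w = w * k → k = 1) ∧ e1 ∈ K ∧ u ∈ K ∧ w ∈ K ∧ x3 ∈ K ∧ e1 ∈ K1 ∧
    ta ∉ alternatingGroup (Fin 9) ∧ t1 ∉ alternatingGroup (Fin 9) ∧ t1 * e1 = e1⁻¹ * t1 ∧ u ^ 3 = 1 := by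
  simp only [hP18.ball]
  simp +contextual only [
    ne_eq, eq_iff_enc h9, enc_mul h9, enc_inv h9, enc_one', enc_pow h9 enc_one', card_support h9,
    mem_alt_iff h9, exists_prop, hK.encd, hP18.encd, hK1.encd, hK.mem_memF, hP18.mem_memF,
    hK1.mem_memF, enc_e1, enc_x3, enc_u, enc_ta, enc_t1, enc_w]
  decide +kernel

theorem n_6 : ∀ p : Perm (Fin 6), p * p = 1 → p * S6.c0 = S6.c0 * p → (S6.c1 * p) ^ 3 = 1 →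
    (p * S6.c3) ^ 3 = 1 → p * S6.c4 = S6.c4 * p → p = S6.c2 := by
  simp only [S6.hI.ball]
  simp +contextual only [
    ne_eq, eq_iff_enc S6.h6, enc_mul S6.h6, enc_inv S6.h6, enc_one', enc_pow S6.h6 enc_one',
    S6.hI.encd, S6.enc_c0, S6.enc_c1, S6.enc_c2, S6.enc_c3, S6.enc_c4]
  decide +kernel

theorem C216M : C216 ≤ M := cl_le_of hM (by decide +kernel)
theorem C72M : C72 ≤ M := cl_le_of hM (by decide +kernel)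
theorem W72M : W72 ≤ M := cl_le_of hM (by decide +kernel)
theorem W72W : W72 ≤ W6 := cl_le_of hW6 (by decide +kernel)
theorem C72B : C72 ≤ B288 := cl_le_of hB288 (by decide +kernel)
theorem KM : K ≤ M := hK.le_of hM (by decide +kernel)

end Cfsg.Agent.H1.S9
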