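import Cfsg.Agent.H1.S9Def
import Cfsg.Agent.H1.PProd

/-!
# The diagonal subgroup
-/

set_option autoImplicit false
set_option maxRecDepth 100000
set_option synthInstance.maxSize 100000
set_option synthInstance.maxHeartbeats 1000000
set_option linter.unusedSimpArgs false

namespace Cfsg.Agent.H1.S9

open Cfsg.Agent.L0 Cfsg.Agent.L0.Code Equiv Cfsg.Agent.H1.PC

open Cfsg.Agent.H1.A9K (h9 J0 hJ0 S0 hS0)
open Cfsg.Agent.S3702 (K hK)

/-- Generators (1 2), (4 5), (7 8). -/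
def gDg : List ℕ := [nat_lit 0x876543120, nat_lit 0x876453210, nat_lit 0x786543210]
def LDg : List ℕ := [
  nat_lit 0x786453120, nat_lit 0x786453210, nat_lit 0x786543120, nat_lit 0x876453120,
  nat_lit 0x786543210, nat_lit 0x876453210, nat_lit 0x876543120, nat_lit 0x876543210]
/-- A group of order 8. -/
def Dg : Subgroup (Perm (Fin 9)) := cl 9 gDg
theorem hDg : Lists Dg LDg :=
  lists_cl (by norm_num) _ _ (by decide +kernel) (by decide +kernel) (by decide +kernel)
    (by decide +kernel) (by decide +kernel) (by decide +kernel)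
theorem card_Dg : Nat.card Dg = 8 := hDg.card_eq.trans (by decide +kernel)

theorem f_D : (∀ s ∈ Y, (∀ d ∈ Dg, s * d * s⁻¹ ∈ Dg) ∧ (∃ p ∈ S3, p * s ∈ Dg) ∧
      (s * e1 * s⁻¹ = e1 → s * e2 * s⁻¹ = e2 → s * e3 * s⁻¹ = e3 → s = 1)) ∧
    ∀ d ∈ Dg, d * d = 1 ∧ (d * x3 * d⁻¹ = x3 → d = 1) := by
  simp only [hY.ball, hS3.bex', hDg.ball]
  simp +contextual only [
    ne_eq, eq_iff_enc h9, enc_mul h9, enc_inv h9, enc_one', enc_pow h9 enc_one', card_support h9,
    mem_alt_iff h9, exists_prop, hY.encd, hS3.encd, hDg.encd, hY.mem_memF, hS3.mem_memF,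
    hDg.mem_memF, enc_e1, enc_e2, enc_e3, enc_x3]
  decide +kernel

theorem x3_eq : x3 = swap (0 : Fin 9) 1 * swap 1 2 * swap 3 4 * swap 4 5 * swap 6 7 * swap 7 8 :=
  (dec_eq h9 (by decide +kernel)).symm

end Cfsg.Agent.H1.S9
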