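import Cfsg.Agent.H1.S9Grp
import Cfsg.Agent.H1.S9Cls
import Cfsg.Agent.H1.V4a
import Cfsg.Agent.H1.V4b

/-!
# Elements of `S_3 ≀ S_3`
-/

set_option autoImplicit false
set_option maxRecDepth 100000
set_option synthInstance.maxSize 100000
set_option synthInstance.maxHeartbeats 1000000
set_option linter.unusedSimpArgs false

namespace Cfsg.Agent.H1.S9

open Cfsg.Agent.L0 Cfsg.Agent.L0.Code Equiv Cfsg.Agent.H1.PC

open Cfsg.Agent.H1.A9K (h9 J0 hJ0 S0 hS0)
open Cfsg.Agent.S3702 (K hK)

/-- `(0 3 6)(1 4 7)(2 5 8)` -/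
noncomputable def u : Perm (Fin 9) := dec 9 0x210876543
theorem enc_u : enc u = nat_lit 0x210876543 := enc_dec h9 (by decide +kernel)

/-- `(0 3)(1 4)(2 5)` -/
noncomputable def ta : Perm (Fin 9) := dec 9 0x876210543
theorem enc_ta : enc ta = nat_lit 0x876210543 := enc_dec h9 (by decide +kernel)

/-- `(1 2)` -/
noncomputable def t1 : Perm (Fin 9) := dec 9 0x876543120
theorem enc_t1 : enc t1 = nat_lit 0x876543120 := enc_dec h9 (by decide +kernel)

/-- `(7 8)` -/
noncomputable def t3 : Perm (Fin 9) := dec 9 0x786543210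
theorem enc_t3 : enc t3 = nat_lit 0x786543210 := enc_dec h9 (by decide +kernel)

/-- `(1 2)(4 5)(7 8)` -/
noncomputable def z : Perm (Fin 9) := dec 9 0x786453120
theorem enc_z : enc z = nat_lit 0x786453120 := enc_dec h9 (by decide +kernel)

/-- `(1 2)(4 5)` -/
noncomputable def w : Perm (Fin 9) := dec 9 0x876453120
theorem enc_w : enc w = nat_lit 0x876453120 := enc_dec h9 (by decide +kernel)

/-- `(0 1 2)(3 4 5)` -/
noncomputable def y : Perm (Fin 9) := dec 9 0x876354021
theorem enc_y : enc y = nat_lit 0x876354021 := enc_dec h9 (by decide +kernel)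

/-- `(0 1 2)(3 5 4)` -/
noncomputable def yp : Perm (Fin 9) := dec 9 0x876435021
theorem enc_yp : enc yp = nat_lit 0x876435021 := enc_dec h9 (by decide +kernel)

/-- `(0 1 2)(3 4 5)(6 8 7)` -/
noncomputable def xe : Perm (Fin 9) := dec 9 0x768354021
theorem enc_xe : enc xe = nat_lit 0x768354021 := enc_dec h9 (by decide +kernel)

/-- Generators (1 2), (0 3 6)(1 4 7)(2 5 8), (0 3)(1 4)(2 5). -/
def gY : List ℕ := [nat_lit 0x876543120, nat_lit 0x210876543, nat_lit 0x876210543]
def LY : List ℕ := [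
  nat_lit 0x120786453, nat_lit 0x453786120, nat_lit 0x786120453, nat_lit 0x786453120,
  nat_lit 0x120786543, nat_lit 0x453786210, nat_lit 0x786120543, nat_lit 0x786453210,
  nat_lit 0x210786453, nat_lit 0x543786120, nat_lit 0x120453786, nat_lit 0x786210453,
  nat_lit 0x786543120, nat_lit 0x453120786, nat_lit 0x210786543, nat_lit 0x543786210,
  nat_lit 0x120453876, nat_lit 0x786210543, nat_lit 0x786543210, nat_lit 0x453120876,
  nat_lit 0x120543786, nat_lit 0x876453120, nat_lit 0x210453786, nat_lit 0x543120786,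
  nat_lit 0x453876120, nat_lit 0x453210786, nat_lit 0x120543876, nat_lit 0x876453210,
  nat_lit 0x210453876, nat_lit 0x543120876, nat_lit 0x453876210, nat_lit 0x453210876,
  nat_lit 0x210543786, nat_lit 0x876120453, nat_lit 0x543876120, nat_lit 0x543210786,
  nat_lit 0x120876453, nat_lit 0x210543876, nat_lit 0x876120543, nat_lit 0x543876210,
  nat_lit 0x543210876, nat_lit 0x120876543, nat_lit 0x876210453, nat_lit 0x210876453,
  nat_lit 0x876210543, nat_lit 0x210876543, nat_lit 0x876543120, nat_lit 0x876543210]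
/-- A group of order 48. -/
def Y : Subgroup (Perm (Fin 9)) := cl 9 gY
theorem hY : Lists Y LY :=
  lists_cl (by norm_num) _ _ (by decide +kernel) (by decide +kernel) (by decide +kernel)
    (by decide +kernel) (by decide +kernel) (by decide +kernel)
theorem card_Y : Nat.card Y = 48 := hY.card_eq.trans (by decide +kernel)

/-- Generators (0 3 6)(1 4 7)(2 5 8), (0 3)(1 4)(2 5). -/
def gS3 : List ℕ := [nat_lit 0x210876543, nat_lit 0x876210543]
def LS3 : List ℕ := [
  nat_lit 0x210543876, nat_lit 0x543876210, nat_lit 0x543210876, nat_lit 0x876210543,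
  nat_lit 0x210876543, nat_lit 0x876543210]
/-- A group of order 6. -/
def S3 : Subgroup (Perm (Fin 9)) := cl 9 gS3
theorem hS3 : Lists S3 LS3 :=
  lists_cl (by norm_num) _ _ (by decide +kernel) (by decide +kernel) (by decide +kernel)
    (by decide +kernel) (by decide +kernel) (by decide +kernel)
theorem card_S3 : Nat.card S3 = 6 := hS3.card_eq.trans (by decide +kernel)

/-- Generators (0 1 2)(3 4 5)(6 7 8), (0 3 6)(1 4 7)(2 5 8), (1 2)(4 5)(7 8). -/
def gP18 : List ℕ := [nat_lit 0x687354021, nat_lit 0x210876543, nat_lit 0x786453120]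
def LP18 : List ℕ := [
  nat_lit 0x534201867, nat_lit 0x345012678, nat_lit 0x435102768, nat_lit 0x201867534,
  nat_lit 0x453120786, nat_lit 0x012678345, nat_lit 0x354021687, nat_lit 0x102768435,
  nat_lit 0x867534201, nat_lit 0x120786453, nat_lit 0x543210876, nat_lit 0x678345012,
  nat_lit 0x021687354, nat_lit 0x768435102, nat_lit 0x786453120, nat_lit 0x210876543,
  nat_lit 0x687354021, nat_lit 0x876543210]
/-- A group of order 18. -/
def P18 : Subgroup (Perm (Fin 9)) := cl 9 gP18
theorem hP18 : Lists P18 LP18 :=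
  lists_cl (by norm_num) _ _ (by decide +kernel) (by decide +kernel) (by decide +kernel)
    (by decide +kernel) (by decide +kernel) (by decide +kernel)
theorem card_P18 : Nat.card P18 = 18 := hP18.card_eq.trans (by decide +kernel)

/-- The elements of `J0` with given coordinates. -/
noncomputable def E (v : ℕ) : Perm (Fin 9) := e1 ^ (v % 3) * e2 ^ (v / 3 % 3) * e3 ^ (v / 9 % 3)

/-- Central automorphisms. -/
noncomputable def al (c : ℕ) (j : Perm (Fin 9)) : Perm (Fin 9) :=
  j * x3 ^ (c * (app (enc j) 0 + app (enc j) 3 + app (enc j) 6) % 3)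

/-- The generators of `J0`. -/
def IsE (a : Perm (Fin 9)) : Prop := a = e1 ∨ a = e2 ∨ a = e3

abbrev KVa := V4a.K
theorem hKVa : Lists KVa V4a.LK := V4a.hK

abbrev KVb := V4b.K
theorem hKVb : Lists KVb V4b.LK := V4b.hK

end Cfsg.Agent.H1.S9
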