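import Cfsg.Agent.H1.GramAuto

/-!
# A strongly 3-embedded subgroup of order 36
-/

set_option autoImplicit false
set_option maxRecDepth 100000
set_option synthInstance.maxSize 100000
set_option synthInstance.maxHeartbeats 1000000
set_option linter.unusedSimpArgs false

namespace Cfsg.Agent.H1.V4c

open Cfsg.Agent.L0 Cfsg.Agent.L0.Gram Cfsg.Agent.H1.GA Cfsg.Agent.L0.Code Equiv Cfsg.Agent.H1.PC

/-- Generators (0 1 2)(3 4 5), (1 2)(4 5), (6 7 8), (7 8). -/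
def gK : List ℕ := [nat_lit 0x876354021, nat_lit 0x876453120, nat_lit 0x687543210, nat_lit 0x786543210]
def LK : List ℕ := [
  nat_lit 0x867534201, nat_lit 0x678534201, nat_lit 0x768534201, nat_lit 0x867345012,
  nat_lit 0x678345012, nat_lit 0x768345012, nat_lit 0x867435102, nat_lit 0x678435102,
  nat_lit 0x768435102, nat_lit 0x867453120, nat_lit 0x678453120, nat_lit 0x768453120,
  nat_lit 0x786534201, nat_lit 0x687534201, nat_lit 0x867354021, nat_lit 0x678354021,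
  nat_lit 0x768354021, nat_lit 0x786345012, nat_lit 0x687345012, nat_lit 0x786435102,
  nat_lit 0x687435102, nat_lit 0x867543210, nat_lit 0x678543210, nat_lit 0x768543210,
  nat_lit 0x786453120, nat_lit 0x687453120, nat_lit 0x876534201, nat_lit 0x786354021,
  nat_lit 0x687354021, nat_lit 0x876345012, nat_lit 0x876435102, nat_lit 0x786543210,
  nat_lit 0x687543210, nat_lit 0x876453120, nat_lit 0x876354021, nat_lit 0x876543210]
/-- A group of order 36. -/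
def K : Subgroup (Perm (Fin 9)) := cl 9 gK
theorem hK : Lists K LK :=
  lists_cl (by norm_num) _ _ (by decide +kernel) (by decide +kernel) (by decide +kernel)
    (by decide +kernel) (by decide +kernel) (by decide +kernel)
theorem card_K : Nat.card K = 36 := hK.card_eq.trans (by decide +kernel)
def LA : List ℕ := [
  nat_lit 0x876354021, nat_lit 0x687543210, nat_lit 0x876435102, nat_lit 0x687354021,
  nat_lit 0x768543210, nat_lit 0x687435102, nat_lit 0x768354021, nat_lit 0x768435102]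
def LB : List ℕ := [
  nat_lit 0x876354021, nat_lit 0x687543210, nat_lit 0x876435102, nat_lit 0x687354021,
  nat_lit 0x768543210, nat_lit 0x687435102, nat_lit 0x768354021, nat_lit 0x768435102]
def reps : List ℕ := [
  nat_lit 0x876354021, nat_lit 0x687543210, nat_lit 0x687354021, nat_lit 0x786354021,
  nat_lit 0x687453120, nat_lit 0x876543210]
def pws : List ℕ := [1, 1, 1, 2, 2]
def ods : List ℕ := [3, 3, 3, 6, 6]
def cn : List ℕ := [18, 18, 9, 6, 6]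
def cent : List ℤ := [18, 18, 9, 6, 6]
def S1 : Sub where
  gM := [nat_lit 0x876354021, nat_lit 0x786543210]
  LM := [
    nat_lit 0x786435102, nat_lit 0x786354021, nat_lit 0x876435102, nat_lit 0x786543210,
    nat_lit 0x876354021, nat_lit 0x876543210]
  T := [
    (nat_lit 0x786435102, 3, nat_lit 0x876453120), (nat_lit 0x786354021, 3, nat_lit 0x876543210),
    (nat_lit 0x876435102, 0, nat_lit 0x876453120), (nat_lit 0x786543210, 0, nat_lit 0x876543210),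
    (nat_lit 0x876354021, 0, nat_lit 0x876543210), (nat_lit 0x876543210, 0, nat_lit 0x876543210)]
  E := 3
  F := [([],
    [(nat_lit 0x786435102, 8), (nat_lit 0x786354021, 4), (nat_lit 0x876435102, 8),
    (nat_lit 0x876354021, 4)],
    [9, 0, 0, 9, 0], [0, 0, 0, 0, 0]),
    ([(nat_lit 0x786435102, 6), (nat_lit 0x786354021, 6), (nat_lit 0x786543210, 6)],
    [(nat_lit 0x786435102, 2), (nat_lit 0x786354021, 10), (nat_lit 0x876435102, 8),
    (nat_lit 0x786543210, 6), (nat_lit 0x876354021, 4)],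
    [9, 0, 0, -9, 0], [0, 0, 0, 0, 0])]
set_option maxHeartbeats 0 in
theorem hS1 : S1.ok 9 LK reps 5 18 = true := by decide +kernel
def S2 : Sub where
  gM := [nat_lit 0x687543210, nat_lit 0x876453120]
  LM := [
    nat_lit 0x768453120, nat_lit 0x687453120, nat_lit 0x768543210, nat_lit 0x876453120,
    nat_lit 0x687543210, nat_lit 0x876543210]
  T := [
    (nat_lit 0x768453120, 4, nat_lit 0x786543210), (nat_lit 0x687453120, 4, nat_lit 0x876543210),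
    (nat_lit 0x768543210, 1, nat_lit 0x786543210), (nat_lit 0x876453120, 0, nat_lit 0x876543210),
    (nat_lit 0x687543210, 1, nat_lit 0x876543210), (nat_lit 0x876543210, 0, nat_lit 0x876543210)]
  E := 3
  F := [([],
    [(nat_lit 0x768453120, 8), (nat_lit 0x687453120, 4), (nat_lit 0x768543210, 8),
    (nat_lit 0x687543210, 4)],
    [0, 9, 0, 0, 9], [0, 0, 0, 0, 0])]
set_option maxHeartbeats 0 in
theorem hS2 : S2.ok 9 LK reps 5 18 = true := by decide +kernel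
def S0 : Sub where
  gM := [nat_lit 0x876354021, nat_lit 0x687543210]
  LM := [
    nat_lit 0x768435102, nat_lit 0x768354021, nat_lit 0x687435102, nat_lit 0x768543210,
    nat_lit 0x687354021, nat_lit 0x876435102, nat_lit 0x687543210, nat_lit 0x876354021,
    nat_lit 0x876543210]
  T := [
    (nat_lit 0x768435102, 2, nat_lit 0x786453120), (nat_lit 0x768354021, 2, nat_lit 0x786543210),
    (nat_lit 0x687435102, 2, nat_lit 0x876453120), (nat_lit 0x768543210, 1, nat_lit 0x786543210),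
    (nat_lit 0x687354021, 2, nat_lit 0x876543210), (nat_lit 0x876435102, 0, nat_lit 0x876453120),
    (nat_lit 0x687543210, 1, nat_lit 0x876543210), (nat_lit 0x876354021, 0, nat_lit 0x876543210),
    (nat_lit 0x876543210, 0, nat_lit 0x876543210)]
  E := 2
  F := [([(nat_lit 0x768435102, 8), (nat_lit 0x768354021, 8), (nat_lit 0x687435102, 4),
    (nat_lit 0x768543210, 8), (nat_lit 0x687354021, 4), (nat_lit 0x687543210, 4)],
    [(nat_lit 0x768435102, 4), (nat_lit 0x768543210, 8), (nat_lit 0x687354021, 8),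
    (nat_lit 0x876435102, 8), (nat_lit 0x687543210, 4), (nat_lit 0x876354021, 4)],
    [6, 0, -6, 0, 0], [0, 0, 0, 0, 0]),
    ([(nat_lit 0x768435102, 8), (nat_lit 0x768354021, 4), (nat_lit 0x687435102, 8),
    (nat_lit 0x687354021, 4), (nat_lit 0x876435102, 8), (nat_lit 0x876354021, 4)],
    [(nat_lit 0x768435102, 4), (nat_lit 0x768543210, 8), (nat_lit 0x687354021, 8),
    (nat_lit 0x876435102, 8), (nat_lit 0x687543210, 4), (nat_lit 0x876354021, 4)],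
    [0, 6, -6, 0, 0], [0, 0, 0, 0, 0])]
set_option maxHeartbeats 0 in
theorem hS0 : S0.ok 9 LK reps 5 18 = true := by decide +kernel
def P : List (List ℤ) := [[3, 0, 6, 9, 0],
  [0, 3, 6, 0, 9],
  [6, 0, -6, 0, 0],
  [0, 3, 6, 0, -9],
  [-3, -6, 0, -9, 0]]
def Q : List (List ℤ) := [[0, 0, 0, 0, 0],
  [0, 0, 0, 0, 0],
  [0, 0, 0, 0, 0],
  [0, 0, 0, 0, 0],
  [0, 0, 0, 0, 0]]
def R : List (List ℤ) := [[2, 0, 0, 1, -1],
  [0, 2, -1, 0, 0],
  [0, -1, 3, -1, -1],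
  [1, 0, -1, 3, -1],
  [-1, 0, -1, -1, 3]]
def C : List (List ℤ) := [[1, 0, 0, -1, 0],
  [0, 0, 1, 0, -1],
  [0, 0, 0, 1, 0],
  [1, 1, -1, -3, 2],
  [-1, 0, 0, 1, -1]]
def t : List ℤ := [1, 1, 0, 0, -1]
def A1 : List (List ℤ) := [[5, -1, 0, -1, 2],
  [-1, 5, 3, 2, 2],
  [0, 3, 6, 3, 3],
  [-1, 2, 3, 5, 2],
  [2, 2, 3, 2, 5]]
def Y : List (List ℤ) := [[1],
  [0, 1],
  [0, 1, 2],
  [-5, 2, 4, 10],
  [2, 2, 4, 3, 7]]
def W : List ℤ := [210, 210, 42, 2, 5]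
def V : List (List ℤ) := [[1, 0, -1, 1, 0],
  [1, 0, 1, 0, -1],
  [1, 0, 0, 1, -1],
  [1, 0, 0, 1, 0],
  [1, 0, 0, 0, -1],
  [1, 0, 0, 0, 0],
  [0, 1, -1, 1, 0],
  [0, 1, -1, 0, 1],
  [0, 1, -1, 0, 0],
  [0, 1, 0, -1, 0],
  [0, 1, 0, 0, -1],
  [0, 1, 0, 0, 0],
  [0, 0, 1, -1, -1],
  [0, 0, 1, -1, 0],
  [0, 0, 1, 0, -1],
  [0, 0, 1, 0, 0],
  [0, 0, 0, 1, -1],
  [0, 0, 0, 1, 0],
  [0, 0, 0, 0, 1]]
def sols : List (List (List ℤ)) := [[[1, 0, -1, 1, 0],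
  [1, 0, 1, 0, -1],
  [0, 1, -1, 0, 0],
  [0, 1, 0, 0, 0],
  [0, 0, 0, 1, -1],
  [0, 0, 0, 1, 0],
  [0, 0, 0, 0, 1]],
  [[1, 0, 0, 1, -1],
  [1, 0, 0, 0, 0],
  [0, 1, -1, 1, 0],
  [0, 1, 0, -1, 0],
  [0, 0, 1, 0, -1],
  [0, 0, 1, 0, 0],
  [0, 0, 0, 0, 1]],
  [[1, 0, 0, 1, -1],
  [1, 0, 0, 0, 0],
  [0, 1, -1, 0, 1],
  [0, 1, 0, 0, -1],
  [0, 0, 1, -1, 0],
  [0, 0, 1, 0, 0],
  [0, 0, 0, 1, 0]],
  [[1, 0, 0, 1, -1],
  [1, 0, 0, 0, 0],
  [0, 1, -1, 0, 0],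
  [0, 1, 0, 0, 0],
  [0, 0, 1, -1, -1],
  [0, 0, 1, 0, 0],
  [0, 0, 0, 1, -1]],
  [[1, 0, 0, 1, -1],
  [1, 0, 0, 0, 0],
  [0, 1, -1, 0, 0],
  [0, 1, 0, 0, 0],
  [0, 0, 1, -1, 0],
  [0, 0, 1, 0, -1],
  [0, 0, 0, 1, 0],
  [0, 0, 0, 0, 1]],
  [[1, 0, 0, 1, 0],
  [1, 0, 0, 0, -1],
  [0, 1, -1, 0, 0],
  [0, 1, 0, 0, 0],
  [0, 0, 1, -1, 0],
  [0, 0, 1, 0, -1],
  [0, 0, 0, 1, -1]]]
def l : List (List (ℤ × ℤ)) := [[(1, 0), (1, 0), (3, 0), (1, 0), (1, 0)],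
  [(-2, 0), (1, 0), (0, 0), (1, 0), (-2, 0)],
  [(1, 0), (1, 0), (0, 0), (1, 0), (1, 0)],
  [(1, 0), (-1, 0), (-1, 0), (-1, 0), (-1, 0)],
  [(0, 0), (1, 0), (0, 0), (-1, 0), (0, 0)]]
def Us : List (List ℕ) := [[nat_lit 0x876354021, nat_lit 0x876435102],
  [nat_lit 0x687543210, nat_lit 0x768543210],
  [nat_lit 0x687354021, nat_lit 0x687435102, nat_lit 0x768354021, nat_lit 0x768435102],
  [],
  []]
def tr : List (ℕ × ℕ × ℕ × ℕ) := [(0, 0, 1, 0), (0, 0, 2, 0), (1, 2, 0, 2), (1, 2, 1, 0), (2, 2, 0, 2), (2, 2, 1, 2)]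
def gJ : List ℕ := [nat_lit 0x876354021, nat_lit 0x687543210]
def LJ : List ℕ := [
  nat_lit 0x768435102, nat_lit 0x768354021, nat_lit 0x687435102, nat_lit 0x768543210,
  nat_lit 0x687354021, nat_lit 0x876435102, nat_lit 0x687543210, nat_lit 0x876354021,
  nat_lit 0x876543210]
def TJ : List (ℕ × ℕ × ℕ) := [
  (nat_lit 0x768435102, 2, nat_lit 0x786453120), (nat_lit 0x768354021, 2, nat_lit 0x786543210),
  (nat_lit 0x687435102, 2, nat_lit 0x876453120), (nat_lit 0x768543210, 1, nat_lit 0x786543210),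
  (nat_lit 0x687354021, 2, nat_lit 0x876543210), (nat_lit 0x876435102, 0, nat_lit 0x876453120),
  (nat_lit 0x687543210, 1, nat_lit 0x876543210), (nat_lit 0x876354021, 0, nat_lit 0x876543210),
  (nat_lit 0x876543210, 5, nat_lit 0x876543210)]
def mJ : List ℤ := [2, 2, 4, 0, 0, 1]

set_option maxHeartbeats 0 in
theorem out {G : Type*} [Group G] [Finite G] {ι : K →* G} (H : Hyp LA LB ι) :
    ∃ w ∈ sols, ∃ d, Out (Nat.card G) 9 5 5 t l mJ cn tr w d :=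
  H.main hK reps 5 (by decide +kernel) pws ods cn (by decide +kernel) cent (by decide +kernel)
    (by decide +kernel) 18 (by norm_num) [S1, S2, S0] (by simp [hS1, hS2, hS0]) P Q R C t (by decide +kernel)
    (by decide +kernel) (by decide +kernel) A1 Y W 420 V sols 29 (by decide +kernel)
    (by decide +kernel) (by decide +kernel) l (by decide +kernel) Us [0, 1, 2] [0, 1, 2] tr (by decide +kernel)
    gJ LJ TJ mJ 9 (by decide +kernel)

set_option maxHeartbeats 1000000 in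
theorem arith (n : ℕ) (hn : 0 < n) (hq : 9 ∣ n - 1) (w : List (List ℤ)) (hw : w ∈ sols) (d : List ℤ)
    (h : Out (36 * n) 9 5 5 t l mJ cn tr w d) : n = 1 := by
  obtain ⟨h1, h2, h3, h4⟩ := h
  simp only [sols, List.mem_cons, List.not_mem_nil, or_false] at hw
  rcases hw with rfl | rfl | rfl | rfl | rfl | rfl
  · simp only [List.forall₂_cons_left_iff, List.forall₂_nil_left_iff] at h1
    obtain ⟨d1, _, ⟨n1, c1⟩, ⟨d2, _, ⟨n2, c2⟩, ⟨d3, _, ⟨n3, c3⟩, ⟨d4, _, ⟨n4, c4⟩, ⟨d5, _, ⟨n5, c5⟩, ⟨d6, _,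
      ⟨n6, c6⟩, ⟨d7, _, ⟨n7, c7⟩, rfl, rfl⟩, rfl⟩, rfl⟩, rfl⟩, rfl⟩, rfl⟩, rfl⟩ := h1
    have h := h4 [(2, 0), (0, 0), (0, 0), (-1, 0), (2, 0), (-3, 0)]
      [0, 0, 0, 0, 0, 0, 0] (0) (-162) (by decide +kernel)
    simp only [List.zipWith_cons_cons, List.zipWith_nil_right, List.map_cons, List.map_nil, List.sum_cons,
      List.sum_nil] at h h2
    have e : ((36 * n : ℕ) : ℚ) * (0 : ℤ) = (-162 : ℤ) := by rw [← h]; push_cast; ring
    have e' : ((36 * n : ℕ) : ℤ) * (0) = -162 := by exact_mod_cast e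
    omega
  · simp only [List.forall₂_cons_left_iff, List.forall₂_nil_left_iff] at h1
    obtain ⟨d1, _, ⟨n1, c1⟩, ⟨d2, _, ⟨n2, c2⟩, ⟨d3, _, ⟨n3, c3⟩, ⟨d4, _, ⟨n4, c4⟩, ⟨d5, _, ⟨n5, c5⟩, ⟨d6, _,
      ⟨n6, c6⟩, ⟨d7, _, ⟨n7, c7⟩, rfl, rfl⟩, rfl⟩, rfl⟩, rfl⟩, rfl⟩, rfl⟩, rfl⟩ := h1
    have h := h4 [(0, 0), (2, 0), (-1, 0), (-1, 0), (0, 0), (0, 0)]
      [0, 0, 0, 0, 0, 0, 0] (0) (-324) (by decide +kernel)
    simp only [List.zipWith_cons_cons, List.zipWith_nil_right, List.map_cons, List.map_nil, List.sum_cons,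
      List.sum_nil] at h h2
    have e : ((36 * n : ℕ) : ℚ) * (0 : ℤ) = (-324 : ℤ) := by rw [← h]; push_cast; ring
    have e' : ((36 * n : ℕ) : ℤ) * (0) = -324 := by exact_mod_cast e
    omega
  · simp only [List.forall₂_cons_left_iff, List.forall₂_nil_left_iff] at h1
    obtain ⟨d1, _, ⟨n1, c1⟩, ⟨d2, _, ⟨n2, c2⟩, ⟨d3, _, ⟨n3, c3⟩, ⟨d4, _, ⟨n4, c4⟩, ⟨d5, _, ⟨n5, c5⟩, ⟨d6, _,
      ⟨n6, c6⟩, ⟨d7, _, ⟨n7, c7⟩, rfl, rfl⟩, rfl⟩, rfl⟩, rfl⟩, rfl⟩, rfl⟩, rfl⟩ := h1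
    have h := h4 [(2, 0), (0, 0), (0, 0), (-1, 0), (2, 0), (-3, 0)]
      [0, 0, 0, 0, 0, 0, 0] (0) (-162) (by decide +kernel)
    simp only [List.zipWith_cons_cons, List.zipWith_nil_right, List.map_cons, List.map_nil, List.sum_cons,
      List.sum_nil] at h h2
    have e : ((36 * n : ℕ) : ℚ) * (0 : ℤ) = (-162 : ℤ) := by rw [← h]; push_cast; ring
    have e' : ((36 * n : ℕ) : ℤ) * (0) = -162 := by exact_mod_cast e
    omega
  · simp only [List.forall₂_cons_left_iff, List.forall₂_nil_left_iff] at h1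
    obtain ⟨d1, _, ⟨n1, c1⟩, ⟨d2, _, ⟨n2, c2⟩, ⟨d3, _, ⟨n3, c3⟩, ⟨d4, _, ⟨n4, c4⟩, ⟨d5, _, ⟨n5, c5⟩, ⟨d6, _,
      ⟨n6, c6⟩, ⟨d7, _, ⟨n7, c7⟩, rfl, rfl⟩, rfl⟩, rfl⟩, rfl⟩, rfl⟩, rfl⟩, rfl⟩ := h1
    have h := h4 [(2, 0), (0, 0), (0, 0), (-1, 0), (2, 0), (-3, 0)]
      [0, 0, 0, 0, 0, 0, 0] (0) (-162) (by decide +kernel)
    simp only [List.zipWith_cons_cons, List.zipWith_nil_right, List.map_cons, List.map_nil, List.sum_cons,
      List.sum_nil] at h h2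
    have e : ((36 * n : ℕ) : ℚ) * (0 : ℤ) = (-162 : ℤ) := by rw [← h]; push_cast; ring
    have e' : ((36 * n : ℕ) : ℤ) * (0) = -162 := by exact_mod_cast e
    omega
  · simp only [List.forall₂_cons_left_iff, List.forall₂_nil_left_iff] at h1
    obtain ⟨d1, _, ⟨n1, c1⟩, ⟨d2, _, ⟨n2, c2⟩, ⟨d3, _, ⟨n3, c3⟩, ⟨d4, _, ⟨n4, c4⟩, ⟨d5, _, ⟨n5, c5⟩, ⟨d6, _,
      ⟨n6, c6⟩, ⟨d7, _, ⟨n7, c7⟩, ⟨d8, _, ⟨n8, c8⟩, rfl, rfl⟩, rfl⟩, rfl⟩, rfl⟩, rfl⟩, rfl⟩, rfl⟩, rfl⟩ := h1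
    have h := h4 [(2, 0), (0, 0), (0, 0), (-1, 0), (2, 0), (-3, 0)]
      [0, 0, 0, 0, 0, 18, 0, 0] (0) (-162) (by decide +kernel)
    simp only [List.zipWith_cons_cons, List.zipWith_nil_right, List.map_cons, List.map_nil, List.sum_cons,
      List.sum_nil] at h h2
    have e := ybound (g := 36 * n) (a := 18) (C := -162) n6 (by rw [← h]; push_cast; ring)
      (by linarith [sq_nonneg d1, sq_nonneg d2, sq_nonneg d3, sq_nonneg d4, sq_nonneg d5, sq_nonneg d6,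
        sq_nonneg d7, sq_nonneg d8])
    norm_num at e
    omega
  · simp only [List.forall₂_cons_left_iff, List.forall₂_nil_left_iff] at h1
    obtain ⟨d1, _, ⟨n1, c1⟩, ⟨d2, _, ⟨n2, c2⟩, ⟨d3, _, ⟨n3, c3⟩, ⟨d4, _, ⟨n4, c4⟩, ⟨d5, _, ⟨n5, c5⟩, ⟨d6, _,
      ⟨n6, c6⟩, ⟨d7, _, ⟨n7, c7⟩, rfl, rfl⟩, rfl⟩, rfl⟩, rfl⟩, rfl⟩, rfl⟩, rfl⟩ := h1
    have h := h4 [(0, 0), (1, 0), (1, 0), (-2, 0), (0, 0), (0, 0)]
      [0, 0, 0, 0, 0, 0, 0] (0) (324) (by decide +kernel)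
    simp only [List.zipWith_cons_cons, List.zipWith_nil_right, List.map_cons, List.map_nil, List.sum_cons,
      List.sum_nil] at h h2
    have e : ((36 * n : ℕ) : ℚ) * (0 : ℤ) = (324 : ℤ) := by rw [← h]; push_cast; ring
    have e' : ((36 * n : ℕ) : ℤ) * (0) = 324 := by exact_mod_cast e
    omega

theorem top {G : Type*} [Group G] [Finite G] {ι : K →* G} (H : Hyp LA LB ι) : ι.range = ⊤ := by
  obtain ⟨w, hw, d, h⟩ := out H
  obtain ⟨h1, h2⟩ := H.card hK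
  rw [h1, show LK.length = 36 by decide +kernel] at h
  exact Subgroup.index_eq_one.mp (arith _ h2 (by
    simpa only [show LJ.length = 9 from rfl] using H.cong hK gJ LJ (by decide +kernel)) w hw d h)

end Cfsg.Agent.H1.V4c
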