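import Cfsg.Agent.H1.GramAuto

/-!
# A strongly 3-embedded subgroup of order 144
-/

set_option autoImplicit false
set_option maxRecDepth 100000
set_option synthInstance.maxSize 100000
set_option synthInstance.maxHeartbeats 1000000
set_option linter.unusedSimpArgs false

namespace Cfsg.Agent.H1.V4d

open Cfsg.Agent.L0 Cfsg.Agent.L0.Gram Cfsg.Agent.H1.GA Cfsg.Agent.L0.Code Equiv Cfsg.Agent.H1.PC

/-- Generators (0 1 2)(3 4 5), (1 2)(4 5), (6 7 8), (7 8), (0 3)(1 4). -/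
def gK : List ℕ := [nat_lit 0x876354021, nat_lit 0x876453120, nat_lit 0x687543210, nat_lit 0x786543210, nat_lit 0x876510243]
def LK : List ℕ := [
  nat_lit 0x867204531, nat_lit 0x867213540, nat_lit 0x678204531, nat_lit 0x678213540,
  nat_lit 0x768204531, nat_lit 0x768213540, nat_lit 0x867123450, nat_lit 0x867024351,
  nat_lit 0x867312045, nat_lit 0x867402135, nat_lit 0x678123450, nat_lit 0x678024351,
  nat_lit 0x678312045, nat_lit 0x678402135, nat_lit 0x768123450, nat_lit 0x768024351,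
  nat_lit 0x768312045, nat_lit 0x768402135, nat_lit 0x867240513, nat_lit 0x867231504,
  nat_lit 0x678240513, nat_lit 0x678231504, nat_lit 0x768240513, nat_lit 0x768231504,
  nat_lit 0x867501234, nat_lit 0x678501234, nat_lit 0x768501234, nat_lit 0x867042315,
  nat_lit 0x867132405, nat_lit 0x678042315, nat_lit 0x678132405, nat_lit 0x768042315,
  nat_lit 0x768132405, nat_lit 0x867015342, nat_lit 0x678015342, nat_lit 0x768015342,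
  nat_lit 0x786204531, nat_lit 0x786213540, nat_lit 0x867105432, nat_lit 0x687204531,
  nat_lit 0x687213540, nat_lit 0x678105432, nat_lit 0x768105432, nat_lit 0x786123450,
  nat_lit 0x786024351, nat_lit 0x786312045, nat_lit 0x786402135, nat_lit 0x867420153,
  nat_lit 0x867321054, nat_lit 0x687123450, nat_lit 0x687024351, nat_lit 0x687312045,
  nat_lit 0x687402135, nat_lit 0x678420153, nat_lit 0x678321054, nat_lit 0x768420153,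
  nat_lit 0x768321054, nat_lit 0x786240513, nat_lit 0x786231504, nat_lit 0x867150423,
  nat_lit 0x687240513, nat_lit 0x687231504, nat_lit 0x678150423, nat_lit 0x768150423,
  nat_lit 0x786501234, nat_lit 0x867534201, nat_lit 0x687501234, nat_lit 0x678534201,
  nat_lit 0x768534201, nat_lit 0x786042315, nat_lit 0x786132405, nat_lit 0x867051324,
  nat_lit 0x687042315, nat_lit 0x687132405, nat_lit 0x678051324, nat_lit 0x768051324,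
  nat_lit 0x786015342, nat_lit 0x867345012, nat_lit 0x687015342, nat_lit 0x678345012,
  nat_lit 0x768345012, nat_lit 0x876204531, nat_lit 0x876213540, nat_lit 0x786105432,
  nat_lit 0x867435102, nat_lit 0x687105432, nat_lit 0x678435102, nat_lit 0x768435102,
  nat_lit 0x876123450, nat_lit 0x876024351, nat_lit 0x876312045, nat_lit 0x876402135,
  nat_lit 0x786420153, nat_lit 0x786321054, nat_lit 0x867510243, nat_lit 0x687420153,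
  nat_lit 0x687321054, nat_lit 0x678510243, nat_lit 0x768510243, nat_lit 0x876240513,
  nat_lit 0x876231504, nat_lit 0x786150423, nat_lit 0x867453120, nat_lit 0x687150423,
  nat_lit 0x678453120, nat_lit 0x768453120, nat_lit 0x876501234, nat_lit 0x786534201,
  nat_lit 0x687534201, nat_lit 0x876042315, nat_lit 0x876132405, nat_lit 0x786051324,
  nat_lit 0x867354021, nat_lit 0x687051324, nat_lit 0x678354021, nat_lit 0x768354021,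
  nat_lit 0x876015342, nat_lit 0x786345012, nat_lit 0x687345012, nat_lit 0x876105432,
  nat_lit 0x786435102, nat_lit 0x687435102, nat_lit 0x876420153, nat_lit 0x876321054,
  nat_lit 0x786510243, nat_lit 0x867543210, nat_lit 0x687510243, nat_lit 0x678543210,
  nat_lit 0x768543210, nat_lit 0x876150423, nat_lit 0x786453120, nat_lit 0x687453120,
  nat_lit 0x876534201, nat_lit 0x876051324, nat_lit 0x786354021, nat_lit 0x687354021,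
  nat_lit 0x876345012, nat_lit 0x876435102, nat_lit 0x876510243, nat_lit 0x786543210,
  nat_lit 0x687543210, nat_lit 0x876453120, nat_lit 0x876354021, nat_lit 0x876543210]
/-- A group of order 144. -/
def K : Subgroup (Perm (Fin 9)) := cl 9 gK
theorem hK : Lists K LK :=
  lists_cl (by norm_num) _ _ (by decide +kernel) (by decide +kernel) (by decide +kernel)
    (by decide +kernel) (by decide +kernel) (by decide +kernel)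
theorem card_K : Nat.card K = 144 := hK.card_eq.trans (by decide +kernel)
def LA : List ℕ := [
  nat_lit 0x876354021, nat_lit 0x687543210, nat_lit 0x876435102, nat_lit 0x687354021,
  nat_lit 0x876051324, nat_lit 0x768543210, nat_lit 0x876321054, nat_lit 0x687435102,
  nat_lit 0x876105432, nat_lit 0x768354021, nat_lit 0x687051324, nat_lit 0x876132405,
  nat_lit 0x687321054, nat_lit 0x876402135, nat_lit 0x876024351, nat_lit 0x768435102,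
  nat_lit 0x687105432, nat_lit 0x768051324, nat_lit 0x687132405, nat_lit 0x768321054,
  nat_lit 0x687402135, nat_lit 0x687024351, nat_lit 0x768105432, nat_lit 0x768132405,
  nat_lit 0x768402135, nat_lit 0x768024351]
def LB : List ℕ := [
  nat_lit 0x876354021, nat_lit 0x687543210, nat_lit 0x876435102, nat_lit 0x687354021,
  nat_lit 0x876051324, nat_lit 0x768543210, nat_lit 0x876321054, nat_lit 0x687435102,
  nat_lit 0x876105432, nat_lit 0x768354021, nat_lit 0x687051324, nat_lit 0x876132405,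
  nat_lit 0x687321054, nat_lit 0x876402135, nat_lit 0x876024351, nat_lit 0x768435102,
  nat_lit 0x687105432, nat_lit 0x768051324, nat_lit 0x687132405, nat_lit 0x768321054,
  nat_lit 0x687402135, nat_lit 0x687024351, nat_lit 0x768105432, nat_lit 0x768132405,
  nat_lit 0x768402135, nat_lit 0x768024351]
def reps : List ℕ := [
  nat_lit 0x876354021, nat_lit 0x687543210, nat_lit 0x687354021, nat_lit 0x786354021,
  nat_lit 0x687453120, nat_lit 0x687510243, nat_lit 0x687231504, nat_lit 0x876543210]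
def pws : List ℕ := [1, 1, 1, 2, 2, 2, 4]
def ods : List ℕ := [3, 3, 3, 6, 6, 6, 12]
def cn : List ℕ := [18, 72, 9, 6, 12, 24, 12]
def cent : List ℤ := [18, 72, 9, 6, 12, 24, 12]
def S1 : Sub where
  gM := [nat_lit 0x876354021, nat_lit 0x786543210]
  LM := [
    nat_lit 0x786435102, nat_lit 0x786354021, nat_lit 0x876435102, nat_lit 0x786543210,
    nat_lit 0x876354021, nat_lit 0x876543210]
  T := [
    (nat_lit 0x786435102, 3, nat_lit 0x876453120), (nat_lit 0x786354021, 3, nat_lit 0x876543210),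
    (nat_lit 0x876435102, 0, nat_lit 0x876453120), (nat_lit 0x786543210, 0, nat_lit 0x876543210),
    (nat_lit 0x876354021, 0, nat_lit 0x876543210), (nat_lit 0x876543210, 0, nat_lit 0x876543210)]
  E := 12
  F := [([],
    [(nat_lit 0x786435102, 8), (nat_lit 0x786354021, 4), (nat_lit 0x876435102, 8),
    (nat_lit 0x876354021, 4)],
    [36, 0, 0, 36, 0, 0, 0], [0, 0, 0, 0, 0, 0, 0]),
    ([(nat_lit 0x786435102, 6), (nat_lit 0x786354021, 6), (nat_lit 0x786543210, 6)],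
    [(nat_lit 0x786435102, 2), (nat_lit 0x786354021, 10), (nat_lit 0x876435102, 8),
    (nat_lit 0x786543210, 6), (nat_lit 0x876354021, 4)],
    [36, 0, 0, -36, 0, 0, 0], [0, 0, 0, 0, 0, 0, 0])]
set_option maxHeartbeats 0 in
theorem hS1 : S1.ok 9 LK reps 7 72 = true := by decide +kernel
def S2 : Sub where
  gM := [nat_lit 0x687543210, nat_lit 0x876453120]
  LM := [
    nat_lit 0x768453120, nat_lit 0x687453120, nat_lit 0x768543210, nat_lit 0x876453120,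
    nat_lit 0x687543210, nat_lit 0x876543210]
  T := [
    (nat_lit 0x768453120, 4, nat_lit 0x786543210), (nat_lit 0x687453120, 4, nat_lit 0x876543210),
    (nat_lit 0x768543210, 1, nat_lit 0x786543210), (nat_lit 0x876453120, 0, nat_lit 0x876543210),
    (nat_lit 0x687543210, 1, nat_lit 0x876543210), (nat_lit 0x876543210, 0, nat_lit 0x876543210)]
  E := 12
  F := [([],
    [(nat_lit 0x768453120, 8), (nat_lit 0x687453120, 4), (nat_lit 0x768543210, 8),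
    (nat_lit 0x687543210, 4)],
    [0, 36, 0, 0, 36, 0, 0], [0, 0, 0, 0, 0, 0, 0])]
set_option maxHeartbeats 0 in
theorem hS2 : S2.ok 9 LK reps 7 72 = true := by decide +kernel
def S0 : Sub where
  gM := [nat_lit 0x876354021, nat_lit 0x687543210]
  LM := [
    nat_lit 0x768435102, nat_lit 0x768354021, nat_lit 0x687435102, nat_lit 0x768543210,
    nat_lit 0x687354021, nat_lit 0x876435102, nat_lit 0x687543210, nat_lit 0x876354021,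
    nat_lit 0x876543210]
  T := [
    (nat_lit 0x768435102, 2, nat_lit 0x786453120), (nat_lit 0x768354021, 2, nat_lit 0x786543210),
    (nat_lit 0x687435102, 2, nat_lit 0x876453120), (nat_lit 0x768543210, 1, nat_lit 0x786543210),
    (nat_lit 0x687354021, 2, nat_lit 0x876543210), (nat_lit 0x876435102, 0, nat_lit 0x876453120),
    (nat_lit 0x687543210, 1, nat_lit 0x876543210), (nat_lit 0x876354021, 0, nat_lit 0x876543210),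
    (nat_lit 0x876543210, 0, nat_lit 0x876543210)]
  E := 8
  F := [([(nat_lit 0x768435102, 8), (nat_lit 0x768354021, 8), (nat_lit 0x687435102, 4),
    (nat_lit 0x768543210, 8), (nat_lit 0x687354021, 4), (nat_lit 0x687543210, 4)],
    [(nat_lit 0x768435102, 4), (nat_lit 0x768543210, 8), (nat_lit 0x687354021, 8),
    (nat_lit 0x876435102, 8), (nat_lit 0x687543210, 4), (nat_lit 0x876354021, 4)],
    [24, 0, -24, 0, 0, 0, 0], [0, 0, 0, 0, 0, 0, 0]),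
    ([(nat_lit 0x768435102, 8), (nat_lit 0x768354021, 4), (nat_lit 0x687435102, 8),
    (nat_lit 0x687354021, 4), (nat_lit 0x876435102, 8), (nat_lit 0x876354021, 4)],
    [(nat_lit 0x768435102, 4), (nat_lit 0x768543210, 8), (nat_lit 0x687354021, 8),
    (nat_lit 0x876435102, 8), (nat_lit 0x687543210, 4), (nat_lit 0x876354021, 4)],
    [0, 24, -24, 0, 0, 0, 0], [0, 0, 0, 0, 0, 0, 0])]
set_option maxHeartbeats 0 in
theorem hS0 : S0.ok 9 LK reps 7 72 = true := by decide +kernel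
def S3 : Sub where
  gM := [nat_lit 0x687543210, nat_lit 0x876231504]
  LM := [
    nat_lit 0x768204531, nat_lit 0x687204531, nat_lit 0x768510243, nat_lit 0x876204531,
    nat_lit 0x687510243, nat_lit 0x768231504, nat_lit 0x876510243, nat_lit 0x687231504,
    nat_lit 0x768543210, nat_lit 0x876231504, nat_lit 0x687543210, nat_lit 0x876543210]
  T := [
    (nat_lit 0x768204531, 6, nat_lit 0x786534201), (nat_lit 0x687204531, 6, nat_lit 0x876534201),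
    (nat_lit 0x768510243, 5, nat_lit 0x786543210), (nat_lit 0x876204531, 0, nat_lit 0x876543210),
    (nat_lit 0x687510243, 5, nat_lit 0x876543210), (nat_lit 0x768231504, 6, nat_lit 0x786543210),
    (nat_lit 0x876510243, 0, nat_lit 0x876543210), (nat_lit 0x687231504, 6, nat_lit 0x876543210),
    (nat_lit 0x768543210, 1, nat_lit 0x786543210), (nat_lit 0x876231504, 0, nat_lit 0x876543210),
    (nat_lit 0x687543210, 1, nat_lit 0x876543210), (nat_lit 0x876543210, 0, nat_lit 0x876543210)]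
  E := 6
  F := [([(nat_lit 0x768204531, 9), (nat_lit 0x687204531, 9), (nat_lit 0x768510243, 6),
    (nat_lit 0x876204531, 9), (nat_lit 0x687510243, 6), (nat_lit 0x768231504, 3),
    (nat_lit 0x876510243, 6), (nat_lit 0x687231504, 3), (nat_lit 0x876231504, 3)],
    [(nat_lit 0x768204531, 5), (nat_lit 0x687204531, 1), (nat_lit 0x768510243, 2),
    (nat_lit 0x876204531, 9), (nat_lit 0x687510243, 10), (nat_lit 0x768231504, 11),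
    (nat_lit 0x876510243, 6), (nat_lit 0x687231504, 7), (nat_lit 0x768543210, 8),
    (nat_lit 0x876231504, 3), (nat_lit 0x687543210, 4)],
    [0, 18, 0, 0, 0, -18, 0], [0, 0, 0, 0, 0, 0, 0])]
set_option maxHeartbeats 0 in
theorem hS3 : S3.ok 9 LK reps 7 72 = true := by decide +kernel
def S4 : Sub where
  gM := [nat_lit 0x687543210, nat_lit 0x876231504, nat_lit 0x876534201]
  LM := [
    nat_lit 0x768501234, nat_lit 0x768204531, nat_lit 0x687501234, nat_lit 0x687204531,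
    nat_lit 0x768213540, nat_lit 0x768240513, nat_lit 0x768510243, nat_lit 0x876501234,
    nat_lit 0x876204531, nat_lit 0x687213540, nat_lit 0x687240513, nat_lit 0x687510243,
    nat_lit 0x768534201, nat_lit 0x768231504, nat_lit 0x876213540, nat_lit 0x876240513,
    nat_lit 0x876510243, nat_lit 0x687534201, nat_lit 0x687231504, nat_lit 0x768543210,
    nat_lit 0x876534201, nat_lit 0x876231504, nat_lit 0x687543210, nat_lit 0x876543210]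
  T := [
    (nat_lit 0x768501234, 4, nat_lit 0x786024351), (nat_lit 0x768204531, 6, nat_lit 0x786534201),
    (nat_lit 0x687501234, 4, nat_lit 0x876024351), (nat_lit 0x687204531, 6, nat_lit 0x876534201),
    (nat_lit 0x768213540, 5, nat_lit 0x786435102), (nat_lit 0x768240513, 5, nat_lit 0x786453120),
    (nat_lit 0x768510243, 5, nat_lit 0x786543210), (nat_lit 0x876501234, 0, nat_lit 0x876543210),
    (nat_lit 0x876204531, 0, nat_lit 0x876543210), (nat_lit 0x687213540, 5, nat_lit 0x876435102),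
    (nat_lit 0x687240513, 5, nat_lit 0x876453120), (nat_lit 0x687510243, 5, nat_lit 0x876543210),
    (nat_lit 0x768534201, 4, nat_lit 0x786354021), (nat_lit 0x768231504, 6, nat_lit 0x786543210),
    (nat_lit 0x876213540, 0, nat_lit 0x876543210), (nat_lit 0x876240513, 0, nat_lit 0x876543210),
    (nat_lit 0x876510243, 0, nat_lit 0x876543210), (nat_lit 0x687534201, 4, nat_lit 0x876354021),
    (nat_lit 0x687231504, 6, nat_lit 0x876543210), (nat_lit 0x768543210, 1, nat_lit 0x786543210),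
    (nat_lit 0x876534201, 0, nat_lit 0x876543210), (nat_lit 0x876231504, 0, nat_lit 0x876543210),
    (nat_lit 0x687543210, 1, nat_lit 0x876543210), (nat_lit 0x876543210, 0, nat_lit 0x876543210)]
  E := 3
  F := [([(nat_lit 0x768501234, 6), (nat_lit 0x687501234, 6), (nat_lit 0x768213540, 6),
    (nat_lit 0x768240513, 6), (nat_lit 0x876501234, 6), (nat_lit 0x687213540, 6),
    (nat_lit 0x687240513, 6), (nat_lit 0x768534201, 6), (nat_lit 0x876213540, 6),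
    (nat_lit 0x876240513, 6), (nat_lit 0x687534201, 6), (nat_lit 0x876534201, 6)],
    [(nat_lit 0x768501234, 2), (nat_lit 0x768204531, 8), (nat_lit 0x687501234, 10),
    (nat_lit 0x687204531, 4), (nat_lit 0x768213540, 2), (nat_lit 0x768240513, 2),
    (nat_lit 0x768510243, 8), (nat_lit 0x876501234, 6), (nat_lit 0x687213540, 10),
    (nat_lit 0x687240513, 10), (nat_lit 0x687510243, 4), (nat_lit 0x768534201, 2),
    (nat_lit 0x768231504, 8), (nat_lit 0x876213540, 6), (nat_lit 0x876240513, 6),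
    (nat_lit 0x687534201, 10), (nat_lit 0x687231504, 4), (nat_lit 0x768543210, 8),
    (nat_lit 0x876534201, 6), (nat_lit 0x687543210, 4)],
    [0, 9, 0, 0, -18, -9, 18], [0, 0, 0, 0, 0, 0, 0])]
set_option maxHeartbeats 0 in
theorem hS4 : S4.ok 9 LK reps 7 72 = true := by decide +kernel
def P : List (List ℤ) := [[12, 0, 24, 36, 0, 0, 0],
  [0, 3, 24, 0, 18, 9, 18],
  [0, -6, 24, 0, 0, -18, 0],
  [24, 0, -24, 0, 0, 0, 0],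
  [12, 0, 24, -36, 0, 0, 0],
  [0, 9, 0, 0, -18, -9, 18],
  [0, -9, 0, 0, -18, 9, 18]]
def Q : List (List ℤ) := [[0, 0, 0, 0, 0, 0, 0],
  [0, 0, 0, 0, 0, 0, 0],
  [0, 0, 0, 0, 0, 0, 0],
  [0, 0, 0, 0, 0, 0, 0],
  [0, 0, 0, 0, 0, 0, 0],
  [0, 0, 0, 0, 0, 0, 0],
  [0, 0, 0, 0, 0, 0, 0]]
def R : List (List ℤ) := [[2, 0, 1, 0, 0, 0, 0],
  [0, 2, 0, -1, 1, 0, 0],
  [1, 0, 3, -1, 1, 0, 0],
  [0, -1, -1, 3, 0, 0, 0],
  [0, 1, 1, 0, 3, 0, 0],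
  [0, 0, 0, 0, 0, 3, 0],
  [0, 0, 0, 0, 0, 0, 3]]
def C : List (List ℤ) := [[1, 0, 0, -1, 0, 0, 0],
  [0, 0, 1, 0, -1, -1, 1],
  [0, 0, 0, 0, -1, 1, 0],
  [0, 0, 0, 1, 0, 0, 0],
  [0, 1, 0, -1, 0, 0, 0],
  [0, 0, 0, 0, 0, 0, 1],
  [0, 0, 0, 0, 0, -1, 1]]
def t : List ℤ := [1, 1, 0, 0, 0, 0, 0]
def A1 : List (List ℤ) := [[5, -3, -3, -2, 2, 0, 0],
  [-3, 6, 3, 3, -3, 0, 0],
  [-3, 3, 6, 3, -3, 0, 0],
  [-2, 3, 3, 5, -2, 0, 0],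
  [2, -3, -3, -2, 5, 0, 0],
  [0, 0, 0, 0, 0, 3, 0],
  [0, 0, 0, 0, 0, 0, 3]]
def Y : List (List ℤ) := [[1],
  [0, 1],
  [-1, 0, 2],
  [-2, 5, 4, 10],
  [2, -5, -4, -3, 7],
  [0, 0, 0, 0, 0, 1],
  [0, 0, 0, 0, 0, 0, 1]]
def W : List ℤ := [210, 210, 42, 2, 5, 140, 140]
def V : List (List ℤ) := [[1, 0, 1, -1, 0, 0, 0],
  [1, 0, 1, 0, 1, 0, 0],
  [1, 0, 1, 0, 0, 1, 0],
  [1, 0, 1, 0, 0, -1, 0],
  [1, 0, 1, 0, 0, 0, 1],
  [1, 0, 1, 0, 0, 0, -1],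
  [1, 0, 1, 0, 0, 0, 0],
  [1, 0, 0, 1, 0, 0, 0],
  [1, 0, 0, 0, -1, 0, 0],
  [1, 0, 0, 0, 0, 1, 0],
  [1, 0, 0, 0, 0, -1, 0],
  [1, 0, 0, 0, 0, 0, 1],
  [1, 0, 0, 0, 0, 0, -1],
  [1, 0, 0, 0, 0, 0, 0],
  [0, 1, 1, -1, 1, 0, 0],
  [0, 1, -1, 0, 0, 0, 0],
  [0, 1, 0, -1, 1, 0, 0],
  [0, 1, 0, -1, 0, 1, 0],
  [0, 1, 0, -1, 0, -1, 0],
  [0, 1, 0, -1, 0, 0, 1],
  [0, 1, 0, -1, 0, 0, -1],
  [0, 1, 0, -1, 0, 0, 0],
  [0, 1, 0, 0, 1, 1, 0],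
  [0, 1, 0, 0, 1, -1, 0],
  [0, 1, 0, 0, 1, 0, 1],
  [0, 1, 0, 0, 1, 0, -1],
  [0, 1, 0, 0, 1, 0, 0],
  [0, 1, 0, 0, 0, 0, 0],
  [0, 0, 1, -1, 1, 0, 0],
  [0, 0, 1, -1, 0, 1, 0],
  [0, 0, 1, -1, 0, -1, 0],
  [0, 0, 1, -1, 0, 0, 1],
  [0, 0, 1, -1, 0, 0, -1],
  [0, 0, 1, -1, 0, 0, 0],
  [0, 0, 1, 0, 1, 1, 0],
  [0, 0, 1, 0, 1, -1, 0],
  [0, 0, 1, 0, 1, 0, 1],
  [0, 0, 1, 0, 1, 0, -1],
  [0, 0, 1, 0, 1, 0, 0],
  [0, 0, 1, 0, 0, 0, 0],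
  [0, 0, 0, 1, 1, 0, 0],
  [0, 0, 0, 1, 0, 1, 0],
  [0, 0, 0, 1, 0, -1, 0],
  [0, 0, 0, 1, 0, 0, 1],
  [0, 0, 0, 1, 0, 0, -1],
  [0, 0, 0, 1, 0, 0, 0],
  [0, 0, 0, 0, 1, 1, 0],
  [0, 0, 0, 0, 1, -1, 0],
  [0, 0, 0, 0, 1, 0, 1],
  [0, 0, 0, 0, 1, 0, -1],
  [0, 0, 0, 0, 1, 0, 0],
  [0, 0, 0, 0, 0, 1, 1],
  [0, 0, 0, 0, 0, 1, -1],
  [0, 0, 0, 0, 0, 1, 0],
  [0, 0, 0, 0, 0, 0, 1]]
def sols : List (List (List ℤ)) := [[[1, 0, 1, -1, 0, 0, 0],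
  [1, 0, 0, 1, 0, 0, 0],
  [0, 1, 0, -1, 0, 0, 0],
  [0, 1, 0, 0, 1, 0, 0],
  [0, 0, 1, 0, 1, 0, 0],
  [0, 0, 1, 0, 0, 0, 0],
  [0, 0, 0, 0, 1, 0, 0],
  [0, 0, 0, 0, 0, 1, 1],
  [0, 0, 0, 0, 0, 1, -1],
  [0, 0, 0, 0, 0, 1, 0],
  [0, 0, 0, 0, 0, 0, 1]],
  [[1, 0, 1, -1, 0, 0, 0],
  [1, 0, 0, 1, 0, 0, 0],
  [0, 1, 0, -1, 0, 0, 0],
  [0, 1, 0, 0, 1, 0, 0],
  [0, 0, 1, 0, 1, 0, 0],
  [0, 0, 1, 0, 0, 0, 0],
  [0, 0, 0, 0, 1, 0, 0],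
  [0, 0, 0, 0, 0, 1, 0],
  [0, 0, 0, 0, 0, 1, 0],
  [0, 0, 0, 0, 0, 1, 0],
  [0, 0, 0, 0, 0, 0, 1],
  [0, 0, 0, 0, 0, 0, 1],
  [0, 0, 0, 0, 0, 0, 1]],
  [[1, 0, 1, 0, 1, 0, 0],
  [1, 0, 0, 0, -1, 0, 0],
  [0, 1, 0, -1, 0, 0, 0],
  [0, 1, 0, 0, 1, 0, 0],
  [0, 0, 1, -1, 0, 0, 0],
  [0, 0, 1, 0, 0, 0, 0],
  [0, 0, 0, 1, 0, 0, 0],
  [0, 0, 0, 0, 0, 1, 1],
  [0, 0, 0, 0, 0, 1, -1],
  [0, 0, 0, 0, 0, 1, 0],
  [0, 0, 0, 0, 0, 0, 1]],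
  [[1, 0, 1, 0, 1, 0, 0],
  [1, 0, 0, 0, -1, 0, 0],
  [0, 1, 0, -1, 0, 0, 0],
  [0, 1, 0, 0, 1, 0, 0],
  [0, 0, 1, -1, 0, 0, 0],
  [0, 0, 1, 0, 0, 0, 0],
  [0, 0, 0, 1, 0, 0, 0],
  [0, 0, 0, 0, 0, 1, 0],
  [0, 0, 0, 0, 0, 1, 0],
  [0, 0, 0, 0, 0, 1, 0],
  [0, 0, 0, 0, 0, 0, 1],
  [0, 0, 0, 0, 0, 0, 1],
  [0, 0, 0, 0, 0, 0, 1]],
  [[1, 0, 1, 0, 0, 0, 0],
  [1, 0, 0, 0, 0, 0, 0],
  [0, 1, 1, -1, 1, 0, 0],
  [0, 1, -1, 0, 0, 0, 0],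
  [0, 0, 0, 1, 1, 0, 0],
  [0, 0, 0, 1, 0, 0, 0],
  [0, 0, 0, 0, 1, 0, 0],
  [0, 0, 0, 0, 0, 1, 1],
  [0, 0, 0, 0, 0, 1, -1],
  [0, 0, 0, 0, 0, 1, 0],
  [0, 0, 0, 0, 0, 0, 1]],
  [[1, 0, 1, 0, 0, 0, 0],
  [1, 0, 0, 0, 0, 0, 0],
  [0, 1, 1, -1, 1, 0, 0],
  [0, 1, -1, 0, 0, 0, 0],
  [0, 0, 0, 1, 1, 0, 0],
  [0, 0, 0, 1, 0, 0, 0],
  [0, 0, 0, 0, 1, 0, 0],
  [0, 0, 0, 0, 0, 1, 0],
  [0, 0, 0, 0, 0, 1, 0],
  [0, 0, 0, 0, 0, 1, 0],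
  [0, 0, 0, 0, 0, 0, 1],
  [0, 0, 0, 0, 0, 0, 1],
  [0, 0, 0, 0, 0, 0, 1]],
  [[1, 0, 1, 0, 0, 0, 0],
  [1, 0, 0, 0, 0, 0, 0],
  [0, 1, 0, -1, 1, 0, 0],
  [0, 1, 0, 0, 0, 0, 0],
  [0, 0, 1, -1, 0, 0, 0],
  [0, 0, 1, 0, 1, 0, 0],
  [0, 0, 0, 1, 1, 0, 0],
  [0, 0, 0, 0, 0, 1, 1],
  [0, 0, 0, 0, 0, 1, -1],
  [0, 0, 0, 0, 0, 1, 0],
  [0, 0, 0, 0, 0, 0, 1]],
  [[1, 0, 1, 0, 0, 0, 0],
  [1, 0, 0, 0, 0, 0, 0],
  [0, 1, 0, -1, 1, 0, 0],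
  [0, 1, 0, 0, 0, 0, 0],
  [0, 0, 1, -1, 0, 0, 0],
  [0, 0, 1, 0, 1, 0, 0],
  [0, 0, 0, 1, 1, 0, 0],
  [0, 0, 0, 0, 0, 1, 0],
  [0, 0, 0, 0, 0, 1, 0],
  [0, 0, 0, 0, 0, 1, 0],
  [0, 0, 0, 0, 0, 0, 1],
  [0, 0, 0, 0, 0, 0, 1],
  [0, 0, 0, 0, 0, 0, 1]],
  [[1, 0, 1, 0, 0, 0, 0],
  [1, 0, 0, 0, 0, 0, 0],
  [0, 1, 0, -1, 0, 0, 0],
  [0, 1, 0, 0, 1, 0, 0],
  [0, 0, 1, -1, 1, 0, 0],
  [0, 0, 1, 0, 0, 0, 0],
  [0, 0, 0, 1, 1, 0, 0],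
  [0, 0, 0, 0, 0, 1, 1],
  [0, 0, 0, 0, 0, 1, -1],
  [0, 0, 0, 0, 0, 1, 0],
  [0, 0, 0, 0, 0, 0, 1]],
  [[1, 0, 1, 0, 0, 0, 0],
  [1, 0, 0, 0, 0, 0, 0],
  [0, 1, 0, -1, 0, 0, 0],
  [0, 1, 0, 0, 1, 0, 0],
  [0, 0, 1, -1, 1, 0, 0],
  [0, 0, 1, 0, 0, 0, 0],
  [0, 0, 0, 1, 1, 0, 0],
  [0, 0, 0, 0, 0, 1, 0],
  [0, 0, 0, 0, 0, 1, 0],
  [0, 0, 0, 0, 0, 1, 0],
  [0, 0, 0, 0, 0, 0, 1],
  [0, 0, 0, 0, 0, 0, 1],
  [0, 0, 0, 0, 0, 0, 1]],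
  [[1, 0, 1, 0, 0, 0, 0],
  [1, 0, 0, 0, 0, 0, 0],
  [0, 1, 0, -1, 0, 0, 0],
  [0, 1, 0, 0, 1, 0, 0],
  [0, 0, 1, -1, 0, 0, 0],
  [0, 0, 1, 0, 1, 0, 0],
  [0, 0, 0, 1, 0, 0, 0],
  [0, 0, 0, 0, 1, 0, 0],
  [0, 0, 0, 0, 0, 1, 1],
  [0, 0, 0, 0, 0, 1, -1],
  [0, 0, 0, 0, 0, 1, 0],
  [0, 0, 0, 0, 0, 0, 1]],
  [[1, 0, 1, 0, 0, 0, 0],
  [1, 0, 0, 0, 0, 0, 0],
  [0, 1, 0, -1, 0, 0, 0],
  [0, 1, 0, 0, 1, 0, 0],
  [0, 0, 1, -1, 0, 0, 0],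
  [0, 0, 1, 0, 1, 0, 0],
  [0, 0, 0, 1, 0, 0, 0],
  [0, 0, 0, 0, 1, 0, 0],
  [0, 0, 0, 0, 0, 1, 0],
  [0, 0, 0, 0, 0, 1, 0],
  [0, 0, 0, 0, 0, 1, 0],
  [0, 0, 0, 0, 0, 0, 1],
  [0, 0, 0, 0, 0, 0, 1],
  [0, 0, 0, 0, 0, 0, 1]]]
def l : List (List (ℤ × ℤ)) := [[(1, 0), (0, 0), (0, 0), (2, 0), (1, 0), (0, 0), (0, 0)],
  [(1, 0), (0, 0), (-3, 0), (-1, 0), (1, 0), (3, 0), (-3, 0)],
  [(1, 0), (0, 0), (0, 0), (-1, 0), (1, 0), (0, 0), (0, 0)],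
  [(1, 0), (0, 0), (0, 0), (0, 0), (-1, 0), (0, 0), (0, 0)],
  [(-1, 0), (2, 0), (1, 0), (1, 0), (-1, 0), (-1, 0), (-1, 0)],
  [(1, 0), (0, 0), (-3, 0), (-1, 0), (1, 0), (-1, 0), (1, 0)],
  [(-1, 0), (2, 0), (1, 0), (1, 0), (-1, 0), (1, 0), (1, 0)]]
def Us : List (List ℕ) := [[nat_lit 0x876354021, nat_lit 0x876435102, nat_lit 0x876024351, nat_lit 0x876132405,
    nat_lit 0x876051324, nat_lit 0x876105432, nat_lit 0x876402135, nat_lit 0x876321054],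
  [nat_lit 0x687543210, nat_lit 0x768543210],
  [nat_lit 0x687354021, nat_lit 0x687435102, nat_lit 0x768354021, nat_lit 0x687024351,
    nat_lit 0x768435102, nat_lit 0x687132405, nat_lit 0x768024351, nat_lit 0x687051324,
    nat_lit 0x687105432, nat_lit 0x768132405, nat_lit 0x687402135, nat_lit 0x687321054,
    nat_lit 0x768051324, nat_lit 0x768105432, nat_lit 0x768402135, nat_lit 0x768321054],
  [],
  [],
  [],
  []]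
def tr : List (ℕ × ℕ × ℕ × ℕ) := [(0, 0, 1, 0), (0, 0, 2, 0), (1, 2, 0, 2), (1, 2, 1, 0), (2, 2, 0, 8), (2, 2, 1, 8)]
def gJ : List ℕ := [nat_lit 0x876354021, nat_lit 0x687543210]
def LJ : List ℕ := [
  nat_lit 0x768435102, nat_lit 0x768354021, nat_lit 0x687435102, nat_lit 0x768543210,
  nat_lit 0x687354021, nat_lit 0x876435102, nat_lit 0x687543210, nat_lit 0x876354021,
  nat_lit 0x876543210]
def TJ : List (ℕ × ℕ × ℕ) := [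
  (nat_lit 0x768435102, 2, nat_lit 0x786453120), (nat_lit 0x768354021, 2, nat_lit 0x786543210),
  (nat_lit 0x687435102, 2, nat_lit 0x876453120), (nat_lit 0x768543210, 1, nat_lit 0x786543210),
  (nat_lit 0x687354021, 2, nat_lit 0x876543210), (nat_lit 0x876435102, 0, nat_lit 0x876453120),
  (nat_lit 0x687543210, 1, nat_lit 0x876543210), (nat_lit 0x876354021, 0, nat_lit 0x876543210),
  (nat_lit 0x876543210, 7, nat_lit 0x876543210)]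
def mJ : List ℤ := [2, 2, 4, 0, 0, 0, 0, 1]

set_option maxHeartbeats 0 in
theorem out {G : Type*} [Group G] [Finite G] {ι : K →* G} (H : Hyp LA LB ι) :
    ∃ w ∈ sols, ∃ d, Out (Nat.card G) 9 7 7 t l mJ cn tr w d :=
  H.main hK reps 7 (by decide +kernel) pws ods cn (by decide +kernel) cent (by decide +kernel)
    (by decide +kernel) 72 (by norm_num) [S1, S2, S0, S3, S4] (by simp [hS1, hS2, hS0, hS3, hS4]) P Q R C t (by decide +kernel)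
    (by decide +kernel) (by decide +kernel) A1 Y W 420 V sols 71 (by decide +kernel)
    (by decide +kernel) (by decide +kernel) l (by decide +kernel) Us [0, 1, 2] [0, 1, 2] tr (by decide +kernel)
    gJ LJ TJ mJ 9 (by decide +kernel)

set_option maxHeartbeats 0 in
theorem arith (n : ℕ) (hn : 0 < n) (hq : 9 ∣ n - 1) (w : List (List ℤ)) (hw : w ∈ sols) (d : List ℤ)
    (h : Out (144 * n) 9 7 7 t l mJ cn tr w d) : n = 1 := by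
  obtain ⟨h1, h2, h3, h4⟩ := h
  simp only [sols, List.mem_cons, List.not_mem_nil, or_false] at hw
  rcases hw with rfl | rfl | rfl | rfl | rfl | rfl | rfl | rfl | rfl | rfl | rfl | rfl
  · simp only [List.forall₂_cons_left_iff, List.forall₂_nil_left_iff] at h1
    obtain ⟨d1, _, ⟨n1, c1⟩, ⟨d2, _, ⟨n2, c2⟩, ⟨d3, _, ⟨n3, c3⟩, ⟨d4, _, ⟨n4, c4⟩, ⟨d5, _, ⟨n5, c5⟩, ⟨d6, _,
      ⟨n6, c6⟩, ⟨d7, _, ⟨n7, c7⟩, ⟨d8, _, ⟨n8, c8⟩, ⟨d9, _, ⟨n9, c9⟩, ⟨d10, _, ⟨n10, c10⟩, ⟨d11, _,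
      ⟨n11, c11⟩, rfl, rfl⟩, rfl⟩, rfl⟩, rfl⟩, rfl⟩, rfl⟩, rfl⟩, rfl⟩, rfl⟩, rfl⟩, rfl⟩ := h1
    have h := h4 [(2, 0), (0, 0), (0, 0), (-1, 0), (2, 0), (-3, 0)]
      [0, 0, 0, 0, 0, 0, 0, 0, 0, 0, 0] (0) (-648) (by decide +kernel)
    simp only [List.zipWith_cons_cons, List.zipWith_nil_right, List.map_cons, List.map_nil, List.sum_cons,
      List.sum_nil] at h h2
    have e : ((144 * n : ℕ) : ℚ) * (0 : ℤ) = (-648 : ℤ) := by rw [← h]; push_cast; ring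
    have e' : ((144 * n : ℕ) : ℤ) * (0) = -648 := by exact_mod_cast e
    clear * - e' hn hq
    omega
  · simp only [List.forall₂_cons_left_iff, List.forall₂_nil_left_iff] at h1
    obtain ⟨d1, _, ⟨n1, c1⟩, ⟨d2, _, ⟨n2, c2⟩, ⟨d3, _, ⟨n3, c3⟩, ⟨d4, _, ⟨n4, c4⟩, ⟨d5, _, ⟨n5, c5⟩, ⟨d6, _,
      ⟨n6, c6⟩, ⟨d7, _, ⟨n7, c7⟩, ⟨d8, _, ⟨n8, c8⟩, ⟨d9, _, ⟨n9, c9⟩, ⟨d10, _, ⟨n10, c10⟩, ⟨d11, _,
      ⟨n11, c11⟩, ⟨d12, _, ⟨n12, c12⟩, ⟨d13, _, ⟨n13, c13⟩, rfl, rfl⟩, rfl⟩, rfl⟩, rfl⟩, rfl⟩, rfl⟩,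
      rfl⟩, rfl⟩, rfl⟩, rfl⟩, rfl⟩, rfl⟩, rfl⟩ := h1
    have h := h4 [(2, 0), (0, 0), (0, 0), (-1, 0), (2, 0), (-3, 0)]
      [0, 0, 0, 0, 0, 0, 0, 0, 0, 0, 0, 0, 0] (0) (-648) (by decide +kernel)
    simp only [List.zipWith_cons_cons, List.zipWith_nil_right, List.map_cons, List.map_nil, List.sum_cons,
      List.sum_nil] at h h2
    have e : ((144 * n : ℕ) : ℚ) * (0 : ℤ) = (-648 : ℤ) := by rw [← h]; push_cast; ring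
    have e' : ((144 * n : ℕ) : ℤ) * (0) = -648 := by exact_mod_cast e
    clear * - e' hn hq
    omega
  · simp only [List.forall₂_cons_left_iff, List.forall₂_nil_left_iff] at h1
    obtain ⟨d1, _, ⟨n1, c1⟩, ⟨d2, _, ⟨n2, c2⟩, ⟨d3, _, ⟨n3, c3⟩, ⟨d4, _, ⟨n4, c4⟩, ⟨d5, _, ⟨n5, c5⟩, ⟨d6, _,
      ⟨n6, c6⟩, ⟨d7, _, ⟨n7, c7⟩, ⟨d8, _, ⟨n8, c8⟩, ⟨d9, _, ⟨n9, c9⟩, ⟨d10, _, ⟨n10, c10⟩, ⟨d11, _,
      ⟨n11, c11⟩, rfl, rfl⟩, rfl⟩, rfl⟩, rfl⟩, rfl⟩, rfl⟩, rfl⟩, rfl⟩, rfl⟩, rfl⟩, rfl⟩ := h1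
    have h := h4 [(0, 0), (1, 0), (1, 0), (-2, 0), (0, 0), (0, 0)]
      [0, 0, 0, 0, 0, 0, 0, 0, 0, 0, 0] (0) (1296) (by decide +kernel)
    simp only [List.zipWith_cons_cons, List.zipWith_nil_right, List.map_cons, List.map_nil, List.sum_cons,
      List.sum_nil] at h h2
    have e : ((144 * n : ℕ) : ℚ) * (0 : ℤ) = (1296 : ℤ) := by rw [← h]; push_cast; ring
    have e' : ((144 * n : ℕ) : ℤ) * (0) = 1296 := by exact_mod_cast e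
    clear * - e' hn hq
    omega
  · simp only [List.forall₂_cons_left_iff, List.forall₂_nil_left_iff] at h1
    obtain ⟨d1, _, ⟨n1, c1⟩, ⟨d2, _, ⟨n2, c2⟩, ⟨d3, _, ⟨n3, c3⟩, ⟨d4, _, ⟨n4, c4⟩, ⟨d5, _, ⟨n5, c5⟩, ⟨d6, _,
      ⟨n6, c6⟩, ⟨d7, _, ⟨n7, c7⟩, ⟨d8, _, ⟨n8, c8⟩, ⟨d9, _, ⟨n9, c9⟩, ⟨d10, _, ⟨n10, c10⟩, ⟨d11, _,
      ⟨n11, c11⟩, ⟨d12, _, ⟨n12, c12⟩, ⟨d13, _, ⟨n13, c13⟩, rfl, rfl⟩, rfl⟩, rfl⟩, rfl⟩, rfl⟩, rfl⟩,
      rfl⟩, rfl⟩, rfl⟩, rfl⟩, rfl⟩, rfl⟩, rfl⟩ := h1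
    have h := h4 [(0, 0), (1, 0), (1, 0), (-2, 0), (0, 0), (0, 0)]
      [0, 0, 0, 0, 0, 0, 0, 0, 0, 0, 0, 0, 0] (0) (1296) (by decide +kernel)
    simp only [List.zipWith_cons_cons, List.zipWith_nil_right, List.map_cons, List.map_nil, List.sum_cons,
      List.sum_nil] at h h2
    have e : ((144 * n : ℕ) : ℚ) * (0 : ℤ) = (1296 : ℤ) := by rw [← h]; push_cast; ring
    have e' : ((144 * n : ℕ) : ℤ) * (0) = 1296 := by exact_mod_cast e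
    clear * - e' hn hq
    omega
  · simp only [List.forall₂_cons_left_iff, List.forall₂_nil_left_iff] at h1
    obtain ⟨d1, _, ⟨n1, c1⟩, ⟨d2, _, ⟨n2, c2⟩, ⟨d3, _, ⟨n3, c3⟩, ⟨d4, _, ⟨n4, c4⟩, ⟨d5, _, ⟨n5, c5⟩, ⟨d6, _,
      ⟨n6, c6⟩, ⟨d7, _, ⟨n7, c7⟩, ⟨d8, _, ⟨n8, c8⟩, ⟨d9, _, ⟨n9, c9⟩, ⟨d10, _, ⟨n10, c10⟩, ⟨d11, _,
      ⟨n11, c11⟩, rfl, rfl⟩, rfl⟩, rfl⟩, rfl⟩, rfl⟩, rfl⟩, rfl⟩, rfl⟩, rfl⟩, rfl⟩, rfl⟩ := h1
    have h := h4 [(2, 0), (0, 0), (0, 0), (-1, 0), (2, 0), (-3, 0)]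
      [0, 0, 0, 0, 0, 0, 0, 0, 0, 0, 0] (0) (-648) (by decide +kernel)
    simp only [List.zipWith_cons_cons, List.zipWith_nil_right, List.map_cons, List.map_nil, List.sum_cons,
      List.sum_nil] at h h2
    have e : ((144 * n : ℕ) : ℚ) * (0 : ℤ) = (-648 : ℤ) := by rw [← h]; push_cast; ring
    have e' : ((144 * n : ℕ) : ℤ) * (0) = -648 := by exact_mod_cast e
    clear * - e' hn hq
    omega
  · simp only [List.forall₂_cons_left_iff, List.forall₂_nil_left_iff] at h1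
    obtain ⟨d1, _, ⟨n1, c1⟩, ⟨d2, _, ⟨n2, c2⟩, ⟨d3, _, ⟨n3, c3⟩, ⟨d4, _, ⟨n4, c4⟩, ⟨d5, _, ⟨n5, c5⟩, ⟨d6, _,
      ⟨n6, c6⟩, ⟨d7, _, ⟨n7, c7⟩, ⟨d8, _, ⟨n8, c8⟩, ⟨d9, _, ⟨n9, c9⟩, ⟨d10, _, ⟨n10, c10⟩, ⟨d11, _,
      ⟨n11, c11⟩, ⟨d12, _, ⟨n12, c12⟩, ⟨d13, _, ⟨n13, c13⟩, rfl, rfl⟩, rfl⟩, rfl⟩, rfl⟩, rfl⟩, rfl⟩,
      rfl⟩, rfl⟩, rfl⟩, rfl⟩, rfl⟩, rfl⟩, rfl⟩ := h1
    have h := h4 [(2, 0), (0, 0), (0, 0), (-1, 0), (2, 0), (-3, 0)]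
      [0, 0, 0, 0, 0, 0, 0, 0, 0, 0, 0, 0, 0] (0) (-648) (by decide +kernel)
    simp only [List.zipWith_cons_cons, List.zipWith_nil_right, List.map_cons, List.map_nil, List.sum_cons,
      List.sum_nil] at h h2
    have e : ((144 * n : ℕ) : ℚ) * (0 : ℤ) = (-648 : ℤ) := by rw [← h]; push_cast; ring
    have e' : ((144 * n : ℕ) : ℤ) * (0) = -648 := by exact_mod_cast e
    clear * - e' hn hq
    omega
  · simp only [List.forall₂_cons_left_iff, List.forall₂_nil_left_iff] at h1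
    obtain ⟨d1, _, ⟨n1, c1⟩, ⟨d2, _, ⟨n2, c2⟩, ⟨d3, _, ⟨n3, c3⟩, ⟨d4, _, ⟨n4, c4⟩, ⟨d5, _, ⟨n5, c5⟩, ⟨d6, _,
      ⟨n6, c6⟩, ⟨d7, _, ⟨n7, c7⟩, ⟨d8, _, ⟨n8, c8⟩, ⟨d9, _, ⟨n9, c9⟩, ⟨d10, _, ⟨n10, c10⟩, ⟨d11, _,
      ⟨n11, c11⟩, rfl, rfl⟩, rfl⟩, rfl⟩, rfl⟩, rfl⟩, rfl⟩, rfl⟩, rfl⟩, rfl⟩, rfl⟩, rfl⟩ := h1
    have h := h4 [(0, 0), (2, 0), (-1, 0), (-1, 0), (0, 0), (0, 0)]
      [0, 0, 0, 0, 0, 0, 0, 0, 0, 0, 0] (0) (-1296) (by decide +kernel)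
    simp only [List.zipWith_cons_cons, List.zipWith_nil_right, List.map_cons, List.map_nil, List.sum_cons,
      List.sum_nil] at h h2
    have e : ((144 * n : ℕ) : ℚ) * (0 : ℤ) = (-1296 : ℤ) := by rw [← h]; push_cast; ring
    have e' : ((144 * n : ℕ) : ℤ) * (0) = -1296 := by exact_mod_cast e
    clear * - e' hn hq
    omega
  · simp only [List.forall₂_cons_left_iff, List.forall₂_nil_left_iff] at h1
    obtain ⟨d1, _, ⟨n1, c1⟩, ⟨d2, _, ⟨n2, c2⟩, ⟨d3, _, ⟨n3, c3⟩, ⟨d4, _, ⟨n4, c4⟩, ⟨d5, _, ⟨n5, c5⟩, ⟨d6, _,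
      ⟨n6, c6⟩, ⟨d7, _, ⟨n7, c7⟩, ⟨d8, _, ⟨n8, c8⟩, ⟨d9, _, ⟨n9, c9⟩, ⟨d10, _, ⟨n10, c10⟩, ⟨d11, _,
      ⟨n11, c11⟩, ⟨d12, _, ⟨n12, c12⟩, ⟨d13, _, ⟨n13, c13⟩, rfl, rfl⟩, rfl⟩, rfl⟩, rfl⟩, rfl⟩, rfl⟩,
      rfl⟩, rfl⟩, rfl⟩, rfl⟩, rfl⟩, rfl⟩, rfl⟩ := h1
    have h := h4 [(0, 0), (2, 0), (-1, 0), (-1, 0), (0, 0), (0, 0)]
      [0, 0, 0, 0, 0, 0, 0, 0, 0, 0, 0, 0, 0] (0) (-1296) (by decide +kernel)
    simp only [List.zipWith_cons_cons, List.zipWith_nil_right, List.map_cons, List.map_nil, List.sum_cons,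
      List.sum_nil] at h h2
    have e : ((144 * n : ℕ) : ℚ) * (0 : ℤ) = (-1296 : ℤ) := by rw [← h]; push_cast; ring
    have e' : ((144 * n : ℕ) : ℤ) * (0) = -1296 := by exact_mod_cast e
    clear * - e' hn hq
    omega
  · simp only [List.forall₂_cons_left_iff, List.forall₂_nil_left_iff] at h1
    obtain ⟨d1, _, ⟨n1, c1⟩, ⟨d2, _, ⟨n2, c2⟩, ⟨d3, _, ⟨n3, c3⟩, ⟨d4, _, ⟨n4, c4⟩, ⟨d5, _, ⟨n5, c5⟩, ⟨d6, _,
      ⟨n6, c6⟩, ⟨d7, _, ⟨n7, c7⟩, ⟨d8, _, ⟨n8, c8⟩, ⟨d9, _, ⟨n9, c9⟩, ⟨d10, _, ⟨n10, c10⟩, ⟨d11, _,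
      ⟨n11, c11⟩, rfl, rfl⟩, rfl⟩, rfl⟩, rfl⟩, rfl⟩, rfl⟩, rfl⟩, rfl⟩, rfl⟩, rfl⟩, rfl⟩ := h1
    have h := h4 [(2, 0), (0, 0), (0, 0), (-1, 0), (2, 0), (-3, 0)]
      [0, 0, 0, 0, 0, 0, 0, 0, 0, 0, 0] (0) (-648) (by decide +kernel)
    simp only [List.zipWith_cons_cons, List.zipWith_nil_right, List.map_cons, List.map_nil, List.sum_cons,
      List.sum_nil] at h h2
    have e : ((144 * n : ℕ) : ℚ) * (0 : ℤ) = (-648 : ℤ) := by rw [← h]; push_cast; ring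
    have e' : ((144 * n : ℕ) : ℤ) * (0) = -648 := by exact_mod_cast e
    clear * - e' hn hq
    omega
  · simp only [List.forall₂_cons_left_iff, List.forall₂_nil_left_iff] at h1
    obtain ⟨d1, _, ⟨n1, c1⟩, ⟨d2, _, ⟨n2, c2⟩, ⟨d3, _, ⟨n3, c3⟩, ⟨d4, _, ⟨n4, c4⟩, ⟨d5, _, ⟨n5, c5⟩, ⟨d6, _,
      ⟨n6, c6⟩, ⟨d7, _, ⟨n7, c7⟩, ⟨d8, _, ⟨n8, c8⟩, ⟨d9, _, ⟨n9, c9⟩, ⟨d10, _, ⟨n10, c10⟩, ⟨d11, _,
      ⟨n11, c11⟩, ⟨d12, _, ⟨n12, c12⟩, ⟨d13, _, ⟨n13, c13⟩, rfl, rfl⟩, rfl⟩, rfl⟩, rfl⟩, rfl⟩, rfl⟩,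
      rfl⟩, rfl⟩, rfl⟩, rfl⟩, rfl⟩, rfl⟩, rfl⟩ := h1
    have h := h4 [(2, 0), (0, 0), (0, 0), (-1, 0), (2, 0), (-3, 0)]
      [0, 0, 0, 0, 0, 0, 0, 0, 0, 0, 0, 0, 0] (0) (-648) (by decide +kernel)
    simp only [List.zipWith_cons_cons, List.zipWith_nil_right, List.map_cons, List.map_nil, List.sum_cons,
      List.sum_nil] at h h2
    have e : ((144 * n : ℕ) : ℚ) * (0 : ℤ) = (-648 : ℤ) := by rw [← h]; push_cast; ring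
    have e' : ((144 * n : ℕ) : ℤ) * (0) = -648 := by exact_mod_cast e
    clear * - e' hn hq
    omega
  · simp only [List.forall₂_cons_left_iff, List.forall₂_nil_left_iff] at h1
    obtain ⟨d1, _, ⟨n1, c1⟩, ⟨d2, _, ⟨n2, c2⟩, ⟨d3, _, ⟨n3, c3⟩, ⟨d4, _, ⟨n4, c4⟩, ⟨d5, _, ⟨n5, c5⟩, ⟨d6, _,
      ⟨n6, c6⟩, ⟨d7, _, ⟨n7, c7⟩, ⟨d8, _, ⟨n8, c8⟩, ⟨d9, _, ⟨n9, c9⟩, ⟨d10, _, ⟨n10, c10⟩, ⟨d11, _,
      ⟨n11, c11⟩, ⟨d12, _, ⟨n12, c12⟩, rfl, rfl⟩, rfl⟩, rfl⟩, rfl⟩, rfl⟩, rfl⟩, rfl⟩, rfl⟩, rfl⟩, rfl⟩,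
      rfl⟩, rfl⟩ := h1
    have h := h4 [(2, 0), (0, 0), (0, 0), (-1, 0), (2, 0), (-3, 0)]
      [0, 0, 0, 0, -18, 0, 0, 0, 0, 0, 0, 0] (0) (-648) (by decide +kernel)
    simp only [List.zipWith_cons_cons, List.zipWith_nil_right, List.map_cons, List.map_nil, List.sum_cons,
      List.sum_nil] at h h2
    have e := ybound (g := 144 * n) (a := -18) (C := -648) n5 (by rw [← h]; push_cast; ring)
      (by linarith [sq_nonneg d1, sq_nonneg d2, sq_nonneg d3, sq_nonneg d4, sq_nonneg d5, sq_nonneg d6,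
        sq_nonneg d7, sq_nonneg d8, sq_nonneg d9, sq_nonneg d10, sq_nonneg d11, sq_nonneg d12])
    norm_num at e
    clear * - e hn hq
    omega
  · simp only [List.forall₂_cons_left_iff, List.forall₂_nil_left_iff] at h1
    obtain ⟨d1, _, ⟨n1, c1⟩, ⟨d2, _, ⟨n2, c2⟩, ⟨d3, _, ⟨n3, c3⟩, ⟨d4, _, ⟨n4, c4⟩, ⟨d5, _, ⟨n5, c5⟩, ⟨d6, _,
      ⟨n6, c6⟩, ⟨d7, _, ⟨n7, c7⟩, ⟨d8, _, ⟨n8, c8⟩, ⟨d9, _, ⟨n9, c9⟩, ⟨d10, _, ⟨n10, c10⟩, ⟨d11, _,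
      ⟨n11, c11⟩, ⟨d12, _, ⟨n12, c12⟩, ⟨d13, _, ⟨n13, c13⟩, ⟨d14, _, ⟨n14, c14⟩, rfl, rfl⟩, rfl⟩, rfl⟩,
      rfl⟩, rfl⟩, rfl⟩, rfl⟩, rfl⟩, rfl⟩, rfl⟩, rfl⟩, rfl⟩, rfl⟩, rfl⟩ := h1
    have h := h4 [(2, 0), (0, 0), (0, 0), (-1, 0), (2, 0), (-3, 0)]
      [0, 0, 0, 0, -18, 0, 0, 0, 0, 0, 0, 0, 0, 0] (0) (-648) (by decide +kernel)
    simp only [List.zipWith_cons_cons, List.zipWith_nil_right, List.map_cons, List.map_nil, List.sum_cons,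
      List.sum_nil] at h h2
    have e := ybound (g := 144 * n) (a := -18) (C := -648) n5 (by rw [← h]; push_cast; ring)
      (by linarith [sq_nonneg d1, sq_nonneg d2, sq_nonneg d3, sq_nonneg d4, sq_nonneg d5, sq_nonneg d6,
        sq_nonneg d7, sq_nonneg d8, sq_nonneg d9, sq_nonneg d10, sq_nonneg d11, sq_nonneg d12,
        sq_nonneg d13, sq_nonneg d14])
    norm_num at e
    clear * - e hn hq
    omega

theorem top {G : Type*} [Group G] [Finite G] {ι : K →* G} (H : Hyp LA LB ι) : ι.range = ⊤ := by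
  obtain ⟨w, hw, d, h⟩ := out H
  obtain ⟨h1, h2⟩ := H.card hK
  rw [h1, show LK.length = 144 by decide +kernel] at h
  exact Subgroup.index_eq_one.mp (arith _ h2 (by
    simpa only [show LJ.length = 9 from rfl] using H.cong hK gJ LJ (by decide +kernel)) w hw d h)

end Cfsg.Agent.H1.V4d
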