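import Cfsg.Agent.H1.S9Def
import Cfsg.Agent.H1.V4c
import Cfsg.Agent.H1.V4d

/-!
# More subgroups of `S_9`
-/

set_option autoImplicit false
set_option maxRecDepth 100000
set_option synthInstance.maxSize 100000
set_option synthInstance.maxHeartbeats 1000000
set_option linter.unusedSimpArgs false

namespace Cfsg.Agent.H1.S9

open Cfsg.Agent.L0 Cfsg.Agent.L0.Code Equiv Cfsg.Agent.H1.PC

open Cfsg.Agent.H1.A9K (h9 J0 hJ0 S0 hS0)
open Cfsg.Agent.S3702 (K hK)

/-- `(0 1)` -/
noncomputable def s0 : Perm (Fin 9) := dec 9 0x876543201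
theorem enc_s0 : enc s0 = nat_lit 0x876543201 := enc_dec h9 (by decide +kernel)

/-- `(2 3)` -/
noncomputable def s2 : Perm (Fin 9) := dec 9 0x876542310
theorem enc_s2 : enc s2 = nat_lit 0x876542310 := enc_dec h9 (by decide +kernel)

/-- `(3 4)` -/
noncomputable def s3 : Perm (Fin 9) := dec 9 0x876534210
theorem enc_s3 : enc s3 = nat_lit 0x876534210 := enc_dec h9 (by decide +kernel)

/-- `(4 5)` -/
noncomputable def t2 : Perm (Fin 9) := dec 9 0x876453210
theorem enc_t2 : enc t2 = nat_lit 0x876453210 := enc_dec h9 (by decide +kernel)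

/-- `(0 3)(1 4)(2 5)(7 8)` -/
noncomputable def tp : Perm (Fin 9) := dec 9 0x786210543
theorem enc_tp : enc tp = nat_lit 0x786210543 := enc_dec h9 (by decide +kernel)

/-- `(1 2)(7 8)` -/
noncomputable def wp : Perm (Fin 9) := dec 9 0x786543120
theorem enc_wp : enc wp = nat_lit 0x786543120 := enc_dec h9 (by decide +kernel)

/-- `(0 3)(1 5 2 4)` -/
noncomputable def r4 : Perm (Fin 9) := dec 9 0x876210453
theorem enc_r4 : enc r4 = nat_lit 0x876210453 := enc_dec h9 (by decide +kernel)

/-- `(0 3)` -/
noncomputable def a1 : Perm (Fin 9) := dec 9 0x876540213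
theorem enc_a1 : enc a1 = nat_lit 0x876540213 := enc_dec h9 (by decide +kernel)

/-- `(1 4)` -/
noncomputable def a2 : Perm (Fin 9) := dec 9 0x876513240
theorem enc_a2 : enc a2 = nat_lit 0x876513240 := enc_dec h9 (by decide +kernel)

/-- `(2 5)` -/
noncomputable def a3 : Perm (Fin 9) := dec 9 0x876243510
theorem enc_a3 : enc a3 = nat_lit 0x876243510 := enc_dec h9 (by decide +kernel)

/-- `(0 1)(3 4)` -/
noncomputable def sw : Perm (Fin 9) := dec 9 0x876534201
theorem enc_sw : enc sw = nat_lit 0x876534201 := enc_dec h9 (by decide +kernel)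

/-- `(0 3)(1 4)(7 8)` -/
noncomputable def zp : Perm (Fin 9) := dec 9 0x786510243
theorem enc_zp : enc zp = nat_lit 0x786510243 := enc_dec h9 (by decide +kernel)

/-- `(0 1 4 5 3 2)` -/
noncomputable def pz : Perm (Fin 9) := dec 9 0x876352041
theorem enc_pz : enc pz = nat_lit 0x876352041 := enc_dec h9 (by decide +kernel)

/-- Generators (0 1), (1 2), (2 3), (3 4), (4 5). -/
def gW6 : List ℕ := [nat_lit 0x876543201, nat_lit 0x876543120, nat_lit 0x876542310, nat_lit 0x876534210, nat_lit 0x876453210]
def LW6 : List ℕ := [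
  nat_lit 0x876012345, nat_lit 0x876012354, nat_lit 0x876012435, nat_lit 0x876013245,
  nat_lit 0x876021345, nat_lit 0x876102345, nat_lit 0x876012453, nat_lit 0x876013254,
  nat_lit 0x876021354, nat_lit 0x876102354, nat_lit 0x876012534, nat_lit 0x876013425,
  nat_lit 0x876021435, nat_lit 0x876102435, nat_lit 0x876014235, nat_lit 0x876023145,
  nat_lit 0x876103245, nat_lit 0x876031245, nat_lit 0x876120345, nat_lit 0x876201345,
  nat_lit 0x876012543, nat_lit 0x876013452, nat_lit 0x876021453, nat_lit 0x876102453,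
  nat_lit 0x876014253, nat_lit 0x876023154, nat_lit 0x876103254, nat_lit 0x876031254,
  nat_lit 0x876120354, nat_lit 0x876201354, nat_lit 0x876013524, nat_lit 0x876021534,
  nat_lit 0x876102534, nat_lit 0x876014325, nat_lit 0x876023415, nat_lit 0x876103425,
  nat_lit 0x876031425, nat_lit 0x876120435, nat_lit 0x876201435, nat_lit 0x876015234,
  nat_lit 0x876024135, nat_lit 0x876104235, nat_lit 0x876032145, nat_lit 0x876123045,
  nat_lit 0x876203145, nat_lit 0x876041235, nat_lit 0x876130245, nat_lit 0x876210345,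
  nat_lit 0x876301245, nat_lit 0x876013542, nat_lit 0x876021543, nat_lit 0x876102543,
  nat_lit 0x876014352, nat_lit 0x876023451, nat_lit 0x876103452, nat_lit 0x876031452,
  nat_lit 0x876120453, nat_lit 0x876201453, nat_lit 0x876015243, nat_lit 0x876024153,
  nat_lit 0x876104253, nat_lit 0x876032154, nat_lit 0x876123054, nat_lit 0x876203154,
  nat_lit 0x876041253, nat_lit 0x876130254, nat_lit 0x876210354, nat_lit 0x876301254,
  nat_lit 0x876014523, nat_lit 0x876023514, nat_lit 0x876103524, nat_lit 0x876031524,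
  nat_lit 0x876120534, nat_lit 0x876201534, nat_lit 0x876015324, nat_lit 0x876024315,
  nat_lit 0x876104325, nat_lit 0x876032415, nat_lit 0x876123405, nat_lit 0x876203415,
  nat_lit 0x876041325, nat_lit 0x876130425, nat_lit 0x876210435, nat_lit 0x876301425,
  nat_lit 0x876025134, nat_lit 0x876105234, nat_lit 0x876034125, nat_lit 0x876124035,
  nat_lit 0x876204135, nat_lit 0x876042135, nat_lit 0x876132045, nat_lit 0x876213045,
  nat_lit 0x876302145, nat_lit 0x876051234, nat_lit 0x876140235, nat_lit 0x876230145,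
  nat_lit 0x876310245, nat_lit 0x876401235, nat_lit 0x876014532, nat_lit 0x876023541,
  nat_lit 0x876103542, nat_lit 0x876031542, nat_lit 0x876120543, nat_lit 0x876201543,
  nat_lit 0x876015342, nat_lit 0x876024351, nat_lit 0x876104352, nat_lit 0x876032451,
  nat_lit 0x876123450, nat_lit 0x876203451, nat_lit 0x876041352, nat_lit 0x876130452,
  nat_lit 0x876210453, nat_lit 0x876301452, nat_lit 0x876025143, nat_lit 0x876105243,
  nat_lit 0x876034152, nat_lit 0x876124053, nat_lit 0x876204153, nat_lit 0x876042153,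
  nat_lit 0x876132054, nat_lit 0x876213054, nat_lit 0x876302154, nat_lit 0x876051243,
  nat_lit 0x876140253, nat_lit 0x876230154, nat_lit 0x876310254, nat_lit 0x876401253,
  nat_lit 0x876015423, nat_lit 0x876024513, nat_lit 0x876104523, nat_lit 0x876032514,
  nat_lit 0x876123504, nat_lit 0x876203514, nat_lit 0x876041523, nat_lit 0x876130524,
  nat_lit 0x876210534, nat_lit 0x876301524, nat_lit 0x876025314, nat_lit 0x876105324,
  nat_lit 0x876034215, nat_lit 0x876124305, nat_lit 0x876204315, nat_lit 0x876042315,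
  nat_lit 0x876132405, nat_lit 0x876213405, nat_lit 0x876302415, nat_lit 0x876051324,
  nat_lit 0x876140325, nat_lit 0x876230415, nat_lit 0x876310425, nat_lit 0x876401325,
  nat_lit 0x876035124, nat_lit 0x876125034, nat_lit 0x876205134, nat_lit 0x876043125,
  nat_lit 0x876134025, nat_lit 0x876214035, nat_lit 0x876304125, nat_lit 0x876052134,
  nat_lit 0x876142035, nat_lit 0x876231045, nat_lit 0x876312045, nat_lit 0x876402135,
  nat_lit 0x876150234, nat_lit 0x876240135, nat_lit 0x876320145, nat_lit 0x876410235,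
  nat_lit 0x876501234, nat_lit 0x876015432, nat_lit 0x876024531, nat_lit 0x876104532,
  nat_lit 0x876032541, nat_lit 0x876123540, nat_lit 0x876203541, nat_lit 0x876041532,
  nat_lit 0x876130542, nat_lit 0x876210543, nat_lit 0x876301542, nat_lit 0x876025341,
  nat_lit 0x876105342, nat_lit 0x876034251, nat_lit 0x876124350, nat_lit 0x876204351,
  nat_lit 0x876042351, nat_lit 0x876132450, nat_lit 0x876213450, nat_lit 0x876302451,
  nat_lit 0x876051342, nat_lit 0x876140352, nat_lit 0x876230451, nat_lit 0x876310452,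
  nat_lit 0x876401352, nat_lit 0x876035142, nat_lit 0x876125043, nat_lit 0x876205143,
  nat_lit 0x876043152, nat_lit 0x876134052, nat_lit 0x876214053, nat_lit 0x876304152,
  nat_lit 0x876052143, nat_lit 0x876142053, nat_lit 0x876231054, nat_lit 0x876312054,
  nat_lit 0x876402153, nat_lit 0x876150243, nat_lit 0x876240153, nat_lit 0x876320154,
  nat_lit 0x876410253, nat_lit 0x876501243, nat_lit 0x876025413, nat_lit 0x876105423,
  nat_lit 0x876034512, nat_lit 0x876124503, nat_lit 0x876204513, nat_lit 0x876042513,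
  nat_lit 0x876132504, nat_lit 0x876213504, nat_lit 0x876302514, nat_lit 0x876051423,
  nat_lit 0x876140523, nat_lit 0x876230514, nat_lit 0x876310524, nat_lit 0x876401523,
  nat_lit 0x876035214, nat_lit 0x876125304, nat_lit 0x876205314, nat_lit 0x876043215,
  nat_lit 0x876134205, nat_lit 0x876214305, nat_lit 0x876304215, nat_lit 0x876052314,
  nat_lit 0x876142305, nat_lit 0x876231405, nat_lit 0x876312405, nat_lit 0x876402315,
  nat_lit 0x876150324, nat_lit 0x876240315, nat_lit 0x876320415, nat_lit 0x876410325,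
  nat_lit 0x876501324, nat_lit 0x876045123, nat_lit 0x876135024, nat_lit 0x876215034,
  nat_lit 0x876305124, nat_lit 0x876053124, nat_lit 0x876143025, nat_lit 0x876234015,
  nat_lit 0x876314025, nat_lit 0x876403125, nat_lit 0x876152034, nat_lit 0x876241035,
  nat_lit 0x876321045, nat_lit 0x876412035, nat_lit 0x876502134, nat_lit 0x876250134,
  nat_lit 0x876340125, nat_lit 0x876420135, nat_lit 0x876510234, nat_lit 0x876025431,
  nat_lit 0x876105432, nat_lit 0x876034521, nat_lit 0x876124530, nat_lit 0x876204531,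
  nat_lit 0x876042531, nat_lit 0x876132540, nat_lit 0x876213540, nat_lit 0x876302541,
  nat_lit 0x876051432, nat_lit 0x876140532, nat_lit 0x876230541, nat_lit 0x876310542,
  nat_lit 0x876401532, nat_lit 0x876035241, nat_lit 0x876125340, nat_lit 0x876205341,
  nat_lit 0x876043251, nat_lit 0x876134250, nat_lit 0x876214350, nat_lit 0x876304251,
  nat_lit 0x876052341, nat_lit 0x876142350, nat_lit 0x876231450, nat_lit 0x876312450,
  nat_lit 0x876402351, nat_lit 0x876150342, nat_lit 0x876240351, nat_lit 0x876320451,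
  nat_lit 0x876410352, nat_lit 0x876501342, nat_lit 0x876045132, nat_lit 0x876135042,
  nat_lit 0x876215043, nat_lit 0x876305142, nat_lit 0x876053142, nat_lit 0x876143052,
  nat_lit 0x876234051, nat_lit 0x876314052, nat_lit 0x876403152, nat_lit 0x876152043,
  nat_lit 0x876241053, nat_lit 0x876321054, nat_lit 0x876412053, nat_lit 0x876502143,
  nat_lit 0x876250143, nat_lit 0x876340152, nat_lit 0x876420153, nat_lit 0x876510243,
  nat_lit 0x876035412, nat_lit 0x876125403, nat_lit 0x876205413, nat_lit 0x876043512,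
  nat_lit 0x876134502, nat_lit 0x876214503, nat_lit 0x876304512, nat_lit 0x876052413,
  nat_lit 0x876142503, nat_lit 0x876231504, nat_lit 0x876312504, nat_lit 0x876402513,
  nat_lit 0x876150423, nat_lit 0x876240513, nat_lit 0x876320514, nat_lit 0x876410523,
  nat_lit 0x876501423, nat_lit 0x876045213, nat_lit 0x876135204, nat_lit 0x876215304,
  nat_lit 0x876305214, nat_lit 0x876053214, nat_lit 0x876143205, nat_lit 0x876234105,
  nat_lit 0x876314205, nat_lit 0x876403215, nat_lit 0x876152304, nat_lit 0x876241305,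
  nat_lit 0x876321405, nat_lit 0x876412305, nat_lit 0x876502314, nat_lit 0x876250314,
  nat_lit 0x876340215, nat_lit 0x876420315, nat_lit 0x876510324, nat_lit 0x876054123,
  nat_lit 0x876145023, nat_lit 0x876235014, nat_lit 0x876315024, nat_lit 0x876405123,
  nat_lit 0x876153024, nat_lit 0x876243015, nat_lit 0x876324015, nat_lit 0x876413025,
  nat_lit 0x876503124, nat_lit 0x876251034, nat_lit 0x876341025, nat_lit 0x876421035,
  nat_lit 0x876512034, nat_lit 0x876350124, nat_lit 0x876430125, nat_lit 0x876520134,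
  nat_lit 0x876035421, nat_lit 0x876125430, nat_lit 0x876205431, nat_lit 0x876043521,
  nat_lit 0x876134520, nat_lit 0x876214530, nat_lit 0x876304521, nat_lit 0x876052431,
  nat_lit 0x876142530, nat_lit 0x876231540, nat_lit 0x876312540, nat_lit 0x876402531,
  nat_lit 0x876150432, nat_lit 0x876240531, nat_lit 0x876320541, nat_lit 0x876410532,
  nat_lit 0x876501432, nat_lit 0x876045231, nat_lit 0x876135240, nat_lit 0x876215340,
  nat_lit 0x876305241, nat_lit 0x876053241, nat_lit 0x876143250, nat_lit 0x876234150,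
  nat_lit 0x876314250, nat_lit 0x876403251, nat_lit 0x876152340, nat_lit 0x876241350,
  nat_lit 0x876321450, nat_lit 0x876412350, nat_lit 0x876502341, nat_lit 0x876250341,
  nat_lit 0x876340251, nat_lit 0x876420351, nat_lit 0x876510342, nat_lit 0x876054132,
  nat_lit 0x876145032, nat_lit 0x876235041, nat_lit 0x876315042, nat_lit 0x876405132,
  nat_lit 0x876153042, nat_lit 0x876243051, nat_lit 0x876324051, nat_lit 0x876413052,
  nat_lit 0x876503142, nat_lit 0x876251043, nat_lit 0x876341052, nat_lit 0x876421053,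
  nat_lit 0x876512043, nat_lit 0x876350142, nat_lit 0x876430152, nat_lit 0x876520143,
  nat_lit 0x876045312, nat_lit 0x876135402, nat_lit 0x876215403, nat_lit 0x876305412,
  nat_lit 0x876053412, nat_lit 0x876143502, nat_lit 0x876234501, nat_lit 0x876314502,
  nat_lit 0x876403512, nat_lit 0x876152403, nat_lit 0x876241503, nat_lit 0x876321504,
  nat_lit 0x876412503, nat_lit 0x876502413, nat_lit 0x876250413, nat_lit 0x876340512,
  nat_lit 0x876420513, nat_lit 0x876510423, nat_lit 0x876054213, nat_lit 0x876145203,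
  nat_lit 0x876235104, nat_lit 0x876315204, nat_lit 0x876405213, nat_lit 0x876153204,
  nat_lit 0x876243105, nat_lit 0x876324105, nat_lit 0x876413205, nat_lit 0x876503214,
  nat_lit 0x876251304, nat_lit 0x876341205, nat_lit 0x876421305, nat_lit 0x876512304,
  nat_lit 0x876350214, nat_lit 0x876430215, nat_lit 0x876520314, nat_lit 0x876154023,
  nat_lit 0x876245013, nat_lit 0x876325014, nat_lit 0x876415023, nat_lit 0x876504123,
  nat_lit 0x876253014, nat_lit 0x876342015, nat_lit 0x876423015, nat_lit 0x876513024,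
  nat_lit 0x876351024, nat_lit 0x876431025, nat_lit 0x876521034, nat_lit 0x876450123,
  nat_lit 0x876530124, nat_lit 0x876045321, nat_lit 0x876135420, nat_lit 0x876215430,
  nat_lit 0x876305421, nat_lit 0x876053421, nat_lit 0x876143520, nat_lit 0x876234510,
  nat_lit 0x876314520, nat_lit 0x876403521, nat_lit 0x876152430, nat_lit 0x876241530,
  nat_lit 0x876321540, nat_lit 0x876412530, nat_lit 0x876502431, nat_lit 0x876250431,
  nat_lit 0x876340521, nat_lit 0x876420531, nat_lit 0x876510432, nat_lit 0x876054231,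
  nat_lit 0x876145230, nat_lit 0x876235140, nat_lit 0x876315240, nat_lit 0x876405231,
  nat_lit 0x876153240, nat_lit 0x876243150, nat_lit 0x876324150, nat_lit 0x876413250,
  nat_lit 0x876503241, nat_lit 0x876251340, nat_lit 0x876341250, nat_lit 0x876421350,
  nat_lit 0x876512340, nat_lit 0x876350241, nat_lit 0x876430251, nat_lit 0x876520341,
  nat_lit 0x876154032, nat_lit 0x876245031, nat_lit 0x876325041, nat_lit 0x876415032,
  nat_lit 0x876504132, nat_lit 0x876253041, nat_lit 0x876342051, nat_lit 0x876423051,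
  nat_lit 0x876513042, nat_lit 0x876351042, nat_lit 0x876431052, nat_lit 0x876521043,
  nat_lit 0x876450132, nat_lit 0x876530142, nat_lit 0x876054312, nat_lit 0x876145302,
  nat_lit 0x876235401, nat_lit 0x876315402, nat_lit 0x876405312, nat_lit 0x876153402,
  nat_lit 0x876243501, nat_lit 0x876324501, nat_lit 0x876413502, nat_lit 0x876503412,
  nat_lit 0x876251403, nat_lit 0x876341502, nat_lit 0x876421503, nat_lit 0x876512403,
  nat_lit 0x876350412, nat_lit 0x876430512, nat_lit 0x876520413, nat_lit 0x876154203,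
  nat_lit 0x876245103, nat_lit 0x876325104, nat_lit 0x876415203, nat_lit 0x876504213,
  nat_lit 0x876253104, nat_lit 0x876342105, nat_lit 0x876423105, nat_lit 0x876513204,
  nat_lit 0x876351204, nat_lit 0x876431205, nat_lit 0x876521304, nat_lit 0x876450213,
  nat_lit 0x876530214, nat_lit 0x876254013, nat_lit 0x876345012, nat_lit 0x876425013,
  nat_lit 0x876514023, nat_lit 0x876352014, nat_lit 0x876432015, nat_lit 0x876523014,
  nat_lit 0x876451023, nat_lit 0x876531024, nat_lit 0x876540123, nat_lit 0x876054321,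
  nat_lit 0x876145320, nat_lit 0x876235410, nat_lit 0x876315420, nat_lit 0x876405321,
  nat_lit 0x876153420, nat_lit 0x876243510, nat_lit 0x876324510, nat_lit 0x876413520,
  nat_lit 0x876503421, nat_lit 0x876251430, nat_lit 0x876341520, nat_lit 0x876421530,
  nat_lit 0x876512430, nat_lit 0x876350421, nat_lit 0x876430521, nat_lit 0x876520431,
  nat_lit 0x876154230, nat_lit 0x876245130, nat_lit 0x876325140, nat_lit 0x876415230,
  nat_lit 0x876504231, nat_lit 0x876253140, nat_lit 0x876342150, nat_lit 0x876423150,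
  nat_lit 0x876513240, nat_lit 0x876351240, nat_lit 0x876431250, nat_lit 0x876521340,
  nat_lit 0x876450231, nat_lit 0x876530241, nat_lit 0x876254031, nat_lit 0x876345021,
  nat_lit 0x876425031, nat_lit 0x876514032, nat_lit 0x876352041, nat_lit 0x876432051,
  nat_lit 0x876523041, nat_lit 0x876451032, nat_lit 0x876531042, nat_lit 0x876540132,
  nat_lit 0x876154302, nat_lit 0x876245301, nat_lit 0x876325401, nat_lit 0x876415302,
  nat_lit 0x876504312, nat_lit 0x876253401, nat_lit 0x876342501, nat_lit 0x876423501,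
  nat_lit 0x876513402, nat_lit 0x876351402, nat_lit 0x876431502, nat_lit 0x876521403,
  nat_lit 0x876450312, nat_lit 0x876530412, nat_lit 0x876254103, nat_lit 0x876345102,
  nat_lit 0x876425103, nat_lit 0x876514203, nat_lit 0x876352104, nat_lit 0x876432105,
  nat_lit 0x876523104, nat_lit 0x876451203, nat_lit 0x876531204, nat_lit 0x876540213,
  nat_lit 0x876354012, nat_lit 0x876435012, nat_lit 0x876524013, nat_lit 0x876452013,
  nat_lit 0x876532014, nat_lit 0x876541023, nat_lit 0x876154320, nat_lit 0x876245310,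
  nat_lit 0x876325410, nat_lit 0x876415320, nat_lit 0x876504321, nat_lit 0x876253410,
  nat_lit 0x876342510, nat_lit 0x876423510, nat_lit 0x876513420, nat_lit 0x876351420,
  nat_lit 0x876431520, nat_lit 0x876521430, nat_lit 0x876450321, nat_lit 0x876530421,
  nat_lit 0x876254130, nat_lit 0x876345120, nat_lit 0x876425130, nat_lit 0x876514230,
  nat_lit 0x876352140, nat_lit 0x876432150, nat_lit 0x876523140, nat_lit 0x876451230,
  nat_lit 0x876531240, nat_lit 0x876540231, nat_lit 0x876354021, nat_lit 0x876435021,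
  nat_lit 0x876524031, nat_lit 0x876452031, nat_lit 0x876532041, nat_lit 0x876541032,
  nat_lit 0x876254301, nat_lit 0x876345201, nat_lit 0x876425301, nat_lit 0x876514302,
  nat_lit 0x876352401, nat_lit 0x876432501, nat_lit 0x876523401, nat_lit 0x876451302,
  nat_lit 0x876531402, nat_lit 0x876540312, nat_lit 0x876354102, nat_lit 0x876435102,
  nat_lit 0x876524103, nat_lit 0x876452103, nat_lit 0x876532104, nat_lit 0x876541203,
  nat_lit 0x876453012, nat_lit 0x876534012, nat_lit 0x876542013, nat_lit 0x876254310,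
  nat_lit 0x876345210, nat_lit 0x876425310, nat_lit 0x876514320, nat_lit 0x876352410,
  nat_lit 0x876432510, nat_lit 0x876523410, nat_lit 0x876451320, nat_lit 0x876531420,
  nat_lit 0x876540321, nat_lit 0x876354120, nat_lit 0x876435120, nat_lit 0x876524130,
  nat_lit 0x876452130, nat_lit 0x876532140, nat_lit 0x876541230, nat_lit 0x876453021,
  nat_lit 0x876534021, nat_lit 0x876542031, nat_lit 0x876354201, nat_lit 0x876435201,
  nat_lit 0x876524301, nat_lit 0x876452301, nat_lit 0x876532401, nat_lit 0x876541302,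
  nat_lit 0x876453102, nat_lit 0x876534102, nat_lit 0x876542103, nat_lit 0x876543012,
  nat_lit 0x876354210, nat_lit 0x876435210, nat_lit 0x876524310, nat_lit 0x876452310,
  nat_lit 0x876532410, nat_lit 0x876541320, nat_lit 0x876453120, nat_lit 0x876534120,
  nat_lit 0x876542130, nat_lit 0x876543021, nat_lit 0x876453201, nat_lit 0x876534201,
  nat_lit 0x876542301, nat_lit 0x876543102, nat_lit 0x876453210, nat_lit 0x876534210,
  nat_lit 0x876542310, nat_lit 0x876543120, nat_lit 0x876543201, nat_lit 0x876543210]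
/-- A group of order 720. -/
def W6 : Subgroup (Perm (Fin 9)) := cl 9 gW6
theorem hW6 : Lists W6 LW6 :=
  lists_cl (by norm_num) _ _ (by decide +kernel) (by decide +kernel) (by decide +kernel)
    (by decide +kernel) (by decide +kernel) (by decide +kernel)
theorem card_W6 : Nat.card W6 = 720 := hW6.card_eq.trans (by decide +kernel)

/-- Generators (0 1), (1 2), (3 4), (4 5), (0 3)(1 4)(2 5). -/
def gW72 : List ℕ := [nat_lit 0x876543201, nat_lit 0x876543120, nat_lit 0x876534210, nat_lit 0x876453210, nat_lit 0x876210543]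
def LW72 : List ℕ := [
  nat_lit 0x876012345, nat_lit 0x876012354, nat_lit 0x876012435, nat_lit 0x876021345,
  nat_lit 0x876102345, nat_lit 0x876345012, nat_lit 0x876012453, nat_lit 0x876021354,
  nat_lit 0x876102354, nat_lit 0x876345021, nat_lit 0x876012534, nat_lit 0x876021435,
  nat_lit 0x876102435, nat_lit 0x876345102, nat_lit 0x876120345, nat_lit 0x876354012,
  nat_lit 0x876201345, nat_lit 0x876435012, nat_lit 0x876012543, nat_lit 0x876021453,
  nat_lit 0x876102453, nat_lit 0x876345120, nat_lit 0x876120354, nat_lit 0x876354021,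
  nat_lit 0x876201354, nat_lit 0x876435021, nat_lit 0x876021534, nat_lit 0x876102534,
  nat_lit 0x876345201, nat_lit 0x876120435, nat_lit 0x876354102, nat_lit 0x876201435,
  nat_lit 0x876435102, nat_lit 0x876210345, nat_lit 0x876453012, nat_lit 0x876534012,
  nat_lit 0x876021543, nat_lit 0x876102543, nat_lit 0x876345210, nat_lit 0x876120453,
  nat_lit 0x876354120, nat_lit 0x876201453, nat_lit 0x876435120, nat_lit 0x876210354,
  nat_lit 0x876453021, nat_lit 0x876534021, nat_lit 0x876120534, nat_lit 0x876354201,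
  nat_lit 0x876201534, nat_lit 0x876435201, nat_lit 0x876210435, nat_lit 0x876453102,
  nat_lit 0x876534102, nat_lit 0x876543012, nat_lit 0x876120543, nat_lit 0x876354210,
  nat_lit 0x876201543, nat_lit 0x876435210, nat_lit 0x876210453, nat_lit 0x876453120,
  nat_lit 0x876534120, nat_lit 0x876543021, nat_lit 0x876210534, nat_lit 0x876453201,
  nat_lit 0x876534201, nat_lit 0x876543102, nat_lit 0x876210543, nat_lit 0x876453210,
  nat_lit 0x876534210, nat_lit 0x876543120, nat_lit 0x876543201, nat_lit 0x876543210]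
/-- A group of order 72. -/
def W72 : Subgroup (Perm (Fin 9)) := cl 9 gW72
theorem hW72 : Lists W72 LW72 :=
  lists_cl (by norm_num) _ _ (by decide +kernel) (by decide +kernel) (by decide +kernel)
    (by decide +kernel) (by decide +kernel) (by decide +kernel)
theorem card_W72 : Nat.card W72 = 72 := hW72.card_eq.trans (by decide +kernel)

/-- Generators (6 7 8), (7 8). -/
def gS3p : List ℕ := [nat_lit 0x687543210, nat_lit 0x786543210]
def LS3p : List ℕ := [
  nat_lit 0x867543210, nat_lit 0x678543210, nat_lit 0x768543210, nat_lit 0x786543210,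
  nat_lit 0x687543210, nat_lit 0x876543210]
/-- A group of order 6. -/
def S3p : Subgroup (Perm (Fin 9)) := cl 9 gS3p
theorem hS3p : Lists S3p LS3p :=
  lists_cl (by norm_num) _ _ (by decide +kernel) (by decide +kernel) (by decide +kernel)
    (by decide +kernel) (by decide +kernel) (by decide +kernel)
theorem card_S3p : Nat.card S3p = 6 := hS3p.card_eq.trans (by decide +kernel)

/-- Generators (0 1), (1 2), (3 4), (4 5), (0 3)(1 4)(2 5), (6 7 8). -/
def gC216 : List ℕ := [nat_lit 0x876543201, nat_lit 0x876543120, nat_lit 0x876534210, nat_lit 0x876453210, nat_lit 0x876210543, nat_lit 0x687543210]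
def LC216 : List ℕ := [
  nat_lit 0x768012345, nat_lit 0x768012354, nat_lit 0x768012435, nat_lit 0x768021345,
  nat_lit 0x768102345, nat_lit 0x768345012, nat_lit 0x687012345, nat_lit 0x768012453,
  nat_lit 0x768021354, nat_lit 0x768102354, nat_lit 0x768345021, nat_lit 0x687012354,
  nat_lit 0x768012534, nat_lit 0x768021435, nat_lit 0x768102435, nat_lit 0x768345102,
  nat_lit 0x687012435, nat_lit 0x768120345, nat_lit 0x768354012, nat_lit 0x687021345,
  nat_lit 0x768201345, nat_lit 0x768435012, nat_lit 0x687102345, nat_lit 0x687345012,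
  nat_lit 0x876012345, nat_lit 0x768012543, nat_lit 0x768021453, nat_lit 0x768102453,
  nat_lit 0x768345120, nat_lit 0x687012453, nat_lit 0x768120354, nat_lit 0x768354021,
  nat_lit 0x687021354, nat_lit 0x768201354, nat_lit 0x768435021, nat_lit 0x687102354,
  nat_lit 0x687345021, nat_lit 0x876012354, nat_lit 0x768021534, nat_lit 0x768102534,
  nat_lit 0x768345201, nat_lit 0x687012534, nat_lit 0x768120435, nat_lit 0x768354102,
  nat_lit 0x687021435, nat_lit 0x768201435, nat_lit 0x768435102, nat_lit 0x687102435,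
  nat_lit 0x687345102, nat_lit 0x876012435, nat_lit 0x768210345, nat_lit 0x768453012,
  nat_lit 0x687120345, nat_lit 0x687354012, nat_lit 0x876021345, nat_lit 0x768534012,
  nat_lit 0x687201345, nat_lit 0x687435012, nat_lit 0x876102345, nat_lit 0x876345012,
  nat_lit 0x768021543, nat_lit 0x768102543, nat_lit 0x768345210, nat_lit 0x687012543,
  nat_lit 0x768120453, nat_lit 0x768354120, nat_lit 0x687021453, nat_lit 0x768201453,
  nat_lit 0x768435120, nat_lit 0x687102453, nat_lit 0x687345120, nat_lit 0x876012453,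
  nat_lit 0x768210354, nat_lit 0x768453021, nat_lit 0x687120354, nat_lit 0x687354021,
  nat_lit 0x876021354, nat_lit 0x768534021, nat_lit 0x687201354, nat_lit 0x687435021,
  nat_lit 0x876102354, nat_lit 0x876345021, nat_lit 0x768120534, nat_lit 0x768354201,
  nat_lit 0x687021534, nat_lit 0x768201534, nat_lit 0x768435201, nat_lit 0x687102534,
  nat_lit 0x687345201, nat_lit 0x876012534, nat_lit 0x768210435, nat_lit 0x768453102,
  nat_lit 0x687120435, nat_lit 0x687354102, nat_lit 0x876021435, nat_lit 0x768534102,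
  nat_lit 0x687201435, nat_lit 0x687435102, nat_lit 0x876102435, nat_lit 0x876345102,
  nat_lit 0x768543012, nat_lit 0x687210345, nat_lit 0x687453012, nat_lit 0x876120345,
  nat_lit 0x876354012, nat_lit 0x687534012, nat_lit 0x876201345, nat_lit 0x876435012,
  nat_lit 0x768120543, nat_lit 0x768354210, nat_lit 0x687021543, nat_lit 0x768201543,
  nat_lit 0x768435210, nat_lit 0x687102543, nat_lit 0x687345210, nat_lit 0x876012543,
  nat_lit 0x768210453, nat_lit 0x768453120, nat_lit 0x687120453, nat_lit 0x687354120,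
  nat_lit 0x876021453, nat_lit 0x768534120, nat_lit 0x687201453, nat_lit 0x687435120,
  nat_lit 0x876102453, nat_lit 0x876345120, nat_lit 0x768543021, nat_lit 0x687210354,
  nat_lit 0x687453021, nat_lit 0x876120354, nat_lit 0x876354021, nat_lit 0x687534021,
  nat_lit 0x876201354, nat_lit 0x876435021, nat_lit 0x768210534, nat_lit 0x768453201,
  nat_lit 0x687120534, nat_lit 0x687354201, nat_lit 0x876021534, nat_lit 0x768534201,
  nat_lit 0x687201534, nat_lit 0x687435201, nat_lit 0x876102534, nat_lit 0x876345201,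
  nat_lit 0x768543102, nat_lit 0x687210435, nat_lit 0x687453102, nat_lit 0x876120435,
  nat_lit 0x876354102, nat_lit 0x687534102, nat_lit 0x876201435, nat_lit 0x876435102,
  nat_lit 0x687543012, nat_lit 0x876210345, nat_lit 0x876453012, nat_lit 0x876534012,
  nat_lit 0x768210543, nat_lit 0x768453210, nat_lit 0x687120543, nat_lit 0x687354210,
  nat_lit 0x876021543, nat_lit 0x768534210, nat_lit 0x687201543, nat_lit 0x687435210,
  nat_lit 0x876102543, nat_lit 0x876345210, nat_lit 0x768543120, nat_lit 0x687210453,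
  nat_lit 0x687453120, nat_lit 0x876120453, nat_lit 0x876354120, nat_lit 0x687534120,
  nat_lit 0x876201453, nat_lit 0x876435120, nat_lit 0x687543021, nat_lit 0x876210354,
  nat_lit 0x876453021, nat_lit 0x876534021, nat_lit 0x768543201, nat_lit 0x687210534,
  nat_lit 0x687453201, nat_lit 0x876120534, nat_lit 0x876354201, nat_lit 0x687534201,
  nat_lit 0x876201534, nat_lit 0x876435201, nat_lit 0x687543102, nat_lit 0x876210435,
  nat_lit 0x876453102, nat_lit 0x876534102, nat_lit 0x876543012, nat_lit 0x768543210,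
  nat_lit 0x687210543, nat_lit 0x687453210, nat_lit 0x876120543, nat_lit 0x876354210,
  nat_lit 0x687534210, nat_lit 0x876201543, nat_lit 0x876435210, nat_lit 0x687543120,
  nat_lit 0x876210453, nat_lit 0x876453120, nat_lit 0x876534120, nat_lit 0x876543021,
  nat_lit 0x687543201, nat_lit 0x876210534, nat_lit 0x876453201, nat_lit 0x876534201,
  nat_lit 0x876543102, nat_lit 0x687543210, nat_lit 0x876210543, nat_lit 0x876453210,
  nat_lit 0x876534210, nat_lit 0x876543120, nat_lit 0x876543201, nat_lit 0x876543210]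
/-- A group of order 216. -/
def C216 : Subgroup (Perm (Fin 9)) := cl 9 gC216
theorem hC216 : Lists C216 LC216 :=
  lists_cl (by norm_num) _ _ (by decide +kernel) (by decide +kernel) (by decide +kernel)
    (by decide +kernel) (by decide +kernel) (by decide +kernel)
theorem card_C216 : Nat.card C216 = 216 := hC216.card_eq.trans (by decide +kernel)

/-- Generators (0 1 2)(3 4 5), (1 2)(4 5), (6 7 8), (7 8), (0 3)(1 4)(2 5). -/
def gC72 : List ℕ := [nat_lit 0x876354021, nat_lit 0x876453120, nat_lit 0x687543210, nat_lit 0x786543210, nat_lit 0x876210543]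
def LC72 : List ℕ := [
  nat_lit 0x867201534, nat_lit 0x678201534, nat_lit 0x768201534, nat_lit 0x867012345,
  nat_lit 0x678012345, nat_lit 0x768012345, nat_lit 0x867102435, nat_lit 0x678102435,
  nat_lit 0x768102435, nat_lit 0x867120453, nat_lit 0x678120453, nat_lit 0x768120453,
  nat_lit 0x786201534, nat_lit 0x867534201, nat_lit 0x687201534, nat_lit 0x678534201,
  nat_lit 0x768534201, nat_lit 0x867021354, nat_lit 0x678021354, nat_lit 0x768021354,
  nat_lit 0x786012345, nat_lit 0x867345012, nat_lit 0x687012345, nat_lit 0x678345012,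
  nat_lit 0x768345012, nat_lit 0x786102435, nat_lit 0x867435102, nat_lit 0x687102435,
  nat_lit 0x678435102, nat_lit 0x768435102, nat_lit 0x867210543, nat_lit 0x678210543,
  nat_lit 0x768210543, nat_lit 0x786120453, nat_lit 0x867453120, nat_lit 0x687120453,
  nat_lit 0x678453120, nat_lit 0x768453120, nat_lit 0x876201534, nat_lit 0x786534201,
  nat_lit 0x687534201, nat_lit 0x786021354, nat_lit 0x867354021, nat_lit 0x687021354,
  nat_lit 0x678354021, nat_lit 0x768354021, nat_lit 0x876012345, nat_lit 0x786345012,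
  nat_lit 0x687345012, nat_lit 0x876102435, nat_lit 0x786435102, nat_lit 0x687435102,
  nat_lit 0x786210543, nat_lit 0x867543210, nat_lit 0x687210543, nat_lit 0x678543210,
  nat_lit 0x768543210, nat_lit 0x876120453, nat_lit 0x786453120, nat_lit 0x687453120,
  nat_lit 0x876534201, nat_lit 0x876021354, nat_lit 0x786354021, nat_lit 0x687354021,
  nat_lit 0x876345012, nat_lit 0x876435102, nat_lit 0x876210543, nat_lit 0x786543210,
  nat_lit 0x687543210, nat_lit 0x876453120, nat_lit 0x876354021, nat_lit 0x876543210]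
/-- A group of order 72. -/
def C72 : Subgroup (Perm (Fin 9)) := cl 9 gC72
theorem hC72 : Lists C72 LC72 :=
  lists_cl (by norm_num) _ _ (by decide +kernel) (by decide +kernel) (by decide +kernel)
    (by decide +kernel) (by decide +kernel) (by decide +kernel)
theorem card_C72 : Nat.card C72 = 72 := hC72.card_eq.trans (by decide +kernel)

/-- Generators (0 1 2)(3 4 5), (1 2)(4 5), (6 7 8), (7 8), (0 3)(1 4), (0 3)(1 4)(2 5). -/
def gB288 : List ℕ := [nat_lit 0x876354021, nat_lit 0x876453120, nat_lit 0x687543210, nat_lit 0x786543210, nat_lit 0x876510243, nat_lit 0x876210543]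
def LB288 : List ℕ := [
  nat_lit 0x867531204, nat_lit 0x867540213, nat_lit 0x678531204, nat_lit 0x678540213,
  nat_lit 0x768531204, nat_lit 0x768540213, nat_lit 0x867450123, nat_lit 0x867351024,
  nat_lit 0x867045312, nat_lit 0x867135402, nat_lit 0x678450123, nat_lit 0x678351024,
  nat_lit 0x678045312, nat_lit 0x678135402, nat_lit 0x768450123, nat_lit 0x768351024,
  nat_lit 0x768045312, nat_lit 0x768135402, nat_lit 0x867513240, nat_lit 0x867504231,
  nat_lit 0x678513240, nat_lit 0x678504231, nat_lit 0x768513240, nat_lit 0x768504231,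
  nat_lit 0x867234501, nat_lit 0x678234501, nat_lit 0x768234501, nat_lit 0x867315042,
  nat_lit 0x867405132, nat_lit 0x678315042, nat_lit 0x678405132, nat_lit 0x768315042,
  nat_lit 0x768405132, nat_lit 0x867342015, nat_lit 0x678342015, nat_lit 0x768342015,
  nat_lit 0x786531204, nat_lit 0x786540213, nat_lit 0x867432105, nat_lit 0x867204531,
  nat_lit 0x867213540, nat_lit 0x687531204, nat_lit 0x687540213, nat_lit 0x678432105,
  nat_lit 0x678204531, nat_lit 0x678213540, nat_lit 0x768432105, nat_lit 0x768204531,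
  nat_lit 0x768213540, nat_lit 0x786450123, nat_lit 0x786351024, nat_lit 0x786045312,
  nat_lit 0x786135402, nat_lit 0x867153420, nat_lit 0x867123450, nat_lit 0x867054321,
  nat_lit 0x867024351, nat_lit 0x867312045, nat_lit 0x867402135, nat_lit 0x687450123,
  nat_lit 0x687351024, nat_lit 0x687045312, nat_lit 0x687135402, nat_lit 0x678153420,
  nat_lit 0x678123450, nat_lit 0x678054321, nat_lit 0x678024351, nat_lit 0x678312045,
  nat_lit 0x678402135, nat_lit 0x768153420, nat_lit 0x768123450, nat_lit 0x768054321,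
  nat_lit 0x768024351, nat_lit 0x768312045, nat_lit 0x768402135, nat_lit 0x786513240,
  nat_lit 0x786504231, nat_lit 0x867423150, nat_lit 0x867240513, nat_lit 0x867231504,
  nat_lit 0x687513240, nat_lit 0x687504231, nat_lit 0x678423150, nat_lit 0x678240513,
  nat_lit 0x678231504, nat_lit 0x768423150, nat_lit 0x768240513, nat_lit 0x768231504,
  nat_lit 0x786234501, nat_lit 0x867201534, nat_lit 0x867501234, nat_lit 0x687234501,
  nat_lit 0x678201534, nat_lit 0x678501234, nat_lit 0x768201534, nat_lit 0x768501234,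
  nat_lit 0x786315042, nat_lit 0x786405132, nat_lit 0x867324051, nat_lit 0x867042315,
  nat_lit 0x867132405, nat_lit 0x687315042, nat_lit 0x687405132, nat_lit 0x678324051,
  nat_lit 0x678042315, nat_lit 0x678132405, nat_lit 0x768324051, nat_lit 0x768042315,
  nat_lit 0x768132405, nat_lit 0x786342015, nat_lit 0x867012345, nat_lit 0x867015342,
  nat_lit 0x687342015, nat_lit 0x678012345, nat_lit 0x678015342, nat_lit 0x768012345,
  nat_lit 0x768015342, nat_lit 0x876531204, nat_lit 0x876540213, nat_lit 0x786432105,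
  nat_lit 0x786204531, nat_lit 0x786213540, nat_lit 0x867102435, nat_lit 0x867105432,
  nat_lit 0x687432105, nat_lit 0x687204531, nat_lit 0x687213540, nat_lit 0x678102435,
  nat_lit 0x678105432, nat_lit 0x768102435, nat_lit 0x768105432, nat_lit 0x876450123,
  nat_lit 0x876351024, nat_lit 0x876045312, nat_lit 0x876135402, nat_lit 0x786153420,
  nat_lit 0x786123450, nat_lit 0x786054321, nat_lit 0x786024351, nat_lit 0x786312045,
  nat_lit 0x786402135, nat_lit 0x867243510, nat_lit 0x867420153, nat_lit 0x867321054,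
  nat_lit 0x687153420, nat_lit 0x687123450, nat_lit 0x687054321, nat_lit 0x687024351,
  nat_lit 0x687312045, nat_lit 0x687402135, nat_lit 0x678243510, nat_lit 0x678420153,
  nat_lit 0x678321054, nat_lit 0x768243510, nat_lit 0x768420153, nat_lit 0x768321054,
  nat_lit 0x876513240, nat_lit 0x876504231, nat_lit 0x786423150, nat_lit 0x786240513,
  nat_lit 0x786231504, nat_lit 0x867120453, nat_lit 0x867150423, nat_lit 0x687423150,
  nat_lit 0x687240513, nat_lit 0x687231504, nat_lit 0x678120453, nat_lit 0x678150423,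
  nat_lit 0x768120453, nat_lit 0x768150423, nat_lit 0x876234501, nat_lit 0x786201534,
  nat_lit 0x786501234, nat_lit 0x867534201, nat_lit 0x687201534, nat_lit 0x687501234,
  nat_lit 0x678534201, nat_lit 0x768534201, nat_lit 0x876315042, nat_lit 0x876405132,
  nat_lit 0x786324051, nat_lit 0x786042315, nat_lit 0x786132405, nat_lit 0x867021354,
  nat_lit 0x867051324, nat_lit 0x687324051, nat_lit 0x687042315, nat_lit 0x687132405,
  nat_lit 0x678021354, nat_lit 0x678051324, nat_lit 0x768021354, nat_lit 0x768051324,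
  nat_lit 0x876342015, nat_lit 0x786012345, nat_lit 0x786015342, nat_lit 0x867345012,
  nat_lit 0x687012345, nat_lit 0x687015342, nat_lit 0x678345012, nat_lit 0x768345012,
  nat_lit 0x876432105, nat_lit 0x876204531, nat_lit 0x876213540, nat_lit 0x786102435,
  nat_lit 0x786105432, nat_lit 0x867435102, nat_lit 0x687102435, nat_lit 0x687105432,
  nat_lit 0x678435102, nat_lit 0x768435102, nat_lit 0x876153420, nat_lit 0x876123450,
  nat_lit 0x876054321, nat_lit 0x876024351, nat_lit 0x876312045, nat_lit 0x876402135,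
  nat_lit 0x786243510, nat_lit 0x786420153, nat_lit 0x786321054, nat_lit 0x867210543,
  nat_lit 0x867510243, nat_lit 0x687243510, nat_lit 0x687420153, nat_lit 0x687321054,
  nat_lit 0x678210543, nat_lit 0x678510243, nat_lit 0x768210543, nat_lit 0x768510243,
  nat_lit 0x876423150, nat_lit 0x876240513, nat_lit 0x876231504, nat_lit 0x786120453,
  nat_lit 0x786150423, nat_lit 0x867453120, nat_lit 0x687120453, nat_lit 0x687150423,
  nat_lit 0x678453120, nat_lit 0x768453120, nat_lit 0x876201534, nat_lit 0x876501234,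
  nat_lit 0x786534201, nat_lit 0x687534201, nat_lit 0x876324051, nat_lit 0x876042315,
  nat_lit 0x876132405, nat_lit 0x786021354, nat_lit 0x786051324, nat_lit 0x867354021,
  nat_lit 0x687021354, nat_lit 0x687051324, nat_lit 0x678354021, nat_lit 0x768354021,
  nat_lit 0x876012345, nat_lit 0x876015342, nat_lit 0x786345012, nat_lit 0x687345012,
  nat_lit 0x876102435, nat_lit 0x876105432, nat_lit 0x786435102, nat_lit 0x687435102,
  nat_lit 0x876243510, nat_lit 0x876420153, nat_lit 0x876321054, nat_lit 0x786210543,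
  nat_lit 0x786510243, nat_lit 0x867543210, nat_lit 0x687210543, nat_lit 0x687510243,
  nat_lit 0x678543210, nat_lit 0x768543210, nat_lit 0x876120453, nat_lit 0x876150423,
  nat_lit 0x786453120, nat_lit 0x687453120, nat_lit 0x876534201, nat_lit 0x876021354,
  nat_lit 0x876051324, nat_lit 0x786354021, nat_lit 0x687354021, nat_lit 0x876345012,
  nat_lit 0x876435102, nat_lit 0x876210543, nat_lit 0x876510243, nat_lit 0x786543210,
  nat_lit 0x687543210, nat_lit 0x876453120, nat_lit 0x876354021, nat_lit 0x876543210]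
/-- A group of order 288. -/
def B288 : Subgroup (Perm (Fin 9)) := cl 9 gB288
theorem hB288 : Lists B288 LB288 :=
  lists_cl (by norm_num) _ _ (by decide +kernel) (by decide +kernel) (by decide +kernel)
    (by decide +kernel) (by decide +kernel) (by decide +kernel)
theorem card_B288 : Nat.card B288 = 288 := hB288.card_eq.trans (by decide +kernel)

/-- Generators (1 2), (4 5), (0 3)(1 4)(2 5), (7 8). -/
def gT16 : List ℕ := [nat_lit 0x876543120, nat_lit 0x876453210, nat_lit 0x876210543, nat_lit 0x786543210]
def LT16 : List ℕ := [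
  nat_lit 0x786120453, nat_lit 0x786120543, nat_lit 0x786210453, nat_lit 0x786453120,
  nat_lit 0x876120453, nat_lit 0x786210543, nat_lit 0x786453210, nat_lit 0x876120543,
  nat_lit 0x786543120, nat_lit 0x876210453, nat_lit 0x876453120, nat_lit 0x786543210,
  nat_lit 0x876210543, nat_lit 0x876453210, nat_lit 0x876543120, nat_lit 0x876543210]
/-- A group of order 16. -/
def T16 : Subgroup (Perm (Fin 9)) := cl 9 gT16
theorem hT16 : Lists T16 LT16 :=
  lists_cl (by norm_num) _ _ (by decide +kernel) (by decide +kernel) (by decide +kernel)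
    (by decide +kernel) (by decide +kernel) (by decide +kernel)
theorem card_T16 : Nat.card T16 = 16 := hT16.card_eq.trans (by decide +kernel)

/-- Generators (1 2)(4 5), (1 2)(7 8), (0 3)(1 4)(2 5)(7 8). -/
def gA8 : List ℕ := [nat_lit 0x876453120, nat_lit 0x786543120, nat_lit 0x786210543]
def LA8 : List ℕ := [
  nat_lit 0x876120543, nat_lit 0x876210453, nat_lit 0x786120453, nat_lit 0x786453210,
  nat_lit 0x786210543, nat_lit 0x786543120, nat_lit 0x876453120, nat_lit 0x876543210]
/-- A group of order 8. -/
def A8 : Subgroup (Perm (Fin 9)) := cl 9 gA8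
theorem hA8 : Lists A8 LA8 :=
  lists_cl (by norm_num) _ _ (by decide +kernel) (by decide +kernel) (by decide +kernel)
    (by decide +kernel) (by decide +kernel) (by decide +kernel)
theorem card_A8 : Nat.card A8 = 8 := hA8.card_eq.trans (by decide +kernel)

/-- Generators (0 3)(1 4)(2 5), (1 2)(4 5), (7 8). -/
def gR8 : List ℕ := [nat_lit 0x876210543, nat_lit 0x876453120, nat_lit 0x786543210]
def LR8 : List ℕ := [
  nat_lit 0x786120453, nat_lit 0x786453120, nat_lit 0x786210543, nat_lit 0x876120453,
  nat_lit 0x786543210, nat_lit 0x876453120, nat_lit 0x876210543, nat_lit 0x876543210]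
/-- A group of order 8. -/
def R8 : Subgroup (Perm (Fin 9)) := cl 9 gR8
theorem hR8 : Lists R8 LR8 :=
  lists_cl (by norm_num) _ _ (by decide +kernel) (by decide +kernel) (by decide +kernel)
    (by decide +kernel) (by decide +kernel) (by decide +kernel)
theorem card_R8 : Nat.card R8 = 8 := hR8.card_eq.trans (by decide +kernel)

/-- Generators (0 3), (1 4), (2 5), (0 1)(3 4), (7 8). -/
def gR32 : List ℕ := [nat_lit 0x876540213, nat_lit 0x876513240, nat_lit 0x876243510, nat_lit 0x876534201, nat_lit 0x786543210]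
def LR32 : List ℕ := [
  nat_lit 0x786201534, nat_lit 0x786204531, nat_lit 0x786231504, nat_lit 0x786501234,
  nat_lit 0x786210543, nat_lit 0x876201534, nat_lit 0x786234501, nat_lit 0x786504231,
  nat_lit 0x786213540, nat_lit 0x876204531, nat_lit 0x786531204, nat_lit 0x786240513,
  nat_lit 0x876231504, nat_lit 0x786510243, nat_lit 0x876501234, nat_lit 0x876210543,
  nat_lit 0x786534201, nat_lit 0x786243510, nat_lit 0x876234501, nat_lit 0x786513240,
  nat_lit 0x876504231, nat_lit 0x876213540, nat_lit 0x786540213, nat_lit 0x876531204,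
  nat_lit 0x876240513, nat_lit 0x876510243, nat_lit 0x786543210, nat_lit 0x876534201,
  nat_lit 0x876243510, nat_lit 0x876513240, nat_lit 0x876540213, nat_lit 0x876543210]
/-- A group of order 32. -/
def R32 : Subgroup (Perm (Fin 9)) := cl 9 gR32
theorem hR32 : Lists R32 LR32 :=
  lists_cl (by norm_num) _ _ (by decide +kernel) (by decide +kernel) (by decide +kernel)
    (by decide +kernel) (by decide +kernel) (by decide +kernel)
theorem card_R32 : Nat.card R32 = 32 := hR32.card_eq.trans (by decide +kernel)

/-- Generators (0 3)(1 4), (0 1)(3 4), (0 3)(2 5), (2 5)(7 8). -/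
def gR16 : List ℕ := [nat_lit 0x876510243, nat_lit 0x876534201, nat_lit 0x876240513, nat_lit 0x786243510]
def LR16 : List ℕ := [
  nat_lit 0x786531204, nat_lit 0x786504231, nat_lit 0x786513240, nat_lit 0x786201534,
  nat_lit 0x786540213, nat_lit 0x876231504, nat_lit 0x786234501, nat_lit 0x876204531,
  nat_lit 0x786210543, nat_lit 0x876213540, nat_lit 0x876501234, nat_lit 0x786243510,
  nat_lit 0x876240513, nat_lit 0x876534201, nat_lit 0x876510243, nat_lit 0x876543210]
/-- A group of order 16. -/
def R16 : Subgroup (Perm (Fin 9)) := cl 9 gR16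
theorem hR16 : Lists R16 LR16 :=
  lists_cl (by norm_num) _ _ (by decide +kernel) (by decide +kernel) (by decide +kernel)
    (by decide +kernel) (by decide +kernel) (by decide +kernel)
theorem card_R16 : Nat.card R16 = 16 := hR16.card_eq.trans (by decide +kernel)

def LQ : List ℕ := [
  nat_lit 0x876532401, nat_lit 0x876523410, nat_lit 0x876543210, nat_lit 0x876534102,
  nat_lit 0x876354012, nat_lit 0x876352041, nat_lit 0x876243150, nat_lit 0x876532104,
  nat_lit 0x876523140, nat_lit 0x876352014]

def LX : List ℕ := [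
  nat_lit 0x876210543, nat_lit 0x786453120, nat_lit 0x876120453, nat_lit 0x786510243,
  nat_lit 0x786345012, nat_lit 0x876012345, nat_lit 0x786534201, nat_lit 0x876201534,
  nat_lit 0x678453120, nat_lit 0x867453120, nat_lit 0x678510243, nat_lit 0x867510243,
  nat_lit 0x678345012, nat_lit 0x867345012, nat_lit 0x786042315, nat_lit 0x876315042,
  nat_lit 0x678534201, nat_lit 0x867534201, nat_lit 0x786501234, nat_lit 0x876234501,
  nat_lit 0x786240513, nat_lit 0x786123450, nat_lit 0x876450123, nat_lit 0x786213540,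
  nat_lit 0x678042315, nat_lit 0x867042315, nat_lit 0x678501234, nat_lit 0x867501234,
  nat_lit 0x678240513, nat_lit 0x867240513, nat_lit 0x678123450, nat_lit 0x867123450,
  nat_lit 0x678213540, nat_lit 0x867213540]

def LP : List ℕ := [
  nat_lit 0x876540213, nat_lit 0x876513240, nat_lit 0x876243510, nat_lit 0x786543210]

theorem slists_enc {n : ℕ} (hn : n ≤ 16) (L : List ℕ) (h : allB (okB n) L = true) :
    SLists (fun p : Perm (Fin n) => enc p ∈ L) L :=
  ⟨hn, fun _ h => h, fun c hc => ⟨dec n c, by rwa [enc_dec hn ((allB_iff _ _).mp h c hc)],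
    enc_dec hn ((allB_iff _ _).mp h c hc)⟩⟩

theorem cl_le_of {n : ℕ} {K : Subgroup (Perm (Fin n))} {L gs : List ℕ} (h : Lists K L)
    (e : allB (fun c => memF c L) gs = true) : cl n gs ≤ K :=
  cl_le (fun c hc => h.memd le_rfl ((memF_iff _ _).mp ((allB_iff _ _).mp e c hc)))

/-- Some conjugating elements. -/
def SQ (p : Perm (Fin 9)) : Prop := enc p ∈ LQ
theorem hSQ : SLists SQ LQ := slists_enc h9 _ (by decide +kernel)
theorem SQ_iff (p : Perm (Fin 9)) : SQ p ↔ memF (enc p) LQ = true := (memF_iff _ _).symm

/-- The involutions with three cycles. -/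
def SX (p : Perm (Fin 9)) : Prop := enc p ∈ LX
theorem hSX : SLists SX LX := slists_enc h9 _ (by decide +kernel)
theorem SX_iff (p : Perm (Fin 9)) : SX p ↔ memF (enc p) LX = true := (memF_iff _ _).symm

/-- Four transpositions. -/
def SP (p : Perm (Fin 9)) : Prop := enc p ∈ LP
theorem hSP : SLists SP LP := slists_enc h9 _ (by decide +kernel)
theorem SP_iff (p : Perm (Fin 9)) : SP p ↔ memF (enc p) LP = true := (memF_iff _ _).symm

/-- Conjugacy in `S_6 × S_3`. -/
def Cj (b a : Perm (Fin 9)) : Prop := ∃ q ∈ S3p, ∃ p, SQ p ∧ p * q * b = a * (p * q)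

abbrev KVc := V4c.K
theorem hKVc : Lists KVc V4c.LK := V4c.hK

abbrev KVd := V4d.K
theorem hKVd : Lists KVd V4d.LK := V4d.hK

end Cfsg.Agent.H1.S9
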