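import Cfsg.Agent.H1.S9Tr
import Cfsg.Agent.H1.A9Main
import Cfsg.Agent.H8.McAlt

/-!
# Three-local recognition of `S_9`: conclusion in the main case
-/

set_option autoImplicit false

namespace Cfsg.Agent.H1.S9

open Subgroup Cfsg.Agent.H9 Cfsg.Agent.H1.T3 Cfsg.Agent.H1.PC Cfsg.Agent.L0.SC3 Equiv
open Cfsg.Agent.L0.Code
open Cfsg.Agent.H1.A9K (h9 J0 hJ0)
open Cfsg.Agent.S3702 (K hK)

theorem altFacts5 : H8.Mc.AltFacts 5 := by
  constructor <;> decide +kernel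

theorem cent_K {m : Perm (Fin 9)} (hm : m ∈ M) (e : ∀ k ∈ K, m * k = k * m) : m = 1 := by
  obtain ⟨p1, p2, p3, p4, -⟩ := e_P
  exact p1 m ((d_M m hm).2.1 (e _ p3)) (e _ p2) (e _ p4)

universe v

variable {G : Type v} [Group G] [Finite G] {φ : Perm (Fin 9) → G}

theorem Loc.fin (h : Loc M φ) {N : Subgroup G} (hN : Idx2 N ⊤) (n1 : φ ta ∉ N) (n2 : φ t3 ∉ N) :
    im φ M = ⊤ ∨ Nonempty (G ≃* Perm (Fin 9)) := by
  obtain ⟨-, p2, p3, -, p5, p6, p7, p8, p9, p10⟩ := e_P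
  obtain ⟨-, -, -, -, -, -, -, i8, -, -, -, -, i13, -, -, i16, -, -, i19, -⟩ := n_i
  have t1M := d_m.2.2.2.2.2.2.2.2.2.2.2.2.2.2.2.2.2.2.2.2.1
  have m1 := s_m.1
  have n3 : φ t1 ∉ N := by
    rwa [← h.cj i13 (C72M i19) i16, hN.conj (mem_top _) (mem_top _)]
  have hKA : K ≤ alternatingGroup (Fin 9) := norm_J.ge.trans inf_le_left
  have hA : ∀ m ∈ M, (φ m ∈ N ↔ m ∈ alternatingGroup (Fin 9)) := fun m hm => by
    let P : Subgroup (Perm (Fin 9)) :=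
      { carrier := {m | m ∈ M ∧ (φ m ∈ N ↔ m ∈ alternatingGroup (Fin 9))}
        mul_mem' := fun {a b} ha hb => ⟨mul_mem ha.1 hb.1, by
          rw [h.mul ha.1 hb.1, hN.mul _ (mem_top _) _ (mem_top _), ha.2, hb.2,
            mul_mem_iff_of_index_two alternatingGroup.index_eq_two]⟩
        one_mem' := ⟨one_mem _, by simp [h.one]⟩
        inv_mem' := fun {a} ha => ⟨inv_mem ha.1, by
          rw [h.inv ha.1, inv_mem_iff, inv_mem_iff, ha.2]⟩ }
    refine (cl_le (K := P) (gs := gM) ?_ hm).2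
    simp only [gM, List.mem_cons, List.not_mem_nil, or_false]
    rintro c (rfl | rfl | rfl | rfl)
    exacts [⟨KM p2, iff_of_true (hN.cube (mem_top _) (h.cube m1)) (hKA p2)⟩,
      ⟨i13, iff_of_true (hN.cube (mem_top _) ((h.pow_eq_one i13).mpr p10)) (hKA p3)⟩,
      ⟨i8, iff_of_false n1 p7⟩, ⟨t1M, iff_of_false n3 p8⟩]
  have hk : ∀ k ∈ K, φ k ∈ N := fun k hk => (hA k (KM hk)).mpr (hKA hk)
  let ι : K →* N := (h.mono KM).hom.codRestrict N (fun k => hk k k.2)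
  have hJ : ∀ x : N, x ∈ A9K.J.map ι ↔ (x : G) ∈ im φ J0 := fun x =>
    ⟨by rintro ⟨j, hj, rfl⟩; exact mem_im φ hj, fun hx => by
      obtain ⟨j, hj, e⟩ := h.exJ hx
      exact ⟨⟨j, A9K.le_J hj⟩, hj, Subtype.ext e⟩⟩
  have hB : A9K.Base ι := ⟨fun a b e => (h.mono KM).hom_inj (congrArg Subtype.val e),
    fun g hg => by
      obtain ⟨m, hm, e⟩ := h.ex (h.nJ (mem_normalizer_of_conj_mem (g := (g : G)) (fun x hx => by
        obtain ⟨j, hj, rfl⟩ := h.exJ hx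
        exact (hJ _).mp (conj_mem_of_mem_normalizer hg
          ((hJ ⟨_, hk j (A9K.le_J hj)⟩).mpr hx)))))
      exact ⟨⟨m, norm_J.le ⟨(hA m hm).mp (e ▸ g.2),
        mem_normalizer_of_conj_mem (d_M m hm).2.2⟩⟩, Subtype.ext e⟩,
    fun j hj _ O _ h2 h3 => (map_eq_bot_iff_of_injective _ N.subtype_injective).mp
      (h.sig (O.map N.subtype) (by rwa [card_map_of_injective N.subtype_injective]) (fun x hx => by
        obtain ⟨i, hi, rfl⟩ := h.exJ hx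
        refine mem_normalizer_of_conj_mem ?_
        rintro _ ⟨o, ho, rfl⟩
        exact ⟨_, conj_mem_of_mem_normalizer (h2 (T3.mem_cent.mpr (A9K.abJ ι _
          ((hJ ⟨_, hk i (A9K.le_J hi)⟩).mpr hx) _ (mem_map_of_mem ι hj)))) ho, rfl⟩))⟩
  rcases A9.Base.main hB with e | ⟨Φ, hΦ⟩
  · have h1 : N ≤ im φ M := fun g hg => by
      obtain ⟨k, e'⟩ := e.ge (mem_top ⟨g, hg⟩)
      exact (show φ k = g from congrArg Subtype.val e') ▸ mem_im φ (KM k.2)
    refine Or.inl (eq_top_iff.mpr (fun g _ => ?_))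
    rcases hN.mem_or (mem_top _) n3 (mem_top g) with e' | e'
    · exact h1 e'
    · simpa using mul_mem (h1 e') (inv_mem (mem_im φ t1M))
  have : N.Normal := ⟨fun a ha g => (hN.conj (mem_top _) (mem_top _)).mpr ha⟩
  let Γ : Subgroup (Perm (Fin 9) × G) :=
    ((MulAut.congr Φ).toMonoidHom.comp (MulAut.conjNormal.comp (MonoidHom.fst _ _))).eqLocus
      (MulAut.conjNormal.comp (MonoidHom.snd _ _))
  have hΓ : ∀ σ g, (σ, g) ∈ Γ ↔ ∀ x, (Φ (MulAut.conjNormal σ x) : G) = g * Φ x * g⁻¹ :=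
    fun σ g => ⟨fun e x => by
      simpa using congrArg Subtype.val (DFunLike.congr_fun e (Φ x)), fun e => MulEquiv.ext (fun x =>
        Subtype.ext (by simpa using e (Φ.symm x)))⟩
  obtain ⟨Ψ, h1, -⟩ := exists_emb_of_graph Γ (fun σ e => by
    have h1 : ∀ k ∈ K, σ * k = k * σ := fun k hk => conj_eq_iff.mp (congrArg Subtype.val
      (Φ.injective (a₂ := ⟨k, hKA hk⟩)
        (Subtype.ext (((hΓ _ _).mp e ⟨k, hKA hk⟩).trans (by simp)))))
    exact cent_K (CM (mem_C9 (h1 _ p5))) h1) (fun g e => by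
    have h1 : ∀ k ∈ K, g * φ k = φ k * g := fun k hk' => conj_eq_iff.mp (by
      simpa using ((hΓ _ _).mp e (Φ.symm ⟨_, hk k hk'⟩)).symm)
    obtain ⟨m, hm, rfl⟩ := h.ex (h.cx g (h1 _ p5))
    rw [cent_K hm (fun k hk => (h.comm hm (KM hk)).mp (h1 k hk)), h.one])
  have h2 : N ≤ Γ.map (MonoidHom.snd _ _) := fun g hg =>
    ⟨((Φ.symm ⟨g, hg⟩ : alternatingGroup (Fin 9)), g), (hΓ _ _).mpr (fun x => by
      rw [show MulAut.conjNormal ((Φ.symm ⟨g, hg⟩ : alternatingGroup (Fin 9)) : Perm (Fin 9)) x =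
        Φ.symm ⟨g, hg⟩ * x * (Φ.symm ⟨g, hg⟩)⁻¹ from Subtype.ext rfl]
      simp), rfl⟩
  have h3 : φ t1 ∈ Γ.map (MonoidHom.snd _ _) := by
    let α := ((MulAut.congr Φ).symm (MulAut.conjNormal (φ t1))).toMonoidHom
    have a1 : ∀ x, (Φ (α x) : G) = φ t1 * Φ x * (φ t1)⁻¹ := fun x => by simp [α]
    have a2 : (Φ ⟨e1, hKA p2⟩ : G) = φ e1 := congrArg Subtype.val (hΦ ⟨e1, p2⟩ ⟨e1, p6⟩ rfl)
    have a3 : e1.IsThreeCycle := card_support_eq_three_iff.mp s_m.2.2.2.1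
    obtain ⟨σ, hσ⟩ := altFacts5.aut ((alternatingGroup (Fin 9)).subtype.comp α)
      (Subtype.val_injective.comp (MulEquiv.injective _)) (fun x hx => by
        have e := (alternatingGroup (Fin 9)).subtype.map_isConj (α.map_isConj
          (alternatingGroup.isThreeCycle_isConj (by simp) (σ := ⟨e1, hKA p2⟩) a3 hx))
        rw [show α ⟨e1, hKA p2⟩ = ⟨e1, hKA p2⟩⁻¹ from Φ.injective (Subtype.ext (by
          rw [a1, map_inv, coe_inv, a2, h.cj t1M (KM p2) p9, h.inv (KM p2)]))] at e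
        exact (Perm.isConj_iff_cycleType_eq.mp e).symm.trans a3.inv)
    exact ⟨(σ, φ t1), (hΓ _ _).mpr (fun x => by
      rw [← a1, show MulAut.conjNormal σ x = α x from Subtype.ext (hσ x).symm]), rfl⟩
  have h4 : Γ.map (MonoidHom.snd _ _) = ⊤ := eq_top_iff.mpr (fun g _ => by
    rcases hN.mem_or (mem_top _) n3 (mem_top g) with e' | e'
    · exact h2 e'
    · simpa using mul_mem (h2 e') (inv_mem h3))
  rw [h4] at h1
  refine Or.inr ⟨topEquiv.symm.trans (MulEquiv.ofBijective h1.hom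
    ((Nat.bijective_iff_injective_and_card _).mpr ⟨h1.hom_inj, ?_⟩))⟩
  rw [← hN.card (mem_top _) n3, ← Nat.card_congr Φ.toEquiv, mul_comm,
    two_mul_nat_card_alternatingGroup]

theorem Loc.main8 (h : Loc M φ) : im φ M = ⊤ ∨ Nonempty (G ≃* Perm (Fin 9)) := by
  obtain ⟨χ, h1, h2, N, h3, h4, h5⟩ := h.tr
  exact im_congr h2 ▸ h1.fin h3 h4 h5

end Cfsg.Agent.H1.S9
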