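import Cfsg.Agent.H1.GramAuto
import Cfsg.Agent.H1.S9Grp

/-!
# The normalizer of a TI subgroup of order 27, order 162
-/

set_option autoImplicit false
set_option maxRecDepth 100000
set_option synthInstance.maxSize 100000
set_option synthInstance.maxHeartbeats 1000000
set_option linter.unusedSimpArgs false

namespace Cfsg.Agent.H1.S9G1

open Cfsg.Agent.L0 Cfsg.Agent.L0.Gram Cfsg.Agent.H1.GA Cfsg.Agent.L0.Code Equiv Cfsg.Agent.H1.PC

open Cfsg.Agent.H1.S9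

def LA : List ℕ := [
  nat_lit 0x876543021, nat_lit 0x876354210, nat_lit 0x687543210, nat_lit 0x876543102,
  nat_lit 0x876354021, nat_lit 0x687543021, nat_lit 0x876435210, nat_lit 0x687354210,
  nat_lit 0x768543210, nat_lit 0x876354102, nat_lit 0x687543102, nat_lit 0x876435021,
  nat_lit 0x687354021, nat_lit 0x768543021, nat_lit 0x687435210, nat_lit 0x768354210,
  nat_lit 0x876435102, nat_lit 0x687354102, nat_lit 0x768543102, nat_lit 0x687435021,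
  nat_lit 0x768354021, nat_lit 0x768435210, nat_lit 0x687435102, nat_lit 0x768354102,
  nat_lit 0x768435021, nat_lit 0x768435102]
def LB : List ℕ := [
  nat_lit 0x876543021, nat_lit 0x876354210, nat_lit 0x687543210, nat_lit 0x876543102,
  nat_lit 0x876354021, nat_lit 0x687543021, nat_lit 0x876435210, nat_lit 0x687354210,
  nat_lit 0x768543210, nat_lit 0x876354102, nat_lit 0x687543102, nat_lit 0x876435021,
  nat_lit 0x687354021, nat_lit 0x768543021, nat_lit 0x687435210, nat_lit 0x768354210,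
  nat_lit 0x876435102, nat_lit 0x687354102, nat_lit 0x768543102, nat_lit 0x687435021,
  nat_lit 0x768354021, nat_lit 0x768435210, nat_lit 0x687435102, nat_lit 0x768354102,
  nat_lit 0x768435021, nat_lit 0x768435102]
def reps : List ℕ := [
  nat_lit 0x687354021, nat_lit 0x768435102, nat_lit 0x876543021, nat_lit 0x876543102,
  nat_lit 0x876354021, nat_lit 0x876435102, nat_lit 0x687354102, nat_lit 0x768354102,
  nat_lit 0x876354102, nat_lit 0x876210354, nat_lit 0x876210435, nat_lit 0x543876021,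
  nat_lit 0x543876102, nat_lit 0x354876021, nat_lit 0x354876102, nat_lit 0x210354768,
  nat_lit 0x435876102, nat_lit 0x210876354, nat_lit 0x210876435, nat_lit 0x876543210]
def pws : List ℕ := [1, 1, 1, 1, 1, 1, 1, 1, 1, 2, 2, 2, 2, 2, 2, 2, 2, 3, 3]
def ods : List ℕ := [3, 3, 3, 3, 3, 3, 3, 3, 3, 6, 6, 6, 6, 6, 6, 6, 6, 9, 9]
def cn : List ℕ := [162, 162, 54, 54, 54, 54, 54, 54, 27, 18, 18, 18, 18, 18, 18, 18, 18, 9, 9]
def cent : List ℤ := [162, 162, 54, 54, 54, 54, 54, 54, 27, 18, 18, 18, 18, 18, 18, 18, 18, 9, 9]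
def S0 : Sub where
  gM := [nat_lit 0x876543021, nat_lit 0x876354210, nat_lit 0x687543210]
  LM := [
    nat_lit 0x768435102, nat_lit 0x768435021, nat_lit 0x768354102, nat_lit 0x687435102,
    nat_lit 0x768435210, nat_lit 0x768354021, nat_lit 0x687435021, nat_lit 0x768543102,
    nat_lit 0x687354102, nat_lit 0x876435102, nat_lit 0x768354210, nat_lit 0x687435210,
    nat_lit 0x768543021, nat_lit 0x687354021, nat_lit 0x876435021, nat_lit 0x687543102,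
    nat_lit 0x876354102, nat_lit 0x768543210, nat_lit 0x687354210, nat_lit 0x876435210,
    nat_lit 0x687543021, nat_lit 0x876354021, nat_lit 0x876543102, nat_lit 0x687543210,
    nat_lit 0x876354210, nat_lit 0x876543021, nat_lit 0x876543210]
  T := [
    (nat_lit 0x768435102, 1, nat_lit 0x876543210), (nat_lit 0x768435021, 7, nat_lit 0x876210543),
    (nat_lit 0x768354102, 7, nat_lit 0x876543210), (nat_lit 0x687435102, 7, nat_lit 0x543210876),
    (nat_lit 0x768435210, 5, nat_lit 0x543210876), (nat_lit 0x768354021, 6, nat_lit 0x210876543),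
    (nat_lit 0x687435021, 6, nat_lit 0x543210876), (nat_lit 0x768543102, 5, nat_lit 0x210876543),
    (nat_lit 0x687354102, 6, nat_lit 0x876543210), (nat_lit 0x876435102, 5, nat_lit 0x876543210),
    (nat_lit 0x768354210, 8, nat_lit 0x210543876), (nat_lit 0x687435210, 8, nat_lit 0x543210876),
    (nat_lit 0x768543021, 8, nat_lit 0x210876543), (nat_lit 0x687354021, 0, nat_lit 0x876543210),
    (nat_lit 0x876435021, 8, nat_lit 0x876210543), (nat_lit 0x687543102, 8, nat_lit 0x543876210),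
    (nat_lit 0x876354102, 8, nat_lit 0x876543210), (nat_lit 0x768543210, 3, nat_lit 0x210876543),
    (nat_lit 0x687354210, 4, nat_lit 0x543210876), (nat_lit 0x876435210, 3, nat_lit 0x543210876),
    (nat_lit 0x687543021, 4, nat_lit 0x210876543), (nat_lit 0x876354021, 4, nat_lit 0x876543210),
    (nat_lit 0x876543102, 3, nat_lit 0x876543210), (nat_lit 0x687543210, 2, nat_lit 0x210876543),
    (nat_lit 0x876354210, 2, nat_lit 0x543210876), (nat_lit 0x876543021, 2, nat_lit 0x876543210),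
    (nat_lit 0x876543210, 0, nat_lit 0x876543210)]
  E := 6
  F := [([(nat_lit 0x768435102, 8), (nat_lit 0x768435021, 8), (nat_lit 0x768354102, 8),
    (nat_lit 0x687435102, 4), (nat_lit 0x768435210, 8), (nat_lit 0x768354021, 8),
    (nat_lit 0x687435021, 4), (nat_lit 0x768543102, 8), (nat_lit 0x687354102, 4),
    (nat_lit 0x768354210, 8), (nat_lit 0x687435210, 4), (nat_lit 0x768543021, 8),
    (nat_lit 0x687354021, 4), (nat_lit 0x687543102, 4), (nat_lit 0x768543210, 8),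
    (nat_lit 0x687354210, 4), (nat_lit 0x687543021, 4), (nat_lit 0x687543210, 4)],
    [(nat_lit 0x768354102, 8), (nat_lit 0x687435102, 4), (nat_lit 0x768354021, 8),
    (nat_lit 0x687435021, 4), (nat_lit 0x768543102, 4), (nat_lit 0x876435102, 8),
    (nat_lit 0x768354210, 8), (nat_lit 0x687435210, 4), (nat_lit 0x768543021, 4),
    (nat_lit 0x876435021, 8), (nat_lit 0x687543102, 8), (nat_lit 0x876354102, 4),
    (nat_lit 0x768543210, 4), (nat_lit 0x876435210, 8), (nat_lit 0x687543021, 8),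
    (nat_lit 0x876354021, 4), (nat_lit 0x687543210, 8), (nat_lit 0x876354210, 4)],
    [-6, -12, 12, 6, 6, -6, -6, -12, 18, 0, 0, 0, 0, 0, 0, 0, 0, 0, 0], [6, -6, 6, -6, 12, -12, 6, -6, 0, 0, 0, 0, 0, 0, 0, 0, 0, 0, 0]),
    ([(nat_lit 0x768435102, 4), (nat_lit 0x768435021, 4), (nat_lit 0x768354102, 4),
    (nat_lit 0x687435102, 8), (nat_lit 0x768435210, 4), (nat_lit 0x768354021, 4),
    (nat_lit 0x687435021, 8), (nat_lit 0x768543102, 4), (nat_lit 0x687354102, 8),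
    (nat_lit 0x768354210, 4), (nat_lit 0x687435210, 8), (nat_lit 0x768543021, 4),
    (nat_lit 0x687354021, 8), (nat_lit 0x687543102, 8), (nat_lit 0x768543210, 4),
    (nat_lit 0x687354210, 8), (nat_lit 0x687543021, 8), (nat_lit 0x687543210, 8)],
    [(nat_lit 0x768354102, 8), (nat_lit 0x687435102, 4), (nat_lit 0x768354021, 8),
    (nat_lit 0x687435021, 4), (nat_lit 0x768543102, 4), (nat_lit 0x876435102, 8),
    (nat_lit 0x768354210, 8), (nat_lit 0x687435210, 4), (nat_lit 0x768543021, 4),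
    (nat_lit 0x876435021, 8), (nat_lit 0x687543102, 8), (nat_lit 0x876354102, 4),
    (nat_lit 0x768543210, 4), (nat_lit 0x876435210, 8), (nat_lit 0x687543021, 8),
    (nat_lit 0x876354021, 4), (nat_lit 0x687543210, 8), (nat_lit 0x876354210, 4)],
    [-12, -6, 6, 12, -6, 6, -12, -6, 18, 0, 0, 0, 0, 0, 0, 0, 0, 0, 0], [-6, 6, -6, 6, -12, 12, -6, 6, 0, 0, 0, 0, 0, 0, 0, 0, 0, 0, 0]),
    ([(nat_lit 0x768435102, 4), (nat_lit 0x768435021, 4), (nat_lit 0x768435210, 4),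
    (nat_lit 0x768543102, 8), (nat_lit 0x687354102, 8), (nat_lit 0x876435102, 8),
    (nat_lit 0x768543021, 8), (nat_lit 0x687354021, 8), (nat_lit 0x876435021, 8),
    (nat_lit 0x687543102, 4), (nat_lit 0x876354102, 4), (nat_lit 0x768543210, 8),
    (nat_lit 0x687354210, 8), (nat_lit 0x876435210, 8), (nat_lit 0x687543021, 4),
    (nat_lit 0x876354021, 4), (nat_lit 0x687543210, 4), (nat_lit 0x876354210, 4)],
    [(nat_lit 0x768354102, 8), (nat_lit 0x687435102, 4), (nat_lit 0x768354021, 8),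
    (nat_lit 0x687435021, 4), (nat_lit 0x768543102, 4), (nat_lit 0x876435102, 8),
    (nat_lit 0x768354210, 8), (nat_lit 0x687435210, 4), (nat_lit 0x768543021, 4),
    (nat_lit 0x876435021, 8), (nat_lit 0x687543102, 8), (nat_lit 0x876354102, 4),
    (nat_lit 0x768543210, 4), (nat_lit 0x876435210, 8), (nat_lit 0x687543021, 8),
    (nat_lit 0x876354021, 4), (nat_lit 0x687543210, 8), (nat_lit 0x876354210, 4)],
    [-12, -6, 6, -6, -6, -12, 6, 12, 18, 0, 0, 0, 0, 0, 0, 0, 0, 0, 0], [-6, 6, 12, -12, 6, -6, -6, 6, 0, 0, 0, 0, 0, 0, 0, 0, 0, 0, 0]),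
    ([(nat_lit 0x768354102, 8), (nat_lit 0x687435102, 4), (nat_lit 0x768354021, 8),
    (nat_lit 0x687435021, 4), (nat_lit 0x768543102, 4), (nat_lit 0x876435102, 8),
    (nat_lit 0x768354210, 8), (nat_lit 0x687435210, 4), (nat_lit 0x768543021, 4),
    (nat_lit 0x876435021, 8), (nat_lit 0x687543102, 8), (nat_lit 0x876354102, 4),
    (nat_lit 0x768543210, 4), (nat_lit 0x876435210, 8), (nat_lit 0x687543021, 8),
    (nat_lit 0x876354021, 4), (nat_lit 0x687543210, 8), (nat_lit 0x876354210, 4)],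
    [(nat_lit 0x768435102, 8), (nat_lit 0x768435021, 8), (nat_lit 0x768435210, 8),
    (nat_lit 0x768543102, 4), (nat_lit 0x687354102, 4), (nat_lit 0x876435102, 4),
    (nat_lit 0x768543021, 4), (nat_lit 0x687354021, 4), (nat_lit 0x876435021, 4),
    (nat_lit 0x687543102, 8), (nat_lit 0x876354102, 8), (nat_lit 0x768543210, 4),
    (nat_lit 0x687354210, 4), (nat_lit 0x876435210, 4), (nat_lit 0x687543021, 8),
    (nat_lit 0x876354021, 8), (nat_lit 0x687543210, 8), (nat_lit 0x876354210, 8)],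
    [6, 12, 6, -6, 12, 6, -12, -6, -18, 0, 0, 0, 0, 0, 0, 0, 0, 0, 0], [-6, 6, 12, -12, 6, -6, -6, 6, 0, 0, 0, 0, 0, 0, 0, 0, 0, 0, 0]),
    ([(nat_lit 0x768354102, 8), (nat_lit 0x687435102, 4), (nat_lit 0x768354021, 8),
    (nat_lit 0x687435021, 4), (nat_lit 0x768543102, 4), (nat_lit 0x876435102, 8),
    (nat_lit 0x768354210, 8), (nat_lit 0x687435210, 4), (nat_lit 0x768543021, 4),
    (nat_lit 0x876435021, 8), (nat_lit 0x687543102, 8), (nat_lit 0x876354102, 4),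
    (nat_lit 0x768543210, 4), (nat_lit 0x876435210, 8), (nat_lit 0x687543021, 8),
    (nat_lit 0x876354021, 4), (nat_lit 0x687543210, 8), (nat_lit 0x876354210, 4)],
    [(nat_lit 0x768435102, 8), (nat_lit 0x768435021, 4), (nat_lit 0x768354102, 4),
    (nat_lit 0x687435021, 8), (nat_lit 0x687354102, 8), (nat_lit 0x876435102, 4),
    (nat_lit 0x768354210, 8), (nat_lit 0x687435210, 4), (nat_lit 0x768543021, 8),
    (nat_lit 0x687354021, 4), (nat_lit 0x687543102, 4), (nat_lit 0x768543210, 4),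
    (nat_lit 0x876435210, 8), (nat_lit 0x876354021, 8), (nat_lit 0x876543102, 8),
    (nat_lit 0x687543210, 8), (nat_lit 0x876354210, 4), (nat_lit 0x876543021, 4)],
    [6, 12, 6, 12, -6, -12, 6, -6, -18, 0, 0, 0, 0, 0, 0, 0, 0, 0, 0], [-6, 6, -6, 6, 6, -6, 12, -12, 0, 0, 0, 0, 0, 0, 0, 0, 0, 0, 0]),
    ([(nat_lit 0x768354102, 8), (nat_lit 0x687435102, 4), (nat_lit 0x768354021, 8),
    (nat_lit 0x687435021, 4), (nat_lit 0x768543102, 4), (nat_lit 0x876435102, 8),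
    (nat_lit 0x768354210, 8), (nat_lit 0x687435210, 4), (nat_lit 0x768543021, 4),
    (nat_lit 0x876435021, 8), (nat_lit 0x687543102, 8), (nat_lit 0x876354102, 4),
    (nat_lit 0x768543210, 4), (nat_lit 0x876435210, 8), (nat_lit 0x687543021, 8),
    (nat_lit 0x876354021, 4), (nat_lit 0x687543210, 8), (nat_lit 0x876354210, 4)],
    [(nat_lit 0x768435102, 4), (nat_lit 0x768354102, 8), (nat_lit 0x687435102, 8),
    (nat_lit 0x768435210, 8), (nat_lit 0x768354021, 4), (nat_lit 0x687435021, 4),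
    (nat_lit 0x768543021, 8), (nat_lit 0x687354021, 8), (nat_lit 0x876435021, 8),
    (nat_lit 0x687543102, 4), (nat_lit 0x876354102, 4), (nat_lit 0x768543210, 4),
    (nat_lit 0x687354210, 4), (nat_lit 0x876435210, 4), (nat_lit 0x876543102, 8),
    (nat_lit 0x687543210, 8), (nat_lit 0x876354210, 8), (nat_lit 0x876543021, 4)],
    [12, 6, 12, 6, -12, -6, -6, 6, -18, 0, 0, 0, 0, 0, 0, 0, 0, 0, 0], [6, -6, 6, -6, -6, 6, -12, 12, 0, 0, 0, 0, 0, 0, 0, 0, 0, 0, 0]),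
    ([],
    [(nat_lit 0x768354102, 8), (nat_lit 0x687435102, 4), (nat_lit 0x768354021, 8),
    (nat_lit 0x687435021, 4), (nat_lit 0x768543102, 4), (nat_lit 0x876435102, 8),
    (nat_lit 0x768354210, 8), (nat_lit 0x687435210, 4), (nat_lit 0x768543021, 4),
    (nat_lit 0x876435021, 8), (nat_lit 0x687543102, 8), (nat_lit 0x876354102, 4),
    (nat_lit 0x768543210, 4), (nat_lit 0x876435210, 8), (nat_lit 0x687543021, 8),
    (nat_lit 0x876354021, 4), (nat_lit 0x687543210, 8), (nat_lit 0x876354210, 4)],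
    [0, 0, 18, 18, 18, 18, 18, 18, 54, 0, 0, 0, 0, 0, 0, 0, 0, 0, 0], [0, 0, 0, 0, 0, 0, 0, 0, 0, 0, 0, 0, 0, 0, 0, 0, 0, 0, 0]),
    ([(nat_lit 0x768354102, 8), (nat_lit 0x687435102, 4), (nat_lit 0x768354021, 8),
    (nat_lit 0x687435021, 4), (nat_lit 0x768543102, 4), (nat_lit 0x876435102, 8),
    (nat_lit 0x768354210, 8), (nat_lit 0x687435210, 4), (nat_lit 0x768543021, 4),
    (nat_lit 0x876435021, 8), (nat_lit 0x687543102, 8), (nat_lit 0x876354102, 4),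
    (nat_lit 0x768543210, 4), (nat_lit 0x876435210, 8), (nat_lit 0x687543021, 8),
    (nat_lit 0x876354021, 4), (nat_lit 0x687543210, 8), (nat_lit 0x876354210, 4)],
    [(nat_lit 0x768435021, 8), (nat_lit 0x768354102, 8), (nat_lit 0x687435102, 8),
    (nat_lit 0x768435210, 4), (nat_lit 0x768354021, 4), (nat_lit 0x687435021, 4),
    (nat_lit 0x768543102, 4), (nat_lit 0x687354102, 4), (nat_lit 0x876435102, 4),
    (nat_lit 0x768543210, 8), (nat_lit 0x687354210, 8), (nat_lit 0x876435210, 8),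
    (nat_lit 0x687543021, 8), (nat_lit 0x876354021, 8), (nat_lit 0x876543102, 8),
    (nat_lit 0x687543210, 4), (nat_lit 0x876354210, 4), (nat_lit 0x876543021, 4)],
    [0, 0, 0, 18, 18, 0, 0, 18, -54, 0, 0, 0, 0, 0, 0, 0, 0, 0, 0], [0, 0, -18, 18, 18, -18, -18, 18, 0, 0, 0, 0, 0, 0, 0, 0, 0, 0, 0]),
    ([(nat_lit 0x768354102, 8), (nat_lit 0x687435102, 4), (nat_lit 0x768354021, 8),
    (nat_lit 0x687435021, 4), (nat_lit 0x768543102, 4), (nat_lit 0x876435102, 8),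
    (nat_lit 0x768354210, 8), (nat_lit 0x687435210, 4), (nat_lit 0x768543021, 4),
    (nat_lit 0x876435021, 8), (nat_lit 0x687543102, 8), (nat_lit 0x876354102, 4),
    (nat_lit 0x768543210, 4), (nat_lit 0x876435210, 8), (nat_lit 0x687543021, 8),
    (nat_lit 0x876354021, 4), (nat_lit 0x687543210, 8), (nat_lit 0x876354210, 4)],
    [(nat_lit 0x768435021, 4), (nat_lit 0x768354102, 4), (nat_lit 0x687435102, 4),
    (nat_lit 0x768435210, 8), (nat_lit 0x768354021, 8), (nat_lit 0x687435021, 8),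
    (nat_lit 0x768543102, 8), (nat_lit 0x687354102, 8), (nat_lit 0x876435102, 8),
    (nat_lit 0x768543210, 4), (nat_lit 0x687354210, 4), (nat_lit 0x876435210, 4),
    (nat_lit 0x687543021, 4), (nat_lit 0x876354021, 4), (nat_lit 0x876543102, 4),
    (nat_lit 0x687543210, 8), (nat_lit 0x876354210, 8), (nat_lit 0x876543021, 8)],
    [0, 0, 18, 0, 0, 18, 18, 0, -54, 0, 0, 0, 0, 0, 0, 0, 0, 0, 0], [0, 0, 18, -18, -18, 18, 18, -18, 0, 0, 0, 0, 0, 0, 0, 0, 0, 0, 0])]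
set_option maxHeartbeats 0 in
theorem hS0 : S0.ok 9 LC9 reps 19 162 = true := by decide +kernel
def S2 : Sub where
  gM := [nat_lit 0x876543021, nat_lit 0x876354210, nat_lit 0x687543210, nat_lit 0x876543210, nat_lit 0x876210543]
  LM := [
    nat_lit 0x768102435, nat_lit 0x768102354, nat_lit 0x768021435, nat_lit 0x687102435,
    nat_lit 0x768435102, nat_lit 0x768102543, nat_lit 0x768021354, nat_lit 0x687102354,
    nat_lit 0x768435021, nat_lit 0x768210435, nat_lit 0x687021435, nat_lit 0x768354102,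
    nat_lit 0x876102435, nat_lit 0x687435102, nat_lit 0x768021543, nat_lit 0x687102543,
    nat_lit 0x768435210, nat_lit 0x768210354, nat_lit 0x687021354, nat_lit 0x768354021,
    nat_lit 0x876102354, nat_lit 0x687435021, nat_lit 0x687210435, nat_lit 0x768543102,
    nat_lit 0x876021435, nat_lit 0x687354102, nat_lit 0x876435102, nat_lit 0x768210543,
    nat_lit 0x687021543, nat_lit 0x768354210, nat_lit 0x876102543, nat_lit 0x687435210,
    nat_lit 0x687210354, nat_lit 0x768543021, nat_lit 0x876021354, nat_lit 0x687354021,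
    nat_lit 0x876435021, nat_lit 0x876210435, nat_lit 0x687543102, nat_lit 0x876354102,
    nat_lit 0x687210543, nat_lit 0x768543210, nat_lit 0x876021543, nat_lit 0x687354210,
    nat_lit 0x876435210, nat_lit 0x876210354, nat_lit 0x687543021, nat_lit 0x876354021,
    nat_lit 0x876543102, nat_lit 0x876210543, nat_lit 0x687543210, nat_lit 0x876354210,
    nat_lit 0x876543021, nat_lit 0x876543210]
  T := [
    (nat_lit 0x768102435, 14, nat_lit 0x210876435),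
    (nat_lit 0x768102354, 12, nat_lit 0x210768543),
    (nat_lit 0x768021435, 12, nat_lit 0x210876435),
    (nat_lit 0x687102435, 13, nat_lit 0x210876435),
    (nat_lit 0x768435102, 1, nat_lit 0x876543210),
    (nat_lit 0x768102543, 16, nat_lit 0x210876543),
    (nat_lit 0x768021354, 16, nat_lit 0x210768543),
    (nat_lit 0x687102354, 11, nat_lit 0x210768543),
    (nat_lit 0x768435021, 7, nat_lit 0x876210543),
    (nat_lit 0x768210435, 16, nat_lit 0x210543876),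
    (nat_lit 0x687021435, 11, nat_lit 0x210876435),
    (nat_lit 0x768354102, 7, nat_lit 0x876543210), (nat_lit 0x876102435, 9, nat_lit 0x876543021),
    (nat_lit 0x687435102, 7, nat_lit 0x543210876),
    (nat_lit 0x768021543, 14, nat_lit 0x210876543),
    (nat_lit 0x687102543, 15, nat_lit 0x543210876),
    (nat_lit 0x768435210, 5, nat_lit 0x543210876),
    (nat_lit 0x768210354, 14, nat_lit 0x210543876),
    (nat_lit 0x687021354, 15, nat_lit 0x543102876),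
    (nat_lit 0x768354021, 6, nat_lit 0x210876543), (nat_lit 0x876102354, 0, nat_lit 0x876543210),
    (nat_lit 0x687435021, 6, nat_lit 0x543210876),
    (nat_lit 0x687210435, 15, nat_lit 0x543210768),
    (nat_lit 0x768543102, 5, nat_lit 0x210876543), (nat_lit 0x876021435, 0, nat_lit 0x876543210),
    (nat_lit 0x687354102, 6, nat_lit 0x876543210), (nat_lit 0x876435102, 5, nat_lit 0x876543210),
    (nat_lit 0x768210543, 12, nat_lit 0x210876543),
    (nat_lit 0x687021543, 13, nat_lit 0x210876543),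
    (nat_lit 0x768354210, 8, nat_lit 0x210543876),
    (nat_lit 0x876102543, 10, nat_lit 0x876210543),
    (nat_lit 0x687435210, 8, nat_lit 0x543210876),
    (nat_lit 0x687210354, 13, nat_lit 0x210543876),
    (nat_lit 0x768543021, 8, nat_lit 0x210876543),
    (nat_lit 0x876021354, 10, nat_lit 0x876543102),
    (nat_lit 0x687354021, 0, nat_lit 0x876543210), (nat_lit 0x876435021, 8, nat_lit 0x876210543),
    (nat_lit 0x876210435, 10, nat_lit 0x876543210),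
    (nat_lit 0x687543102, 8, nat_lit 0x543876210), (nat_lit 0x876354102, 8, nat_lit 0x876543210),
    (nat_lit 0x687210543, 11, nat_lit 0x210876543),
    (nat_lit 0x768543210, 3, nat_lit 0x210876543), (nat_lit 0x876021543, 9, nat_lit 0x876543102),
    (nat_lit 0x687354210, 4, nat_lit 0x543210876), (nat_lit 0x876435210, 3, nat_lit 0x543210876),
    (nat_lit 0x876210354, 9, nat_lit 0x876543210), (nat_lit 0x687543021, 4, nat_lit 0x210876543),
    (nat_lit 0x876354021, 4, nat_lit 0x876543210), (nat_lit 0x876543102, 3, nat_lit 0x876543210),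
    (nat_lit 0x876210543, 0, nat_lit 0x876543210), (nat_lit 0x687543210, 2, nat_lit 0x210876543),
    (nat_lit 0x876354210, 2, nat_lit 0x543210876), (nat_lit 0x876543021, 2, nat_lit 0x876543210),
    (nat_lit 0x876543210, 0, nat_lit 0x876543210)]
  E := 3
  F := [([(nat_lit 0x768102435, 8), (nat_lit 0x768102354, 8), (nat_lit 0x768021435, 8),
    (nat_lit 0x687102435, 4), (nat_lit 0x768435102, 8), (nat_lit 0x768102543, 8),
    (nat_lit 0x768021354, 8), (nat_lit 0x687102354, 4), (nat_lit 0x768435021, 8),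
    (nat_lit 0x768210435, 8), (nat_lit 0x687021435, 4), (nat_lit 0x768354102, 8),
    (nat_lit 0x687435102, 4), (nat_lit 0x768021543, 8), (nat_lit 0x687102543, 4),
    (nat_lit 0x768435210, 8), (nat_lit 0x768210354, 8), (nat_lit 0x687021354, 4),
    (nat_lit 0x768354021, 8), (nat_lit 0x687435021, 4), (nat_lit 0x687210435, 4),
    (nat_lit 0x768543102, 8), (nat_lit 0x687354102, 4), (nat_lit 0x768210543, 8),
    (nat_lit 0x687021543, 4), (nat_lit 0x768354210, 8), (nat_lit 0x687435210, 4),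
    (nat_lit 0x687210354, 4), (nat_lit 0x768543021, 8), (nat_lit 0x687354021, 4),
    (nat_lit 0x687543102, 4), (nat_lit 0x687210543, 4), (nat_lit 0x768543210, 8),
    (nat_lit 0x687354210, 4), (nat_lit 0x687543021, 4), (nat_lit 0x687543210, 4)],
    [(nat_lit 0x768102435, 4), (nat_lit 0x768102354, 4), (nat_lit 0x768021435, 4),
    (nat_lit 0x687102435, 8), (nat_lit 0x768435102, 4), (nat_lit 0x768102543, 4),
    (nat_lit 0x768021354, 4), (nat_lit 0x687102354, 8), (nat_lit 0x768435021, 4),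
    (nat_lit 0x768210435, 4), (nat_lit 0x687021435, 8), (nat_lit 0x768354102, 4),
    (nat_lit 0x687435102, 8), (nat_lit 0x768021543, 4), (nat_lit 0x687102543, 8),
    (nat_lit 0x768435210, 4), (nat_lit 0x768210354, 4), (nat_lit 0x687021354, 8),
    (nat_lit 0x768354021, 4), (nat_lit 0x687435021, 8), (nat_lit 0x687210435, 8),
    (nat_lit 0x768543102, 4), (nat_lit 0x687354102, 8), (nat_lit 0x768210543, 4),
    (nat_lit 0x687021543, 8), (nat_lit 0x768354210, 4), (nat_lit 0x687435210, 8),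
    (nat_lit 0x687210354, 8), (nat_lit 0x768543021, 4), (nat_lit 0x687354021, 8),
    (nat_lit 0x687543102, 8), (nat_lit 0x687210543, 8), (nat_lit 0x768543210, 4),
    (nat_lit 0x687354210, 8), (nat_lit 0x687543021, 8), (nat_lit 0x687543210, 8)],
    [3, -3, 3, -3, 6, -6, 3, -3, 0, 0, 0, 9, -9, 9, -9, 9, -9, 0, 0], [6, -6, 6, -6, 12, -12, 6, -6, 0, 0, 0, 18, -18, 18, -18, 18, -18, 0, 0]),
    ([(nat_lit 0x768102435, 8), (nat_lit 0x768102354, 8), (nat_lit 0x768021435, 8),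
    (nat_lit 0x687102435, 4), (nat_lit 0x768435102, 8), (nat_lit 0x768102543, 8),
    (nat_lit 0x768021354, 8), (nat_lit 0x687102354, 4), (nat_lit 0x768435021, 8),
    (nat_lit 0x768210435, 8), (nat_lit 0x687021435, 4), (nat_lit 0x768354102, 8),
    (nat_lit 0x687435102, 4), (nat_lit 0x768021543, 8), (nat_lit 0x687102543, 4),
    (nat_lit 0x768435210, 8), (nat_lit 0x768210354, 8), (nat_lit 0x687021354, 4),
    (nat_lit 0x768354021, 8), (nat_lit 0x687435021, 4), (nat_lit 0x687210435, 4),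
    (nat_lit 0x768543102, 8), (nat_lit 0x687354102, 4), (nat_lit 0x768210543, 8),
    (nat_lit 0x687021543, 4), (nat_lit 0x768354210, 8), (nat_lit 0x687435210, 4),
    (nat_lit 0x687210354, 4), (nat_lit 0x768543021, 8), (nat_lit 0x687354021, 4),
    (nat_lit 0x687543102, 4), (nat_lit 0x687210543, 4), (nat_lit 0x768543210, 8),
    (nat_lit 0x687354210, 4), (nat_lit 0x687543021, 4), (nat_lit 0x687543210, 4)],
    [(nat_lit 0x768102435, 8), (nat_lit 0x768102354, 4), (nat_lit 0x768021435, 4),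
    (nat_lit 0x768435102, 8), (nat_lit 0x687102354, 8), (nat_lit 0x768435021, 4),
    (nat_lit 0x687021435, 8), (nat_lit 0x768354102, 4), (nat_lit 0x876102435, 4),
    (nat_lit 0x768021543, 8), (nat_lit 0x687102543, 4), (nat_lit 0x768210354, 8),
    (nat_lit 0x687021354, 4), (nat_lit 0x687435021, 8), (nat_lit 0x687210435, 4),
    (nat_lit 0x687354102, 8), (nat_lit 0x876435102, 4), (nat_lit 0x768210543, 4),
    (nat_lit 0x768354210, 8), (nat_lit 0x876102543, 8), (nat_lit 0x687435210, 4),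
    (nat_lit 0x768543021, 8), (nat_lit 0x876021354, 8), (nat_lit 0x687354021, 4),
    (nat_lit 0x876210435, 8), (nat_lit 0x687543102, 4), (nat_lit 0x687210543, 8),
    (nat_lit 0x768543210, 4), (nat_lit 0x876021543, 4), (nat_lit 0x876435210, 8),
    (nat_lit 0x876210354, 4), (nat_lit 0x876354021, 8), (nat_lit 0x876543102, 8),
    (nat_lit 0x687543210, 8), (nat_lit 0x876354210, 4), (nat_lit 0x876543021, 4)],
    [0, 0, 9, 9, 0, -9, 0, -9, 0, 9, 18, 9, -9, -9, 0, 0, -18, 0, 0], [0, 0, 0, 0, 9, -9, 9, -9, 0, -9, 9, 18, -18, 9, 0, 0, -9, 0, 0]),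
    ([(nat_lit 0x768102435, 8), (nat_lit 0x768102354, 8), (nat_lit 0x768021435, 8),
    (nat_lit 0x687102435, 4), (nat_lit 0x768435102, 8), (nat_lit 0x768102543, 8),
    (nat_lit 0x768021354, 8), (nat_lit 0x687102354, 4), (nat_lit 0x768435021, 8),
    (nat_lit 0x768210435, 8), (nat_lit 0x687021435, 4), (nat_lit 0x768354102, 8),
    (nat_lit 0x687435102, 4), (nat_lit 0x768021543, 8), (nat_lit 0x687102543, 4),
    (nat_lit 0x768435210, 8), (nat_lit 0x768210354, 8), (nat_lit 0x687021354, 4),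
    (nat_lit 0x768354021, 8), (nat_lit 0x687435021, 4), (nat_lit 0x687210435, 4),
    (nat_lit 0x768543102, 8), (nat_lit 0x687354102, 4), (nat_lit 0x768210543, 8),
    (nat_lit 0x687021543, 4), (nat_lit 0x768354210, 8), (nat_lit 0x687435210, 4),
    (nat_lit 0x687210354, 4), (nat_lit 0x768543021, 8), (nat_lit 0x687354021, 4),
    (nat_lit 0x687543102, 4), (nat_lit 0x687210543, 4), (nat_lit 0x768543210, 8),
    (nat_lit 0x687354210, 4), (nat_lit 0x687543021, 4), (nat_lit 0x687543210, 4)],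
    [(nat_lit 0x768102435, 4), (nat_lit 0x687102435, 4), (nat_lit 0x768435102, 4),
    (nat_lit 0x768102543, 8), (nat_lit 0x768021354, 8), (nat_lit 0x768210435, 8),
    (nat_lit 0x876102435, 4), (nat_lit 0x687435102, 4), (nat_lit 0x768021543, 4),
    (nat_lit 0x687102543, 8), (nat_lit 0x768435210, 8), (nat_lit 0x768210354, 4),
    (nat_lit 0x687021354, 8), (nat_lit 0x768354021, 8), (nat_lit 0x687210435, 8),
    (nat_lit 0x768543102, 8), (nat_lit 0x876435102, 4), (nat_lit 0x687021543, 4),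
    (nat_lit 0x768354210, 4), (nat_lit 0x876102543, 8), (nat_lit 0x687435210, 8),
    (nat_lit 0x687210354, 4), (nat_lit 0x768543021, 4), (nat_lit 0x876021354, 8),
    (nat_lit 0x687354021, 8), (nat_lit 0x876210435, 8), (nat_lit 0x687543102, 8),
    (nat_lit 0x876021543, 4), (nat_lit 0x687354210, 4), (nat_lit 0x876435210, 8),
    (nat_lit 0x876210354, 4), (nat_lit 0x687543021, 4), (nat_lit 0x876354021, 8),
    (nat_lit 0x876543102, 8), (nat_lit 0x876354210, 4), (nat_lit 0x876543021, 4)],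
    [3, -3, 3, 6, 6, 3, -6, -12, 0, 9, 18, -9, -18, 0, -9, 9, 0, 0, 0], [6, -6, -3, 3, 3, -3, 6, -6, 0, -9, 9, 9, -9, 0, -18, 18, 0, 0, 0]),
    ([(nat_lit 0x768102435, 8), (nat_lit 0x768102354, 8), (nat_lit 0x768021435, 8),
    (nat_lit 0x687102435, 4), (nat_lit 0x768435102, 8), (nat_lit 0x768102543, 8),
    (nat_lit 0x768021354, 8), (nat_lit 0x687102354, 4), (nat_lit 0x768435021, 8),
    (nat_lit 0x768210435, 8), (nat_lit 0x687021435, 4), (nat_lit 0x768354102, 8),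
    (nat_lit 0x687435102, 4), (nat_lit 0x768021543, 8), (nat_lit 0x687102543, 4),
    (nat_lit 0x768435210, 8), (nat_lit 0x768210354, 8), (nat_lit 0x687021354, 4),
    (nat_lit 0x768354021, 8), (nat_lit 0x687435021, 4), (nat_lit 0x687210435, 4),
    (nat_lit 0x768543102, 8), (nat_lit 0x687354102, 4), (nat_lit 0x768210543, 8),
    (nat_lit 0x687021543, 4), (nat_lit 0x768354210, 8), (nat_lit 0x687435210, 4),
    (nat_lit 0x687210354, 4), (nat_lit 0x768543021, 8), (nat_lit 0x687354021, 4),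
    (nat_lit 0x687543102, 4), (nat_lit 0x687210543, 4), (nat_lit 0x768543210, 8),
    (nat_lit 0x687354210, 4), (nat_lit 0x687543021, 4), (nat_lit 0x687543210, 4)],
    [(nat_lit 0x768102435, 4), (nat_lit 0x768102354, 8), (nat_lit 0x768021435, 8),
    (nat_lit 0x768435102, 4), (nat_lit 0x687102354, 4), (nat_lit 0x768435021, 8),
    (nat_lit 0x687021435, 4), (nat_lit 0x768354102, 8), (nat_lit 0x876102435, 8),
    (nat_lit 0x768021543, 4), (nat_lit 0x687102543, 8), (nat_lit 0x768210354, 4),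
    (nat_lit 0x687021354, 8), (nat_lit 0x687435021, 4), (nat_lit 0x687210435, 8),
    (nat_lit 0x687354102, 4), (nat_lit 0x876435102, 8), (nat_lit 0x768210543, 8),
    (nat_lit 0x768354210, 4), (nat_lit 0x876102543, 4), (nat_lit 0x687435210, 8),
    (nat_lit 0x768543021, 4), (nat_lit 0x876021354, 4), (nat_lit 0x687354021, 8),
    (nat_lit 0x876210435, 4), (nat_lit 0x687543102, 8), (nat_lit 0x687210543, 4),
    (nat_lit 0x768543210, 8), (nat_lit 0x876021543, 8), (nat_lit 0x876435210, 4),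
    (nat_lit 0x876210354, 8), (nat_lit 0x876354021, 4), (nat_lit 0x876543102, 4),
    (nat_lit 0x687543210, 4), (nat_lit 0x876354210, 8), (nat_lit 0x876543021, 8)],
    [3, -3, 12, 6, -3, -6, -6, -3, 0, 18, 9, 0, 0, -9, -9, 9, -18, 0, 0], [6, -6, 6, -6, 3, -3, -3, 3, 0, 9, -9, 0, 0, 9, -18, 18, -9, 0, 0]),
    ([(nat_lit 0x768102435, 8), (nat_lit 0x768102354, 8), (nat_lit 0x768021435, 8),
    (nat_lit 0x687102435, 4), (nat_lit 0x768435102, 8), (nat_lit 0x768102543, 8),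
    (nat_lit 0x768021354, 8), (nat_lit 0x687102354, 4), (nat_lit 0x768435021, 8),
    (nat_lit 0x768210435, 8), (nat_lit 0x687021435, 4), (nat_lit 0x768354102, 8),
    (nat_lit 0x687435102, 4), (nat_lit 0x768021543, 8), (nat_lit 0x687102543, 4),
    (nat_lit 0x768435210, 8), (nat_lit 0x768210354, 8), (nat_lit 0x687021354, 4),
    (nat_lit 0x768354021, 8), (nat_lit 0x687435021, 4), (nat_lit 0x687210435, 4),
    (nat_lit 0x768543102, 8), (nat_lit 0x687354102, 4), (nat_lit 0x768210543, 8),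
    (nat_lit 0x687021543, 4), (nat_lit 0x768354210, 8), (nat_lit 0x687435210, 4),
    (nat_lit 0x687210354, 4), (nat_lit 0x768543021, 8), (nat_lit 0x687354021, 4),
    (nat_lit 0x687543102, 4), (nat_lit 0x687210543, 4), (nat_lit 0x768543210, 8),
    (nat_lit 0x687354210, 4), (nat_lit 0x687543021, 4), (nat_lit 0x687543210, 4)],
    [(nat_lit 0x768102435, 8), (nat_lit 0x687102435, 8), (nat_lit 0x768435102, 8),
    (nat_lit 0x768102543, 4), (nat_lit 0x768021354, 4), (nat_lit 0x768210435, 4),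
    (nat_lit 0x876102435, 8), (nat_lit 0x687435102, 8), (nat_lit 0x768021543, 8),
    (nat_lit 0x687102543, 4), (nat_lit 0x768435210, 4), (nat_lit 0x768210354, 8),
    (nat_lit 0x687021354, 4), (nat_lit 0x768354021, 4), (nat_lit 0x687210435, 4),
    (nat_lit 0x768543102, 4), (nat_lit 0x876435102, 8), (nat_lit 0x687021543, 8),
    (nat_lit 0x768354210, 8), (nat_lit 0x876102543, 4), (nat_lit 0x687435210, 4),
    (nat_lit 0x687210354, 8), (nat_lit 0x768543021, 8), (nat_lit 0x876021354, 4),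
    (nat_lit 0x687354021, 4), (nat_lit 0x876210435, 4), (nat_lit 0x687543102, 4),
    (nat_lit 0x876021543, 8), (nat_lit 0x687354210, 8), (nat_lit 0x876435210, 4),
    (nat_lit 0x876210354, 8), (nat_lit 0x687543021, 8), (nat_lit 0x876354021, 4),
    (nat_lit 0x876543102, 4), (nat_lit 0x876354210, 8), (nat_lit 0x876543021, 8)],
    [0, 0, 9, 0, 9, 0, -9, -9, 0, 18, 9, -9, -18, 9, 0, 0, -9, 0, 0], [0, 0, 9, -9, 9, -9, 0, 0, 0, 9, -9, 9, -9, 18, 0, 0, -18, 0, 0]),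
    ([],
    [(nat_lit 0x768102435, 8), (nat_lit 0x768102354, 8), (nat_lit 0x768021435, 8),
    (nat_lit 0x687102435, 4), (nat_lit 0x768435102, 8), (nat_lit 0x768102543, 8),
    (nat_lit 0x768021354, 8), (nat_lit 0x687102354, 4), (nat_lit 0x768435021, 8),
    (nat_lit 0x768210435, 8), (nat_lit 0x687021435, 4), (nat_lit 0x768354102, 8),
    (nat_lit 0x687435102, 4), (nat_lit 0x768021543, 8), (nat_lit 0x687102543, 4),
    (nat_lit 0x768435210, 8), (nat_lit 0x768210354, 8), (nat_lit 0x687021354, 4),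
    (nat_lit 0x768354021, 8), (nat_lit 0x687435021, 4), (nat_lit 0x687210435, 4),
    (nat_lit 0x768543102, 8), (nat_lit 0x687354102, 4), (nat_lit 0x768210543, 8),
    (nat_lit 0x687021543, 4), (nat_lit 0x768354210, 8), (nat_lit 0x687435210, 4),
    (nat_lit 0x687210354, 4), (nat_lit 0x768543021, 8), (nat_lit 0x687354021, 4),
    (nat_lit 0x687543102, 4), (nat_lit 0x687210543, 4), (nat_lit 0x768543210, 8),
    (nat_lit 0x687354210, 4), (nat_lit 0x687543021, 4), (nat_lit 0x687543210, 4)],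
    [3, 6, 3, 6, 6, 12, 12, 15, 18, 0, 0, 9, 18, 9, 18, 9, 18, 0, 0], [-3, 3, -3, 3, -6, 6, -3, 3, 0, 0, 0, -9, 9, -9, 9, -9, 9, 0, 0]),
    ([(nat_lit 0x768102435, 8), (nat_lit 0x768102354, 8), (nat_lit 0x768021435, 8),
    (nat_lit 0x687102435, 4), (nat_lit 0x768435102, 8), (nat_lit 0x768102543, 8),
    (nat_lit 0x768021354, 8), (nat_lit 0x687102354, 4), (nat_lit 0x768435021, 8),
    (nat_lit 0x768210435, 8), (nat_lit 0x687021435, 4), (nat_lit 0x768354102, 8),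
    (nat_lit 0x687435102, 4), (nat_lit 0x768021543, 8), (nat_lit 0x687102543, 4),
    (nat_lit 0x768435210, 8), (nat_lit 0x768210354, 8), (nat_lit 0x687021354, 4),
    (nat_lit 0x768354021, 8), (nat_lit 0x687435021, 4), (nat_lit 0x687210435, 4),
    (nat_lit 0x768543102, 8), (nat_lit 0x687354102, 4), (nat_lit 0x768210543, 8),
    (nat_lit 0x687021543, 4), (nat_lit 0x768354210, 8), (nat_lit 0x687435210, 4),
    (nat_lit 0x687210354, 4), (nat_lit 0x768543021, 8), (nat_lit 0x687354021, 4),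
    (nat_lit 0x687543102, 4), (nat_lit 0x687210543, 4), (nat_lit 0x768543210, 8),
    (nat_lit 0x687354210, 4), (nat_lit 0x687543021, 4), (nat_lit 0x687543210, 4)],
    [(nat_lit 0x768102354, 8), (nat_lit 0x768021435, 8), (nat_lit 0x687102435, 8),
    (nat_lit 0x768102543, 4), (nat_lit 0x768021354, 4), (nat_lit 0x687102354, 4),
    (nat_lit 0x768435021, 8), (nat_lit 0x768210435, 4), (nat_lit 0x687021435, 4),
    (nat_lit 0x768354102, 8), (nat_lit 0x876102435, 4), (nat_lit 0x687435102, 8),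
    (nat_lit 0x768435210, 4), (nat_lit 0x768354021, 4), (nat_lit 0x687435021, 4),
    (nat_lit 0x768543102, 4), (nat_lit 0x687354102, 4), (nat_lit 0x876435102, 4),
    (nat_lit 0x768210543, 8), (nat_lit 0x687021543, 8), (nat_lit 0x876102543, 8),
    (nat_lit 0x687210354, 8), (nat_lit 0x876021354, 8), (nat_lit 0x876210435, 8),
    (nat_lit 0x687210543, 4), (nat_lit 0x768543210, 8), (nat_lit 0x876021543, 4),
    (nat_lit 0x687354210, 8), (nat_lit 0x876435210, 8), (nat_lit 0x876210354, 4),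
    (nat_lit 0x687543021, 8), (nat_lit 0x876354021, 8), (nat_lit 0x876543102, 8),
    (nat_lit 0x687543210, 4), (nat_lit 0x876354210, 4), (nat_lit 0x876543021, 4)],
    [-3, -6, 6, 12, 12, -3, -3, 3, -18, 9, 18, 0, 0, 9, -18, -9, -9, 0, 0], [3, -3, -6, 6, 15, -15, -6, 6, 0, -9, 9, 0, 0, 18, -9, 9, -18, 0, 0]),
    ([(nat_lit 0x768102435, 8), (nat_lit 0x768102354, 8), (nat_lit 0x768021435, 8),
    (nat_lit 0x687102435, 4), (nat_lit 0x768435102, 8), (nat_lit 0x768102543, 8),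
    (nat_lit 0x768021354, 8), (nat_lit 0x687102354, 4), (nat_lit 0x768435021, 8),
    (nat_lit 0x768210435, 8), (nat_lit 0x687021435, 4), (nat_lit 0x768354102, 8),
    (nat_lit 0x687435102, 4), (nat_lit 0x768021543, 8), (nat_lit 0x687102543, 4),
    (nat_lit 0x768435210, 8), (nat_lit 0x768210354, 8), (nat_lit 0x687021354, 4),
    (nat_lit 0x768354021, 8), (nat_lit 0x687435021, 4), (nat_lit 0x687210435, 4),
    (nat_lit 0x768543102, 8), (nat_lit 0x687354102, 4), (nat_lit 0x768210543, 8),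
    (nat_lit 0x687021543, 4), (nat_lit 0x768354210, 8), (nat_lit 0x687435210, 4),
    (nat_lit 0x687210354, 4), (nat_lit 0x768543021, 8), (nat_lit 0x687354021, 4),
    (nat_lit 0x687543102, 4), (nat_lit 0x687210543, 4), (nat_lit 0x768543210, 8),
    (nat_lit 0x687354210, 4), (nat_lit 0x687543021, 4), (nat_lit 0x687543210, 4)],
    [(nat_lit 0x768102354, 4), (nat_lit 0x768021435, 4), (nat_lit 0x687102435, 4),
    (nat_lit 0x768102543, 8), (nat_lit 0x768021354, 8), (nat_lit 0x687102354, 8),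
    (nat_lit 0x768435021, 4), (nat_lit 0x768210435, 8), (nat_lit 0x687021435, 8),
    (nat_lit 0x768354102, 4), (nat_lit 0x876102435, 8), (nat_lit 0x687435102, 4),
    (nat_lit 0x768435210, 8), (nat_lit 0x768354021, 8), (nat_lit 0x687435021, 8),
    (nat_lit 0x768543102, 8), (nat_lit 0x687354102, 8), (nat_lit 0x876435102, 8),
    (nat_lit 0x768210543, 4), (nat_lit 0x687021543, 4), (nat_lit 0x876102543, 4),
    (nat_lit 0x687210354, 4), (nat_lit 0x876021354, 4), (nat_lit 0x876210435, 4),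
    (nat_lit 0x687210543, 8), (nat_lit 0x768543210, 4), (nat_lit 0x876021543, 8),
    (nat_lit 0x687354210, 4), (nat_lit 0x876435210, 4), (nat_lit 0x876210354, 8),
    (nat_lit 0x687543021, 4), (nat_lit 0x876354021, 4), (nat_lit 0x876543102, 4),
    (nat_lit 0x687543210, 8), (nat_lit 0x876354210, 8), (nat_lit 0x876543021, 8)],
    [-3, -6, 15, 3, 3, 6, 6, -6, -18, 18, 9, 9, -9, 0, -18, -9, 0, 0, 0], [3, -3, 12, -12, -3, 3, 12, -12, 0, 9, -9, 18, -18, 0, -9, 9, 0, 0, 0])]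
set_option maxHeartbeats 0 in
theorem hS2 : S2.ok 9 LC9 reps 19 162 = true := by decide +kernel
def S1 : Sub where
  gM := [nat_lit 0x876543021, nat_lit 0x876354210, nat_lit 0x687543210, nat_lit 0x876543210, nat_lit 0x210876543]
  LM := [
    nat_lit 0x435102768, nat_lit 0x435102687, nat_lit 0x435021768, nat_lit 0x354102768,
    nat_lit 0x102768435, nat_lit 0x435102876, nat_lit 0x435021687, nat_lit 0x354102687,
    nat_lit 0x102768354, nat_lit 0x435210768, nat_lit 0x354021768, nat_lit 0x102687435,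
    nat_lit 0x543102768, nat_lit 0x021768435, nat_lit 0x768435102, nat_lit 0x435021876,
    nat_lit 0x354102876, nat_lit 0x102768543, nat_lit 0x435210687, nat_lit 0x354021687,
    nat_lit 0x102687354, nat_lit 0x543102687, nat_lit 0x021768354, nat_lit 0x768435021,
    nat_lit 0x354210768, nat_lit 0x102876435, nat_lit 0x543021768, nat_lit 0x021687435,
    nat_lit 0x768354102, nat_lit 0x210768435, nat_lit 0x687435102, nat_lit 0x435210876,
    nat_lit 0x354021876, nat_lit 0x102687543, nat_lit 0x543102876, nat_lit 0x021768543,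
    nat_lit 0x768435210, nat_lit 0x354210687, nat_lit 0x102876354, nat_lit 0x543021687,
    nat_lit 0x021687354, nat_lit 0x768354021, nat_lit 0x210768354, nat_lit 0x687435021,
    nat_lit 0x543210768, nat_lit 0x021876435, nat_lit 0x768543102, nat_lit 0x210687435,
    nat_lit 0x687354102, nat_lit 0x876435102, nat_lit 0x354210876, nat_lit 0x102876543,
    nat_lit 0x543021876, nat_lit 0x021687543, nat_lit 0x768354210, nat_lit 0x210768543,
    nat_lit 0x687435210, nat_lit 0x543210687, nat_lit 0x021876354, nat_lit 0x768543021,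
    nat_lit 0x210687354, nat_lit 0x687354021, nat_lit 0x876435021, nat_lit 0x210876435,
    nat_lit 0x687543102, nat_lit 0x876354102, nat_lit 0x543210876, nat_lit 0x021876543,
    nat_lit 0x768543210, nat_lit 0x210687543, nat_lit 0x687354210, nat_lit 0x876435210,
    nat_lit 0x210876354, nat_lit 0x687543021, nat_lit 0x876354021, nat_lit 0x876543102,
    nat_lit 0x210876543, nat_lit 0x687543210, nat_lit 0x876354210, nat_lit 0x876543021,
    nat_lit 0x876543210]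
  T := [
    (nat_lit 0x435102768, 0, nat_lit 0x876543210),
    (nat_lit 0x435102687, 18, nat_lit 0x102435876),
    (nat_lit 0x435021768, 18, nat_lit 0x210543768),
    (nat_lit 0x354102768, 18, nat_lit 0x876102435),
    (nat_lit 0x102768435, 0, nat_lit 0x876543210),
    (nat_lit 0x435102876, 17, nat_lit 0x876021543),
    (nat_lit 0x435021687, 17, nat_lit 0x543687210),
    (nat_lit 0x354102687, 17, nat_lit 0x543768210),
    (nat_lit 0x102768354, 18, nat_lit 0x543210687),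
    (nat_lit 0x435210768, 17, nat_lit 0x876021435),
    (nat_lit 0x354021768, 17, nat_lit 0x876102435),
    (nat_lit 0x102687435, 18, nat_lit 0x543102687),
    (nat_lit 0x543102768, 17, nat_lit 0x876210435),
    (nat_lit 0x021768435, 18, nat_lit 0x543210768),
    (nat_lit 0x768435102, 1, nat_lit 0x876543210), (nat_lit 0x435021876, 0, nat_lit 0x876543210),
    (nat_lit 0x354102876, 0, nat_lit 0x876543210),
    (nat_lit 0x102768543, 17, nat_lit 0x021876543),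
    (nat_lit 0x435210687, 0, nat_lit 0x876543210), (nat_lit 0x354021687, 0, nat_lit 0x876543210),
    (nat_lit 0x102687354, 17, nat_lit 0x543210687),
    (nat_lit 0x543102687, 0, nat_lit 0x876543210),
    (nat_lit 0x021768354, 17, nat_lit 0x210768543),
    (nat_lit 0x768435021, 7, nat_lit 0x876210543), (nat_lit 0x354210768, 0, nat_lit 0x876543210),
    (nat_lit 0x102876435, 17, nat_lit 0x876543021),
    (nat_lit 0x543021768, 0, nat_lit 0x876543210),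
    (nat_lit 0x021687435, 17, nat_lit 0x543210768),
    (nat_lit 0x768354102, 7, nat_lit 0x876543210),
    (nat_lit 0x210768435, 17, nat_lit 0x543021876),
    (nat_lit 0x687435102, 7, nat_lit 0x543210876),
    (nat_lit 0x435210876, 18, nat_lit 0x210543876),
    (nat_lit 0x354021876, 18, nat_lit 0x876102543),
    (nat_lit 0x102687543, 0, nat_lit 0x876543210),
    (nat_lit 0x543102876, 18, nat_lit 0x876210543),
    (nat_lit 0x021768543, 0, nat_lit 0x876543210), (nat_lit 0x768435210, 5, nat_lit 0x543210876),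
    (nat_lit 0x354210687, 18, nat_lit 0x102543876),
    (nat_lit 0x102876354, 0, nat_lit 0x876543210),
    (nat_lit 0x543021687, 18, nat_lit 0x543876102),
    (nat_lit 0x021687354, 0, nat_lit 0x876543210), (nat_lit 0x768354021, 6, nat_lit 0x210876543),
    (nat_lit 0x210768354, 0, nat_lit 0x876543210), (nat_lit 0x687435021, 6, nat_lit 0x543210876),
    (nat_lit 0x543210768, 18, nat_lit 0x543876210),
    (nat_lit 0x021876435, 0, nat_lit 0x876543210), (nat_lit 0x768543102, 5, nat_lit 0x210876543),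
    (nat_lit 0x210687435, 0, nat_lit 0x876543210), (nat_lit 0x687354102, 6, nat_lit 0x876543210),
    (nat_lit 0x876435102, 5, nat_lit 0x876543210),
    (nat_lit 0x354210876, 17, nat_lit 0x876102543),
    (nat_lit 0x102876543, 18, nat_lit 0x876543021),
    (nat_lit 0x543021876, 17, nat_lit 0x876210543),
    (nat_lit 0x021687543, 18, nat_lit 0x543102768),
    (nat_lit 0x768354210, 8, nat_lit 0x210543876),
    (nat_lit 0x210768543, 18, nat_lit 0x543210876),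
    (nat_lit 0x687435210, 8, nat_lit 0x543210876),
    (nat_lit 0x543210687, 17, nat_lit 0x543876210),
    (nat_lit 0x021876354, 18, nat_lit 0x876543102),
    (nat_lit 0x768543021, 8, nat_lit 0x210876543),
    (nat_lit 0x210687354, 18, nat_lit 0x543102876),
    (nat_lit 0x687354021, 0, nat_lit 0x876543210), (nat_lit 0x876435021, 8, nat_lit 0x876210543),
    (nat_lit 0x210876435, 18, nat_lit 0x876543210),
    (nat_lit 0x687543102, 8, nat_lit 0x543876210), (nat_lit 0x876354102, 8, nat_lit 0x876543210),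
    (nat_lit 0x543210876, 0, nat_lit 0x876543210),
    (nat_lit 0x021876543, 17, nat_lit 0x876543102),
    (nat_lit 0x768543210, 3, nat_lit 0x210876543),
    (nat_lit 0x210687543, 17, nat_lit 0x543210876),
    (nat_lit 0x687354210, 4, nat_lit 0x543210876), (nat_lit 0x876435210, 3, nat_lit 0x543210876),
    (nat_lit 0x210876354, 17, nat_lit 0x876543210),
    (nat_lit 0x687543021, 4, nat_lit 0x210876543), (nat_lit 0x876354021, 4, nat_lit 0x876543210),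
    (nat_lit 0x876543102, 3, nat_lit 0x876543210), (nat_lit 0x210876543, 0, nat_lit 0x876543210),
    (nat_lit 0x687543210, 2, nat_lit 0x210876543), (nat_lit 0x876354210, 2, nat_lit 0x543210876),
    (nat_lit 0x876543021, 2, nat_lit 0x876543210), (nat_lit 0x876543210, 0, nat_lit 0x876543210)]
  E := 2
  F := [([(nat_lit 0x435102768, 8), (nat_lit 0x435102687, 8), (nat_lit 0x435021768, 8),
    (nat_lit 0x354102768, 8), (nat_lit 0x102768435, 4), (nat_lit 0x435102876, 8),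
    (nat_lit 0x435021687, 8), (nat_lit 0x354102687, 8), (nat_lit 0x102768354, 4),
    (nat_lit 0x435210768, 8), (nat_lit 0x354021768, 8), (nat_lit 0x102687435, 4),
    (nat_lit 0x543102768, 8), (nat_lit 0x021768435, 4), (nat_lit 0x435021876, 8),
    (nat_lit 0x354102876, 8), (nat_lit 0x102768543, 4), (nat_lit 0x435210687, 8),
    (nat_lit 0x354021687, 8), (nat_lit 0x102687354, 4), (nat_lit 0x543102687, 8),
    (nat_lit 0x021768354, 4), (nat_lit 0x354210768, 8), (nat_lit 0x102876435, 4),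
    (nat_lit 0x543021768, 8), (nat_lit 0x021687435, 4), (nat_lit 0x210768435, 4),
    (nat_lit 0x435210876, 8), (nat_lit 0x354021876, 8), (nat_lit 0x102687543, 4),
    (nat_lit 0x543102876, 8), (nat_lit 0x021768543, 4), (nat_lit 0x354210687, 8),
    (nat_lit 0x102876354, 4), (nat_lit 0x543021687, 8), (nat_lit 0x021687354, 4),
    (nat_lit 0x210768354, 4), (nat_lit 0x543210768, 8), (nat_lit 0x021876435, 4),
    (nat_lit 0x210687435, 4), (nat_lit 0x354210876, 8), (nat_lit 0x102876543, 4),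
    (nat_lit 0x543021876, 8), (nat_lit 0x021687543, 4), (nat_lit 0x210768543, 4),
    (nat_lit 0x543210687, 8), (nat_lit 0x021876354, 4), (nat_lit 0x210687354, 4),
    (nat_lit 0x210876435, 4), (nat_lit 0x543210876, 8), (nat_lit 0x021876543, 4),
    (nat_lit 0x210687543, 4), (nat_lit 0x210876354, 4), (nat_lit 0x210876543, 4)],
    [(nat_lit 0x435102768, 8), (nat_lit 0x435102687, 4), (nat_lit 0x435021768, 4),
    (nat_lit 0x354102768, 4), (nat_lit 0x102768435, 4), (nat_lit 0x435021876, 8),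
    (nat_lit 0x354102876, 8), (nat_lit 0x102768543, 8), (nat_lit 0x435210687, 8),
    (nat_lit 0x354021687, 8), (nat_lit 0x102687354, 8), (nat_lit 0x543102687, 8),
    (nat_lit 0x021768354, 8), (nat_lit 0x768435021, 8), (nat_lit 0x354210768, 8),
    (nat_lit 0x102876435, 8), (nat_lit 0x543021768, 8), (nat_lit 0x021687435, 8),
    (nat_lit 0x768354102, 8), (nat_lit 0x210768435, 8), (nat_lit 0x687435102, 8),
    (nat_lit 0x435210876, 4), (nat_lit 0x354021876, 4), (nat_lit 0x102687543, 4),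
    (nat_lit 0x543102876, 4), (nat_lit 0x021768543, 4), (nat_lit 0x768435210, 4),
    (nat_lit 0x354210687, 4), (nat_lit 0x102876354, 4), (nat_lit 0x543021687, 4),
    (nat_lit 0x021687354, 4), (nat_lit 0x768354021, 4), (nat_lit 0x210768354, 4),
    (nat_lit 0x687435021, 4), (nat_lit 0x543210768, 4), (nat_lit 0x021876435, 4),
    (nat_lit 0x768543102, 4), (nat_lit 0x210687435, 4), (nat_lit 0x687354102, 4),
    (nat_lit 0x876435102, 4), (nat_lit 0x543210876, 8), (nat_lit 0x021876543, 8),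
    (nat_lit 0x768543210, 8), (nat_lit 0x210687543, 8), (nat_lit 0x687354210, 8),
    (nat_lit 0x876435210, 8), (nat_lit 0x210876354, 8), (nat_lit 0x687543021, 8),
    (nat_lit 0x876354021, 8), (nat_lit 0x876543102, 8), (nat_lit 0x210876543, 4),
    (nat_lit 0x687543210, 4), (nat_lit 0x876354210, 4), (nat_lit 0x876543021, 4)],
    [0, 0, 6, 12, 12, 6, 6, 12, 0, 0, 0, 0, 0, 0, 0, 0, 0, -18, -36], [0, 0, -6, 6, 6, -6, -6, 6, 0, 0, 0, 0, 0, 0, 0, 0, 0, 18, -18]),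
    ([(nat_lit 0x435102768, 8), (nat_lit 0x435102687, 8), (nat_lit 0x435021768, 8),
    (nat_lit 0x354102768, 8), (nat_lit 0x102768435, 4), (nat_lit 0x435102876, 8),
    (nat_lit 0x435021687, 8), (nat_lit 0x354102687, 8), (nat_lit 0x102768354, 4),
    (nat_lit 0x435210768, 8), (nat_lit 0x354021768, 8), (nat_lit 0x102687435, 4),
    (nat_lit 0x543102768, 8), (nat_lit 0x021768435, 4), (nat_lit 0x435021876, 8),
    (nat_lit 0x354102876, 8), (nat_lit 0x102768543, 4), (nat_lit 0x435210687, 8),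
    (nat_lit 0x354021687, 8), (nat_lit 0x102687354, 4), (nat_lit 0x543102687, 8),
    (nat_lit 0x021768354, 4), (nat_lit 0x354210768, 8), (nat_lit 0x102876435, 4),
    (nat_lit 0x543021768, 8), (nat_lit 0x021687435, 4), (nat_lit 0x210768435, 4),
    (nat_lit 0x435210876, 8), (nat_lit 0x354021876, 8), (nat_lit 0x102687543, 4),
    (nat_lit 0x543102876, 8), (nat_lit 0x021768543, 4), (nat_lit 0x354210687, 8),
    (nat_lit 0x102876354, 4), (nat_lit 0x543021687, 8), (nat_lit 0x021687354, 4),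
    (nat_lit 0x210768354, 4), (nat_lit 0x543210768, 8), (nat_lit 0x021876435, 4),
    (nat_lit 0x210687435, 4), (nat_lit 0x354210876, 8), (nat_lit 0x102876543, 4),
    (nat_lit 0x543021876, 8), (nat_lit 0x021687543, 4), (nat_lit 0x210768543, 4),
    (nat_lit 0x543210687, 8), (nat_lit 0x021876354, 4), (nat_lit 0x210687354, 4),
    (nat_lit 0x210876435, 4), (nat_lit 0x543210876, 8), (nat_lit 0x021876543, 4),
    (nat_lit 0x210687543, 4), (nat_lit 0x210876354, 4), (nat_lit 0x210876543, 4)],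
    [(nat_lit 0x435102768, 8), (nat_lit 0x102768435, 4), (nat_lit 0x435102876, 4),
    (nat_lit 0x435021687, 4), (nat_lit 0x354102687, 4), (nat_lit 0x102768354, 8),
    (nat_lit 0x435210768, 4), (nat_lit 0x354021768, 4), (nat_lit 0x102687435, 8),
    (nat_lit 0x543102768, 4), (nat_lit 0x021768435, 8), (nat_lit 0x435021876, 8),
    (nat_lit 0x354102876, 8), (nat_lit 0x435210687, 8), (nat_lit 0x354021687, 8),
    (nat_lit 0x543102687, 8), (nat_lit 0x768435021, 4), (nat_lit 0x354210768, 8),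
    (nat_lit 0x543021768, 8), (nat_lit 0x768354102, 4), (nat_lit 0x687435102, 4),
    (nat_lit 0x102687543, 4), (nat_lit 0x021768543, 4), (nat_lit 0x768435210, 8),
    (nat_lit 0x102876354, 4), (nat_lit 0x021687354, 4), (nat_lit 0x768354021, 8),
    (nat_lit 0x210768354, 4), (nat_lit 0x687435021, 8), (nat_lit 0x021876435, 4),
    (nat_lit 0x768543102, 8), (nat_lit 0x210687435, 4), (nat_lit 0x687354102, 8),
    (nat_lit 0x876435102, 8), (nat_lit 0x354210876, 4), (nat_lit 0x102876543, 8),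
    (nat_lit 0x543021876, 4), (nat_lit 0x021687543, 8), (nat_lit 0x210768543, 8),
    (nat_lit 0x543210687, 4), (nat_lit 0x021876354, 8), (nat_lit 0x210687354, 8),
    (nat_lit 0x210876435, 8), (nat_lit 0x543210876, 8), (nat_lit 0x768543210, 4),
    (nat_lit 0x687354210, 4), (nat_lit 0x876435210, 4), (nat_lit 0x687543021, 4),
    (nat_lit 0x876354021, 4), (nat_lit 0x876543102, 4), (nat_lit 0x210876543, 4),
    (nat_lit 0x687543210, 8), (nat_lit 0x876354210, 8), (nat_lit 0x876543021, 8)],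
    [0, 0, 12, 6, 6, 12, 12, 6, 0, 0, 0, 0, 0, 0, 0, 0, 0, -36, -18], [0, 0, 6, -6, -6, 6, 6, -6, 0, 0, 0, 0, 0, 0, 0, 0, 0, -18, 18])]
set_option maxHeartbeats 0 in
theorem hS1 : S1.ok 9 LC9 reps 19 162 = true := by decide +kernel
def P : List (List ℤ) := [[0, 0, 3, 6, 6, 3, 3, 6, 0, 9, 18, 9, 18, 18, 0, 0, 9, 18, 36],
  [0, 0, -6, -3, -3, -6, -6, -3, 0, -18, -9, -18, -9, -9, 0, 0, -18, -36, -18],
  [3, -3, 3, -3, 6, -6, 3, -3, 0, 0, 0, 9, -9, 9, -9, 9, -9, 0, 0],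
  [6, 3, 6, 3, 12, 6, 15, 12, 18, 0, 0, 18, 9, 18, 9, 18, 9, 0, 0],
  [0, 0, 0, 9, 0, 9, -9, -9, 0, 9, 18, -18, -9, -9, 0, 0, 9, 0, 0],
  [-3, -6, 3, 6, 6, -6, -6, -3, -18, 0, 0, -9, -18, -9, -18, -9, -18, -18, -36],
  [0, 0, 9, 9, 0, -9, 0, -9, 0, 9, 18, 9, -9, -9, 0, 0, -18, 0, 0],
  [3, -3, 12, 6, -3, -6, -6, -3, 0, 18, 9, 0, 0, -9, -9, 9, -18, 0, 0],
  [0, 0, 9, 0, 9, 0, -9, -9, 0, 18, 9, -9, -18, 9, 0, 0, -9, 0, 0],
  [3, 6, -9, 0, 0, 0, 0, 9, 18, 0, 0, 9, 18, 9, 18, 9, 18, 36, 18],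
  [3, -3, 3, 6, 6, 3, -6, -12, 0, -9, -18, 9, 18, 0, 9, -9, 0, 0, 0],
  [-3, 3, 6, -6, 3, -3, -3, 3, 0, -9, 9, 0, 0, -9, -9, 9, 9, 0, 0],
  [-3, 3, 6, 3, -6, -12, 6, 3, 0, 0, 0, -18, -9, 9, -9, 9, 18, 0, 0],
  [0, 0, 9, 0, -9, -9, 0, 9, 0, -9, 9, -9, -18, 9, 0, 0, 18, 0, 0],
  [0, 0, 0, 9, 0, 9, -9, -9, 0, -9, -18, 18, 9, 9, 0, 0, -9, 0, 0],
  [3, -3, 0, 0, 0, 0, -9, -18, 0, 0, 0, 0, 0, 0, -27, -27, -27, -18, -36],
  [0, 0, 0, 9, 0, 9, -9, -9, 0, -9, -18, -18, -9, -27, -18, -36, -27, 0, 0],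
  [-3, 3, 3, -3, -3, 3, 12, 15, 0, -9, 9, -9, 9, 9, 27, 27, 18, 36, 18],
  [9, 9, -9, 0, 0, 9, 0, 0, -18, -9, -18, 9, 18, 0, 9, -9, 0, 0, 0]]
def Q : List (List ℤ) := [[0, 0, -3, 3, 3, -3, -3, 3, 0, -9, 9, -9, 9, 9, 0, 0, -9, -18, 18],
  [0, 0, -3, 3, 3, -3, -3, 3, 0, -9, 9, -9, 9, 9, 0, 0, -9, -18, 18],
  [6, -6, 6, -6, 12, -12, 6, -6, 0, 0, 0, 18, -18, 18, -18, 18, -18, 0, 0],
  [3, -3, 3, -3, 6, -6, 3, -3, 0, 0, 0, 9, -9, 9, -9, 9, -9, 0, 0],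
  [0, 0, -9, 9, -9, 9, 0, 0, 0, -9, 9, -9, 9, -18, 0, 0, 18, 0, 0],
  [3, -3, -3, 3, 12, -12, -3, 3, 0, 0, 0, 9, -9, 9, -9, 9, -9, 18, -18],
  [0, 0, 0, 0, 9, -9, 9, -9, 0, -9, 9, 18, -18, 9, 0, 0, -9, 0, 0],
  [6, -6, 6, -6, 3, -3, -3, 3, 0, 9, -9, 0, 0, 9, -18, 18, -9, 0, 0],
  [0, 0, 9, -9, 9, -9, 0, 0, 0, 9, -9, 9, -9, 18, 0, 0, -18, 0, 0],
  [-3, 3, -9, 9, 0, 0, -9, 9, 0, 0, 0, -9, 9, -9, 9, -9, 9, 18, -18],
  [6, -6, -3, 3, 3, -3, 6, -6, 0, 9, -9, -9, 9, 0, 18, -18, 0, 0, 0],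
  [-6, 6, 12, -12, 6, -6, -6, 6, 0, -18, 18, 0, 0, -18, -18, 18, 18, 0, 0],
  [-6, 6, 3, -3, 6, -6, 3, -3, 0, 0, 0, -9, 9, -9, -18, 18, 9, 0, 0],
  [0, 0, 9, -9, 0, 0, -9, 9, 0, -18, 18, 9, -9, -9, 0, 0, 9, 0, 0],
  [0, 0, -9, 9, -9, 9, 0, 0, 0, 9, -9, 9, -9, 18, 0, 0, -18, 0, 0],
  [6, -6, 0, 0, 0, 0, 9, -9, 0, 0, 0, 0, 0, 27, 0, 0, -27, 18, -18],
  [0, 0, -9, 9, -9, 9, 0, 0, 0, 9, -9, -9, 9, 0, 18, -18, 0, 0, 0],
  [-6, 6, 6, -6, -6, 6, -3, 3, 0, -18, 18, -18, 18, -9, 0, 0, 9, 18, -18],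
  [0, 0, -9, 9, -9, 9, 0, 0, 0, 9, -9, -9, 9, 0, 18, -18, 0, 0, 0]]
def R : List (List ℤ) := [[1, 0, 0, 0, 0, 0, 0, 0, 0, 0, 0, 0, 0, 0, 0, 0, 0, 0, 0],
  [0, 1, 0, 0, 0, 0, 0, 0, 0, 0, 0, 0, 0, 0, 0, 0, 0, 0, 0],
  [0, 0, 2, 1, -1, 1, 1, 1, 1, -1, 0, 0, 0, 0, 0, 1, -1, -1, -1],
  [0, 0, 1, 2, -1, 0, 0, 0, 0, 0, 0, 0, 0, 0, 0, 0, -1, 0, 0],
  [0, 0, -1, -1, 2, 0, 0, 0, 0, 0, 0, 0, 0, 0, 0, 0, 1, 0, 0],
  [0, 0, 1, 0, 0, 2, 1, 1, 1, -1, 0, 0, 0, 0, 0, 1, 0, -1, -1],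
  [0, 0, 1, 0, 0, 1, 2, 1, 1, -1, 0, 0, 0, 0, 0, 1, 0, -1, -1],
  [0, 0, 1, 0, 0, 1, 1, 2, 1, -1, 0, 0, 0, 0, 0, 1, 0, -1, -1],
  [0, 0, 1, 0, 0, 1, 1, 1, 2, -1, 0, 0, 0, 0, 0, 1, 0, -1, -1],
  [0, 0, -1, 0, 0, -1, -1, -1, -1, 2, 0, 0, 0, 0, 0, -1, 0, 1, 1],
  [0, 0, 0, 0, 0, 0, 0, 0, 0, 0, 2, -1, -1, -1, 1, 1, 1, -1, 1],
  [0, 0, 0, 0, 0, 0, 0, 0, 0, 0, -1, 2, 1, 1, -1, -1, -1, 1, -1],
  [0, 0, 0, 0, 0, 0, 0, 0, 0, 0, -1, 1, 2, 1, -1, -1, -1, 1, -1],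
  [0, 0, 0, 0, 0, 0, 0, 0, 0, 0, -1, 1, 1, 2, -1, -1, -1, 1, -1],
  [0, 0, 0, 0, 0, 0, 0, 0, 0, 0, 1, -1, -1, -1, 2, 1, 1, -1, 1],
  [0, 0, 1, 0, 0, 1, 1, 1, 1, -1, 1, -1, -1, -1, 1, 3, 1, -2, 0],
  [0, 0, -1, -1, 1, 0, 0, 0, 0, 0, 1, -1, -1, -1, 1, 1, 3, -1, 1],
  [0, 0, -1, 0, 0, -1, -1, -1, -1, 1, -1, 1, 1, 1, -1, -2, -1, 3, 0],
  [0, 0, -1, 0, 0, -1, -1, -1, -1, 1, 1, -1, -1, -1, 1, 0, 1, 0, 3]]
def C : List (List ℤ) := [[0, 0, 0, 0, 0, 0, 0, 0, 0, 0, 0, 0, 0, 0, 1, 1, 0, -1, 0],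
  [0, 0, 0, 0, 0, 0, 0, 0, 0, 0, 0, 0, 0, 0, -1, 0, -1, 0, 1],
  [0, 0, 0, 0, 0, 0, 0, 0, 0, 1, 0, 0, 0, 0, 0, 0, 0, 0, 0],
  [0, 0, 0, 0, 0, 0, 0, 0, 0, 1, 0, 0, 0, 0, 1, 0, 0, 0, 0],
  [0, 0, 0, 0, 0, 0, 0, 0, 0, -1, 0, 1, 0, 0, 0, 0, 0, 0, 0],
  [0, 0, 0, 0, 0, 0, 0, 0, 0, 0, 0, 0, 0, 0, -1, 0, 0, 1, 0],
  [0, 0, 0, 0, 0, 0, 0, 0, 0, 0, 1, 0, 0, 0, 0, 0, 0, 0, 0],
  [0, 0, 0, 0, 0, 0, 0, 0, 0, 0, 0, 0, 1, 0, 0, 0, 0, 0, 0],
  [0, 0, 0, 0, 0, 0, 0, 0, 0, 0, 0, 0, 0, 1, 0, 0, 0, 0, 0],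
  [0, 0, 0, 0, 0, 0, 0, 0, 0, 0, 0, 0, 0, 0, 1, 0, 0, 0, -1],
  [1, 0, -1, 0, 0, 0, 0, 0, 0, 0, 0, -1, 0, 0, 0, 0, 0, 0, 0],
  [0, 0, 1, 1, 0, 0, 0, 0, 0, 0, 0, 1, 0, -1, 0, 0, 0, 0, 0],
  [0, 0, 1, 0, 1, 0, 0, 0, 0, 0, -1, 1, 0, 0, 0, 0, 0, 0, 0],
  [0, 0, 1, 0, 0, 1, 0, 0, 0, 0, 0, 1, -1, 0, 0, 0, 0, 0, 0],
  [0, 1, -1, 0, 0, 0, 0, 0, 0, 1, 0, -1, 0, 0, 0, 0, 0, 0, 0],
  [0, 0, -1, 0, 0, 0, 0, -1, 0, 0, 0, -1, 0, 0, -1, 1, 0, 1, 0],
  [0, 0, -1, 0, 0, 0, 1, 0, 0, -1, 0, -1, 0, 0, -2, 0, 0, 0, 0],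
  [0, 0, 1, 0, 0, 0, 0, 0, 1, 0, 0, 1, 0, 0, 1, 0, -1, 0, -1],
  [0, 0, -1, 0, 0, 0, 0, 0, 0, 0, 0, -1, 0, 0, 0, 0, 0, 0, 0]]
def t : List ℤ := [1, -1, 0, 1, 0, -1, 0, 0, 0, 1, 0, 0, 0, 0, 0, -1, -1, 1, 0]
def A1 : List (List ℤ) := [[67, 14, 1, -8, -6, 8, -6, -6, -6, -8, -3, 3, 3, 3, -3, 5, 5, -5, 3],
  [14, 67, -1, 8, 6, -8, 6, 6, 6, 8, 3, -3, -3, -3, 3, -5, -5, 5, -3],
  [1, -1, 223, -56, 57, -25, -24, -24, -24, 25, -3, 3, 3, 3, -3, -28, 53, 28, 21],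
  [-8, 8, -56, 70, 3, 11, 3, 3, 3, -11, -3, 3, 3, 3, -3, 8, 8, -8, -6],
  [-6, 6, 57, 3, 72, -3, -9, -9, -9, 3, 0, 0, 0, 0, 0, -3, -3, 3, 9],
  [8, -8, -25, 11, -3, 70, -3, -3, -3, 11, 3, -3, -3, -3, 3, -8, -8, 8, 6],
  [-6, 6, -24, 3, -9, -3, 72, -9, -9, 3, 0, 0, 0, 0, 0, -3, -3, 3, 9],
  [-6, 6, -24, 3, -9, -3, -9, 72, -9, 3, 0, 0, 0, 0, 0, -3, -3, 3, 9],
  [-6, 6, -24, 3, -9, -3, -9, -9, 72, 3, 0, 0, 0, 0, 0, -3, -3, 3, 9],
  [-8, 8, 25, -11, 3, 11, 3, 3, 3, 70, -3, 3, 3, 3, -3, 8, 8, -8, -6],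
  [-3, 3, -3, -3, 0, 3, 0, 0, 0, -3, 72, 9, 9, 9, -9, -6, -6, 6, -9],
  [3, -3, 3, 3, 0, -3, 0, 0, 0, 3, 9, 72, -9, -9, 9, 6, 6, -6, 9],
  [3, -3, 3, 3, 0, -3, 0, 0, 0, 3, 9, -9, 72, -9, 9, 6, 6, -6, 9],
  [3, -3, 3, 3, 0, -3, 0, 0, 0, 3, 9, -9, -9, 72, 9, 6, 6, -6, 9],
  [-3, 3, -3, -3, 0, 3, 0, 0, 0, -3, -9, 9, 9, 9, 72, -6, -6, 6, -9],
  [5, -5, -28, 8, -3, -8, -3, -3, -3, 8, -6, 6, 6, 6, -6, 67, -14, 14, -3],
  [5, -5, 53, 8, -3, -8, -3, -3, -3, 8, -6, 6, 6, 6, -6, -14, 67, 14, -3],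
  [-5, 5, 28, -8, 3, 8, 3, 3, 3, -8, 6, -6, -6, -6, 6, 14, 14, 67, 3],
  [3, -3, 21, -6, 9, 6, 9, 9, 9, -6, -9, 9, 9, 9, -9, -3, -3, 3, 63]]
def Y : List (List ℤ) := [[1],
  [0, 1],
  [0, 0, 1],
  [0, 0, -1, 2],
  [0, 0, 1, 1, 3],
  [0, 0, -3, 1, -1, 4],
  [0, 0, -3, 1, -1, -1, 5],
  [0, 0, -3, 1, -1, -1, -1, 6],
  [0, 0, -3, 1, -1, -1, -1, -1, 7],
  [0, 0, 3, -1, 1, 1, 1, 1, 1, 8],
  [0, 0, 0, 0, 0, 0, 0, 0, 0, 0, 1],
  [0, 0, 0, 0, 0, 0, 0, 0, 0, 0, 1, 2],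
  [0, 0, 0, 0, 0, 0, 0, 0, 0, 0, 1, -1, 3],
  [0, 0, 0, 0, 0, 0, 0, 0, 0, 0, 1, -1, -1, 4],
  [0, 0, 0, 0, 0, 0, 0, 0, 0, 0, -1, 1, 1, 1, 5],
  [0, 0, -6, 2, -2, -2, -2, -2, -2, 2, -3, 3, 3, 3, -3, 18],
  [0, 0, 17, 2, -2, -2, -2, -2, -2, 2, -3, 3, 3, 3, -3, -5, 23],
  [0, 0, 11, -2, 2, 2, 2, 2, 2, -2, 3, -3, -3, -3, 3, 5, 5, 28],
  [0, 0, 11, -4, 4, 4, 4, 4, 4, -4, -5, 5, 5, 5, -5, -1, -1, 1, 33]]
def W : List ℤ := [637560, 637560, 318780, 106260, 53130, 31878, 21252, 15180, 11385, 8855, 318780, 106260, 53130, 31878, 21252, 1540, 990, 690, 460]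
def V : List (List ℤ) := [[1, 0, 0, 0, 0, 0, 0, 0, 0, 0, 0, 0, 0, 0, 0, 0, 0, 0, 0],
  [0, 1, 0, 0, 0, 0, 0, 0, 0, 0, 0, 0, 0, 0, 0, 0, 0, 0, 0],
  [0, 0, 1, 1, -1, 0, 0, 0, 0, 0, 0, 0, 0, 0, 0, 0, -1, 0, 0],
  [0, 0, 1, 0, 0, 1, 1, 1, 1, -1, 0, 0, 0, 0, 0, 1, 0, -1, -1],
  [0, 0, 0, 1, 0, 0, 0, 0, 0, 0, 0, 0, 0, 0, 0, 0, 0, 0, 0],
  [0, 0, 0, 0, 1, 0, 0, 0, 0, 0, 0, 0, 0, 0, 0, 0, 0, 0, 0],
  [0, 0, 0, 0, 0, 1, 0, 0, 0, 0, 0, 0, 0, 0, 0, 0, 0, 0, 0],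
  [0, 0, 0, 0, 0, 0, 1, 0, 0, 0, 0, 0, 0, 0, 0, 0, 0, 0, 0],
  [0, 0, 0, 0, 0, 0, 0, 1, 0, 0, 0, 0, 0, 0, 0, 0, 0, 0, 0],
  [0, 0, 0, 0, 0, 0, 0, 0, 1, 0, 0, 0, 0, 0, 0, 0, 0, 0, 0],
  [0, 0, 0, 0, 0, 0, 0, 0, 0, 1, 0, 0, 0, 0, 0, 0, 0, 0, 0],
  [0, 0, 0, 0, 0, 0, 0, 0, 0, 0, 1, -1, -1, -1, 1, 1, 1, -1, 1],
  [0, 0, 0, 0, 0, 0, 0, 0, 0, 0, 1, 0, 0, 0, 0, 0, 0, 0, 0],
  [0, 0, 0, 0, 0, 0, 0, 0, 0, 0, 0, 1, 0, 0, 0, 0, 0, 0, 0],
  [0, 0, 0, 0, 0, 0, 0, 0, 0, 0, 0, 0, 1, 0, 0, 0, 0, 0, 0],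
  [0, 0, 0, 0, 0, 0, 0, 0, 0, 0, 0, 0, 0, 1, 0, 0, 0, 0, 0],
  [0, 0, 0, 0, 0, 0, 0, 0, 0, 0, 0, 0, 0, 0, 1, 0, 0, 0, 0],
  [0, 0, 0, 0, 0, 0, 0, 0, 0, 0, 0, 0, 0, 0, 0, 1, 0, 0, 0],
  [0, 0, 0, 0, 0, 0, 0, 0, 0, 0, 0, 0, 0, 0, 0, 0, 1, 0, 0],
  [0, 0, 0, 0, 0, 0, 0, 0, 0, 0, 0, 0, 0, 0, 0, 0, 0, 1, 0],
  [0, 0, 0, 0, 0, 0, 0, 0, 0, 0, 0, 0, 0, 0, 0, 0, 0, 0, 1]]
def sols : List (List (List ℤ)) := [[[1, 0, 0, 0, 0, 0, 0, 0, 0, 0, 0, 0, 0, 0, 0, 0, 0, 0, 0],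
  [0, 1, 0, 0, 0, 0, 0, 0, 0, 0, 0, 0, 0, 0, 0, 0, 0, 0, 0],
  [0, 0, 1, 1, -1, 0, 0, 0, 0, 0, 0, 0, 0, 0, 0, 0, -1, 0, 0],
  [0, 0, 1, 0, 0, 1, 1, 1, 1, -1, 0, 0, 0, 0, 0, 1, 0, -1, -1],
  [0, 0, 0, 1, 0, 0, 0, 0, 0, 0, 0, 0, 0, 0, 0, 0, 0, 0, 0],
  [0, 0, 0, 0, 1, 0, 0, 0, 0, 0, 0, 0, 0, 0, 0, 0, 0, 0, 0],
  [0, 0, 0, 0, 0, 1, 0, 0, 0, 0, 0, 0, 0, 0, 0, 0, 0, 0, 0],
  [0, 0, 0, 0, 0, 0, 1, 0, 0, 0, 0, 0, 0, 0, 0, 0, 0, 0, 0],
  [0, 0, 0, 0, 0, 0, 0, 1, 0, 0, 0, 0, 0, 0, 0, 0, 0, 0, 0],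
  [0, 0, 0, 0, 0, 0, 0, 0, 1, 0, 0, 0, 0, 0, 0, 0, 0, 0, 0],
  [0, 0, 0, 0, 0, 0, 0, 0, 0, 1, 0, 0, 0, 0, 0, 0, 0, 0, 0],
  [0, 0, 0, 0, 0, 0, 0, 0, 0, 0, 1, -1, -1, -1, 1, 1, 1, -1, 1],
  [0, 0, 0, 0, 0, 0, 0, 0, 0, 0, 1, 0, 0, 0, 0, 0, 0, 0, 0],
  [0, 0, 0, 0, 0, 0, 0, 0, 0, 0, 0, 1, 0, 0, 0, 0, 0, 0, 0],
  [0, 0, 0, 0, 0, 0, 0, 0, 0, 0, 0, 0, 1, 0, 0, 0, 0, 0, 0],
  [0, 0, 0, 0, 0, 0, 0, 0, 0, 0, 0, 0, 0, 1, 0, 0, 0, 0, 0],
  [0, 0, 0, 0, 0, 0, 0, 0, 0, 0, 0, 0, 0, 0, 1, 0, 0, 0, 0],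
  [0, 0, 0, 0, 0, 0, 0, 0, 0, 0, 0, 0, 0, 0, 0, 1, 0, 0, 0],
  [0, 0, 0, 0, 0, 0, 0, 0, 0, 0, 0, 0, 0, 0, 0, 0, 1, 0, 0],
  [0, 0, 0, 0, 0, 0, 0, 0, 0, 0, 0, 0, 0, 0, 0, 0, 0, 1, 0],
  [0, 0, 0, 0, 0, 0, 0, 0, 0, 0, 0, 0, 0, 0, 0, 0, 0, 0, 1]]]
def l : List (List (ℤ × ℤ)) := [[(-1, 0), (1, 0), (-1, -6), (2, 0), (0, -3), (-2, 0), (3, 3), (0, -3), (3, 3), (2, 0), (-3, -3), (3, 3), (3, 3), (0, -3), (0, 3), (1, 0), (1, 0), (-1, 0), (6, 0)],
  [(-1, 0), (1, 0), (5, 6), (2, 0), (3, 3), (-2, 0), (0, -3), (3, 3), (0, -3), (2, 0), (0, 3), (0, -3), (0, -3), (3, 3), (-3, -3), (1, 0), (1, 0), (-1, 0), (6, 0)],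
  [(1, 1), (0, 1), (-2, 1), (2, 0), (1, 2), (2, 2), (2, 1), (1, -1), (-1, -2), (0, 2), (1, -1), (-1, -2), (2, 1), (1, -1), (2, 1), (-1, -1), (1, 0), (0, -1), (0, 0)],
  [(0, -1), (-1, -1), (-3, -1), (2, 0), (-1, -2), (0, -2), (1, -1), (2, 1), (1, 2), (-2, -2), (2, 1), (1, 2), (1, -1), (2, 1), (1, -1), (0, 1), (1, 0), (1, 1), (0, 0)],
  [(0, -1), (-1, -1), (0, -1), (2, 0), (2, 1), (0, -2), (-2, -1), (-1, 1), (1, -1), (-2, -2), (-1, -2), (1, -1), (-2, -1), (-1, 1), (1, 2), (0, 1), (1, 0), (1, 1), (0, 0)],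
  [(1, 1), (0, 1), (1, 1), (2, 0), (1, -1), (2, 2), (-1, 1), (-2, -1), (2, 1), (0, 2), (1, 2), (2, 1), (-1, 1), (-2, -1), (-1, -2), (-1, -1), (1, 0), (0, -1), (0, 0)],
  [(1, 1), (0, 1), (-2, -2), (2, 0), (-2, -1), (2, 2), (-1, -2), (1, 2), (-1, 1), (0, 2), (-2, -1), (-1, 1), (-1, -2), (1, 2), (-1, 1), (-1, -1), (1, 0), (0, -1), (0, 0)],
  [(0, -1), (-1, -1), (0, 2), (2, 0), (-1, 1), (0, -2), (1, 2), (-1, -2), (-2, -1), (-2, -2), (-1, 1), (-2, -1), (1, 2), (-1, -2), (-2, -1), (0, 1), (1, 0), (1, 1), (0, 0)],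
  [(-1, 0), (1, 0), (-1, 0), (2, 0), (0, 0), (-2, 0), (0, 0), (0, 0), (0, 0), (2, 0), (0, 0), (0, 0), (0, 0), (0, 0), (0, 0), (1, 0), (1, 0), (-1, 0), (-3, 0)],
  [(1, 1), (0, 1), (-1, 1), (0, 0), (1, 1), (0, 0), (1, 1), (0, -1), (0, -1), (0, 0), (-1, 0), (0, 1), (-1, -1), (0, 1), (-1, 0), (1, 1), (-1, 0), (0, 1), (0, 0)],
  [(0, -1), (-1, -1), (-2, -1), (0, 0), (0, -1), (0, 0), (0, -1), (1, 1), (1, 1), (0, 0), (-1, 0), (-1, -1), (0, 1), (-1, -1), (-1, 0), (0, -1), (-1, 0), (-1, -1), (0, 0)],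
  [(1, 1), (0, 1), (-2, -1), (0, 0), (-1, 0), (0, 0), (0, -1), (1, 1), (-1, 0), (0, 0), (1, 1), (1, 0), (0, 1), (-1, -1), (0, -1), (1, 1), (-1, 0), (0, 1), (0, 0)],
  [(0, -1), (-1, -1), (-1, 1), (0, 0), (-1, 0), (0, 0), (1, 1), (0, -1), (-1, 0), (0, 0), (0, -1), (1, 0), (-1, -1), (0, 1), (1, 1), (0, -1), (-1, 0), (-1, -1), (0, 0)],
  [(0, -1), (-1, -1), (0, 0), (0, 0), (1, 1), (0, 0), (-1, 0), (-1, 0), (0, -1), (0, 0), (1, 1), (0, 1), (1, 0), (1, 0), (0, -1), (0, -1), (-1, 0), (-1, -1), (0, 0)],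
  [(-1, 0), (1, 0), (1, 2), (0, 0), (1, 1), (0, 0), (0, -1), (1, 1), (0, -1), (0, 0), (0, -1), (0, 1), (0, 1), (-1, -1), (1, 1), (-1, 0), (-1, 0), (1, 0), (0, 0)],
  [(-1, 0), (1, 0), (-1, -2), (0, 0), (0, -1), (0, 0), (1, 1), (0, -1), (1, 1), (0, 0), (1, 1), (-1, -1), (-1, -1), (0, 1), (0, -1), (-1, 0), (-1, 0), (1, 0), (0, 0)],
  [(1, 1), (0, 1), (0, 0), (0, 0), (0, -1), (0, 0), (-1, 0), (-1, 0), (1, 1), (0, 0), (0, -1), (-1, -1), (1, 0), (1, 0), (1, 1), (1, 1), (-1, 0), (0, 1), (0, 0)],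
  [(1, 1), (0, 1), (2, 0), (-1, 0), (0, 0), (-1, -1), (0, 0), (0, 0), (0, 0), (0, -1), (0, 0), (0, 0), (0, 0), (0, 0), (0, 0), (-1, -1), (1, 0), (0, -1), (0, 0)],
  [(0, -1), (-1, -1), (2, 0), (-1, 0), (0, 0), (0, 1), (0, 0), (0, 0), (0, 0), (1, 1), (0, 0), (0, 0), (0, 0), (0, 0), (0, 0), (0, 1), (1, 0), (1, 1), (0, 0)]]
def Us : List (List ℕ) := [[nat_lit 0x687354021],
  [],
  [],
  [],
  [],
  [],
  [],
  [nat_lit 0x768354102, nat_lit 0x687435102, nat_lit 0x768435021],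
  [nat_lit 0x876354102, nat_lit 0x687435210, nat_lit 0x876435021, nat_lit 0x768543021,
    nat_lit 0x687543102, nat_lit 0x768354210],
  [],
  [],
  [],
  [],
  [],
  [],
  [],
  [],
  [],
  []]
def tr : List (ℕ × ℕ × ℕ × ℕ) := [(0, 0, 8, 0), (7, 8, 6, 2)]
def gJ : List ℕ := [nat_lit 0x876543021, nat_lit 0x876354210, nat_lit 0x687543210]
def LJ : List ℕ := [
  nat_lit 0x768435102, nat_lit 0x768435021, nat_lit 0x768354102, nat_lit 0x687435102,
  nat_lit 0x768435210, nat_lit 0x768354021, nat_lit 0x687435021, nat_lit 0x768543102,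
  nat_lit 0x687354102, nat_lit 0x876435102, nat_lit 0x768354210, nat_lit 0x687435210,
  nat_lit 0x768543021, nat_lit 0x687354021, nat_lit 0x876435021, nat_lit 0x687543102,
  nat_lit 0x876354102, nat_lit 0x768543210, nat_lit 0x687354210, nat_lit 0x876435210,
  nat_lit 0x687543021, nat_lit 0x876354021, nat_lit 0x876543102, nat_lit 0x687543210,
  nat_lit 0x876354210, nat_lit 0x876543021, nat_lit 0x876543210]
def TJ : List (ℕ × ℕ × ℕ) := [
  (nat_lit 0x768435102, 1, nat_lit 0x876543210), (nat_lit 0x768435021, 7, nat_lit 0x876210543),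
  (nat_lit 0x768354102, 7, nat_lit 0x876543210), (nat_lit 0x687435102, 7, nat_lit 0x543210876),
  (nat_lit 0x768435210, 5, nat_lit 0x543210876), (nat_lit 0x768354021, 6, nat_lit 0x210876543),
  (nat_lit 0x687435021, 6, nat_lit 0x543210876), (nat_lit 0x768543102, 5, nat_lit 0x210876543),
  (nat_lit 0x687354102, 6, nat_lit 0x876543210), (nat_lit 0x876435102, 5, nat_lit 0x876543210),
  (nat_lit 0x768354210, 8, nat_lit 0x210543876), (nat_lit 0x687435210, 8, nat_lit 0x543210876),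
  (nat_lit 0x768543021, 8, nat_lit 0x210876543), (nat_lit 0x687354021, 0, nat_lit 0x876543210),
  (nat_lit 0x876435021, 8, nat_lit 0x876210543), (nat_lit 0x687543102, 8, nat_lit 0x543876210),
  (nat_lit 0x876354102, 8, nat_lit 0x876543210), (nat_lit 0x768543210, 3, nat_lit 0x210876543),
  (nat_lit 0x687354210, 4, nat_lit 0x543210876), (nat_lit 0x876435210, 3, nat_lit 0x543210876),
  (nat_lit 0x687543021, 4, nat_lit 0x210876543), (nat_lit 0x876354021, 4, nat_lit 0x876543210),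
  (nat_lit 0x876543102, 3, nat_lit 0x876543210), (nat_lit 0x687543210, 2, nat_lit 0x210876543),
  (nat_lit 0x876354210, 2, nat_lit 0x543210876), (nat_lit 0x876543021, 2, nat_lit 0x876543210),
  (nat_lit 0x876543210, 19, nat_lit 0x876543210)]
def mJ : List ℤ := [1, 1, 3, 3, 3, 3, 3, 3, 6, 0, 0, 0, 0, 0, 0, 0, 0, 0, 0, 1]

set_option maxHeartbeats 0 in
theorem out {G : Type*} [Group G] [Finite G] {ι : C9 →* G} (H : Hyp LA LB ι) :
    ∃ w ∈ sols, ∃ d, Out (Nat.card G) 27 19 19 t l mJ cn tr w d :=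
  H.main hC9 reps 19 (by decide +kernel) pws ods cn (by decide +kernel) cent (by decide +kernel)
    (by decide +kernel) 162 (by norm_num) [S0, S2, S1] (by simp [hS0, hS2, hS1]) P Q R C t (by decide +kernel)
    (by decide +kernel) (by decide +kernel) A1 Y W 637560 V sols 44 (by decide +kernel)
    (by decide +kernel) (by decide +kernel) l (by decide +kernel) Us [0, 7, 8] [6, 8] tr (by decide +kernel)
    gJ LJ TJ mJ 27 (by decide +kernel)

set_option maxHeartbeats 0 in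
theorem arith (n : ℕ) (hn : 0 < n) (hq : 27 ∣ n - 1) (w : List (List ℤ)) (hw : w ∈ sols) (d : List ℤ)
    (h : Out (162 * n) 27 19 19 t l mJ cn tr w d) : n = 1 := by
  obtain ⟨h1, h2, h3, h4⟩ := h
  simp only [sols, List.mem_cons, List.not_mem_nil, or_false] at hw
  rcases hw with rfl
  · simp only [List.forall₂_cons_left_iff, List.forall₂_nil_left_iff] at h1
    obtain ⟨d1, _, ⟨n1, c1⟩, ⟨d2, _, ⟨n2, c2⟩, ⟨d3, _, ⟨n3, c3⟩, ⟨d4, _, ⟨n4, c4⟩, ⟨d5, _, ⟨n5, c5⟩, ⟨d6, _,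
      ⟨n6, c6⟩, ⟨d7, _, ⟨n7, c7⟩, ⟨d8, _, ⟨n8, c8⟩, ⟨d9, _, ⟨n9, c9⟩, ⟨d10, _, ⟨n10, c10⟩, ⟨d11, _,
      ⟨n11, c11⟩, ⟨d12, _, ⟨n12, c12⟩, ⟨d13, _, ⟨n13, c13⟩, ⟨d14, _, ⟨n14, c14⟩, ⟨d15, _, ⟨n15, c15⟩,
      ⟨d16, _, ⟨n16, c16⟩, ⟨d17, _, ⟨n17, c17⟩, ⟨d18, _, ⟨n18, c18⟩, ⟨d19, _, ⟨n19, c19⟩, ⟨d20, _,
      ⟨n20, c20⟩, ⟨d21, _, ⟨n21, c21⟩, rfl, rfl⟩, rfl⟩, rfl⟩, rfl⟩, rfl⟩, rfl⟩, rfl⟩, rfl⟩, rfl⟩, rfl⟩,
      rfl⟩, rfl⟩, rfl⟩, rfl⟩, rfl⟩, rfl⟩, rfl⟩, rfl⟩, rfl⟩, rfl⟩, rfl⟩ := h1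
    have h := h4 [(1, 0), (-1, 0)]
      [0, 0, 0, 0, 0, 0, 0, 0, 0, 0, 0, 0, 0, 0, 0, 0, 0, 0, 0, 0, -108] (0) (-2916) (by decide +kernel)
    simp only [List.zipWith_cons_cons, List.zipWith_nil_right, List.map_cons, List.map_nil, List.sum_cons,
      List.sum_nil] at h h2
    have e := ybound (g := 162 * n) (a := -108) (C := -2916) n21 (by rw [← h]; push_cast; ring)
      (by linarith [sq_nonneg d1, sq_nonneg d2, sq_nonneg d3, sq_nonneg d4, sq_nonneg d5, sq_nonneg d6,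
        sq_nonneg d7, sq_nonneg d8, sq_nonneg d9, sq_nonneg d10, sq_nonneg d11, sq_nonneg d12,
        sq_nonneg d13, sq_nonneg d14, sq_nonneg d15, sq_nonneg d16, sq_nonneg d17, sq_nonneg d18,
        sq_nonneg d19, sq_nonneg d20, sq_nonneg d21])
    norm_num at e
    clear * - e hn hq
    omega

theorem top {G : Type*} [Group G] [Finite G] {ι : C9 →* G} (H : Hyp LA LB ι) : ι.range = ⊤ := by
  obtain ⟨w, hw, d, h⟩ := out H
  obtain ⟨h1, h2⟩ := H.card hC9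
  rw [h1, show LC9.length = 162 by decide +kernel] at h
  exact Subgroup.index_eq_one.mp (arith _ h2 (by
    simpa only [show LJ.length = 27 from rfl] using H.cong hC9 gJ LJ (by decide +kernel)) w hw d h)

end Cfsg.Agent.H1.S9G1
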