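import Cfsg.Agent.H1.GramAuto
import Cfsg.Agent.H1.S9Grp

/-!
# The normalizer of a TI subgroup of order 27, order 324
-/

set_option autoImplicit false
set_option maxRecDepth 100000
set_option synthInstance.maxSize 100000
set_option synthInstance.maxHeartbeats 1000000
set_option linter.unusedSimpArgs false

namespace Cfsg.Agent.H1.S9G2

open Cfsg.Agent.L0 Cfsg.Agent.L0.Gram Cfsg.Agent.H1.GA Cfsg.Agent.L0.Code Equiv Cfsg.Agent.H1.PC

open Cfsg.Agent.H1.S9

def LA : List ℕ := [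
  nat_lit 0x876543021, nat_lit 0x876354210, nat_lit 0x687543210, nat_lit 0x876543102,
  nat_lit 0x876354021, nat_lit 0x687543021, nat_lit 0x876435210, nat_lit 0x687354210,
  nat_lit 0x768543210, nat_lit 0x876354102, nat_lit 0x687543102, nat_lit 0x876435021,
  nat_lit 0x687354021, nat_lit 0x768543021, nat_lit 0x687435210, nat_lit 0x768354210,
  nat_lit 0x876435102, nat_lit 0x687354102, nat_lit 0x768543102, nat_lit 0x687435021,
  nat_lit 0x768354021, nat_lit 0x768435210, nat_lit 0x687435102, nat_lit 0x768354102,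
  nat_lit 0x768435021, nat_lit 0x768435102]
def LB : List ℕ := [
  nat_lit 0x876543021, nat_lit 0x876354210, nat_lit 0x687543210, nat_lit 0x876543102,
  nat_lit 0x876354021, nat_lit 0x687543021, nat_lit 0x876435210, nat_lit 0x687354210,
  nat_lit 0x768543210, nat_lit 0x876354102, nat_lit 0x687543102, nat_lit 0x876435021,
  nat_lit 0x768543021, nat_lit 0x687435210, nat_lit 0x768354210, nat_lit 0x876435102,
  nat_lit 0x687354102, nat_lit 0x768543102, nat_lit 0x687435021, nat_lit 0x768354021,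
  nat_lit 0x768435210, nat_lit 0x687435102, nat_lit 0x768354102, nat_lit 0x768435021]
def reps : List ℕ := [
  nat_lit 0x687354021, nat_lit 0x876543021, nat_lit 0x876354021, nat_lit 0x876354102,
  nat_lit 0x687354102, nat_lit 0x876210354, nat_lit 0x543876021, nat_lit 0x354876021,
  nat_lit 0x354876102, nat_lit 0x786120345, nat_lit 0x210876354, nat_lit 0x876543210]
def pws : List ℕ := [1, 1, 1, 1, 1, 2, 2, 2, 2, 2, 3]
def ods : List ℕ := [3, 3, 3, 3, 3, 6, 6, 6, 6, 6, 9]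
def cn : List ℕ := [162, 54, 54, 54, 54, 18, 18, 18, 18, 6, 9]
def cent : List ℤ := [162, 54, 54, 54, 54, 18, 18, 18, 18, 6, 9]
def S0 : Sub where
  gM := [nat_lit 0x876543021, nat_lit 0x876354210, nat_lit 0x687543210]
  LM := [
    nat_lit 0x768435102, nat_lit 0x768435021, nat_lit 0x768354102, nat_lit 0x687435102,
    nat_lit 0x768435210, nat_lit 0x768354021, nat_lit 0x687435021, nat_lit 0x768543102,
    nat_lit 0x687354102, nat_lit 0x876435102, nat_lit 0x768354210, nat_lit 0x687435210,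
    nat_lit 0x768543021, nat_lit 0x687354021, nat_lit 0x876435021, nat_lit 0x687543102,
    nat_lit 0x876354102, nat_lit 0x768543210, nat_lit 0x687354210, nat_lit 0x876435210,
    nat_lit 0x687543021, nat_lit 0x876354021, nat_lit 0x876543102, nat_lit 0x687543210,
    nat_lit 0x876354210, nat_lit 0x876543021, nat_lit 0x876543210]
  T := [
    (nat_lit 0x768435102, 0, nat_lit 0x786453120), (nat_lit 0x768435021, 4, nat_lit 0x786453120),
    (nat_lit 0x768354102, 4, nat_lit 0x453120786), (nat_lit 0x687435102, 4, nat_lit 0x120786453),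
    (nat_lit 0x768435210, 2, nat_lit 0x453120786), (nat_lit 0x768354021, 4, nat_lit 0x210876543),
    (nat_lit 0x687435021, 4, nat_lit 0x543210876), (nat_lit 0x768543102, 2, nat_lit 0x120786453),
    (nat_lit 0x687354102, 4, nat_lit 0x876543210), (nat_lit 0x876435102, 2, nat_lit 0x786453120),
    (nat_lit 0x768354210, 3, nat_lit 0x453120786), (nat_lit 0x687435210, 3, nat_lit 0x543210876),
    (nat_lit 0x768543021, 3, nat_lit 0x210876543), (nat_lit 0x687354021, 0, nat_lit 0x876543210),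
    (nat_lit 0x876435021, 3, nat_lit 0x876210543), (nat_lit 0x687543102, 3, nat_lit 0x543876210),
    (nat_lit 0x876354102, 3, nat_lit 0x876543210), (nat_lit 0x768543210, 1, nat_lit 0x120786453),
    (nat_lit 0x687354210, 2, nat_lit 0x543210876), (nat_lit 0x876435210, 1, nat_lit 0x453120786),
    (nat_lit 0x687543021, 2, nat_lit 0x210876543), (nat_lit 0x876354021, 2, nat_lit 0x876543210),
    (nat_lit 0x876543102, 1, nat_lit 0x786453120), (nat_lit 0x687543210, 1, nat_lit 0x210876543),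
    (nat_lit 0x876354210, 1, nat_lit 0x543210876), (nat_lit 0x876543021, 1, nat_lit 0x876543210),
    (nat_lit 0x876543210, 0, nat_lit 0x876543210)]
  E := 6
  F := [([(nat_lit 0x768435102, 8), (nat_lit 0x768435021, 8), (nat_lit 0x768354102, 8),
    (nat_lit 0x687435102, 4), (nat_lit 0x768435210, 8), (nat_lit 0x768354021, 8),
    (nat_lit 0x687435021, 4), (nat_lit 0x768543102, 8), (nat_lit 0x687354102, 4),
    (nat_lit 0x768354210, 8), (nat_lit 0x687435210, 4), (nat_lit 0x768543021, 8),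
    (nat_lit 0x687354021, 4), (nat_lit 0x687543102, 4), (nat_lit 0x768543210, 8),
    (nat_lit 0x687354210, 4), (nat_lit 0x687543021, 4), (nat_lit 0x687543210, 4)],
    [(nat_lit 0x768435102, 4), (nat_lit 0x768435021, 4), (nat_lit 0x768435210, 4),
    (nat_lit 0x768543102, 8), (nat_lit 0x687354102, 8), (nat_lit 0x876435102, 8),
    (nat_lit 0x768543021, 8), (nat_lit 0x687354021, 8), (nat_lit 0x876435021, 8),
    (nat_lit 0x687543102, 4), (nat_lit 0x876354102, 4), (nat_lit 0x768543210, 8),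
    (nat_lit 0x687354210, 8), (nat_lit 0x876435210, 8), (nat_lit 0x687543021, 4),
    (nat_lit 0x876354021, 4), (nat_lit 0x687543210, 4), (nat_lit 0x876354210, 4)],
    [0, 18, 18, 0, -36, 0, 0, 0, 0, 0, 0], [0, 0, 0, 0, 0, 0, 0, 0, 0, 0, 0]),
    ([(nat_lit 0x768435102, 8), (nat_lit 0x768435021, 8), (nat_lit 0x768354102, 8),
    (nat_lit 0x687435102, 4), (nat_lit 0x768435210, 8), (nat_lit 0x768354021, 8),
    (nat_lit 0x687435021, 4), (nat_lit 0x768543102, 8), (nat_lit 0x687354102, 4),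
    (nat_lit 0x768354210, 8), (nat_lit 0x687435210, 4), (nat_lit 0x768543021, 8),
    (nat_lit 0x687354021, 4), (nat_lit 0x687543102, 4), (nat_lit 0x768543210, 8),
    (nat_lit 0x687354210, 4), (nat_lit 0x687543021, 4), (nat_lit 0x687543210, 4)],
    [(nat_lit 0x768354102, 8), (nat_lit 0x687435102, 4), (nat_lit 0x768354021, 8),
    (nat_lit 0x687435021, 4), (nat_lit 0x768543102, 4), (nat_lit 0x876435102, 8),
    (nat_lit 0x768354210, 8), (nat_lit 0x687435210, 4), (nat_lit 0x768543021, 4),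
    (nat_lit 0x876435021, 8), (nat_lit 0x687543102, 8), (nat_lit 0x876354102, 4),
    (nat_lit 0x768543210, 4), (nat_lit 0x876435210, 8), (nat_lit 0x687543021, 8),
    (nat_lit 0x876354021, 4), (nat_lit 0x687543210, 8), (nat_lit 0x876354210, 4)],
    [-18, 18, 0, 18, -18, 0, 0, 0, 0, 0, 0], [0, 0, 0, 0, 0, 0, 0, 0, 0, 0, 0]),
    ([(nat_lit 0x768435102, 8), (nat_lit 0x768435021, 8), (nat_lit 0x768354102, 8),
    (nat_lit 0x687435102, 4), (nat_lit 0x768435210, 8), (nat_lit 0x768354021, 8),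
    (nat_lit 0x687435021, 4), (nat_lit 0x768543102, 8), (nat_lit 0x687354102, 4),
    (nat_lit 0x768354210, 8), (nat_lit 0x687435210, 4), (nat_lit 0x768543021, 8),
    (nat_lit 0x687354021, 4), (nat_lit 0x687543102, 4), (nat_lit 0x768543210, 8),
    (nat_lit 0x687354210, 4), (nat_lit 0x687543021, 4), (nat_lit 0x687543210, 4)],
    [(nat_lit 0x768435102, 8), (nat_lit 0x768435021, 4), (nat_lit 0x768354102, 4),
    (nat_lit 0x687435021, 8), (nat_lit 0x687354102, 8), (nat_lit 0x876435102, 4),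
    (nat_lit 0x768354210, 8), (nat_lit 0x687435210, 4), (nat_lit 0x768543021, 8),
    (nat_lit 0x687354021, 4), (nat_lit 0x687543102, 4), (nat_lit 0x768543210, 4),
    (nat_lit 0x876435210, 8), (nat_lit 0x876354021, 8), (nat_lit 0x876543102, 8),
    (nat_lit 0x687543210, 8), (nat_lit 0x876354210, 4), (nat_lit 0x876543021, 4)],
    [0, 36, -18, 0, -18, 0, 0, 0, 0, 0, 0], [0, 0, 0, 0, 0, 0, 0, 0, 0, 0, 0]),
    ([(nat_lit 0x768435102, 8), (nat_lit 0x768435021, 8), (nat_lit 0x768354102, 8),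
    (nat_lit 0x687435102, 4), (nat_lit 0x768435210, 8), (nat_lit 0x768354021, 8),
    (nat_lit 0x687435021, 4), (nat_lit 0x768543102, 8), (nat_lit 0x687354102, 4),
    (nat_lit 0x768354210, 8), (nat_lit 0x687435210, 4), (nat_lit 0x768543021, 8),
    (nat_lit 0x687354021, 4), (nat_lit 0x687543102, 4), (nat_lit 0x768543210, 8),
    (nat_lit 0x687354210, 4), (nat_lit 0x687543021, 4), (nat_lit 0x687543210, 4)],
    [(nat_lit 0x768435021, 8), (nat_lit 0x768354102, 8), (nat_lit 0x687435102, 8),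
    (nat_lit 0x768435210, 4), (nat_lit 0x768354021, 4), (nat_lit 0x687435021, 4),
    (nat_lit 0x768543102, 4), (nat_lit 0x687354102, 4), (nat_lit 0x876435102, 4),
    (nat_lit 0x768543210, 8), (nat_lit 0x687354210, 8), (nat_lit 0x876435210, 8),
    (nat_lit 0x687543021, 8), (nat_lit 0x876354021, 8), (nat_lit 0x876543102, 8),
    (nat_lit 0x687543210, 4), (nat_lit 0x876354210, 4), (nat_lit 0x876543021, 4)],
    [-18, 36, 18, -36, 0, 0, 0, 0, 0, 0, 0], [0, 0, 0, 0, 0, 0, 0, 0, 0, 0, 0]),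
    ([],
    [(nat_lit 0x768435102, 8), (nat_lit 0x768435021, 8), (nat_lit 0x768354102, 8),
    (nat_lit 0x687435102, 4), (nat_lit 0x768435210, 8), (nat_lit 0x768354021, 8),
    (nat_lit 0x687435021, 4), (nat_lit 0x768543102, 8), (nat_lit 0x687354102, 4),
    (nat_lit 0x768354210, 8), (nat_lit 0x687435210, 4), (nat_lit 0x768543021, 8),
    (nat_lit 0x687354021, 4), (nat_lit 0x687543102, 4), (nat_lit 0x768543210, 8),
    (nat_lit 0x687354210, 4), (nat_lit 0x687543021, 4), (nat_lit 0x687543210, 4)],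
    [18, 18, 36, 36, 54, 0, 0, 0, 0, 0, 0], [0, 0, 0, 0, 0, 0, 0, 0, 0, 0, 0])]
set_option maxHeartbeats 0 in
theorem hS0 : S0.ok 9 LH2 reps 11 162 = true := by decide +kernel
def S2 : Sub where
  gM := [nat_lit 0x876543021, nat_lit 0x876354210, nat_lit 0x687543210, nat_lit 0x876543210, nat_lit 0x876210543]
  LM := [
    nat_lit 0x768102435, nat_lit 0x768102354, nat_lit 0x768021435, nat_lit 0x687102435,
    nat_lit 0x768435102, nat_lit 0x768102543, nat_lit 0x768021354, nat_lit 0x687102354,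
    nat_lit 0x768435021, nat_lit 0x768210435, nat_lit 0x687021435, nat_lit 0x768354102,
    nat_lit 0x876102435, nat_lit 0x687435102, nat_lit 0x768021543, nat_lit 0x687102543,
    nat_lit 0x768435210, nat_lit 0x768210354, nat_lit 0x687021354, nat_lit 0x768354021,
    nat_lit 0x876102354, nat_lit 0x687435021, nat_lit 0x687210435, nat_lit 0x768543102,
    nat_lit 0x876021435, nat_lit 0x687354102, nat_lit 0x876435102, nat_lit 0x768210543,
    nat_lit 0x687021543, nat_lit 0x768354210, nat_lit 0x876102543, nat_lit 0x687435210,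
    nat_lit 0x687210354, nat_lit 0x768543021, nat_lit 0x876021354, nat_lit 0x687354021,
    nat_lit 0x876435021, nat_lit 0x876210435, nat_lit 0x687543102, nat_lit 0x876354102,
    nat_lit 0x687210543, nat_lit 0x768543210, nat_lit 0x876021543, nat_lit 0x687354210,
    nat_lit 0x876435210, nat_lit 0x876210354, nat_lit 0x687543021, nat_lit 0x876354021,
    nat_lit 0x876543102, nat_lit 0x876210543, nat_lit 0x687543210, nat_lit 0x876354210,
    nat_lit 0x876543021, nat_lit 0x876543210]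
  T := [
    (nat_lit 0x768102435, 8, nat_lit 0x210876435), (nat_lit 0x768102354, 6, nat_lit 0x120786345),
    (nat_lit 0x768021435, 6, nat_lit 0x120678453), (nat_lit 0x687102435, 7, nat_lit 0x210876435),
    (nat_lit 0x768435102, 0, nat_lit 0x786453120), (nat_lit 0x768102543, 7, nat_lit 0x120786453),
    (nat_lit 0x768021354, 7, nat_lit 0x120786345), (nat_lit 0x687102354, 6, nat_lit 0x210768543),
    (nat_lit 0x768435021, 4, nat_lit 0x786453120), (nat_lit 0x768210435, 7, nat_lit 0x120453786),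
    (nat_lit 0x687021435, 6, nat_lit 0x210876435), (nat_lit 0x768354102, 4, nat_lit 0x453120786),
    (nat_lit 0x876102435, 5, nat_lit 0x876543021), (nat_lit 0x687435102, 4, nat_lit 0x120786453),
    (nat_lit 0x768021543, 8, nat_lit 0x210876543), (nat_lit 0x687102543, 8, nat_lit 0x120786453),
    (nat_lit 0x768435210, 2, nat_lit 0x453120786), (nat_lit 0x768210354, 8, nat_lit 0x210543876),
    (nat_lit 0x687021354, 8, nat_lit 0x120786345), (nat_lit 0x768354021, 4, nat_lit 0x210876543),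
    (nat_lit 0x876102354, 0, nat_lit 0x876543210), (nat_lit 0x687435021, 4, nat_lit 0x543210876),
    (nat_lit 0x687210435, 8, nat_lit 0x120453786), (nat_lit 0x768543102, 2, nat_lit 0x120786453),
    (nat_lit 0x876021435, 0, nat_lit 0x876543210), (nat_lit 0x687354102, 4, nat_lit 0x876543210),
    (nat_lit 0x876435102, 2, nat_lit 0x786453120), (nat_lit 0x768210543, 6, nat_lit 0x120786453),
    (nat_lit 0x687021543, 7, nat_lit 0x210876543), (nat_lit 0x768354210, 3, nat_lit 0x453120786),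
    (nat_lit 0x876102543, 5, nat_lit 0x786453012), (nat_lit 0x687435210, 3, nat_lit 0x543210876),
    (nat_lit 0x687210354, 7, nat_lit 0x210543876), (nat_lit 0x768543021, 3, nat_lit 0x210876543),
    (nat_lit 0x876021354, 5, nat_lit 0x786453201), (nat_lit 0x687354021, 0, nat_lit 0x876543210),
    (nat_lit 0x876435021, 3, nat_lit 0x876210543), (nat_lit 0x876210435, 5, nat_lit 0x786453120),
    (nat_lit 0x687543102, 3, nat_lit 0x543876210), (nat_lit 0x876354102, 3, nat_lit 0x876543210),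
    (nat_lit 0x687210543, 6, nat_lit 0x210876543), (nat_lit 0x768543210, 1, nat_lit 0x120786453),
    (nat_lit 0x876021543, 5, nat_lit 0x876543102), (nat_lit 0x687354210, 2, nat_lit 0x543210876),
    (nat_lit 0x876435210, 1, nat_lit 0x453120786), (nat_lit 0x876210354, 5, nat_lit 0x876543210),
    (nat_lit 0x687543021, 2, nat_lit 0x210876543), (nat_lit 0x876354021, 2, nat_lit 0x876543210),
    (nat_lit 0x876543102, 1, nat_lit 0x786453120), (nat_lit 0x876210543, 0, nat_lit 0x876543210),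
    (nat_lit 0x687543210, 1, nat_lit 0x210876543), (nat_lit 0x876354210, 1, nat_lit 0x543210876),
    (nat_lit 0x876543021, 1, nat_lit 0x876543210), (nat_lit 0x876543210, 0, nat_lit 0x876543210)]
  E := 3
  F := [([(nat_lit 0x768102435, 8), (nat_lit 0x768102354, 8), (nat_lit 0x768021435, 8),
    (nat_lit 0x687102435, 4), (nat_lit 0x768435102, 8), (nat_lit 0x768102543, 8),
    (nat_lit 0x768021354, 8), (nat_lit 0x687102354, 4), (nat_lit 0x768435021, 8),
    (nat_lit 0x768210435, 8), (nat_lit 0x687021435, 4), (nat_lit 0x768354102, 8),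
    (nat_lit 0x687435102, 4), (nat_lit 0x768021543, 8), (nat_lit 0x687102543, 4),
    (nat_lit 0x768435210, 8), (nat_lit 0x768210354, 8), (nat_lit 0x687021354, 4),
    (nat_lit 0x768354021, 8), (nat_lit 0x687435021, 4), (nat_lit 0x687210435, 4),
    (nat_lit 0x768543102, 8), (nat_lit 0x687354102, 4), (nat_lit 0x768210543, 8),
    (nat_lit 0x687021543, 4), (nat_lit 0x768354210, 8), (nat_lit 0x687435210, 4),
    (nat_lit 0x687210354, 4), (nat_lit 0x768543021, 8), (nat_lit 0x687354021, 4),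
    (nat_lit 0x687543102, 4), (nat_lit 0x687210543, 4), (nat_lit 0x768543210, 8),
    (nat_lit 0x687354210, 4), (nat_lit 0x687543021, 4), (nat_lit 0x687543210, 4)],
    [(nat_lit 0x768102435, 8), (nat_lit 0x768102354, 4), (nat_lit 0x768021435, 4),
    (nat_lit 0x768435102, 8), (nat_lit 0x687102354, 8), (nat_lit 0x768435021, 4),
    (nat_lit 0x687021435, 8), (nat_lit 0x768354102, 4), (nat_lit 0x876102435, 4),
    (nat_lit 0x768021543, 8), (nat_lit 0x687102543, 4), (nat_lit 0x768210354, 8),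
    (nat_lit 0x687021354, 4), (nat_lit 0x687435021, 8), (nat_lit 0x687210435, 4),
    (nat_lit 0x687354102, 8), (nat_lit 0x876435102, 4), (nat_lit 0x768210543, 4),
    (nat_lit 0x768354210, 8), (nat_lit 0x876102543, 8), (nat_lit 0x687435210, 4),
    (nat_lit 0x768543021, 8), (nat_lit 0x876021354, 8), (nat_lit 0x687354021, 4),
    (nat_lit 0x876210435, 8), (nat_lit 0x687543102, 4), (nat_lit 0x687210543, 8),
    (nat_lit 0x768543210, 4), (nat_lit 0x876021543, 4), (nat_lit 0x876435210, 8),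
    (nat_lit 0x876210354, 4), (nat_lit 0x876354021, 8), (nat_lit 0x876543102, 8),
    (nat_lit 0x687543210, 8), (nat_lit 0x876354210, 4), (nat_lit 0x876543021, 4)],
    [0, 18, -9, 0, -9, 27, 0, -27, 0, 0, 0], [0, 0, 0, 0, 0, 0, 0, 0, 0, 0, 0]),
    ([(nat_lit 0x768102435, 8), (nat_lit 0x768102354, 8), (nat_lit 0x768021435, 8),
    (nat_lit 0x687102435, 4), (nat_lit 0x768435102, 8), (nat_lit 0x768102543, 8),
    (nat_lit 0x768021354, 8), (nat_lit 0x687102354, 4), (nat_lit 0x768435021, 8),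
    (nat_lit 0x768210435, 8), (nat_lit 0x687021435, 4), (nat_lit 0x768354102, 8),
    (nat_lit 0x687435102, 4), (nat_lit 0x768021543, 8), (nat_lit 0x687102543, 4),
    (nat_lit 0x768435210, 8), (nat_lit 0x768210354, 8), (nat_lit 0x687021354, 4),
    (nat_lit 0x768354021, 8), (nat_lit 0x687435021, 4), (nat_lit 0x687210435, 4),
    (nat_lit 0x768543102, 8), (nat_lit 0x687354102, 4), (nat_lit 0x768210543, 8),
    (nat_lit 0x687021543, 4), (nat_lit 0x768354210, 8), (nat_lit 0x687435210, 4),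
    (nat_lit 0x687210354, 4), (nat_lit 0x768543021, 8), (nat_lit 0x687354021, 4),
    (nat_lit 0x687543102, 4), (nat_lit 0x687210543, 4), (nat_lit 0x768543210, 8),
    (nat_lit 0x687354210, 4), (nat_lit 0x687543021, 4), (nat_lit 0x687543210, 4)],
    [(nat_lit 0x768102435, 4), (nat_lit 0x687102435, 4), (nat_lit 0x768435102, 4),
    (nat_lit 0x768102543, 8), (nat_lit 0x768021354, 8), (nat_lit 0x768210435, 8),
    (nat_lit 0x876102435, 4), (nat_lit 0x687435102, 4), (nat_lit 0x768021543, 4),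
    (nat_lit 0x687102543, 8), (nat_lit 0x768435210, 8), (nat_lit 0x768210354, 4),
    (nat_lit 0x687021354, 8), (nat_lit 0x768354021, 8), (nat_lit 0x687210435, 8),
    (nat_lit 0x768543102, 8), (nat_lit 0x876435102, 4), (nat_lit 0x687021543, 4),
    (nat_lit 0x768354210, 4), (nat_lit 0x876102543, 8), (nat_lit 0x687435210, 8),
    (nat_lit 0x687210354, 4), (nat_lit 0x768543021, 4), (nat_lit 0x876021354, 8),
    (nat_lit 0x687354021, 8), (nat_lit 0x876210435, 8), (nat_lit 0x687543102, 8),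
    (nat_lit 0x876021543, 4), (nat_lit 0x687354210, 4), (nat_lit 0x876435210, 8),
    (nat_lit 0x876210354, 4), (nat_lit 0x687543021, 4), (nat_lit 0x876354021, 8),
    (nat_lit 0x876543102, 8), (nat_lit 0x876354210, 4), (nat_lit 0x876543021, 4)],
    [0, 9, 9, 0, -18, 27, -27, 0, 0, 0, 0], [0, 0, 0, 0, 0, 0, 0, 0, 0, 0, 0]),
    ([(nat_lit 0x768102435, 8), (nat_lit 0x768102354, 8), (nat_lit 0x768021435, 8),
    (nat_lit 0x687102435, 4), (nat_lit 0x768435102, 8), (nat_lit 0x768102543, 8),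
    (nat_lit 0x768021354, 8), (nat_lit 0x687102354, 4), (nat_lit 0x768435021, 8),
    (nat_lit 0x768210435, 8), (nat_lit 0x687021435, 4), (nat_lit 0x768354102, 8),
    (nat_lit 0x687435102, 4), (nat_lit 0x768021543, 8), (nat_lit 0x687102543, 4),
    (nat_lit 0x768435210, 8), (nat_lit 0x768210354, 8), (nat_lit 0x687021354, 4),
    (nat_lit 0x768354021, 8), (nat_lit 0x687435021, 4), (nat_lit 0x687210435, 4),
    (nat_lit 0x768543102, 8), (nat_lit 0x687354102, 4), (nat_lit 0x768210543, 8),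
    (nat_lit 0x687021543, 4), (nat_lit 0x768354210, 8), (nat_lit 0x687435210, 4),
    (nat_lit 0x687210354, 4), (nat_lit 0x768543021, 8), (nat_lit 0x687354021, 4),
    (nat_lit 0x687543102, 4), (nat_lit 0x687210543, 4), (nat_lit 0x768543210, 8),
    (nat_lit 0x687354210, 4), (nat_lit 0x687543021, 4), (nat_lit 0x687543210, 4)],
    [(nat_lit 0x768102354, 8), (nat_lit 0x768021435, 8), (nat_lit 0x687102435, 8),
    (nat_lit 0x768102543, 4), (nat_lit 0x768021354, 4), (nat_lit 0x687102354, 4),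
    (nat_lit 0x768435021, 8), (nat_lit 0x768210435, 4), (nat_lit 0x687021435, 4),
    (nat_lit 0x768354102, 8), (nat_lit 0x876102435, 4), (nat_lit 0x687435102, 8),
    (nat_lit 0x768435210, 4), (nat_lit 0x768354021, 4), (nat_lit 0x687435021, 4),
    (nat_lit 0x768543102, 4), (nat_lit 0x687354102, 4), (nat_lit 0x876435102, 4),
    (nat_lit 0x768210543, 8), (nat_lit 0x687021543, 8), (nat_lit 0x876102543, 8),
    (nat_lit 0x687210354, 8), (nat_lit 0x876021354, 8), (nat_lit 0x876210435, 8),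
    (nat_lit 0x687210543, 4), (nat_lit 0x768543210, 8), (nat_lit 0x876021543, 4),
    (nat_lit 0x687354210, 8), (nat_lit 0x876435210, 8), (nat_lit 0x876210354, 4),
    (nat_lit 0x687543021, 8), (nat_lit 0x876354021, 8), (nat_lit 0x876543102, 8),
    (nat_lit 0x687543210, 4), (nat_lit 0x876354210, 4), (nat_lit 0x876543021, 4)],
    [-9, 18, 9, -18, 0, 27, 0, 0, -27, 0, 0], [0, 0, 0, 0, 0, 0, 0, 0, 0, 0, 0]),
    ([],
    [(nat_lit 0x768102435, 8), (nat_lit 0x768102354, 8), (nat_lit 0x768021435, 8),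
    (nat_lit 0x687102435, 4), (nat_lit 0x768435102, 8), (nat_lit 0x768102543, 8),
    (nat_lit 0x768021354, 8), (nat_lit 0x687102354, 4), (nat_lit 0x768435021, 8),
    (nat_lit 0x768210435, 8), (nat_lit 0x687021435, 4), (nat_lit 0x768354102, 8),
    (nat_lit 0x687435102, 4), (nat_lit 0x768021543, 8), (nat_lit 0x687102543, 4),
    (nat_lit 0x768435210, 8), (nat_lit 0x768210354, 8), (nat_lit 0x687021354, 4),
    (nat_lit 0x768354021, 8), (nat_lit 0x687435021, 4), (nat_lit 0x687210435, 4),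
    (nat_lit 0x768543102, 8), (nat_lit 0x687354102, 4), (nat_lit 0x768210543, 8),
    (nat_lit 0x687021543, 4), (nat_lit 0x768354210, 8), (nat_lit 0x687435210, 4),
    (nat_lit 0x687210354, 4), (nat_lit 0x768543021, 8), (nat_lit 0x687354021, 4),
    (nat_lit 0x687543102, 4), (nat_lit 0x687210543, 4), (nat_lit 0x768543210, 8),
    (nat_lit 0x687354210, 4), (nat_lit 0x687543021, 4), (nat_lit 0x687543210, 4)],
    [9, 9, 18, 18, 27, 0, 27, 27, 27, 0, 0], [0, 0, 0, 0, 0, 0, 0, 0, 0, 0, 0])]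
set_option maxHeartbeats 0 in
theorem hS2 : S2.ok 9 LH2 reps 11 162 = true := by decide +kernel
def S4 : Sub where
  gM := [nat_lit 0x876543021, nat_lit 0x876354210, nat_lit 0x687543210, nat_lit 0x876543210, nat_lit 0x120453786]
  LM := [
    nat_lit 0x768435102, nat_lit 0x768435021, nat_lit 0x768354102, nat_lit 0x687435102,
    nat_lit 0x201534867, nat_lit 0x012534867, nat_lit 0x201345867, nat_lit 0x012345867,
    nat_lit 0x768435210, nat_lit 0x201534678, nat_lit 0x012534678, nat_lit 0x201345678,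
    nat_lit 0x012345678, nat_lit 0x768354021, nat_lit 0x687435021, nat_lit 0x768543102,
    nat_lit 0x687354102, nat_lit 0x876435102, nat_lit 0x120534867, nat_lit 0x201453867,
    nat_lit 0x201534786, nat_lit 0x012453867, nat_lit 0x012534786, nat_lit 0x120345867,
    nat_lit 0x201345786, nat_lit 0x012345786, nat_lit 0x768354210, nat_lit 0x687435210,
    nat_lit 0x120534678, nat_lit 0x201453678, nat_lit 0x012453678, nat_lit 0x768543021,
    nat_lit 0x120345678, nat_lit 0x687354021, nat_lit 0x876435021, nat_lit 0x687543102,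
    nat_lit 0x876354102, nat_lit 0x120453867, nat_lit 0x120534786, nat_lit 0x201453786,
    nat_lit 0x012453786, nat_lit 0x768543210, nat_lit 0x120345786, nat_lit 0x687354210,
    nat_lit 0x876435210, nat_lit 0x120453678, nat_lit 0x687543021, nat_lit 0x876354021,
    nat_lit 0x876543102, nat_lit 0x120453786, nat_lit 0x687543210, nat_lit 0x876354210,
    nat_lit 0x876543021, nat_lit 0x876543210]
  T := [
    (nat_lit 0x768435102, 0, nat_lit 0x786453120), (nat_lit 0x768435021, 4, nat_lit 0x786453120),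
    (nat_lit 0x768354102, 4, nat_lit 0x453120786), (nat_lit 0x687435102, 4, nat_lit 0x120786453),
    (nat_lit 0x201534867, 0, nat_lit 0x876543210), (nat_lit 0x012534867, 9, nat_lit 0x120678534),
    (nat_lit 0x201345867, 0, nat_lit 0x876543210), (nat_lit 0x012345867, 9, nat_lit 0x543768021),
    (nat_lit 0x768435210, 2, nat_lit 0x453120786), (nat_lit 0x201534678, 9, nat_lit 0x453678201),
    (nat_lit 0x012534678, 0, nat_lit 0x876543210), (nat_lit 0x201345678, 9, nat_lit 0x021768543),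
    (nat_lit 0x012345678, 0, nat_lit 0x876543210), (nat_lit 0x768354021, 4, nat_lit 0x210876543),
    (nat_lit 0x687435021, 4, nat_lit 0x543210876), (nat_lit 0x768543102, 2, nat_lit 0x120786453),
    (nat_lit 0x687354102, 4, nat_lit 0x876543210), (nat_lit 0x876435102, 2, nat_lit 0x786453120),
    (nat_lit 0x120534867, 9, nat_lit 0x453678120), (nat_lit 0x201453867, 0, nat_lit 0x876543210),
    (nat_lit 0x201534786, 9, nat_lit 0x120678453), (nat_lit 0x012453867, 9, nat_lit 0x543876021),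
    (nat_lit 0x012534786, 9, nat_lit 0x210687543), (nat_lit 0x120345867, 9, nat_lit 0x102768543),
    (nat_lit 0x201345786, 9, nat_lit 0x543768102), (nat_lit 0x012345786, 9, nat_lit 0x210768543),
    (nat_lit 0x768354210, 3, nat_lit 0x453120786), (nat_lit 0x687435210, 3, nat_lit 0x543210876),
    (nat_lit 0x120534678, 9, nat_lit 0x543687210), (nat_lit 0x201453678, 9, nat_lit 0x021876543),
    (nat_lit 0x012453678, 0, nat_lit 0x876543210), (nat_lit 0x768543021, 3, nat_lit 0x210876543),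
    (nat_lit 0x120345678, 9, nat_lit 0x543768210), (nat_lit 0x687354021, 0, nat_lit 0x876543210),
    (nat_lit 0x876435021, 3, nat_lit 0x876210543), (nat_lit 0x687543102, 3, nat_lit 0x543876210),
    (nat_lit 0x876354102, 3, nat_lit 0x876543210), (nat_lit 0x120453867, 9, nat_lit 0x102876543),
    (nat_lit 0x120534786, 0, nat_lit 0x876543210), (nat_lit 0x201453786, 9, nat_lit 0x543876102),
    (nat_lit 0x012453786, 9, nat_lit 0x210876543), (nat_lit 0x768543210, 1, nat_lit 0x120786453),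
    (nat_lit 0x120345786, 0, nat_lit 0x876543210), (nat_lit 0x687354210, 2, nat_lit 0x543210876),
    (nat_lit 0x876435210, 1, nat_lit 0x453120786), (nat_lit 0x120453678, 9, nat_lit 0x543876210),
    (nat_lit 0x687543021, 2, nat_lit 0x210876543), (nat_lit 0x876354021, 2, nat_lit 0x876543210),
    (nat_lit 0x876543102, 1, nat_lit 0x786453120), (nat_lit 0x120453786, 0, nat_lit 0x876543210),
    (nat_lit 0x687543210, 1, nat_lit 0x210876543), (nat_lit 0x876354210, 1, nat_lit 0x543210876),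
    (nat_lit 0x876543021, 1, nat_lit 0x876543210), (nat_lit 0x876543210, 0, nat_lit 0x876543210)]
  E := 3
  F := [([],
    [(nat_lit 0x768435021, 8), (nat_lit 0x687435102, 4), (nat_lit 0x012534867, 4),
    (nat_lit 0x012345867, 4), (nat_lit 0x768435210, 4), (nat_lit 0x201534678, 8),
    (nat_lit 0x201345678, 8), (nat_lit 0x768354021, 8), (nat_lit 0x687354102, 4),
    (nat_lit 0x876435102, 8), (nat_lit 0x120534867, 8), (nat_lit 0x201534786, 4),
    (nat_lit 0x012453867, 4), (nat_lit 0x012534786, 8), (nat_lit 0x120345867, 8),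
    (nat_lit 0x201345786, 4), (nat_lit 0x012345786, 8), (nat_lit 0x768354210, 4),
    (nat_lit 0x687435210, 8), (nat_lit 0x120534678, 4), (nat_lit 0x201453678, 8),
    (nat_lit 0x768543021, 8), (nat_lit 0x120345678, 4), (nat_lit 0x876435021, 4),
    (nat_lit 0x687543102, 4), (nat_lit 0x876354102, 8), (nat_lit 0x120453867, 8),
    (nat_lit 0x201453786, 4), (nat_lit 0x012453786, 8), (nat_lit 0x768543210, 4),
    (nat_lit 0x687354210, 8), (nat_lit 0x120453678, 4), (nat_lit 0x876354021, 4),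
    (nat_lit 0x876543102, 8), (nat_lit 0x687543210, 8), (nat_lit 0x876543021, 4)],
    [0, 18, 18, 27, 18, 0, 0, 0, 0, 81, 0], [0, 0, 0, 0, 0, 0, 0, 0, 0, 0, 0])]
set_option maxHeartbeats 0 in
theorem hS4 : S4.ok 9 LH2 reps 11 162 = true := by decide +kernel
def S1 : Sub where
  gM := [nat_lit 0x876543021, nat_lit 0x876354210, nat_lit 0x687543210, nat_lit 0x876543210, nat_lit 0x210876543]
  LM := [
    nat_lit 0x435102768, nat_lit 0x435102687, nat_lit 0x435021768, nat_lit 0x354102768,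
    nat_lit 0x102768435, nat_lit 0x435102876, nat_lit 0x435021687, nat_lit 0x354102687,
    nat_lit 0x102768354, nat_lit 0x435210768, nat_lit 0x354021768, nat_lit 0x102687435,
    nat_lit 0x543102768, nat_lit 0x021768435, nat_lit 0x768435102, nat_lit 0x435021876,
    nat_lit 0x354102876, nat_lit 0x102768543, nat_lit 0x435210687, nat_lit 0x354021687,
    nat_lit 0x102687354, nat_lit 0x543102687, nat_lit 0x021768354, nat_lit 0x768435021,
    nat_lit 0x354210768, nat_lit 0x102876435, nat_lit 0x543021768, nat_lit 0x021687435,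
    nat_lit 0x768354102, nat_lit 0x210768435, nat_lit 0x687435102, nat_lit 0x435210876,
    nat_lit 0x354021876, nat_lit 0x102687543, nat_lit 0x543102876, nat_lit 0x021768543,
    nat_lit 0x768435210, nat_lit 0x354210687, nat_lit 0x102876354, nat_lit 0x543021687,
    nat_lit 0x021687354, nat_lit 0x768354021, nat_lit 0x210768354, nat_lit 0x687435021,
    nat_lit 0x543210768, nat_lit 0x021876435, nat_lit 0x768543102, nat_lit 0x210687435,
    nat_lit 0x687354102, nat_lit 0x876435102, nat_lit 0x354210876, nat_lit 0x102876543,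
    nat_lit 0x543021876, nat_lit 0x021687543, nat_lit 0x768354210, nat_lit 0x210768543,
    nat_lit 0x687435210, nat_lit 0x543210687, nat_lit 0x021876354, nat_lit 0x768543021,
    nat_lit 0x210687354, nat_lit 0x687354021, nat_lit 0x876435021, nat_lit 0x210876435,
    nat_lit 0x687543102, nat_lit 0x876354102, nat_lit 0x543210876, nat_lit 0x021876543,
    nat_lit 0x768543210, nat_lit 0x210687543, nat_lit 0x687354210, nat_lit 0x876435210,
    nat_lit 0x210876354, nat_lit 0x687543021, nat_lit 0x876354021, nat_lit 0x876543102,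
    nat_lit 0x210876543, nat_lit 0x687543210, nat_lit 0x876354210, nat_lit 0x876543021,
    nat_lit 0x876543210]
  T := [
    (nat_lit 0x435102768, 0, nat_lit 0x876543210),
    (nat_lit 0x435102687, 10, nat_lit 0x786012345),
    (nat_lit 0x435021768, 10, nat_lit 0x786012534),
    (nat_lit 0x354102768, 10, nat_lit 0x453867120),
    (nat_lit 0x102768435, 0, nat_lit 0x876543210),
    (nat_lit 0x435102876, 10, nat_lit 0x876021543),
    (nat_lit 0x435021687, 10, nat_lit 0x543687210),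
    (nat_lit 0x354102687, 10, nat_lit 0x543768210),
    (nat_lit 0x102768354, 10, nat_lit 0x453120678),
    (nat_lit 0x435210768, 10, nat_lit 0x876021435),
    (nat_lit 0x354021768, 10, nat_lit 0x876102435),
    (nat_lit 0x102687435, 10, nat_lit 0x120678453),
    (nat_lit 0x543102768, 10, nat_lit 0x876210435),
    (nat_lit 0x021768435, 10, nat_lit 0x453120867),
    (nat_lit 0x768435102, 0, nat_lit 0x786453120), (nat_lit 0x435021876, 0, nat_lit 0x876543210),
    (nat_lit 0x354102876, 0, nat_lit 0x876543210),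
    (nat_lit 0x102768543, 10, nat_lit 0x021876543),
    (nat_lit 0x435210687, 0, nat_lit 0x876543210), (nat_lit 0x354021687, 0, nat_lit 0x876543210),
    (nat_lit 0x102687354, 10, nat_lit 0x543210687),
    (nat_lit 0x543102687, 0, nat_lit 0x876543210),
    (nat_lit 0x021768354, 10, nat_lit 0x210768543),
    (nat_lit 0x768435021, 4, nat_lit 0x786453120), (nat_lit 0x354210768, 0, nat_lit 0x876543210),
    (nat_lit 0x102876435, 10, nat_lit 0x876543021),
    (nat_lit 0x543021768, 0, nat_lit 0x876543210),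
    (nat_lit 0x021687435, 10, nat_lit 0x543210768),
    (nat_lit 0x768354102, 4, nat_lit 0x453120786),
    (nat_lit 0x210768435, 10, nat_lit 0x543021876),
    (nat_lit 0x687435102, 4, nat_lit 0x120786453),
    (nat_lit 0x435210876, 10, nat_lit 0x786012453),
    (nat_lit 0x354021876, 10, nat_lit 0x786201453),
    (nat_lit 0x102687543, 0, nat_lit 0x876543210),
    (nat_lit 0x543102876, 10, nat_lit 0x786120453),
    (nat_lit 0x021768543, 0, nat_lit 0x876543210), (nat_lit 0x768435210, 2, nat_lit 0x453120786),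
    (nat_lit 0x354210687, 10, nat_lit 0x201453786),
    (nat_lit 0x102876354, 0, nat_lit 0x876543210),
    (nat_lit 0x543021687, 10, nat_lit 0x786120345),
    (nat_lit 0x021687354, 0, nat_lit 0x876543210), (nat_lit 0x768354021, 4, nat_lit 0x210876543),
    (nat_lit 0x210768354, 0, nat_lit 0x876543210), (nat_lit 0x687435021, 4, nat_lit 0x543210876),
    (nat_lit 0x543210768, 10, nat_lit 0x453786120),
    (nat_lit 0x021876435, 0, nat_lit 0x876543210), (nat_lit 0x768543102, 2, nat_lit 0x120786453),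
    (nat_lit 0x210687435, 0, nat_lit 0x876543210), (nat_lit 0x687354102, 4, nat_lit 0x876543210),
    (nat_lit 0x876435102, 2, nat_lit 0x786453120),
    (nat_lit 0x354210876, 10, nat_lit 0x876102543),
    (nat_lit 0x102876543, 10, nat_lit 0x786453012),
    (nat_lit 0x543021876, 10, nat_lit 0x876210543),
    (nat_lit 0x021687543, 10, nat_lit 0x453201867),
    (nat_lit 0x768354210, 3, nat_lit 0x453120786),
    (nat_lit 0x210768543, 10, nat_lit 0x453120786),
    (nat_lit 0x687435210, 3, nat_lit 0x543210876),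
    (nat_lit 0x543210687, 10, nat_lit 0x543876210),
    (nat_lit 0x021876354, 10, nat_lit 0x786453201),
    (nat_lit 0x768543021, 3, nat_lit 0x210876543),
    (nat_lit 0x210687354, 10, nat_lit 0x453201786),
    (nat_lit 0x687354021, 0, nat_lit 0x876543210), (nat_lit 0x876435021, 3, nat_lit 0x876210543),
    (nat_lit 0x210876435, 10, nat_lit 0x786453120),
    (nat_lit 0x687543102, 3, nat_lit 0x543876210), (nat_lit 0x876354102, 3, nat_lit 0x876543210),
    (nat_lit 0x543210876, 0, nat_lit 0x876543210),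
    (nat_lit 0x021876543, 10, nat_lit 0x876543102),
    (nat_lit 0x768543210, 1, nat_lit 0x120786453),
    (nat_lit 0x210687543, 10, nat_lit 0x543210876),
    (nat_lit 0x687354210, 2, nat_lit 0x543210876), (nat_lit 0x876435210, 1, nat_lit 0x453120786),
    (nat_lit 0x210876354, 10, nat_lit 0x876543210),
    (nat_lit 0x687543021, 2, nat_lit 0x210876543), (nat_lit 0x876354021, 2, nat_lit 0x876543210),
    (nat_lit 0x876543102, 1, nat_lit 0x786453120), (nat_lit 0x210876543, 0, nat_lit 0x876543210),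
    (nat_lit 0x687543210, 1, nat_lit 0x210876543), (nat_lit 0x876354210, 1, nat_lit 0x543210876),
    (nat_lit 0x876543021, 1, nat_lit 0x876543210), (nat_lit 0x876543210, 0, nat_lit 0x876543210)]
  E := 2
  F := [([(nat_lit 0x435102768, 8), (nat_lit 0x435102687, 8), (nat_lit 0x435021768, 8),
    (nat_lit 0x354102768, 8), (nat_lit 0x102768435, 4), (nat_lit 0x435102876, 8),
    (nat_lit 0x435021687, 8), (nat_lit 0x354102687, 8), (nat_lit 0x102768354, 4),
    (nat_lit 0x435210768, 8), (nat_lit 0x354021768, 8), (nat_lit 0x102687435, 4),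
    (nat_lit 0x543102768, 8), (nat_lit 0x021768435, 4), (nat_lit 0x435021876, 8),
    (nat_lit 0x354102876, 8), (nat_lit 0x102768543, 4), (nat_lit 0x435210687, 8),
    (nat_lit 0x354021687, 8), (nat_lit 0x102687354, 4), (nat_lit 0x543102687, 8),
    (nat_lit 0x021768354, 4), (nat_lit 0x354210768, 8), (nat_lit 0x102876435, 4),
    (nat_lit 0x543021768, 8), (nat_lit 0x021687435, 4), (nat_lit 0x210768435, 4),
    (nat_lit 0x435210876, 8), (nat_lit 0x354021876, 8), (nat_lit 0x102687543, 4),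
    (nat_lit 0x543102876, 8), (nat_lit 0x021768543, 4), (nat_lit 0x354210687, 8),
    (nat_lit 0x102876354, 4), (nat_lit 0x543021687, 8), (nat_lit 0x021687354, 4),
    (nat_lit 0x210768354, 4), (nat_lit 0x543210768, 8), (nat_lit 0x021876435, 4),
    (nat_lit 0x210687435, 4), (nat_lit 0x354210876, 8), (nat_lit 0x102876543, 4),
    (nat_lit 0x543021876, 8), (nat_lit 0x021687543, 4), (nat_lit 0x210768543, 4),
    (nat_lit 0x543210687, 8), (nat_lit 0x021876354, 4), (nat_lit 0x210687354, 4),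
    (nat_lit 0x210876435, 4), (nat_lit 0x543210876, 8), (nat_lit 0x021876543, 4),
    (nat_lit 0x210687543, 4), (nat_lit 0x210876354, 4), (nat_lit 0x210876543, 4)],
    [(nat_lit 0x435102768, 8), (nat_lit 0x435102687, 4), (nat_lit 0x435021768, 4),
    (nat_lit 0x354102768, 4), (nat_lit 0x102768435, 4), (nat_lit 0x435021876, 8),
    (nat_lit 0x354102876, 8), (nat_lit 0x102768543, 8), (nat_lit 0x435210687, 8),
    (nat_lit 0x354021687, 8), (nat_lit 0x102687354, 8), (nat_lit 0x543102687, 8),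
    (nat_lit 0x021768354, 8), (nat_lit 0x768435021, 8), (nat_lit 0x354210768, 8),
    (nat_lit 0x102876435, 8), (nat_lit 0x543021768, 8), (nat_lit 0x021687435, 8),
    (nat_lit 0x768354102, 8), (nat_lit 0x210768435, 8), (nat_lit 0x687435102, 8),
    (nat_lit 0x435210876, 4), (nat_lit 0x354021876, 4), (nat_lit 0x102687543, 4),
    (nat_lit 0x543102876, 4), (nat_lit 0x021768543, 4), (nat_lit 0x768435210, 4),
    (nat_lit 0x354210687, 4), (nat_lit 0x102876354, 4), (nat_lit 0x543021687, 4),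
    (nat_lit 0x021687354, 4), (nat_lit 0x768354021, 4), (nat_lit 0x210768354, 4),
    (nat_lit 0x687435021, 4), (nat_lit 0x543210768, 4), (nat_lit 0x021876435, 4),
    (nat_lit 0x768543102, 4), (nat_lit 0x210687435, 4), (nat_lit 0x687354102, 4),
    (nat_lit 0x876435102, 4), (nat_lit 0x543210876, 8), (nat_lit 0x021876543, 8),
    (nat_lit 0x768543210, 8), (nat_lit 0x210687543, 8), (nat_lit 0x687354210, 8),
    (nat_lit 0x876435210, 8), (nat_lit 0x210876354, 8), (nat_lit 0x687543021, 8),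
    (nat_lit 0x876354021, 8), (nat_lit 0x876543102, 8), (nat_lit 0x210876543, 4),
    (nat_lit 0x687543210, 4), (nat_lit 0x876354210, 4), (nat_lit 0x876543021, 4)],
    [0, 18, 18, 0, 18, 0, 0, 0, 0, 0, -54], [0, 0, 0, 0, 0, 0, 0, 0, 0, 0, 0])]
set_option maxHeartbeats 0 in
theorem hS1 : S1.ok 9 LH2 reps 11 162 = true := by decide +kernel
def P : List (List ℤ) := [[0, 9, 9, 0, -18, 27, -27, 0, 0, 0, 0],
  [0, 18, -9, 0, -9, 27, 0, -27, 0, 0, 0],
  [0, 9, 9, 0, 9, 27, 27, 27, 0, 0, 54],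
  [-9, 18, 9, -18, 0, 27, 0, 0, -27, 0, 0],
  [0, 18, -9, 0, -9, -27, 0, 27, 0, 0, 0],
  [0, -9, 18, 0, -9, 0, 27, -27, 0, 0, 0],
  [0, -9, 18, 0, 18, 0, 27, 0, 54, 0, 54],
  [9, 18, 27, 18, 9, 27, 0, 27, 27, 0, 0],
  [-9, 0, -9, 9, 9, -27, 0, -27, -27, 81, 0],
  [9, 9, -9, -9, 0, -27, -27, 0, -27, -81, 0],
  [-9, -9, 9, 9, 0, 27, 27, 0, 27, -81, 0]]
def Q : List (List ℤ) := [[0, 0, 0, 0, 0, 0, 0, 0, 0, 0, 0],
  [0, 0, 0, 0, 0, 0, 0, 0, 0, 0, 0],
  [0, 0, 0, 0, 0, 0, 0, 0, 0, 0, 0],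
  [0, 0, 0, 0, 0, 0, 0, 0, 0, 0, 0],
  [0, 0, 0, 0, 0, 0, 0, 0, 0, 0, 0],
  [0, 0, 0, 0, 0, 0, 0, 0, 0, 0, 0],
  [0, 0, 0, 0, 0, 0, 0, 0, 0, 0, 0],
  [0, 0, 0, 0, 0, 0, 0, 0, 0, 0, 0],
  [0, 0, 0, 0, 0, 0, 0, 0, 0, 0, 0],
  [0, 0, 0, 0, 0, 0, 0, 0, 0, 0, 0],
  [0, 0, 0, 0, 0, 0, 0, 0, 0, 0, 0]]
def R : List (List ℤ) := [[2, 1, 0, 1, 0, 0, -1, 1, -1, 0, 0],
  [1, 2, 0, 1, 0, 0, -1, 0, 0, 0, 0],
  [0, 0, 2, 1, 0, 0, 1, 1, -1, 0, 1],
  [1, 1, 1, 3, 0, 0, -1, 0, 0, 0, 0],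
  [0, 0, 0, 0, 2, -1, -1, 0, 0, 1, -1],
  [0, 0, 0, 0, -1, 2, 1, 0, 0, -1, 1],
  [-1, -1, 1, -1, -1, 1, 4, 1, -1, -1, 2],
  [1, 0, 1, 0, 0, 0, 1, 4, -2, 0, 1],
  [-1, 0, -1, 0, 0, 0, -1, -2, 4, -1, -2],
  [0, 0, 0, 0, 1, -1, -1, 0, -1, 3, -1],
  [0, 0, 1, 0, -1, 1, 2, 1, -2, -1, 4]]
def C : List (List ℤ) := [[0, 0, 0, 0, 0, 0, 1, 0, 0, 0, 0],
  [0, 0, 0, 0, 0, 1, 0, 0, 0, 0, 0],
  [0, 0, 0, 0, 0, 0, 0, 1, 1, 0, -1],
  [0, 0, 0, 0, 0, 0, 0, 1, 0, 0, 0],
  [0, 0, 1, 0, 0, -1, 0, 0, 0, 0, 0],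
  [1, 0, -1, 0, 0, 1, -1, 0, 0, 0, 0],
  [0, 0, -1, 1, 0, 1, 0, -1, 1, 0, -1],
  [0, 0, 0, 0, 0, 0, 1, 0, 1, 0, 0],
  [0, 0, 0, 0, 0, 0, -1, 0, -1, 1, 0],
  [0, 0, 1, 0, 1, -1, 0, 0, -1, -1, 0],
  [0, 1, -1, 0, 0, 1, 0, 0, 1, -1, 0]]
def t : List ℤ := [0, 0, 1, 0, 0, 0, 1, 1, 0, -1, 0]
def A1 : List (List ℤ) := [[122, -33, 29, -31, 6, -6, 25, -25, 49, 28, 21],
  [-33, 63, -6, -6, 0, 0, 6, 3, -12, -3, -9],
  [29, -6, 80, -43, -12, 12, -26, -19, 16, 13, 3],
  [-31, -6, -43, 59, 6, -6, 16, 11, -14, -8, -6],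
  [6, 0, -12, 6, 63, 18, 12, -3, 3, -6, 9],
  [-6, 0, 12, -6, 18, 63, -12, 3, -3, 6, -9],
  [25, 6, -26, 16, 12, -12, 53, -8, 11, 14, -3],
  [-25, 3, -19, 11, -3, 3, -8, 35, 7, 4, 3],
  [49, -12, 16, -14, 3, -3, 11, 7, 68, 35, 33],
  [28, -3, 13, -8, -6, 6, 14, 4, 35, 47, 15],
  [21, -9, 3, -6, 9, -9, -3, 3, 33, 15, 45]]
def Y : List (List ℤ) := [[1],
  [-1, 2],
  [0, 0, 1],
  [-2, -2, -3, 6],
  [0, 0, 0, 0, 1],
  [0, 0, 0, 0, 1, 2],
  [6, 6, -24, 15, 11, -11, 33],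
  [-51, 8, -32, 20, -5, 5, -15, 59],
  [51, -8, 32, -20, 5, -5, 15, 10, 69],
  [65, -4, 16, -10, -37, 37, 47, 5, 74, 158],
  [13, -7, -3, -2, 5, -5, -3, 1, 21, 13, 31]]
def W : List ℤ := [5593102119, 1864367373, 5593102119, 169487943, 5593102119, 1864367373, 5745354, 1373889, 1026069, 253759, 7075398]
def V : List (List ℤ) := [[1, 1, 0, 1, 0, 0, -1, 0, 0, 0, 0],
  [1, 0, 0, 0, 0, 0, 0, 1, -1, 0, 0],
  [0, 1, 0, 0, 0, 0, 0, 0, 0, 0, 0],
  [0, 0, 1, 1, 0, 0, 0, 0, 0, 0, 0],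
  [0, 0, 1, 0, 0, 0, 1, 1, -1, 0, 1],
  [0, 0, 0, 1, 0, 0, -1, -1, 1, 0, -1],
  [0, 0, 0, 1, 0, 0, 0, -1, 0, 0, 0],
  [0, 0, 0, 1, 0, 0, 0, 0, 0, 0, 0],
  [0, 0, 0, 0, 1, -1, -1, 0, 0, 1, -1],
  [0, 0, 0, 0, 1, 0, 0, 0, 0, 0, 0],
  [0, 0, 0, 0, 0, 1, 0, 0, 0, 0, 0],
  [0, 0, 0, 0, 0, 0, 1, 1, 0, 0, 0],
  [0, 0, 0, 0, 0, 0, 1, 0, -1, 0, 1],
  [0, 0, 0, 0, 0, 0, 1, 0, 0, 0, 0],
  [0, 0, 0, 0, 0, 0, 0, 1, -1, 1, 0],
  [0, 0, 0, 0, 0, 0, 0, 1, -1, 0, 1],
  [0, 0, 0, 0, 0, 0, 0, 1, 0, 0, 0],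
  [0, 0, 0, 0, 0, 0, 0, 0, 1, -1, -1],
  [0, 0, 0, 0, 0, 0, 0, 0, 1, -1, 0],
  [0, 0, 0, 0, 0, 0, 0, 0, 1, 0, -1],
  [0, 0, 0, 0, 0, 0, 0, 0, 1, 0, 0],
  [0, 0, 0, 0, 0, 0, 0, 0, 0, 1, -1],
  [0, 0, 0, 0, 0, 0, 0, 0, 0, 1, 0],
  [0, 0, 0, 0, 0, 0, 0, 0, 0, 0, 1]]
def sols : List (List (List ℤ)) := [[[1, 1, 0, 1, 0, 0, -1, 0, 0, 0, 0],
  [1, 0, 0, 0, 0, 0, 0, 1, -1, 0, 0],
  [0, 1, 0, 0, 0, 0, 0, 0, 0, 0, 0],
  [0, 0, 1, 1, 0, 0, 0, 0, 0, 0, 0],
  [0, 0, 1, 0, 0, 0, 1, 1, -1, 0, 1],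
  [0, 0, 0, 1, 0, 0, 0, 0, 0, 0, 0],
  [0, 0, 0, 0, 1, -1, -1, 0, 0, 1, -1],
  [0, 0, 0, 0, 1, 0, 0, 0, 0, 0, 0],
  [0, 0, 0, 0, 0, 1, 0, 0, 0, 0, 0],
  [0, 0, 0, 0, 0, 0, 1, 0, 0, 0, 0],
  [0, 0, 0, 0, 0, 0, 0, 1, 0, 0, 0],
  [0, 0, 0, 0, 0, 0, 0, 1, 0, 0, 0],
  [0, 0, 0, 0, 0, 0, 0, 0, 1, -1, -1],
  [0, 0, 0, 0, 0, 0, 0, 0, 1, 0, 0],
  [0, 0, 0, 0, 0, 0, 0, 0, 0, 1, -1]],
  [[1, 1, 0, 1, 0, 0, -1, 0, 0, 0, 0],
  [1, 0, 0, 0, 0, 0, 0, 1, -1, 0, 0],
  [0, 1, 0, 0, 0, 0, 0, 0, 0, 0, 0],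
  [0, 0, 1, 1, 0, 0, 0, 0, 0, 0, 0],
  [0, 0, 1, 0, 0, 0, 1, 1, -1, 0, 1],
  [0, 0, 0, 1, 0, 0, 0, 0, 0, 0, 0],
  [0, 0, 0, 0, 1, -1, -1, 0, 0, 1, -1],
  [0, 0, 0, 0, 1, 0, 0, 0, 0, 0, 0],
  [0, 0, 0, 0, 0, 1, 0, 0, 0, 0, 0],
  [0, 0, 0, 0, 0, 0, 1, 0, 0, 0, 0],
  [0, 0, 0, 0, 0, 0, 0, 1, 0, 0, 0],
  [0, 0, 0, 0, 0, 0, 0, 1, 0, 0, 0],
  [0, 0, 0, 0, 0, 0, 0, 0, 1, -1, 0],
  [0, 0, 0, 0, 0, 0, 0, 0, 1, 0, -1],
  [0, 0, 0, 0, 0, 0, 0, 0, 0, 1, 0],
  [0, 0, 0, 0, 0, 0, 0, 0, 0, 0, 1]]]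
def l : List (List (ℤ × ℤ)) := [[(-4, 0), (3, 0), (2, 0), (-4, 0), (-3, 0), (3, 0), (-2, 0), (2, 0), (-5, 0), (1, 0), (-6, 0)],
  [(-1, 0), (3, 0), (-1, 0), (2, 0), (3, 0), (0, 0), (1, 0), (2, 0), (1, 0), (1, 0), (0, 0)],
  [(2, 0), (-3, 0), (-1, 0), (2, 0), (0, 0), (3, 0), (1, 0), (2, 0), (1, 0), (1, 0), (0, 0)],
  [(2, 0), (0, 0), (2, 0), (-4, 0), (0, 0), (0, 0), (-2, 0), (2, 0), (4, 0), (1, 0), (3, 0)],
  [(-4, 0), (0, 0), (-1, 0), (2, 0), (-3, 0), (-3, 0), (1, 0), (2, 0), (1, 0), (1, 0), (0, 0)],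
  [(0, 0), (1, 0), (1, 0), (0, 0), (-2, 0), (-1, 0), (-1, 0), (0, 0), (-1, 0), (-1, 0), (0, 0)],
  [(-3, 0), (1, 0), (1, 0), (0, 0), (1, 0), (2, 0), (-1, 0), (0, 0), (-1, 0), (-1, 0), (0, 0)],
  [(0, 0), (-2, 0), (1, 0), (0, 0), (1, 0), (-1, 0), (-1, 0), (0, 0), (-1, 0), (-1, 0), (0, 0)],
  [(0, 0), (1, 0), (-2, 0), (0, 0), (1, 0), (-1, 0), (2, 0), (0, 0), (-1, 0), (-1, 0), (0, 0)],
  [(0, 0), (0, 0), (0, 0), (0, 0), (0, 0), (0, 0), (0, 0), (0, 0), (0, 0), (-1, 0), (-1, 0)],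
  [(2, 0), (0, 0), (2, 0), (-1, 0), (0, 0), (0, 0), (1, 0), (-1, 0), (1, 0), (1, 0), (0, 0)]]
def Us : List (List ℕ) := [[],
  [nat_lit 0x876543021, nat_lit 0x876354210, nat_lit 0x876543102, nat_lit 0x687543210,
    nat_lit 0x876435210, nat_lit 0x768543210],
  [],
  [nat_lit 0x876354102, nat_lit 0x687435210, nat_lit 0x876435021, nat_lit 0x768543021,
    nat_lit 0x687543102, nat_lit 0x768354210],
  [nat_lit 0x687354102, nat_lit 0x687435021, nat_lit 0x768435021, nat_lit 0x768354021,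
    nat_lit 0x768354102, nat_lit 0x687435102],
  [],
  [],
  [],
  [],
  [],
  []]
def tr : List (ℕ × ℕ × ℕ × ℕ) := [(1, 1, 2, 2), (1, 3, 3, 0), (4, 4, 1, 2), (4, 4, 2, 0), (4, 4, 3, 2)]
def gJ : List ℕ := [nat_lit 0x876543021, nat_lit 0x876354210, nat_lit 0x687543210]
def LJ : List ℕ := [
  nat_lit 0x768435102, nat_lit 0x768435021, nat_lit 0x768354102, nat_lit 0x687435102,
  nat_lit 0x768435210, nat_lit 0x768354021, nat_lit 0x687435021, nat_lit 0x768543102,
  nat_lit 0x687354102, nat_lit 0x876435102, nat_lit 0x768354210, nat_lit 0x687435210,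
  nat_lit 0x768543021, nat_lit 0x687354021, nat_lit 0x876435021, nat_lit 0x687543102,
  nat_lit 0x876354102, nat_lit 0x768543210, nat_lit 0x687354210, nat_lit 0x876435210,
  nat_lit 0x687543021, nat_lit 0x876354021, nat_lit 0x876543102, nat_lit 0x687543210,
  nat_lit 0x876354210, nat_lit 0x876543021, nat_lit 0x876543210]
def TJ : List (ℕ × ℕ × ℕ) := [
  (nat_lit 0x768435102, 0, nat_lit 0x786453120), (nat_lit 0x768435021, 4, nat_lit 0x786453120),
  (nat_lit 0x768354102, 4, nat_lit 0x453120786), (nat_lit 0x687435102, 4, nat_lit 0x120786453),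
  (nat_lit 0x768435210, 2, nat_lit 0x453120786), (nat_lit 0x768354021, 4, nat_lit 0x210876543),
  (nat_lit 0x687435021, 4, nat_lit 0x543210876), (nat_lit 0x768543102, 2, nat_lit 0x120786453),
  (nat_lit 0x687354102, 4, nat_lit 0x876543210), (nat_lit 0x876435102, 2, nat_lit 0x786453120),
  (nat_lit 0x768354210, 3, nat_lit 0x453120786), (nat_lit 0x687435210, 3, nat_lit 0x543210876),
  (nat_lit 0x768543021, 3, nat_lit 0x210876543), (nat_lit 0x687354021, 0, nat_lit 0x876543210),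
  (nat_lit 0x876435021, 3, nat_lit 0x876210543), (nat_lit 0x687543102, 3, nat_lit 0x543876210),
  (nat_lit 0x876354102, 3, nat_lit 0x876543210), (nat_lit 0x768543210, 1, nat_lit 0x120786453),
  (nat_lit 0x687354210, 2, nat_lit 0x543210876), (nat_lit 0x876435210, 1, nat_lit 0x453120786),
  (nat_lit 0x687543021, 2, nat_lit 0x210876543), (nat_lit 0x876354021, 2, nat_lit 0x876543210),
  (nat_lit 0x876543102, 1, nat_lit 0x786453120), (nat_lit 0x687543210, 1, nat_lit 0x210876543),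
  (nat_lit 0x876354210, 1, nat_lit 0x543210876), (nat_lit 0x876543021, 1, nat_lit 0x876543210),
  (nat_lit 0x876543210, 11, nat_lit 0x876543210)]
def mJ : List ℤ := [2, 6, 6, 6, 6, 0, 0, 0, 0, 0, 0, 1]

set_option maxHeartbeats 0 in
theorem out {G : Type*} [Group G] [Finite G] {ι : H2 →* G} (H : Hyp LA LB ι) :
    ∃ w ∈ sols, ∃ d, Out (Nat.card G) 27 11 11 t l mJ cn tr w d :=
  H.main hH2 reps 11 (by decide +kernel) pws ods cn (by decide +kernel) cent (by decide +kernel)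
    (by decide +kernel) 162 (by norm_num) [S0, S2, S4, S1] (by simp [hS0, hS2, hS4, hS1]) P Q R C t (by decide +kernel)
    (by decide +kernel) (by decide +kernel) A1 Y W 11186204238 V sols 42 (by decide +kernel)
    (by decide +kernel) (by decide +kernel) l (by decide +kernel) Us [1, 3, 4] [1, 2, 3] tr (by decide +kernel)
    gJ LJ TJ mJ 27 (by decide +kernel)

set_option maxHeartbeats 0 in
theorem arith (n : ℕ) (hn : 0 < n) (w : List (List ℤ)) (hw : w ∈ sols) (d : List ℤ)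
    (h : Out (324 * n) 27 11 11 t l mJ cn tr w d) : n = 1 := by
  obtain ⟨h1, h2, h3, h4⟩ := h
  simp only [sols, List.mem_cons, List.not_mem_nil, or_false] at hw
  rcases hw with rfl | rfl
  · simp only [List.forall₂_cons_left_iff, List.forall₂_nil_left_iff] at h1
    obtain ⟨d1, _, ⟨n1, c1⟩, ⟨d2, _, ⟨n2, c2⟩, ⟨d3, _, ⟨n3, c3⟩, ⟨d4, _, ⟨n4, c4⟩, ⟨d5, _, ⟨n5, c5⟩, ⟨d6, _,
      ⟨n6, c6⟩, ⟨d7, _, ⟨n7, c7⟩, ⟨d8, _, ⟨n8, c8⟩, ⟨d9, _, ⟨n9, c9⟩, ⟨d10, _, ⟨n10, c10⟩, ⟨d11, _,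
      ⟨n11, c11⟩, ⟨d12, _, ⟨n12, c12⟩, ⟨d13, _, ⟨n13, c13⟩, ⟨d14, _, ⟨n14, c14⟩, ⟨d15, _, ⟨n15, c15⟩,
      rfl, rfl⟩, rfl⟩, rfl⟩, rfl⟩, rfl⟩, rfl⟩, rfl⟩, rfl⟩, rfl⟩, rfl⟩, rfl⟩, rfl⟩, rfl⟩, rfl⟩, rfl⟩ := h1
    have h := h4 [(0, 0), (1, 0), (-1, 0), (-1, 0), (1, 0)]
      [-27, -27, 0, 0, 0, 0, 0, -27, -27, 0, 0, 0, 0, 18, 0] (0) (0) (by decide +kernel)
    simp only [List.zipWith_cons_cons, List.zipWith_nil_right, List.map_cons, List.map_nil, List.sum_cons,
      List.sum_nil] at h h2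
    have r0 := h3 0 (by norm_num)
    have r4 := h3 4 (by norm_num)
    have r5 := h3 5 (by norm_num)
    simp only [List.zipWith_cons_cons, List.zipWith_nil_right, List.map_cons, List.map_nil, List.sum_cons,
      List.sum_nil, ent, t, List.getD_cons_zero, List.getD_cons_succ] at r0 r4 r5
    obtain rfl : d2 = -d1 := by omega
    obtain rfl : d8 = -d7 := by omega
    obtain rfl : d7 = d9 := by omega
    have e := ybound (g := 324 * n) (a := 18) (C := 0) n14 (by rw [← h]; push_cast; ring)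
      (by linarith [sq_nonneg d1, sq_nonneg d3, sq_nonneg d4, sq_nonneg d5, sq_nonneg d6, sq_nonneg d7,
        sq_nonneg d10, sq_nonneg d11, sq_nonneg d12, sq_nonneg d13, sq_nonneg d14, sq_nonneg d15])
    norm_num at e
    omega
  · simp only [List.forall₂_cons_left_iff, List.forall₂_nil_left_iff] at h1
    obtain ⟨d1, _, ⟨n1, c1⟩, ⟨d2, _, ⟨n2, c2⟩, ⟨d3, _, ⟨n3, c3⟩, ⟨d4, _, ⟨n4, c4⟩, ⟨d5, _, ⟨n5, c5⟩, ⟨d6, _,
      ⟨n6, c6⟩, ⟨d7, _, ⟨n7, c7⟩, ⟨d8, _, ⟨n8, c8⟩, ⟨d9, _, ⟨n9, c9⟩, ⟨d10, _, ⟨n10, c10⟩, ⟨d11, _,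
      ⟨n11, c11⟩, ⟨d12, _, ⟨n12, c12⟩, ⟨d13, _, ⟨n13, c13⟩, ⟨d14, _, ⟨n14, c14⟩, ⟨d15, _, ⟨n15, c15⟩,
      ⟨d16, _, ⟨n16, c16⟩, rfl, rfl⟩, rfl⟩, rfl⟩, rfl⟩, rfl⟩, rfl⟩, rfl⟩, rfl⟩, rfl⟩, rfl⟩, rfl⟩, rfl⟩,
      rfl⟩, rfl⟩, rfl⟩, rfl⟩ := h1
    have h := h4 [(1, 0), (0, 0), (0, 0), (-1, 0), (0, 0)]
      [0, -27, -27, 0, 0, 0, -27, 0, -27, 0, 0, 0, 0, 0, 0, 0] (0) (5832) (by decide +kernel)
    simp only [List.zipWith_cons_cons, List.zipWith_nil_right, List.map_cons, List.map_nil, List.sum_cons,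
      List.sum_nil] at h h2
    have r0 := h3 0 (by norm_num)
    have r1 := h3 1 (by norm_num)
    have r2 := h3 2 (by norm_num)
    have r3 := h3 3 (by norm_num)
    have r4 := h3 4 (by norm_num)
    have r5 := h3 5 (by norm_num)
    have r6 := h3 6 (by norm_num)
    have r7 := h3 7 (by norm_num)
    have r8 := h3 8 (by norm_num)
    have r9 := h3 9 (by norm_num)
    have r10 := h3 10 (by norm_num)
    simp only [List.zipWith_cons_cons, List.zipWith_nil_right, List.map_cons, List.map_nil, List.sum_cons,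
      List.sum_nil, ent, t, List.getD_cons_zero, List.getD_cons_succ] at r0 r1 r2 r3 r4 r5 r6 r7 r8 r9 r10
    obtain rfl : d2 = -d1 := by omega
    obtain rfl : d3 = -d1 := by omega
    obtain rfl : d8 = -d7 := by omega
    obtain rfl : d7 = d9 := by omega
    have e : ((324 * n : ℕ) : ℚ) * (54 * (d1 : ℚ)⁻¹ + (-54) * (d7 : ℚ)⁻¹) = (5832 : ℤ) := by
      rw [← h]; push_cast; ring
    have q1 := c1 (-6) (by decide +kernel)
    have q7 := c7 (6) (by decide +kernel)
    have e2 : 3 * (n : ℤ) * (d7 - d1) = d1 * d7 := by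
      have a1 : (d1 : ℚ) ≠ 0 := by exact_mod_cast n1
      have a7 : (d7 : ℚ) ≠ 0 := by exact_mod_cast n7
      have : 3 * (n : ℚ) * (d7 - d1) = d1 * d7 := by
        have e1 := congrArg (· * (d1 : ℚ) * d7 / 5832) e
        push_cast at e1
        rw [← sub_eq_zero] at e1 ⊢
        rw [← e1]
        field_simp
        ring
      exact_mod_cast this
    push_cast at h2
    have hn' : (0 : ℤ) < n := by exact_mod_cast hn
    have b0 : d1 ^ 2 + d7 ^ 2 < 108 * n := by
      linarith [sq_nonneg d4, sq_nonneg d5, sq_nonneg d6, sq_nonneg d10, sq_nonneg d11,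
        sq_nonneg d12, sq_nonneg d13, sq_nonneg d14, sq_nonneg d15, sq_nonneg d16]
    have b1 : d7 - d1 < 18 := lt_of_mul_lt_mul_left (a := 6 * (n : ℤ))
      (by linarith [sq_nonneg (d1 - d7)]) (by positivity)
    have b2 : d1 - d7 < 18 := lt_of_mul_lt_mul_left (a := 6 * (n : ℤ))
      (by linarith [sq_nonneg (d1 + d7)]) (by positivity)
    rcases (by omega : d7 = d1 - 12 ∨ d7 = d1 + 15) with rfl | rfl
    · have : (n : ℤ) ≤ 1 := by linarith [sq_nonneg (d1 - 6)]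
      omega
    obtain rfl : d10 = d1 + 15 - d6 := by omega
    obtain rfl : d11 = -d6 - d12 := by omega
    obtain rfl : d14 = -(d1 + 15 - d6) - d15 := by omega
    obtain rfl : d4 = -d6 - d1 := by omega
    exfalso
    linarith [sq_nonneg d5, sq_nonneg d13, sq_nonneg d16, sq_nonneg (d6 + 2 * d12),
      sq_nonneg (d1 + 15 - d6 + 2 * d15), sq_nonneg (8 * d6 - d1 - 45), sq_nonneg (11 * d1 + 95)]

theorem top {G : Type*} [Group G] [Finite G] {ι : H2 →* G} (H : Hyp LA LB ι) : ι.range = ⊤ := by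
  obtain ⟨w, hw, d, h⟩ := out H
  obtain ⟨h1, h2⟩ := H.card hH2
  rw [h1, show LH2.length = 324 by decide +kernel] at h
  exact Subgroup.index_eq_one.mp (arith _ h2 w hw d h)

end Cfsg.Agent.H1.S9G2
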