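import Cfsg.Agent.H1.GramAuto
import Cfsg.Agent.H1.S9Grp

/-!
# The normalizer of a TI subgroup of order 27, order 648
-/

set_option autoImplicit false
set_option maxRecDepth 100000
set_option synthInstance.maxSize 100000
set_option synthInstance.maxHeartbeats 1000000
set_option linter.unusedSimpArgs false

namespace Cfsg.Agent.H1.S9G4

open Cfsg.Agent.L0 Cfsg.Agent.L0.Gram Cfsg.Agent.H1.GA Cfsg.Agent.L0.Code Equiv Cfsg.Agent.H1.PC

open Cfsg.Agent.H1.S9

def LA : List ℕ := [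
  nat_lit 0x876543021, nat_lit 0x876354210, nat_lit 0x687543210, nat_lit 0x876543102,
  nat_lit 0x876354021, nat_lit 0x687543021, nat_lit 0x876435210, nat_lit 0x687354210,
  nat_lit 0x768543210, nat_lit 0x876354102, nat_lit 0x687543102, nat_lit 0x876435021,
  nat_lit 0x687354021, nat_lit 0x768543021, nat_lit 0x687435210, nat_lit 0x768354210,
  nat_lit 0x876435102, nat_lit 0x687354102, nat_lit 0x768543102, nat_lit 0x687435021,
  nat_lit 0x768354021, nat_lit 0x768435210, nat_lit 0x687435102, nat_lit 0x768354102,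
  nat_lit 0x768435021, nat_lit 0x768435102]
def LB : List ℕ := [
  nat_lit 0x876543021, nat_lit 0x876354210, nat_lit 0x687543210, nat_lit 0x876543102,
  nat_lit 0x876354021, nat_lit 0x687543021, nat_lit 0x876435210, nat_lit 0x687354210,
  nat_lit 0x768543210, nat_lit 0x876354102, nat_lit 0x687543102, nat_lit 0x876435021,
  nat_lit 0x687354021, nat_lit 0x768543021, nat_lit 0x687435210, nat_lit 0x768354210,
  nat_lit 0x876435102, nat_lit 0x687354102, nat_lit 0x768543102, nat_lit 0x687435021,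
  nat_lit 0x768354021, nat_lit 0x768435210, nat_lit 0x687435102, nat_lit 0x768354102,
  nat_lit 0x768435021, nat_lit 0x768435102]
def reps : List ℕ := [
  nat_lit 0x687354021, nat_lit 0x687354102, nat_lit 0x876543021, nat_lit 0x876354021,
  nat_lit 0x543876021, nat_lit 0x543876102, nat_lit 0x876210354, nat_lit 0x354876021,
  nat_lit 0x354876102, nat_lit 0x786453021, nat_lit 0x210876354, nat_lit 0x210876435,
  nat_lit 0x876543210]
def pws : List ℕ := [1, 1, 1, 1, 2, 2, 2, 2, 2, 2, 3, 3]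
def ods : List ℕ := [3, 3, 3, 3, 6, 6, 6, 6, 6, 6, 9, 9]
def cn : List ℕ := [162, 162, 108, 54, 36, 36, 18, 18, 18, 12, 9, 9]
def cent : List ℤ := [162, 162, 108, 54, 36, 36, 18, 18, 18, 12, 9, 9]
def S0 : Sub where
  gM := [nat_lit 0x876543021, nat_lit 0x876354210, nat_lit 0x687543210]
  LM := [
    nat_lit 0x768435102, nat_lit 0x768435021, nat_lit 0x768354102, nat_lit 0x687435102,
    nat_lit 0x768435210, nat_lit 0x768354021, nat_lit 0x687435021, nat_lit 0x768543102,
    nat_lit 0x687354102, nat_lit 0x876435102, nat_lit 0x768354210, nat_lit 0x687435210,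
    nat_lit 0x768543021, nat_lit 0x687354021, nat_lit 0x876435021, nat_lit 0x687543102,
    nat_lit 0x876354102, nat_lit 0x768543210, nat_lit 0x687354210, nat_lit 0x876435210,
    nat_lit 0x687543021, nat_lit 0x876354021, nat_lit 0x876543102, nat_lit 0x687543210,
    nat_lit 0x876354210, nat_lit 0x876543021, nat_lit 0x876543210]
  T := [
    (nat_lit 0x768435102, 1, nat_lit 0x210786453), (nat_lit 0x768435021, 0, nat_lit 0x453120876),
    (nat_lit 0x768354102, 0, nat_lit 0x120876453), (nat_lit 0x687435102, 0, nat_lit 0x876453120),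
    (nat_lit 0x768435210, 3, nat_lit 0x453120876), (nat_lit 0x768354021, 1, nat_lit 0x210876543),
    (nat_lit 0x687435021, 1, nat_lit 0x543210876), (nat_lit 0x768543102, 3, nat_lit 0x120876453),
    (nat_lit 0x687354102, 1, nat_lit 0x876543210), (nat_lit 0x876435102, 3, nat_lit 0x876453120),
    (nat_lit 0x768354210, 3, nat_lit 0x453210786), (nat_lit 0x687435210, 3, nat_lit 0x543120786),
    (nat_lit 0x768543021, 3, nat_lit 0x120786543), (nat_lit 0x687354021, 0, nat_lit 0x876543210),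
    (nat_lit 0x876435021, 3, nat_lit 0x786453210), (nat_lit 0x687543102, 3, nat_lit 0x210786453),
    (nat_lit 0x876354102, 3, nat_lit 0x786543120), (nat_lit 0x768543210, 2, nat_lit 0x120786543),
    (nat_lit 0x687354210, 3, nat_lit 0x543210876), (nat_lit 0x876435210, 2, nat_lit 0x543120786),
    (nat_lit 0x687543021, 3, nat_lit 0x210876543), (nat_lit 0x876354021, 3, nat_lit 0x876543210),
    (nat_lit 0x876543102, 2, nat_lit 0x876453120), (nat_lit 0x687543210, 2, nat_lit 0x210876543),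
    (nat_lit 0x876354210, 2, nat_lit 0x543210876), (nat_lit 0x876543021, 2, nat_lit 0x876543210),
    (nat_lit 0x876543210, 0, nat_lit 0x876543210)]
  E := 12
  F := [([(nat_lit 0x768435102, 8), (nat_lit 0x768435021, 8), (nat_lit 0x768354102, 8),
    (nat_lit 0x687435102, 4), (nat_lit 0x768435210, 8), (nat_lit 0x768354021, 8),
    (nat_lit 0x687435021, 4), (nat_lit 0x768543102, 8), (nat_lit 0x687354102, 4),
    (nat_lit 0x768354210, 8), (nat_lit 0x687435210, 4), (nat_lit 0x768543021, 8),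
    (nat_lit 0x687354021, 4), (nat_lit 0x687543102, 4), (nat_lit 0x768543210, 8),
    (nat_lit 0x687354210, 4), (nat_lit 0x687543021, 4), (nat_lit 0x687543210, 4)],
    [(nat_lit 0x768435102, 4), (nat_lit 0x768435021, 4), (nat_lit 0x768435210, 4),
    (nat_lit 0x768543102, 8), (nat_lit 0x687354102, 8), (nat_lit 0x876435102, 8),
    (nat_lit 0x768543021, 8), (nat_lit 0x687354021, 8), (nat_lit 0x876435021, 8),
    (nat_lit 0x687543102, 4), (nat_lit 0x876354102, 4), (nat_lit 0x768543210, 8),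
    (nat_lit 0x687354210, 8), (nat_lit 0x876435210, 8), (nat_lit 0x687543021, 4),
    (nat_lit 0x876354021, 4), (nat_lit 0x687543210, 4), (nat_lit 0x876354210, 4)],
    [-36, -36, 36, 36, 0, 0, 0, 0, 0, 0, 0, 0], [0, 0, 0, 0, 0, 0, 0, 0, 0, 0, 0, 0]),
    ([(nat_lit 0x768435102, 4), (nat_lit 0x768435021, 4), (nat_lit 0x768435210, 4),
    (nat_lit 0x768543102, 8), (nat_lit 0x687354102, 8), (nat_lit 0x876435102, 8),
    (nat_lit 0x768543021, 8), (nat_lit 0x687354021, 8), (nat_lit 0x876435021, 8),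
    (nat_lit 0x687543102, 4), (nat_lit 0x876354102, 4), (nat_lit 0x768543210, 8),
    (nat_lit 0x687354210, 8), (nat_lit 0x876435210, 8), (nat_lit 0x687543021, 4),
    (nat_lit 0x876354021, 4), (nat_lit 0x687543210, 4), (nat_lit 0x876354210, 4)],
    [(nat_lit 0x768435021, 8), (nat_lit 0x768354102, 8), (nat_lit 0x687435102, 8),
    (nat_lit 0x768435210, 4), (nat_lit 0x768354021, 4), (nat_lit 0x687435021, 4),
    (nat_lit 0x768543102, 4), (nat_lit 0x687354102, 4), (nat_lit 0x876435102, 4),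
    (nat_lit 0x768543210, 8), (nat_lit 0x687354210, 8), (nat_lit 0x876435210, 8),
    (nat_lit 0x687543021, 8), (nat_lit 0x876354021, 8), (nat_lit 0x876543102, 8),
    (nat_lit 0x687543210, 4), (nat_lit 0x876354210, 4), (nat_lit 0x876543021, 4)],
    [36, 0, 36, -72, 0, 0, 0, 0, 0, 0, 0, 0], [36, -36, 0, 0, 0, 0, 0, 0, 0, 0, 0, 0]),
    ([(nat_lit 0x768435102, 4), (nat_lit 0x768435021, 4), (nat_lit 0x768435210, 4),
    (nat_lit 0x768543102, 8), (nat_lit 0x687354102, 8), (nat_lit 0x876435102, 8),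
    (nat_lit 0x768543021, 8), (nat_lit 0x687354021, 8), (nat_lit 0x876435021, 8),
    (nat_lit 0x687543102, 4), (nat_lit 0x876354102, 4), (nat_lit 0x768543210, 8),
    (nat_lit 0x687354210, 8), (nat_lit 0x876435210, 8), (nat_lit 0x687543021, 4),
    (nat_lit 0x876354021, 4), (nat_lit 0x687543210, 4), (nat_lit 0x876354210, 4)],
    [(nat_lit 0x768435102, 8), (nat_lit 0x768435021, 4), (nat_lit 0x768354102, 4),
    (nat_lit 0x687435021, 8), (nat_lit 0x687354102, 8), (nat_lit 0x876435102, 4),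
    (nat_lit 0x768354210, 8), (nat_lit 0x687435210, 4), (nat_lit 0x768543021, 8),
    (nat_lit 0x687354021, 4), (nat_lit 0x687543102, 4), (nat_lit 0x768543210, 4),
    (nat_lit 0x876435210, 8), (nat_lit 0x876354021, 8), (nat_lit 0x876543102, 8),
    (nat_lit 0x687543210, 8), (nat_lit 0x876354210, 4), (nat_lit 0x876543021, 4)],
    [0, 36, 36, -72, 0, 0, 0, 0, 0, 0, 0, 0], [-36, 36, 0, 0, 0, 0, 0, 0, 0, 0, 0, 0]),
    ([],
    [(nat_lit 0x768435102, 4), (nat_lit 0x768435021, 4), (nat_lit 0x768435210, 4),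
    (nat_lit 0x768543102, 8), (nat_lit 0x687354102, 8), (nat_lit 0x876435102, 8),
    (nat_lit 0x768543021, 8), (nat_lit 0x687354021, 8), (nat_lit 0x876435021, 8),
    (nat_lit 0x687543102, 4), (nat_lit 0x876354102, 4), (nat_lit 0x768543210, 8),
    (nat_lit 0x687354210, 8), (nat_lit 0x876435210, 8), (nat_lit 0x687543021, 4),
    (nat_lit 0x876354021, 4), (nat_lit 0x687543210, 4), (nat_lit 0x876354210, 4)],
    [36, 36, 72, 180, 0, 0, 0, 0, 0, 0, 0, 0], [0, 0, 0, 0, 0, 0, 0, 0, 0, 0, 0, 0])]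
set_option maxHeartbeats 0 in
theorem hS0 : S0.ok 9 LH4 reps 12 324 = true := by decide +kernel
def S2 : Sub where
  gM := [nat_lit 0x876543021, nat_lit 0x876354210, nat_lit 0x687543210, nat_lit 0x876543210, nat_lit 0x876210543]
  LM := [
    nat_lit 0x768102435, nat_lit 0x768102354, nat_lit 0x768021435, nat_lit 0x687102435,
    nat_lit 0x768435102, nat_lit 0x768102543, nat_lit 0x768021354, nat_lit 0x687102354,
    nat_lit 0x768435021, nat_lit 0x768210435, nat_lit 0x687021435, nat_lit 0x768354102,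
    nat_lit 0x876102435, nat_lit 0x687435102, nat_lit 0x768021543, nat_lit 0x687102543,
    nat_lit 0x768435210, nat_lit 0x768210354, nat_lit 0x687021354, nat_lit 0x768354021,
    nat_lit 0x876102354, nat_lit 0x687435021, nat_lit 0x687210435, nat_lit 0x768543102,
    nat_lit 0x876021435, nat_lit 0x687354102, nat_lit 0x876435102, nat_lit 0x768210543,
    nat_lit 0x687021543, nat_lit 0x768354210, nat_lit 0x876102543, nat_lit 0x687435210,
    nat_lit 0x687210354, nat_lit 0x768543021, nat_lit 0x876021354, nat_lit 0x687354021,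
    nat_lit 0x876435021, nat_lit 0x876210435, nat_lit 0x687543102, nat_lit 0x876354102,
    nat_lit 0x687210543, nat_lit 0x768543210, nat_lit 0x876021543, nat_lit 0x687354210,
    nat_lit 0x876435210, nat_lit 0x876210354, nat_lit 0x687543021, nat_lit 0x876354021,
    nat_lit 0x876543102, nat_lit 0x876210543, nat_lit 0x687543210, nat_lit 0x876354210,
    nat_lit 0x876543021, nat_lit 0x876543210]
  T := [
    (nat_lit 0x768102435, 8, nat_lit 0x210876435), (nat_lit 0x768102354, 5, nat_lit 0x210768543),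
    (nat_lit 0x768021435, 5, nat_lit 0x210876435), (nat_lit 0x687102435, 7, nat_lit 0x210876435),
    (nat_lit 0x768435102, 1, nat_lit 0x210786453), (nat_lit 0x768102543, 8, nat_lit 0x210786453),
    (nat_lit 0x768021354, 8, nat_lit 0x210786345), (nat_lit 0x687102354, 4, nat_lit 0x210768543),
    (nat_lit 0x768435021, 0, nat_lit 0x453120876), (nat_lit 0x768210435, 8, nat_lit 0x210453786),
    (nat_lit 0x687021435, 4, nat_lit 0x210876435), (nat_lit 0x768354102, 0, nat_lit 0x120876453),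
    (nat_lit 0x876102435, 6, nat_lit 0x876543021), (nat_lit 0x687435102, 0, nat_lit 0x876453120),
    (nat_lit 0x768021543, 8, nat_lit 0x210876543), (nat_lit 0x687102543, 7, nat_lit 0x210786453),
    (nat_lit 0x768435210, 3, nat_lit 0x453120876), (nat_lit 0x768210354, 8, nat_lit 0x210543876),
    (nat_lit 0x687021354, 7, nat_lit 0x210786345), (nat_lit 0x768354021, 1, nat_lit 0x210876543),
    (nat_lit 0x876102354, 0, nat_lit 0x876543210), (nat_lit 0x687435021, 1, nat_lit 0x543210876),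
    (nat_lit 0x687210435, 7, nat_lit 0x210453786), (nat_lit 0x768543102, 3, nat_lit 0x120876453),
    (nat_lit 0x876021435, 0, nat_lit 0x876543210), (nat_lit 0x687354102, 1, nat_lit 0x876543210),
    (nat_lit 0x876435102, 3, nat_lit 0x876453120), (nat_lit 0x768210543, 5, nat_lit 0x210876543),
    (nat_lit 0x687021543, 7, nat_lit 0x210876543), (nat_lit 0x768354210, 3, nat_lit 0x453210786),
    (nat_lit 0x876102543, 6, nat_lit 0x876453012), (nat_lit 0x687435210, 3, nat_lit 0x543120786),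
    (nat_lit 0x687210354, 7, nat_lit 0x210543876), (nat_lit 0x768543021, 3, nat_lit 0x120786543),
    (nat_lit 0x876021354, 6, nat_lit 0x876453201), (nat_lit 0x687354021, 0, nat_lit 0x876543210),
    (nat_lit 0x876435021, 3, nat_lit 0x786453210), (nat_lit 0x876210435, 6, nat_lit 0x876453120),
    (nat_lit 0x687543102, 3, nat_lit 0x210786453), (nat_lit 0x876354102, 3, nat_lit 0x786543120),
    (nat_lit 0x687210543, 4, nat_lit 0x210876543), (nat_lit 0x768543210, 2, nat_lit 0x120786543),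
    (nat_lit 0x876021543, 6, nat_lit 0x876543102), (nat_lit 0x687354210, 3, nat_lit 0x543210876),
    (nat_lit 0x876435210, 2, nat_lit 0x543120786), (nat_lit 0x876210354, 6, nat_lit 0x876543210),
    (nat_lit 0x687543021, 3, nat_lit 0x210876543), (nat_lit 0x876354021, 3, nat_lit 0x876543210),
    (nat_lit 0x876543102, 2, nat_lit 0x876453120), (nat_lit 0x876210543, 0, nat_lit 0x876543210),
    (nat_lit 0x687543210, 2, nat_lit 0x210876543), (nat_lit 0x876354210, 2, nat_lit 0x543210876),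
    (nat_lit 0x876543021, 2, nat_lit 0x876543210), (nat_lit 0x876543210, 0, nat_lit 0x876543210)]
  E := 6
  F := [([(nat_lit 0x768102435, 8), (nat_lit 0x768102354, 8), (nat_lit 0x768021435, 8),
    (nat_lit 0x687102435, 4), (nat_lit 0x768435102, 8), (nat_lit 0x768102543, 8),
    (nat_lit 0x768021354, 8), (nat_lit 0x687102354, 4), (nat_lit 0x768435021, 8),
    (nat_lit 0x768210435, 8), (nat_lit 0x687021435, 4), (nat_lit 0x768354102, 8),
    (nat_lit 0x687435102, 4), (nat_lit 0x768021543, 8), (nat_lit 0x687102543, 4),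
    (nat_lit 0x768435210, 8), (nat_lit 0x768210354, 8), (nat_lit 0x687021354, 4),
    (nat_lit 0x768354021, 8), (nat_lit 0x687435021, 4), (nat_lit 0x687210435, 4),
    (nat_lit 0x768543102, 8), (nat_lit 0x687354102, 4), (nat_lit 0x768210543, 8),
    (nat_lit 0x687021543, 4), (nat_lit 0x768354210, 8), (nat_lit 0x687435210, 4),
    (nat_lit 0x687210354, 4), (nat_lit 0x768543021, 8), (nat_lit 0x687354021, 4),
    (nat_lit 0x687543102, 4), (nat_lit 0x687210543, 4), (nat_lit 0x768543210, 8),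
    (nat_lit 0x687354210, 4), (nat_lit 0x687543021, 4), (nat_lit 0x687543210, 4)],
    [(nat_lit 0x768102435, 4), (nat_lit 0x768102354, 4), (nat_lit 0x768021435, 4),
    (nat_lit 0x687102435, 8), (nat_lit 0x768435102, 4), (nat_lit 0x768102543, 4),
    (nat_lit 0x768021354, 4), (nat_lit 0x687102354, 8), (nat_lit 0x768435021, 4),
    (nat_lit 0x768210435, 4), (nat_lit 0x687021435, 8), (nat_lit 0x768354102, 4),
    (nat_lit 0x687435102, 8), (nat_lit 0x768021543, 4), (nat_lit 0x687102543, 8),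
    (nat_lit 0x768435210, 4), (nat_lit 0x768210354, 4), (nat_lit 0x687021354, 8),
    (nat_lit 0x768354021, 4), (nat_lit 0x687435021, 8), (nat_lit 0x687210435, 8),
    (nat_lit 0x768543102, 4), (nat_lit 0x687354102, 8), (nat_lit 0x768210543, 4),
    (nat_lit 0x687021543, 8), (nat_lit 0x768354210, 4), (nat_lit 0x687435210, 8),
    (nat_lit 0x687210354, 8), (nat_lit 0x768543021, 4), (nat_lit 0x687354021, 8),
    (nat_lit 0x687543102, 8), (nat_lit 0x687210543, 8), (nat_lit 0x768543210, 4),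
    (nat_lit 0x687354210, 8), (nat_lit 0x687543021, 8), (nat_lit 0x687543210, 8)],
    [0, 0, 0, 0, 18, -18, 0, 36, -36, 0, 0, 0], [0, 0, 0, 0, 36, -36, 0, 72, -72, 0, 0, 0]),
    ([(nat_lit 0x768102435, 8), (nat_lit 0x768102354, 8), (nat_lit 0x768021435, 8),
    (nat_lit 0x687102435, 4), (nat_lit 0x768435102, 8), (nat_lit 0x768102543, 8),
    (nat_lit 0x768021354, 8), (nat_lit 0x687102354, 4), (nat_lit 0x768435021, 8),
    (nat_lit 0x768210435, 8), (nat_lit 0x687021435, 4), (nat_lit 0x768354102, 8),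
    (nat_lit 0x687435102, 4), (nat_lit 0x768021543, 8), (nat_lit 0x687102543, 4),
    (nat_lit 0x768435210, 8), (nat_lit 0x768210354, 8), (nat_lit 0x687021354, 4),
    (nat_lit 0x768354021, 8), (nat_lit 0x687435021, 4), (nat_lit 0x687210435, 4),
    (nat_lit 0x768543102, 8), (nat_lit 0x687354102, 4), (nat_lit 0x768210543, 8),
    (nat_lit 0x687021543, 4), (nat_lit 0x768354210, 8), (nat_lit 0x687435210, 4),
    (nat_lit 0x687210354, 4), (nat_lit 0x768543021, 8), (nat_lit 0x687354021, 4),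
    (nat_lit 0x687543102, 4), (nat_lit 0x687210543, 4), (nat_lit 0x768543210, 8),
    (nat_lit 0x687354210, 4), (nat_lit 0x687543021, 4), (nat_lit 0x687543210, 4)],
    [(nat_lit 0x768102435, 4), (nat_lit 0x687102435, 4), (nat_lit 0x768435102, 4),
    (nat_lit 0x768102543, 8), (nat_lit 0x768021354, 8), (nat_lit 0x768210435, 8),
    (nat_lit 0x876102435, 4), (nat_lit 0x687435102, 4), (nat_lit 0x768021543, 4),
    (nat_lit 0x687102543, 8), (nat_lit 0x768435210, 8), (nat_lit 0x768210354, 4),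
    (nat_lit 0x687021354, 8), (nat_lit 0x768354021, 8), (nat_lit 0x687210435, 8),
    (nat_lit 0x768543102, 8), (nat_lit 0x876435102, 4), (nat_lit 0x687021543, 4),
    (nat_lit 0x768354210, 4), (nat_lit 0x876102543, 8), (nat_lit 0x687435210, 8),
    (nat_lit 0x687210354, 4), (nat_lit 0x768543021, 4), (nat_lit 0x876021354, 8),
    (nat_lit 0x687354021, 8), (nat_lit 0x876210435, 8), (nat_lit 0x687543102, 8),
    (nat_lit 0x876021543, 4), (nat_lit 0x687354210, 4), (nat_lit 0x876435210, 8),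
    (nat_lit 0x876210354, 4), (nat_lit 0x687543021, 4), (nat_lit 0x876354021, 8),
    (nat_lit 0x876543102, 8), (nat_lit 0x876354210, 4), (nat_lit 0x876543021, 4)],
    [-18, -18, 18, 18, -18, -36, 54, 18, -18, 0, 0, 0], [0, 0, 0, 0, 18, -18, 0, 36, -36, 0, 0, 0]),
    ([(nat_lit 0x768102435, 4), (nat_lit 0x687102435, 4), (nat_lit 0x768435102, 4),
    (nat_lit 0x768102543, 8), (nat_lit 0x768021354, 8), (nat_lit 0x768210435, 8),
    (nat_lit 0x876102435, 4), (nat_lit 0x687435102, 4), (nat_lit 0x768021543, 4),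
    (nat_lit 0x687102543, 8), (nat_lit 0x768435210, 8), (nat_lit 0x768210354, 4),
    (nat_lit 0x687021354, 8), (nat_lit 0x768354021, 8), (nat_lit 0x687210435, 8),
    (nat_lit 0x768543102, 8), (nat_lit 0x876435102, 4), (nat_lit 0x687021543, 4),
    (nat_lit 0x768354210, 4), (nat_lit 0x876102543, 8), (nat_lit 0x687435210, 8),
    (nat_lit 0x687210354, 4), (nat_lit 0x768543021, 4), (nat_lit 0x876021354, 8),
    (nat_lit 0x687354021, 8), (nat_lit 0x876210435, 8), (nat_lit 0x687543102, 8),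
    (nat_lit 0x876021543, 4), (nat_lit 0x687354210, 4), (nat_lit 0x876435210, 8),
    (nat_lit 0x876210354, 4), (nat_lit 0x687543021, 4), (nat_lit 0x876354021, 8),
    (nat_lit 0x876543102, 8), (nat_lit 0x876354210, 4), (nat_lit 0x876543021, 4)],
    [(nat_lit 0x768102354, 8), (nat_lit 0x768021435, 8), (nat_lit 0x687102435, 8),
    (nat_lit 0x768102543, 4), (nat_lit 0x768021354, 4), (nat_lit 0x687102354, 4),
    (nat_lit 0x768435021, 8), (nat_lit 0x768210435, 4), (nat_lit 0x687021435, 4),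
    (nat_lit 0x768354102, 8), (nat_lit 0x876102435, 4), (nat_lit 0x687435102, 8),
    (nat_lit 0x768435210, 4), (nat_lit 0x768354021, 4), (nat_lit 0x687435021, 4),
    (nat_lit 0x768543102, 4), (nat_lit 0x687354102, 4), (nat_lit 0x876435102, 4),
    (nat_lit 0x768210543, 8), (nat_lit 0x687021543, 8), (nat_lit 0x876102543, 8),
    (nat_lit 0x687210354, 8), (nat_lit 0x876021354, 8), (nat_lit 0x876210435, 8),
    (nat_lit 0x687210543, 4), (nat_lit 0x768543210, 8), (nat_lit 0x876021543, 4),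
    (nat_lit 0x687354210, 8), (nat_lit 0x876435210, 8), (nat_lit 0x876210354, 4),
    (nat_lit 0x687543021, 8), (nat_lit 0x876354021, 8), (nat_lit 0x876543102, 8),
    (nat_lit 0x687543210, 4), (nat_lit 0x876354210, 4), (nat_lit 0x876543021, 4)],
    [18, 0, 18, -36, 18, 36, 0, -18, -36, 0, 0, 0], [18, -18, 0, 0, -18, 18, 0, 18, -18, 0, 0, 0]),
    ([(nat_lit 0x768102435, 4), (nat_lit 0x687102435, 4), (nat_lit 0x768435102, 4),
    (nat_lit 0x768102543, 8), (nat_lit 0x768021354, 8), (nat_lit 0x768210435, 8),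
    (nat_lit 0x876102435, 4), (nat_lit 0x687435102, 4), (nat_lit 0x768021543, 4),
    (nat_lit 0x687102543, 8), (nat_lit 0x768435210, 8), (nat_lit 0x768210354, 4),
    (nat_lit 0x687021354, 8), (nat_lit 0x768354021, 8), (nat_lit 0x687210435, 8),
    (nat_lit 0x768543102, 8), (nat_lit 0x876435102, 4), (nat_lit 0x687021543, 4),
    (nat_lit 0x768354210, 4), (nat_lit 0x876102543, 8), (nat_lit 0x687435210, 8),
    (nat_lit 0x687210354, 4), (nat_lit 0x768543021, 4), (nat_lit 0x876021354, 8),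
    (nat_lit 0x687354021, 8), (nat_lit 0x876210435, 8), (nat_lit 0x687543102, 8),
    (nat_lit 0x876021543, 4), (nat_lit 0x687354210, 4), (nat_lit 0x876435210, 8),
    (nat_lit 0x876210354, 4), (nat_lit 0x687543021, 4), (nat_lit 0x876354021, 8),
    (nat_lit 0x876543102, 8), (nat_lit 0x876354210, 4), (nat_lit 0x876543021, 4)],
    [(nat_lit 0x768102435, 8), (nat_lit 0x768102354, 4), (nat_lit 0x768021435, 4),
    (nat_lit 0x768435102, 8), (nat_lit 0x687102354, 8), (nat_lit 0x768435021, 4),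
    (nat_lit 0x687021435, 8), (nat_lit 0x768354102, 4), (nat_lit 0x876102435, 4),
    (nat_lit 0x768021543, 8), (nat_lit 0x687102543, 4), (nat_lit 0x768210354, 8),
    (nat_lit 0x687021354, 4), (nat_lit 0x687435021, 8), (nat_lit 0x687210435, 4),
    (nat_lit 0x687354102, 8), (nat_lit 0x876435102, 4), (nat_lit 0x768210543, 4),
    (nat_lit 0x768354210, 8), (nat_lit 0x876102543, 8), (nat_lit 0x687435210, 4),
    (nat_lit 0x768543021, 8), (nat_lit 0x876021354, 8), (nat_lit 0x687354021, 4),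
    (nat_lit 0x876210435, 8), (nat_lit 0x687543102, 4), (nat_lit 0x687210543, 8),
    (nat_lit 0x768543210, 4), (nat_lit 0x876021543, 4), (nat_lit 0x876435210, 8),
    (nat_lit 0x876210354, 4), (nat_lit 0x876354021, 8), (nat_lit 0x876543102, 8),
    (nat_lit 0x687543210, 8), (nat_lit 0x876354210, 4), (nat_lit 0x876543021, 4)],
    [0, 18, 18, -36, 36, 18, 0, -36, -18, 0, 0, 0], [-18, 18, 0, 0, 18, -18, 0, -18, 18, 0, 0, 0]),
    ([],
    [(nat_lit 0x768102435, 4), (nat_lit 0x687102435, 4), (nat_lit 0x768435102, 4),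
    (nat_lit 0x768102543, 8), (nat_lit 0x768021354, 8), (nat_lit 0x768210435, 8),
    (nat_lit 0x876102435, 4), (nat_lit 0x687435102, 4), (nat_lit 0x768021543, 4),
    (nat_lit 0x687102543, 8), (nat_lit 0x768435210, 8), (nat_lit 0x768210354, 4),
    (nat_lit 0x687021354, 8), (nat_lit 0x768354021, 8), (nat_lit 0x687210435, 8),
    (nat_lit 0x768543102, 8), (nat_lit 0x876435102, 4), (nat_lit 0x687021543, 4),
    (nat_lit 0x768354210, 4), (nat_lit 0x876102543, 8), (nat_lit 0x687435210, 8),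
    (nat_lit 0x687210354, 4), (nat_lit 0x768543021, 4), (nat_lit 0x876021354, 8),
    (nat_lit 0x687354021, 8), (nat_lit 0x876210435, 8), (nat_lit 0x687543102, 8),
    (nat_lit 0x876021543, 4), (nat_lit 0x687354210, 4), (nat_lit 0x876435210, 8),
    (nat_lit 0x876210354, 4), (nat_lit 0x687543021, 4), (nat_lit 0x876354021, 8),
    (nat_lit 0x876543102, 8), (nat_lit 0x876354210, 4), (nat_lit 0x876543021, 4)],
    [18, 18, 36, 90, 0, 0, 54, 54, 54, 0, 0, 0], [0, 0, 0, 0, 0, 0, 0, 0, 0, 0, 0, 0])]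
set_option maxHeartbeats 0 in
theorem hS2 : S2.ok 9 LH4 reps 12 324 = true := by decide +kernel
def S1 : Sub where
  gM := [nat_lit 0x876543021, nat_lit 0x876354210, nat_lit 0x687543210, nat_lit 0x876543210, nat_lit 0x210876543]
  LM := [
    nat_lit 0x435102768, nat_lit 0x435102687, nat_lit 0x435021768, nat_lit 0x354102768,
    nat_lit 0x102768435, nat_lit 0x435102876, nat_lit 0x435021687, nat_lit 0x354102687,
    nat_lit 0x102768354, nat_lit 0x435210768, nat_lit 0x354021768, nat_lit 0x102687435,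
    nat_lit 0x543102768, nat_lit 0x021768435, nat_lit 0x768435102, nat_lit 0x435021876,
    nat_lit 0x354102876, nat_lit 0x102768543, nat_lit 0x435210687, nat_lit 0x354021687,
    nat_lit 0x102687354, nat_lit 0x543102687, nat_lit 0x021768354, nat_lit 0x768435021,
    nat_lit 0x354210768, nat_lit 0x102876435, nat_lit 0x543021768, nat_lit 0x021687435,
    nat_lit 0x768354102, nat_lit 0x210768435, nat_lit 0x687435102, nat_lit 0x435210876,
    nat_lit 0x354021876, nat_lit 0x102687543, nat_lit 0x543102876, nat_lit 0x021768543,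
    nat_lit 0x768435210, nat_lit 0x354210687, nat_lit 0x102876354, nat_lit 0x543021687,
    nat_lit 0x021687354, nat_lit 0x768354021, nat_lit 0x210768354, nat_lit 0x687435021,
    nat_lit 0x543210768, nat_lit 0x021876435, nat_lit 0x768543102, nat_lit 0x210687435,
    nat_lit 0x687354102, nat_lit 0x876435102, nat_lit 0x354210876, nat_lit 0x102876543,
    nat_lit 0x543021876, nat_lit 0x021687543, nat_lit 0x768354210, nat_lit 0x210768543,
    nat_lit 0x687435210, nat_lit 0x543210687, nat_lit 0x021876354, nat_lit 0x768543021,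
    nat_lit 0x210687354, nat_lit 0x687354021, nat_lit 0x876435021, nat_lit 0x210876435,
    nat_lit 0x687543102, nat_lit 0x876354102, nat_lit 0x543210876, nat_lit 0x021876543,
    nat_lit 0x768543210, nat_lit 0x210687543, nat_lit 0x687354210, nat_lit 0x876435210,
    nat_lit 0x210876354, nat_lit 0x687543021, nat_lit 0x876354021, nat_lit 0x876543102,
    nat_lit 0x210876543, nat_lit 0x687543210, nat_lit 0x876354210, nat_lit 0x876543021,
    nat_lit 0x876543210]
  T := [
    (nat_lit 0x435102768, 0, nat_lit 0x876543210),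
    (nat_lit 0x435102687, 11, nat_lit 0x102435876),
    (nat_lit 0x435021768, 11, nat_lit 0x210543768),
    (nat_lit 0x354102768, 11, nat_lit 0x876102435),
    (nat_lit 0x102768435, 0, nat_lit 0x876543210),
    (nat_lit 0x435102876, 10, nat_lit 0x876021543),
    (nat_lit 0x435021687, 10, nat_lit 0x543687210),
    (nat_lit 0x354102687, 10, nat_lit 0x543768210),
    (nat_lit 0x102768354, 11, nat_lit 0x543210687),
    (nat_lit 0x435210768, 10, nat_lit 0x876021435),
    (nat_lit 0x354021768, 10, nat_lit 0x876102435),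
    (nat_lit 0x102687435, 11, nat_lit 0x543102687),
    (nat_lit 0x543102768, 10, nat_lit 0x876210435),
    (nat_lit 0x021768435, 11, nat_lit 0x543210768),
    (nat_lit 0x768435102, 1, nat_lit 0x210786453), (nat_lit 0x435021876, 0, nat_lit 0x876543210),
    (nat_lit 0x354102876, 0, nat_lit 0x876543210),
    (nat_lit 0x102768543, 10, nat_lit 0x021876543),
    (nat_lit 0x435210687, 0, nat_lit 0x876543210), (nat_lit 0x354021687, 0, nat_lit 0x876543210),
    (nat_lit 0x102687354, 10, nat_lit 0x543210687),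
    (nat_lit 0x543102687, 0, nat_lit 0x876543210),
    (nat_lit 0x021768354, 10, nat_lit 0x210768543),
    (nat_lit 0x768435021, 0, nat_lit 0x453120876), (nat_lit 0x354210768, 0, nat_lit 0x876543210),
    (nat_lit 0x102876435, 10, nat_lit 0x876543021),
    (nat_lit 0x543021768, 0, nat_lit 0x876543210),
    (nat_lit 0x021687435, 10, nat_lit 0x543210768),
    (nat_lit 0x768354102, 0, nat_lit 0x120876453),
    (nat_lit 0x210768435, 10, nat_lit 0x543021876),
    (nat_lit 0x687435102, 0, nat_lit 0x876453120),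
    (nat_lit 0x435210876, 11, nat_lit 0x210543876),
    (nat_lit 0x354021876, 11, nat_lit 0x876102543),
    (nat_lit 0x102687543, 0, nat_lit 0x876543210),
    (nat_lit 0x543102876, 11, nat_lit 0x876210543),
    (nat_lit 0x021768543, 0, nat_lit 0x876543210), (nat_lit 0x768435210, 3, nat_lit 0x453120876),
    (nat_lit 0x354210687, 11, nat_lit 0x102543876),
    (nat_lit 0x102876354, 0, nat_lit 0x876543210),
    (nat_lit 0x543021687, 11, nat_lit 0x543876102),
    (nat_lit 0x021687354, 0, nat_lit 0x876543210), (nat_lit 0x768354021, 1, nat_lit 0x210876543),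
    (nat_lit 0x210768354, 0, nat_lit 0x876543210), (nat_lit 0x687435021, 1, nat_lit 0x543210876),
    (nat_lit 0x543210768, 11, nat_lit 0x543876210),
    (nat_lit 0x021876435, 0, nat_lit 0x876543210), (nat_lit 0x768543102, 3, nat_lit 0x120876453),
    (nat_lit 0x210687435, 0, nat_lit 0x876543210), (nat_lit 0x687354102, 1, nat_lit 0x876543210),
    (nat_lit 0x876435102, 3, nat_lit 0x876453120),
    (nat_lit 0x354210876, 10, nat_lit 0x876102543),
    (nat_lit 0x102876543, 11, nat_lit 0x876543021),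
    (nat_lit 0x543021876, 10, nat_lit 0x876210543),
    (nat_lit 0x021687543, 11, nat_lit 0x543102768),
    (nat_lit 0x768354210, 3, nat_lit 0x453210786),
    (nat_lit 0x210768543, 11, nat_lit 0x543210876),
    (nat_lit 0x687435210, 3, nat_lit 0x543120786),
    (nat_lit 0x543210687, 10, nat_lit 0x543876210),
    (nat_lit 0x021876354, 11, nat_lit 0x876543102),
    (nat_lit 0x768543021, 3, nat_lit 0x120786543),
    (nat_lit 0x210687354, 11, nat_lit 0x543102876),
    (nat_lit 0x687354021, 0, nat_lit 0x876543210), (nat_lit 0x876435021, 3, nat_lit 0x786453210),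
    (nat_lit 0x210876435, 11, nat_lit 0x876543210),
    (nat_lit 0x687543102, 3, nat_lit 0x210786453), (nat_lit 0x876354102, 3, nat_lit 0x786543120),
    (nat_lit 0x543210876, 0, nat_lit 0x876543210),
    (nat_lit 0x021876543, 10, nat_lit 0x876543102),
    (nat_lit 0x768543210, 2, nat_lit 0x120786543),
    (nat_lit 0x210687543, 10, nat_lit 0x543210876),
    (nat_lit 0x687354210, 3, nat_lit 0x543210876), (nat_lit 0x876435210, 2, nat_lit 0x543120786),
    (nat_lit 0x210876354, 10, nat_lit 0x876543210),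
    (nat_lit 0x687543021, 3, nat_lit 0x210876543), (nat_lit 0x876354021, 3, nat_lit 0x876543210),
    (nat_lit 0x876543102, 2, nat_lit 0x876453120), (nat_lit 0x210876543, 0, nat_lit 0x876543210),
    (nat_lit 0x687543210, 2, nat_lit 0x210876543), (nat_lit 0x876354210, 2, nat_lit 0x543210876),
    (nat_lit 0x876543021, 2, nat_lit 0x876543210), (nat_lit 0x876543210, 0, nat_lit 0x876543210)]
  E := 4
  F := [([(nat_lit 0x435102768, 8), (nat_lit 0x435102687, 4), (nat_lit 0x435021768, 4),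
    (nat_lit 0x354102768, 4), (nat_lit 0x102768435, 4), (nat_lit 0x435021876, 8),
    (nat_lit 0x354102876, 8), (nat_lit 0x102768543, 8), (nat_lit 0x435210687, 8),
    (nat_lit 0x354021687, 8), (nat_lit 0x102687354, 8), (nat_lit 0x543102687, 8),
    (nat_lit 0x021768354, 8), (nat_lit 0x768435021, 8), (nat_lit 0x354210768, 8),
    (nat_lit 0x102876435, 8), (nat_lit 0x543021768, 8), (nat_lit 0x021687435, 8),
    (nat_lit 0x768354102, 8), (nat_lit 0x210768435, 8), (nat_lit 0x687435102, 8),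
    (nat_lit 0x435210876, 4), (nat_lit 0x354021876, 4), (nat_lit 0x102687543, 4),
    (nat_lit 0x543102876, 4), (nat_lit 0x021768543, 4), (nat_lit 0x768435210, 4),
    (nat_lit 0x354210687, 4), (nat_lit 0x102876354, 4), (nat_lit 0x543021687, 4),
    (nat_lit 0x021687354, 4), (nat_lit 0x768354021, 4), (nat_lit 0x210768354, 4),
    (nat_lit 0x687435021, 4), (nat_lit 0x543210768, 4), (nat_lit 0x021876435, 4),
    (nat_lit 0x768543102, 4), (nat_lit 0x210687435, 4), (nat_lit 0x687354102, 4),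
    (nat_lit 0x876435102, 4), (nat_lit 0x543210876, 8), (nat_lit 0x021876543, 8),
    (nat_lit 0x768543210, 8), (nat_lit 0x210687543, 8), (nat_lit 0x687354210, 8),
    (nat_lit 0x876435210, 8), (nat_lit 0x210876354, 8), (nat_lit 0x687543021, 8),
    (nat_lit 0x876354021, 8), (nat_lit 0x876543102, 8), (nat_lit 0x210876543, 4),
    (nat_lit 0x687543210, 4), (nat_lit 0x876354210, 4), (nat_lit 0x876543021, 4)],
    [(nat_lit 0x435102768, 8), (nat_lit 0x102768435, 4), (nat_lit 0x435102876, 4),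
    (nat_lit 0x435021687, 4), (nat_lit 0x354102687, 4), (nat_lit 0x102768354, 8),
    (nat_lit 0x435210768, 4), (nat_lit 0x354021768, 4), (nat_lit 0x102687435, 8),
    (nat_lit 0x543102768, 4), (nat_lit 0x021768435, 8), (nat_lit 0x435021876, 8),
    (nat_lit 0x354102876, 8), (nat_lit 0x435210687, 8), (nat_lit 0x354021687, 8),
    (nat_lit 0x543102687, 8), (nat_lit 0x768435021, 4), (nat_lit 0x354210768, 8),
    (nat_lit 0x543021768, 8), (nat_lit 0x768354102, 4), (nat_lit 0x687435102, 4),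
    (nat_lit 0x102687543, 4), (nat_lit 0x021768543, 4), (nat_lit 0x768435210, 8),
    (nat_lit 0x102876354, 4), (nat_lit 0x021687354, 4), (nat_lit 0x768354021, 8),
    (nat_lit 0x210768354, 4), (nat_lit 0x687435021, 8), (nat_lit 0x021876435, 4),
    (nat_lit 0x768543102, 8), (nat_lit 0x210687435, 4), (nat_lit 0x687354102, 8),
    (nat_lit 0x876435102, 8), (nat_lit 0x354210876, 4), (nat_lit 0x102876543, 8),
    (nat_lit 0x543021876, 4), (nat_lit 0x021687543, 8), (nat_lit 0x210768543, 8),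
    (nat_lit 0x543210687, 4), (nat_lit 0x021876354, 8), (nat_lit 0x210687354, 8),
    (nat_lit 0x210876435, 8), (nat_lit 0x543210876, 8), (nat_lit 0x768543210, 4),
    (nat_lit 0x687354210, 4), (nat_lit 0x876435210, 4), (nat_lit 0x687543021, 4),
    (nat_lit 0x876354021, 4), (nat_lit 0x876543102, 4), (nat_lit 0x210876543, 4),
    (nat_lit 0x687543210, 8), (nat_lit 0x876354210, 8), (nat_lit 0x876543021, 8)],
    [-12, 12, 0, 0, 0, 0, 0, 0, 0, 0, -36, 36], [-24, 24, 0, 0, 0, 0, 0, 0, 0, 0, -72, 72]),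
    ([(nat_lit 0x435102768, 8), (nat_lit 0x435102687, 8), (nat_lit 0x435021768, 8),
    (nat_lit 0x354102768, 8), (nat_lit 0x102768435, 4), (nat_lit 0x435102876, 8),
    (nat_lit 0x435021687, 8), (nat_lit 0x354102687, 8), (nat_lit 0x102768354, 4),
    (nat_lit 0x435210768, 8), (nat_lit 0x354021768, 8), (nat_lit 0x102687435, 4),
    (nat_lit 0x543102768, 8), (nat_lit 0x021768435, 4), (nat_lit 0x435021876, 8),
    (nat_lit 0x354102876, 8), (nat_lit 0x102768543, 4), (nat_lit 0x435210687, 8),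
    (nat_lit 0x354021687, 8), (nat_lit 0x102687354, 4), (nat_lit 0x543102687, 8),
    (nat_lit 0x021768354, 4), (nat_lit 0x354210768, 8), (nat_lit 0x102876435, 4),
    (nat_lit 0x543021768, 8), (nat_lit 0x021687435, 4), (nat_lit 0x210768435, 4),
    (nat_lit 0x435210876, 8), (nat_lit 0x354021876, 8), (nat_lit 0x102687543, 4),
    (nat_lit 0x543102876, 8), (nat_lit 0x021768543, 4), (nat_lit 0x354210687, 8),
    (nat_lit 0x102876354, 4), (nat_lit 0x543021687, 8), (nat_lit 0x021687354, 4),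
    (nat_lit 0x210768354, 4), (nat_lit 0x543210768, 8), (nat_lit 0x021876435, 4),
    (nat_lit 0x210687435, 4), (nat_lit 0x354210876, 8), (nat_lit 0x102876543, 4),
    (nat_lit 0x543021876, 8), (nat_lit 0x021687543, 4), (nat_lit 0x210768543, 4),
    (nat_lit 0x543210687, 8), (nat_lit 0x021876354, 4), (nat_lit 0x210687354, 4),
    (nat_lit 0x210876435, 4), (nat_lit 0x543210876, 8), (nat_lit 0x021876543, 4),
    (nat_lit 0x210687543, 4), (nat_lit 0x210876354, 4), (nat_lit 0x210876543, 4)],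
    [(nat_lit 0x435102768, 8), (nat_lit 0x435102687, 4), (nat_lit 0x435021768, 4),
    (nat_lit 0x354102768, 4), (nat_lit 0x102768435, 4), (nat_lit 0x435021876, 8),
    (nat_lit 0x354102876, 8), (nat_lit 0x102768543, 8), (nat_lit 0x435210687, 8),
    (nat_lit 0x354021687, 8), (nat_lit 0x102687354, 8), (nat_lit 0x543102687, 8),
    (nat_lit 0x021768354, 8), (nat_lit 0x768435021, 8), (nat_lit 0x354210768, 8),
    (nat_lit 0x102876435, 8), (nat_lit 0x543021768, 8), (nat_lit 0x021687435, 8),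
    (nat_lit 0x768354102, 8), (nat_lit 0x210768435, 8), (nat_lit 0x687435102, 8),
    (nat_lit 0x435210876, 4), (nat_lit 0x354021876, 4), (nat_lit 0x102687543, 4),
    (nat_lit 0x543102876, 4), (nat_lit 0x021768543, 4), (nat_lit 0x768435210, 4),
    (nat_lit 0x354210687, 4), (nat_lit 0x102876354, 4), (nat_lit 0x543021687, 4),
    (nat_lit 0x021687354, 4), (nat_lit 0x768354021, 4), (nat_lit 0x210768354, 4),
    (nat_lit 0x687435021, 4), (nat_lit 0x543210768, 4), (nat_lit 0x021876435, 4),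
    (nat_lit 0x768543102, 4), (nat_lit 0x210687435, 4), (nat_lit 0x687354102, 4),
    (nat_lit 0x876435102, 4), (nat_lit 0x543210876, 8), (nat_lit 0x021876543, 8),
    (nat_lit 0x768543210, 8), (nat_lit 0x210687543, 8), (nat_lit 0x687354210, 8),
    (nat_lit 0x876435210, 8), (nat_lit 0x210876354, 8), (nat_lit 0x687543021, 8),
    (nat_lit 0x876354021, 8), (nat_lit 0x876543102, 8), (nat_lit 0x210876543, 4),
    (nat_lit 0x687543210, 4), (nat_lit 0x876354210, 4), (nat_lit 0x876543021, 4)],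
    [24, 12, 36, 36, 0, 0, 0, 0, 0, 0, -36, -72], [12, -12, 0, 0, 0, 0, 0, 0, 0, 0, 36, -36])]
set_option maxHeartbeats 0 in
theorem hS1 : S1.ok 9 LH4 reps 12 324 = true := by decide +kernel
def S5 : Sub where
  gM := [nat_lit 0x876543021, nat_lit 0x876354210, nat_lit 0x687543210, nat_lit 0x876210543, nat_lit 0x876120453]
  LM := [
    nat_lit 0x768102435, nat_lit 0x768534201, nat_lit 0x768345201, nat_lit 0x768534012,
    nat_lit 0x768345012, nat_lit 0x768102354, nat_lit 0x768021435, nat_lit 0x687102435,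
    nat_lit 0x768435102, nat_lit 0x687534201, nat_lit 0x768201534, nat_lit 0x768534120,
    nat_lit 0x768453201, nat_lit 0x687345201, nat_lit 0x768012534, nat_lit 0x768345120,
    nat_lit 0x768102543, nat_lit 0x687534012, nat_lit 0x768201345, nat_lit 0x768453012,
    nat_lit 0x687345012, nat_lit 0x768012345, nat_lit 0x768021354, nat_lit 0x687102354,
    nat_lit 0x768435021, nat_lit 0x768210435, nat_lit 0x687021435, nat_lit 0x768354102,
    nat_lit 0x876102435, nat_lit 0x687435102, nat_lit 0x876534201, nat_lit 0x687201534,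
    nat_lit 0x687534120, nat_lit 0x687453201, nat_lit 0x768120534, nat_lit 0x768201453,
    nat_lit 0x768453120, nat_lit 0x876345201, nat_lit 0x687012534, nat_lit 0x687345120,
    nat_lit 0x768012453, nat_lit 0x768021543, nat_lit 0x687102543, nat_lit 0x768435210,
    nat_lit 0x876534012, nat_lit 0x687201345, nat_lit 0x687453012, nat_lit 0x768120345,
    nat_lit 0x768210354, nat_lit 0x876345012, nat_lit 0x687012345, nat_lit 0x687021354,
    nat_lit 0x768354021, nat_lit 0x876102354, nat_lit 0x687435021, nat_lit 0x687210435,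
    nat_lit 0x768543102, nat_lit 0x876021435, nat_lit 0x687354102, nat_lit 0x876435102,
    nat_lit 0x876201534, nat_lit 0x876534120, nat_lit 0x876453201, nat_lit 0x687120534,
    nat_lit 0x687201453, nat_lit 0x687453120, nat_lit 0x768120453, nat_lit 0x768210543,
    nat_lit 0x876012534, nat_lit 0x876345120, nat_lit 0x687012453, nat_lit 0x687021543,
    nat_lit 0x768354210, nat_lit 0x876102543, nat_lit 0x687435210, nat_lit 0x876201345,
    nat_lit 0x876453012, nat_lit 0x687120345, nat_lit 0x687210354, nat_lit 0x768543021,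
    nat_lit 0x876012345, nat_lit 0x876021354, nat_lit 0x687354021, nat_lit 0x876435021,
    nat_lit 0x876210435, nat_lit 0x687543102, nat_lit 0x876354102, nat_lit 0x876120534,
    nat_lit 0x876201453, nat_lit 0x876453120, nat_lit 0x687120453, nat_lit 0x687210543,
    nat_lit 0x768543210, nat_lit 0x876012453, nat_lit 0x876021543, nat_lit 0x687354210,
    nat_lit 0x876435210, nat_lit 0x876120345, nat_lit 0x876210354, nat_lit 0x687543021,
    nat_lit 0x876354021, nat_lit 0x876543102, nat_lit 0x876120453, nat_lit 0x876210543,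
    nat_lit 0x687543210, nat_lit 0x876354210, nat_lit 0x876543021, nat_lit 0x876543210]
  T := [
    (nat_lit 0x768102435, 8, nat_lit 0x210876435), (nat_lit 0x768534201, 9, nat_lit 0x120678354),
    (nat_lit 0x768345201, 9, nat_lit 0x120435678), (nat_lit 0x768534012, 9, nat_lit 0x120678435),
    (nat_lit 0x768345012, 9, nat_lit 0x120867435), (nat_lit 0x768102354, 5, nat_lit 0x210768543),
    (nat_lit 0x768021435, 5, nat_lit 0x210876435), (nat_lit 0x687102435, 7, nat_lit 0x210876435),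
    (nat_lit 0x768435102, 1, nat_lit 0x210786453), (nat_lit 0x687534201, 9, nat_lit 0x210678345),
    (nat_lit 0x768201534, 4, nat_lit 0x120867543), (nat_lit 0x768534120, 9, nat_lit 0x120678543),
    (nat_lit 0x768453201, 9, nat_lit 0x120543678), (nat_lit 0x687345201, 9, nat_lit 0x210768354),
    (nat_lit 0x768012534, 7, nat_lit 0x120867543), (nat_lit 0x768345120, 9, nat_lit 0x120867543),
    (nat_lit 0x768102543, 8, nat_lit 0x210786453), (nat_lit 0x687534012, 9, nat_lit 0x210687435),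
    (nat_lit 0x768201345, 7, nat_lit 0x120543867), (nat_lit 0x768453012, 9, nat_lit 0x120786435),
    (nat_lit 0x687345012, 9, nat_lit 0x210768435), (nat_lit 0x768012345, 4, nat_lit 0x120678543),
    (nat_lit 0x768021354, 8, nat_lit 0x210786345), (nat_lit 0x687102354, 4, nat_lit 0x210768543),
    (nat_lit 0x768435021, 0, nat_lit 0x453120876), (nat_lit 0x768210435, 8, nat_lit 0x210453786),
    (nat_lit 0x687021435, 4, nat_lit 0x210876435), (nat_lit 0x768354102, 0, nat_lit 0x120876453),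
    (nat_lit 0x876102435, 6, nat_lit 0x876543021), (nat_lit 0x687435102, 0, nat_lit 0x876453120),
    (nat_lit 0x876534201, 0, nat_lit 0x876543210), (nat_lit 0x687201534, 5, nat_lit 0x120867543),
    (nat_lit 0x687534120, 9, nat_lit 0x210687543), (nat_lit 0x687453201, 9, nat_lit 0x210876354),
    (nat_lit 0x768120534, 7, nat_lit 0x120543786), (nat_lit 0x768201453, 7, nat_lit 0x120786543),
    (nat_lit 0x768453120, 9, nat_lit 0x120786543), (nat_lit 0x876345201, 0, nat_lit 0x876543210),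
    (nat_lit 0x687012534, 8, nat_lit 0x120867543), (nat_lit 0x687345120, 9, nat_lit 0x210768543),
    (nat_lit 0x768012453, 7, nat_lit 0x120876453), (nat_lit 0x768021543, 8, nat_lit 0x210876543),
    (nat_lit 0x687102543, 7, nat_lit 0x210786453), (nat_lit 0x768435210, 3, nat_lit 0x453120876),
    (nat_lit 0x876534012, 0, nat_lit 0x876543210), (nat_lit 0x687201345, 8, nat_lit 0x120543867),
    (nat_lit 0x687453012, 9, nat_lit 0x210876435), (nat_lit 0x768120345, 7, nat_lit 0x120453876),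
    (nat_lit 0x768210354, 8, nat_lit 0x210543876), (nat_lit 0x876345012, 0, nat_lit 0x876543210),
    (nat_lit 0x687012345, 5, nat_lit 0x120678543), (nat_lit 0x687021354, 7, nat_lit 0x210786345),
    (nat_lit 0x768354021, 1, nat_lit 0x210876543), (nat_lit 0x876102354, 0, nat_lit 0x876543210),
    (nat_lit 0x687435021, 1, nat_lit 0x543210876), (nat_lit 0x687210435, 7, nat_lit 0x210453786),
    (nat_lit 0x768543102, 3, nat_lit 0x120876453), (nat_lit 0x876021435, 0, nat_lit 0x876543210),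
    (nat_lit 0x687354102, 1, nat_lit 0x876543210), (nat_lit 0x876435102, 3, nat_lit 0x876453120),
    (nat_lit 0x876201534, 0, nat_lit 0x876543210), (nat_lit 0x876534120, 0, nat_lit 0x876543210),
    (nat_lit 0x876453201, 0, nat_lit 0x876543210), (nat_lit 0x687120534, 8, nat_lit 0x120543786),
    (nat_lit 0x687201453, 8, nat_lit 0x120786543), (nat_lit 0x687453120, 9, nat_lit 0x210876543),
    (nat_lit 0x768120453, 4, nat_lit 0x120786543), (nat_lit 0x768210543, 5, nat_lit 0x210876543),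
    (nat_lit 0x876012534, 6, nat_lit 0x786345210), (nat_lit 0x876345120, 0, nat_lit 0x876543210),
    (nat_lit 0x687012453, 8, nat_lit 0x120876453), (nat_lit 0x687021543, 7, nat_lit 0x210876543),
    (nat_lit 0x768354210, 3, nat_lit 0x453210786), (nat_lit 0x876102543, 6, nat_lit 0x876453012),
    (nat_lit 0x687435210, 3, nat_lit 0x543120786), (nat_lit 0x876201345, 6, nat_lit 0x786435120),
    (nat_lit 0x876453012, 0, nat_lit 0x876543210), (nat_lit 0x687120345, 8, nat_lit 0x120453876),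
    (nat_lit 0x687210354, 7, nat_lit 0x210543876), (nat_lit 0x768543021, 3, nat_lit 0x120786543),
    (nat_lit 0x876012345, 0, nat_lit 0x876543210), (nat_lit 0x876021354, 6, nat_lit 0x876453201),
    (nat_lit 0x687354021, 0, nat_lit 0x876543210), (nat_lit 0x876435021, 3, nat_lit 0x786453210),
    (nat_lit 0x876210435, 6, nat_lit 0x876453120), (nat_lit 0x687543102, 3, nat_lit 0x210786453),
    (nat_lit 0x876354102, 3, nat_lit 0x786543120), (nat_lit 0x876120534, 6, nat_lit 0x786543120),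
    (nat_lit 0x876201453, 6, nat_lit 0x786120543), (nat_lit 0x876453120, 0, nat_lit 0x876543210),
    (nat_lit 0x687120453, 5, nat_lit 0x120786543), (nat_lit 0x687210543, 4, nat_lit 0x210876543),
    (nat_lit 0x768543210, 2, nat_lit 0x120786543), (nat_lit 0x876012453, 6, nat_lit 0x786543012),
    (nat_lit 0x876021543, 6, nat_lit 0x876543102), (nat_lit 0x687354210, 3, nat_lit 0x543210876),
    (nat_lit 0x876435210, 2, nat_lit 0x543120786), (nat_lit 0x876120345, 6, nat_lit 0x786453210),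
    (nat_lit 0x876210354, 6, nat_lit 0x876543210), (nat_lit 0x687543021, 3, nat_lit 0x210876543),
    (nat_lit 0x876354021, 3, nat_lit 0x876543210), (nat_lit 0x876543102, 2, nat_lit 0x876453120),
    (nat_lit 0x876120453, 0, nat_lit 0x876543210), (nat_lit 0x876210543, 0, nat_lit 0x876543210),
    (nat_lit 0x687543210, 2, nat_lit 0x210876543), (nat_lit 0x876354210, 2, nat_lit 0x543210876),
    (nat_lit 0x876543021, 2, nat_lit 0x876543210), (nat_lit 0x876543210, 0, nat_lit 0x876543210)]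
  E := 3
  F := [([(nat_lit 0x768534201, 6), (nat_lit 0x768345201, 6), (nat_lit 0x768534012, 6),
    (nat_lit 0x768345012, 6), (nat_lit 0x687534201, 6), (nat_lit 0x768201534, 6),
    (nat_lit 0x768534120, 6), (nat_lit 0x768453201, 6), (nat_lit 0x687345201, 6),
    (nat_lit 0x768012534, 6), (nat_lit 0x768345120, 6), (nat_lit 0x687534012, 6),
    (nat_lit 0x768201345, 6), (nat_lit 0x768453012, 6), (nat_lit 0x687345012, 6),
    (nat_lit 0x768012345, 6), (nat_lit 0x876534201, 6), (nat_lit 0x687201534, 6),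
    (nat_lit 0x687534120, 6), (nat_lit 0x687453201, 6), (nat_lit 0x768120534, 6),
    (nat_lit 0x768201453, 6), (nat_lit 0x768453120, 6), (nat_lit 0x876345201, 6),
    (nat_lit 0x687012534, 6), (nat_lit 0x687345120, 6), (nat_lit 0x768012453, 6),
    (nat_lit 0x876534012, 6), (nat_lit 0x687201345, 6), (nat_lit 0x687453012, 6),
    (nat_lit 0x768120345, 6), (nat_lit 0x876345012, 6), (nat_lit 0x687012345, 6),
    (nat_lit 0x876201534, 6), (nat_lit 0x876534120, 6), (nat_lit 0x876453201, 6),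
    (nat_lit 0x687120534, 6), (nat_lit 0x687201453, 6), (nat_lit 0x687453120, 6),
    (nat_lit 0x768120453, 6), (nat_lit 0x876012534, 6), (nat_lit 0x876345120, 6),
    (nat_lit 0x687012453, 6), (nat_lit 0x876201345, 6), (nat_lit 0x876453012, 6),
    (nat_lit 0x687120345, 6), (nat_lit 0x876012345, 6), (nat_lit 0x876120534, 6),
    (nat_lit 0x876201453, 6), (nat_lit 0x876453120, 6), (nat_lit 0x687120453, 6),
    (nat_lit 0x876012453, 6), (nat_lit 0x876120345, 6), (nat_lit 0x876120453, 6)],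
    [(nat_lit 0x768102435, 8), (nat_lit 0x768534201, 2), (nat_lit 0x768345201, 2),
    (nat_lit 0x768534012, 2), (nat_lit 0x768345012, 2), (nat_lit 0x768102354, 8),
    (nat_lit 0x768021435, 8), (nat_lit 0x687102435, 4), (nat_lit 0x768435102, 8),
    (nat_lit 0x687534201, 10), (nat_lit 0x768201534, 2), (nat_lit 0x768534120, 2),
    (nat_lit 0x768453201, 2), (nat_lit 0x687345201, 10), (nat_lit 0x768012534, 2),
    (nat_lit 0x768345120, 2), (nat_lit 0x768102543, 8), (nat_lit 0x687534012, 10),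
    (nat_lit 0x768201345, 2), (nat_lit 0x768453012, 2), (nat_lit 0x687345012, 10),
    (nat_lit 0x768012345, 2), (nat_lit 0x768021354, 8), (nat_lit 0x687102354, 4),
    (nat_lit 0x768435021, 8), (nat_lit 0x768210435, 8), (nat_lit 0x687021435, 4),
    (nat_lit 0x768354102, 8), (nat_lit 0x687435102, 4), (nat_lit 0x876534201, 6),
    (nat_lit 0x687201534, 10), (nat_lit 0x687534120, 10), (nat_lit 0x687453201, 10),
    (nat_lit 0x768120534, 2), (nat_lit 0x768201453, 2), (nat_lit 0x768453120, 2),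
    (nat_lit 0x876345201, 6), (nat_lit 0x687012534, 10), (nat_lit 0x687345120, 10),
    (nat_lit 0x768012453, 2), (nat_lit 0x768021543, 8), (nat_lit 0x687102543, 4),
    (nat_lit 0x768435210, 8), (nat_lit 0x876534012, 6), (nat_lit 0x687201345, 10),
    (nat_lit 0x687453012, 10), (nat_lit 0x768120345, 2), (nat_lit 0x768210354, 8),
    (nat_lit 0x876345012, 6), (nat_lit 0x687012345, 10), (nat_lit 0x687021354, 4),
    (nat_lit 0x768354021, 8), (nat_lit 0x687435021, 4), (nat_lit 0x687210435, 4),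
    (nat_lit 0x768543102, 8), (nat_lit 0x687354102, 4), (nat_lit 0x876201534, 6),
    (nat_lit 0x876534120, 6), (nat_lit 0x876453201, 6), (nat_lit 0x687120534, 10),
    (nat_lit 0x687201453, 10), (nat_lit 0x687453120, 10), (nat_lit 0x768120453, 2),
    (nat_lit 0x768210543, 8), (nat_lit 0x876012534, 6), (nat_lit 0x876345120, 6),
    (nat_lit 0x687012453, 10), (nat_lit 0x687021543, 4), (nat_lit 0x768354210, 8),
    (nat_lit 0x687435210, 4), (nat_lit 0x876201345, 6), (nat_lit 0x876453012, 6),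
    (nat_lit 0x687120345, 10), (nat_lit 0x687210354, 4), (nat_lit 0x768543021, 8),
    (nat_lit 0x876012345, 6), (nat_lit 0x687354021, 4), (nat_lit 0x687543102, 4),
    (nat_lit 0x876120534, 6), (nat_lit 0x876201453, 6), (nat_lit 0x876453120, 6),
    (nat_lit 0x687120453, 10), (nat_lit 0x687210543, 4), (nat_lit 0x768543210, 8),
    (nat_lit 0x876012453, 6), (nat_lit 0x687354210, 4), (nat_lit 0x876120345, 6),
    (nat_lit 0x687543021, 4), (nat_lit 0x876120453, 6), (nat_lit 0x687543210, 4)],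
    [18, 18, 9, 36, -9, 9, 0, -18, 18, -81, 0, 0], [0, 0, 0, 0, -18, 18, 0, -36, 36, 0, 0, 0])]
set_option maxHeartbeats 0 in
theorem hS5 : S5.ok 9 LH4 reps 12 324 = true := by decide +kernel
def P : List (List ℤ) := [[0, 0, 0, 0, 18, -18, 0, 36, -36, 0, 0, 0],
  [-6, 6, 0, 0, 18, -18, 0, -18, 18, 0, 36, -36],
  [6, 12, 18, 18, 36, 18, 54, 18, 36, 0, 72, 36],
  [-12, -6, 9, -18, 45, 9, 54, 36, 18, 81, 72, 36],
  [12, -12, 0, 0, 0, 0, 0, 0, 0, 0, 36, -36],
  [0, 18, 18, -36, 36, 18, 0, -36, -18, 0, 0, 0],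
  [-18, 0, 36, -18, 18, -18, 54, -18, -36, 0, 0, 0],
  [6, -6, -27, 0, -9, 9, 0, -18, 18, -81, 72, 36],
  [-18, -18, 18, 18, 18, 36, -54, -18, 18, 0, 0, 0],
  [18, 0, 18, -36, -18, -36, 0, 18, 36, 0, 0, 0],
  [0, 18, 18, -36, -36, -18, 0, 36, 18, 0, 0, 0],
  [18, 0, -9, 18, -9, 9, 54, -18, -36, 81, 108, 108]]
def Q : List (List ℤ) := [[0, 0, 0, 0, 36, -36, 0, 72, -72, 0, 0, 0],
  [-12, 12, 0, 0, 36, -36, 0, -36, 36, 0, 72, -72],
  [-6, 6, 0, 0, 18, -18, 0, -18, 18, 0, 36, -36],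
  [-6, 6, 0, 0, 36, -36, 0, 18, -18, 0, 36, -36],
  [24, -24, 0, 0, 0, 0, 0, 0, 0, 0, 72, -72],
  [-18, 18, 0, 0, 18, -18, 0, -18, 18, 0, 0, 0],
  [-18, 18, 0, 0, 36, -36, 0, 18, -18, 0, 0, 0],
  [12, -12, 0, 0, -18, 18, 0, -36, 36, 0, 36, -36],
  [0, 0, 0, 0, -18, 18, 0, -36, 36, 0, 0, 0],
  [18, -18, 0, 0, 18, -18, 0, -18, 18, 0, 0, 0],
  [-18, 18, 0, 0, -18, 18, 0, 18, -18, 0, 0, 0],
  [18, -18, 0, 0, -18, 18, 0, 18, -18, 0, 0, 0]]
def R : List (List ℤ) := [[2, 0, 0, 1, 0, 0, 1, -1, -1, 0, 0, 0],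
  [0, 2, 1, 1, 0, 1, 1, 0, 0, 0, 0, -1],
  [0, 1, 2, 1, 0, 1, 1, 0, 0, 0, 0, 0],
  [1, 1, 1, 3, 0, 1, 2, -1, 0, 0, 0, 0],
  [0, 0, 0, 0, 2, -1, -1, 1, 0, 1, -1, 1],
  [0, 1, 1, 1, -1, 3, 2, -1, 0, 0, 1, -1],
  [1, 1, 1, 2, -1, 2, 4, -2, 0, 0, 1, -1],
  [-1, 0, 0, -1, 1, -1, -2, 3, 0, 0, -1, 1],
  [-1, 0, 0, 0, 0, 0, 0, 0, 3, -1, -1, -1],
  [0, 0, 0, 0, 1, 0, 0, 0, -1, 3, 1, 0],
  [0, 0, 0, 0, -1, 1, 1, -1, -1, 1, 3, -1],
  [0, -1, 0, 0, 1, -1, -1, 1, -1, 0, -1, 4]]
def C : List (List ℤ) := [[0, 0, 0, 0, 1, 0, 0, 0, 0, 0, 0, 0],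
  [0, 0, 0, 0, 0, 0, -1, 1, 0, -1, 0, 0],
  [0, 0, 0, 0, 0, 0, 0, 1, 1, -1, -1, 0],
  [0, 0, 0, 0, 0, 0, 0, 1, 1, -1, -1, -1],
  [0, 0, 0, 0, 0, 0, 0, 0, 0, -1, 0, 0],
  [0, 0, 0, 0, 0, 0, 0, 1, 0, 0, 0, 0],
  [0, 0, 0, 0, 0, 1, 0, 1, 0, 0, 0, 0],
  [0, 0, 0, 0, 0, 0, 0, 0, 0, -1, -1, 1],
  [1, 0, 0, 0, 0, -1, 0, 0, 0, 0, 0, 0],
  [0, 1, 0, 0, 0, 0, -1, 0, 0, 0, 0, 0],
  [0, 0, 1, 0, 0, 0, 0, -1, 0, 0, 0, 0],
  [-1, 0, 0, 1, -1, 1, 1, 0, 0, -1, -2, -1]]
def t : List ℤ := [0, 0, 1, 1, 0, 0, 0, 0, 0, 0, 0, 1]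
def A1 : List (List ℤ) := [[109, 32, 3, -30, -31, 12, -21, 25, 61, 23, 23, 28],
  [32, 97, -21, -24, -29, -12, -15, -10, 35, 16, 16, 41],
  [3, -21, 54, -18, 6, -9, 0, -6, -6, -3, -3, -15],
  [-30, -24, -18, 54, 3, 0, -9, 6, -21, -6, -6, -21],
  [-31, -29, 6, 3, 115, 15, 12, -19, -28, -56, 25, -22],
  [12, -12, -9, 0, 15, 54, -18, 3, 3, -3, -3, 3],
  [-21, -15, 0, -9, 12, -18, 54, 15, -12, -6, -6, -3],
  [25, -10, -6, 6, -19, 3, 15, 58, 13, 8, 8, -2],
  [61, 35, -6, -21, -28, 3, -12, 13, 76, 26, 26, 34],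
  [23, 16, -3, -6, -56, -3, -6, 8, 26, 61, -20, 14],
  [23, 16, -3, -6, 25, -3, -6, 8, 26, -20, 61, 14],
  [28, 41, -15, -21, -22, 3, -3, -2, 34, 14, 14, 46]]
def Y : List (List ℤ) := [[1],
  [0, 1],
  [0, -1, 2],
  [-3, -2, -2, 6],
  [0, 0, 0, 0, 1],
  [2, -6, -6, -4, 11, 22],
  [-4, -1, -1, -5, 4, -5, 13],
  [3, -2, -2, 1, -3, 1, 4, 11],
  [38, 3, 3, -10, -4, 7, -6, 9, 51],
  [10, 2, 2, 1, -18, -3, -4, 6, 11, 23],
  [10, 2, 2, 1, 22, -3, -4, 6, 11, -17, 40],
  [22, 31, -7, -13, -20, 1, -5, -2, 28, 12, 12, 38]]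
def W : List ℤ := [1338557220, 1338557220, 446185740, 40562340, 1338557220, 3120180, 9360540, 14316120, 456456, 2909907, 1174173, 1118260]
def V : List (List ℤ) := [[1, 0, 0, 1, 0, 0, 1, -1, 0, 0, 0, 0],
  [1, 0, 0, 0, 0, 0, 0, 0, -1, 0, 0, 0],
  [0, 1, 1, 1, 0, 1, 1, 0, 0, 0, 0, 0],
  [0, 1, 0, 0, 0, 0, 0, 0, 0, 0, 0, -1],
  [0, 0, 1, 0, 0, 0, 0, 0, 0, 0, 0, 0],
  [0, 0, 0, 1, 0, 0, 0, 0, 0, 0, 0, 1],
  [0, 0, 0, 1, 0, 0, 0, 0, 0, 0, 0, 0],
  [0, 0, 0, 0, 1, -1, -1, 1, 0, 0, -1, 1],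
  [0, 0, 0, 0, 1, 0, 0, 0, 0, 1, 0, 0],
  [0, 0, 0, 0, 0, 1, 0, 0, 0, 0, 0, 0],
  [0, 0, 0, 0, 0, 0, 1, 0, 0, 0, 0, 0],
  [0, 0, 0, 0, 0, 0, 0, 1, 0, 0, 0, 0],
  [0, 0, 0, 0, 0, 0, 0, 0, 1, -1, -1, 0],
  [0, 0, 0, 0, 0, 0, 0, 0, 1, 0, 0, -1],
  [0, 0, 0, 0, 0, 0, 0, 0, 1, 0, 0, 0],
  [0, 0, 0, 0, 0, 0, 0, 0, 0, 1, 1, -1],
  [0, 0, 0, 0, 0, 0, 0, 0, 0, 1, 0, -1],
  [0, 0, 0, 0, 0, 0, 0, 0, 0, 1, 0, 0],
  [0, 0, 0, 0, 0, 0, 0, 0, 0, 0, 1, -1],
  [0, 0, 0, 0, 0, 0, 0, 0, 0, 0, 1, 0],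
  [0, 0, 0, 0, 0, 0, 0, 0, 0, 0, 0, 1]]
def sols : List (List (List ℤ)) := [[[1, 0, 0, 1, 0, 0, 1, -1, 0, 0, 0, 0],
  [1, 0, 0, 0, 0, 0, 0, 0, -1, 0, 0, 0],
  [0, 1, 1, 1, 0, 1, 1, 0, 0, 0, 0, 0],
  [0, 1, 0, 0, 0, 0, 0, 0, 0, 0, 0, -1],
  [0, 0, 1, 0, 0, 0, 0, 0, 0, 0, 0, 0],
  [0, 0, 0, 1, 0, 0, 0, 0, 0, 0, 0, 0],
  [0, 0, 0, 0, 1, -1, -1, 1, 0, 0, -1, 1],
  [0, 0, 0, 0, 1, 0, 0, 0, 0, 1, 0, 0],
  [0, 0, 0, 0, 0, 1, 0, 0, 0, 0, 0, 0],
  [0, 0, 0, 0, 0, 0, 1, 0, 0, 0, 0, 0],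
  [0, 0, 0, 0, 0, 0, 0, 1, 0, 0, 0, 0],
  [0, 0, 0, 0, 0, 0, 0, 0, 1, -1, -1, 0],
  [0, 0, 0, 0, 0, 0, 0, 0, 1, 0, 0, -1],
  [0, 0, 0, 0, 0, 0, 0, 0, 0, 1, 0, 0],
  [0, 0, 0, 0, 0, 0, 0, 0, 0, 0, 1, 0],
  [0, 0, 0, 0, 0, 0, 0, 0, 0, 0, 0, 1]]]
def l : List (List (ℤ × ℤ)) := [[(1, 0), (2, 3), (3, 0), (-3, 0), (-1, -3), (3, 0), (-3, 0), (-2, 0), (-2, 0), (-1, -3), (2, 3), (1, 0)],
  [(1, 0), (-1, -3), (3, 0), (-3, 0), (2, 3), (3, 0), (-3, 0), (-2, 0), (-2, 0), (2, 3), (-1, -3), (1, 0)],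
  [(1, 0), (-1, 0), (3, 0), (-3, 0), (2, 0), (0, 0), (3, 0), (-2, 0), (4, 0), (2, 0), (2, 0), (1, 0)],
  [(1, 0), (2, 0), (3, 0), (-3, 0), (-1, 0), (-3, 0), (0, 0), (-2, 0), (1, 0), (-1, 0), (-1, 0), (1, 0)],
  [(-1, -2), (-3, -2), (1, 0), (1, 0), (2, 2), (2, 0), (-1, 0), (0, 0), (0, 0), (-2, -2), (0, 2), (-1, 0)],
  [(1, 2), (-1, 2), (1, 0), (1, 0), (0, -2), (2, 0), (-1, 0), (0, 0), (0, 0), (0, 2), (-2, -2), (-1, 0)],
  [(-3, 0), (-2, 0), (1, 0), (1, 0), (1, 0), (-1, 0), (2, 0), (0, 0), (-3, 0), (-1, 0), (-1, 0), (-1, 0)],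
  [(-1, -2), (0, 1), (1, 0), (1, 0), (-1, -1), (-1, 0), (-1, 0), (0, 0), (0, 0), (1, 1), (0, -1), (-1, 0)],
  [(1, 2), (-1, -1), (1, 0), (1, 0), (0, 1), (-1, 0), (-1, 0), (0, 0), (0, 0), (0, -1), (1, 1), (-1, 0)],
  [(-1, 0), (1, 0), (-1, 0), (1, 0), (0, 0), (0, 0), (-1, 0), (-2, 0), (0, 0), (0, 0), (0, 0), (1, 0)],
  [(1, 0), (0, -1), (0, 0), (0, 0), (-2, -2), (0, 0), (0, 0), (1, 0), (1, 0), (1, 1), (0, -1), (1, 0)],
  [(1, 0), (1, 1), (0, 0), (0, 0), (0, 2), (0, 0), (0, 0), (1, 0), (1, 0), (0, -1), (1, 1), (1, 0)]]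
def Us : List (List ℕ) := [[nat_lit 0x687354021, nat_lit 0x687435102, nat_lit 0x768435021, nat_lit 0x768354102],
  [nat_lit 0x687354102, nat_lit 0x687435021, nat_lit 0x768354021, nat_lit 0x768435102],
  [nat_lit 0x876543021, nat_lit 0x876354210, nat_lit 0x876543102, nat_lit 0x687543210,
    nat_lit 0x876435210, nat_lit 0x768543210],
  [nat_lit 0x876354021, nat_lit 0x687354210, nat_lit 0x876435102, nat_lit 0x687543021,
    nat_lit 0x687435210, nat_lit 0x768435210, nat_lit 0x687543102, nat_lit 0x768543021,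
    nat_lit 0x768543102, nat_lit 0x768354210, nat_lit 0x876435021, nat_lit 0x876354102],
  [],
  [],
  [],
  [],
  [],
  [],
  [],
  []]
def tr : List (ℕ × ℕ × ℕ × ℕ) := [(0, 1, 3, 1), (2, 3, 2, 4), (3, 3, 2, 4)]
def gJ : List ℕ := [nat_lit 0x876543021, nat_lit 0x876354210, nat_lit 0x687543210]
def LJ : List ℕ := [
  nat_lit 0x768435102, nat_lit 0x768435021, nat_lit 0x768354102, nat_lit 0x687435102,
  nat_lit 0x768435210, nat_lit 0x768354021, nat_lit 0x687435021, nat_lit 0x768543102,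
  nat_lit 0x687354102, nat_lit 0x876435102, nat_lit 0x768354210, nat_lit 0x687435210,
  nat_lit 0x768543021, nat_lit 0x687354021, nat_lit 0x876435021, nat_lit 0x687543102,
  nat_lit 0x876354102, nat_lit 0x768543210, nat_lit 0x687354210, nat_lit 0x876435210,
  nat_lit 0x687543021, nat_lit 0x876354021, nat_lit 0x876543102, nat_lit 0x687543210,
  nat_lit 0x876354210, nat_lit 0x876543021, nat_lit 0x876543210]
def TJ : List (ℕ × ℕ × ℕ) := [
  (nat_lit 0x768435102, 1, nat_lit 0x210786453), (nat_lit 0x768435021, 0, nat_lit 0x453120876),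
  (nat_lit 0x768354102, 0, nat_lit 0x120876453), (nat_lit 0x687435102, 0, nat_lit 0x876453120),
  (nat_lit 0x768435210, 3, nat_lit 0x453120876), (nat_lit 0x768354021, 1, nat_lit 0x210876543),
  (nat_lit 0x687435021, 1, nat_lit 0x543210876), (nat_lit 0x768543102, 3, nat_lit 0x120876453),
  (nat_lit 0x687354102, 1, nat_lit 0x876543210), (nat_lit 0x876435102, 3, nat_lit 0x876453120),
  (nat_lit 0x768354210, 3, nat_lit 0x453210786), (nat_lit 0x687435210, 3, nat_lit 0x543120786),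
  (nat_lit 0x768543021, 3, nat_lit 0x120786543), (nat_lit 0x687354021, 0, nat_lit 0x876543210),
  (nat_lit 0x876435021, 3, nat_lit 0x786453210), (nat_lit 0x687543102, 3, nat_lit 0x210786453),
  (nat_lit 0x876354102, 3, nat_lit 0x786543120), (nat_lit 0x768543210, 2, nat_lit 0x120786543),
  (nat_lit 0x687354210, 3, nat_lit 0x543210876), (nat_lit 0x876435210, 2, nat_lit 0x543120786),
  (nat_lit 0x687543021, 3, nat_lit 0x210876543), (nat_lit 0x876354021, 3, nat_lit 0x876543210),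
  (nat_lit 0x876543102, 2, nat_lit 0x876453120), (nat_lit 0x687543210, 2, nat_lit 0x210876543),
  (nat_lit 0x876354210, 2, nat_lit 0x543210876), (nat_lit 0x876543021, 2, nat_lit 0x876543210),
  (nat_lit 0x876543210, 12, nat_lit 0x876543210)]
def mJ : List ℤ := [4, 4, 6, 12, 0, 0, 0, 0, 0, 0, 0, 0, 1]

set_option maxHeartbeats 0 in
theorem out {G : Type*} [Group G] [Finite G] {ι : H4 →* G} (H : Hyp LA LB ι) :
    ∃ w ∈ sols, ∃ d, Out (Nat.card G) 27 12 12 t l mJ cn tr w d :=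
  H.main hH4 reps 12 (by decide +kernel) pws ods cn (by decide +kernel) cent (by decide +kernel)
    (by decide +kernel) 324 (by norm_num) [S0, S2, S1, S5] (by simp [hS0, hS2, hS1, hS5]) P Q R C t (by decide +kernel)
    (by decide +kernel) (by decide +kernel) A1 Y W 2677114440 V sols 39 (by decide +kernel)
    (by decide +kernel) (by decide +kernel) l (by decide +kernel) Us [0, 1, 2, 3] [2, 3] tr (by decide +kernel)
    gJ LJ TJ mJ 27 (by decide +kernel)

set_option maxHeartbeats 0 in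
theorem arith (n : ℕ) (hn : 0 < n) (hq : 27 ∣ n - 1) (w : List (List ℤ)) (hw : w ∈ sols) (d : List ℤ)
    (h : Out (648 * n) 27 12 12 t l mJ cn tr w d) : n = 1 := by
  obtain ⟨h1, h2, h3, h4⟩ := h
  simp only [sols, List.mem_cons, List.not_mem_nil, or_false] at hw
  rcases hw with rfl
  · simp only [List.forall₂_cons_left_iff, List.forall₂_nil_left_iff] at h1
    obtain ⟨d1, _, ⟨n1, c1⟩, ⟨d2, _, ⟨n2, c2⟩, ⟨d3, _, ⟨n3, c3⟩, ⟨d4, _, ⟨n4, c4⟩, ⟨d5, _, ⟨n5, c5⟩, ⟨d6, _,
      ⟨n6, c6⟩, ⟨d7, _, ⟨n7, c7⟩, ⟨d8, _, ⟨n8, c8⟩, ⟨d9, _, ⟨n9, c9⟩, ⟨d10, _, ⟨n10, c10⟩, ⟨d11, _,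
      ⟨n11, c11⟩, ⟨d12, _, ⟨n12, c12⟩, ⟨d13, _, ⟨n13, c13⟩, ⟨d14, _, ⟨n14, c14⟩, ⟨d15, _, ⟨n15, c15⟩,
      ⟨d16, _, ⟨n16, c16⟩, rfl, rfl⟩, rfl⟩, rfl⟩, rfl⟩, rfl⟩, rfl⟩, rfl⟩, rfl⟩, rfl⟩, rfl⟩, rfl⟩, rfl⟩,
      rfl⟩, rfl⟩, rfl⟩, rfl⟩ := h1
    have h := h4 [(2, 0), (-3, 0), (1, 0)]
      [0, 0, 0, 0, 0, 0, 0, 0, -54, 0, 0, 54, 0, 0, 0, 0] (0) (-5832) (by decide +kernel)
    simp only [List.zipWith_cons_cons, List.zipWith_nil_right, List.map_cons, List.map_nil, List.sum_cons,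
      List.sum_nil] at h h2
    have r0 := h3 0 (by norm_num)
    have r1 := h3 1 (by norm_num)
    have r2 := h3 2 (by norm_num)
    have r3 := h3 3 (by norm_num)
    have r4 := h3 4 (by norm_num)
    have r5 := h3 5 (by norm_num)
    have r6 := h3 6 (by norm_num)
    have r7 := h3 7 (by norm_num)
    have r8 := h3 8 (by norm_num)
    have r9 := h3 9 (by norm_num)
    have r10 := h3 10 (by norm_num)
    have r11 := h3 11 (by norm_num)
    simp only [List.zipWith_cons_cons, List.zipWith_nil_right, List.map_cons, List.map_nil, List.sum_cons,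
      List.sum_nil, ent, t, List.getD_cons_zero, List.getD_cons_succ] at r0 r1 r2 r3 r4 r5 r6 r7 r8 r9 r10 r11
    obtain rfl : d2 = -d1 := by omega
    obtain rfl : d4 = -d3 := by omega
    obtain rfl : d8 = -d7 := by omega
    obtain rfl : d14 = d15 := by omega
    have e : ((648 * n : ℕ) : ℚ) * (-54 * (d9 : ℚ)⁻¹ + (54) * (d12 : ℚ)⁻¹) = (-5832 : ℤ) := by
      rw [← h]; push_cast; ring
    have q9 := c9 (-12) (by decide +kernel)
    have q12 := c12 (12) (by decide +kernel)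
    have e2 : 6 * (n : ℤ) * (d9 - d12) = -(d9 * d12) := by
      have a9 : (d9 : ℚ) ≠ 0 := by exact_mod_cast n9
      have a12 : (d12 : ℚ) ≠ 0 := by exact_mod_cast n12
      have : 6 * (n : ℚ) * (d9 - d12) = -(d9 * d12) := by
        have e1 := congrArg (· * (d9 : ℚ) * d12 / 5832) e
        push_cast at e1
        rw [← sub_eq_zero] at e1 ⊢
        rw [← e1]
        field_simp
        ring
      exact_mod_cast this
    obtain ⟨a, ha⟩ := q9
    obtain ⟨b, hb⟩ := q12
    obtain ⟨k, hk⟩ := hq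
    obtain rfl : n = 1 + 27 * k := by omega
    obtain rfl : d9 = 12 + 27 * a := by omega
    obtain rfl : d12 = -(12 + 27 * (-b)) := by omega
    push_cast at e2 h2
    have := S3702.arith a (-b) k (by positivity) (by linarith) (by
      linarith [sq_nonneg d1, sq_nonneg d3, sq_nonneg d5, sq_nonneg d6, sq_nonneg d7, sq_nonneg d10,
        sq_nonneg d11, sq_nonneg d13, sq_nonneg d14, sq_nonneg d16])
    omega

theorem top {G : Type*} [Group G] [Finite G] {ι : H4 →* G} (H : Hyp LA LB ι) : ι.range = ⊤ := by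
  obtain ⟨w, hw, d, h⟩ := out H
  obtain ⟨h1, h2⟩ := H.card hH4
  rw [h1, show LH4.length = 648 by decide +kernel] at h
  exact Subgroup.index_eq_one.mp (arith _ h2 (by
    simpa only [show LJ.length = 27 from rfl] using H.cong hH4 gJ LJ (by decide +kernel)) w hw d h)

end Cfsg.Agent.H1.S9G4
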