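import Cfsg.Agent.H1.S9Loc
import Cfsg.Agent.H1.S9Tool
import Cfsg.Agent.H1.S9Data3

/-!
# Three-local recognition of `S_9`: the centralizer of a three-cycle
-/

set_option autoImplicit false

namespace Cfsg.Agent.H1.S9

open Subgroup Cfsg.Agent.H9 Cfsg.Agent.H1.T3 Cfsg.Agent.H1.PC Cfsg.Agent.L0.SC3 Equiv
open Cfsg.Agent.L0.Code
open Cfsg.Agent.H1.A9K (h9 J0 hJ0 S0 hS0)
open Cfsg.Agent.H1.S6 (c0 c1 c2 c3 c4)
open scoped Pointwise

universe v

variable {G : Type v} [Group G] [Finite G] {φ : Perm (Fin 9) → G}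

omit [Finite G] in
theorem Loc.congr {H : Subgroup (Perm (Fin 9))} (h : Loc H φ) {χ : Perm (Fin 9) → G}
    (e : ∀ a ∈ H, χ a = φ a) : Loc H χ := by
  have e1 := im_congr e
  have e2 := im_congr (fun a ha => e a (h.JH ha))
  exact ⟨h.toEmb.congr e, h.hC, h.hM, e1 ▸ e2 ▸ h.nJ,
    by rw [e1, e _ (h.JH d_m.2.2.2.1)]; exact h.cx, e2 ▸ h.sig⟩

theorem YM : Y ≤ M := fun s hs => (d_Y s hs).1

theorem Loc.dich (h : Loc M φ) : (∀ g, g * φ e3 = φ e3 * g → g ∈ im φ M) ∨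
    ∃ π : centralizer ({φ e3} : Set G) →* Perm (Fin 6), Function.Surjective π ∧
      ∀ g, π g = 1 ↔ (g : G) ∈ zpowers (φ e3) := by
  have : Fact (Nat.Prime 3) := ⟨Nat.prime_three⟩
  obtain ⟨m1, m2, m3, -⟩ := s_m
  obtain ⟨r1, r2, r3, r4', r5, r6, -⟩ := n_m
  have m3' := h.JH m3
  have hL : ∀ {k}, k ∈ M → (φ k ∈ centralizer ({φ e3} : Set G) ↔ k * e3 = e3 * k) := fun hk => by
    rw [T3.mem_cent, h.comm hk m3']
  have hL' : ∀ {k}, k ∈ C216 → φ k ∈ centralizer ({φ e3} : Set G) := fun hk =>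
    (hL (C216M hk)).mpr (n_C _ hk)
  have hJL : im φ J0 ≤ centralizer ({φ e3} : Set G) := fun j hj =>
    T3.mem_cent.mpr (h.abJ j hj _ (mem_im φ m3))
  have hZJ : zpowers (φ e3) ≤ im φ J0 := zpowers_le_of_mem (mem_im φ m3)
  have hz := fun {b} hb => h.mem_zp3 m3' (b := b) hb (d_J e3 m3).1
  have hZc : ∀ g ∈ centralizer ({φ e3} : Set G), ∀ ζ ∈ zpowers (φ e3), g * ζ = ζ * g := by
    rintro g hg _ ⟨n, rfl⟩
    exact (Commute.zpow_right (T3.mem_cent.mp hg) n).eq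
  refine (nine_mod3 (le_normalizer_of_cent hZc) hZJ hJL (by
    rw [Nat.card_zpowers, orderOf_three (h.cube m3) (h.ne m3' d_m.2.2.2.2.2.2.2.2.2.2.1)]) h.cardJ
    (not_dvd_of_syl (k := 3) (h.sylJ hJL (fun k hk e => ((n_3 k hk).1 ((hL hk).mp e)).1)) h.cardJ)
    h.abJ (fun g hg e => ?_) (fun d hd hdZ g hg e => ?_) ?_ (hL' r5) (hL' r6)
    (h.rangeN (mem_im φ (C216M r5))) (h.rangeN (mem_im φ (C216M r6)))
    ((h.pow_eq_one (C216M r5)).mpr r1) ((h.sq_eq_one (C216M r6)).mpr r2)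
    (by rw [← h.conj (C216M r6) (C216M r5), r3, h.inv (C216M r5)])
    (by rwa [← h.mul (C216M r5) (C216M r5), hz (mul_mem (C216M r5) (C216M r5))])).imp_left
    (fun e g hg => h.nJ (e (T3.mem_cent.mpr hg)))
  · obtain ⟨k, hk, rfl⟩ := h.ex (h.nJ (mem_normalizer_of_conj_mem (g := g) (fun d hd => by
      simpa using mul_mem (hZJ (e d hd)) hd)))
    have t := fun d (hd : d ∈ J0) => (hz (mul_mem (h.JH ((d_M k hk).2.2 d hd))
      (inv_mem (h.JH hd)))).mp (by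
        rw [h.mul (h.JH ((d_M k hk).2.2 d hd)) (inv_mem (h.JH hd)), h.conj hk (h.JH hd),
          h.inv (h.JH hd)]
        exact e _ (mem_im φ hd))
    exact mem_im φ (((n_3 k hk).1 ((hL hk).mp hg)).2.2.1 (t _ m1) (t _ m2))
  · obtain ⟨j, hj, rfl⟩ := h.exJ hd
    obtain ⟨b, hb, k, hk, e'⟩ := (n_D j hj).1 (by rwa [← hz (h.JH hj)])
    have h1 : g⁻¹ * φ j * g ∈ im φ J0 := by
      have := mul_mem (inv_mem (hZJ e)) hd
      rwa [← conj_eq_iff.mpr (hZc _ (inv_mem hg) _ (inv_mem e)), show g⁻¹ *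
        (g * φ j * g⁻¹ * (φ j)⁻¹)⁻¹ * g⁻¹⁻¹ * φ j = g⁻¹ * φ j * g * ((φ j)⁻¹ * φ j) by group,
        inv_mul_cancel, mul_one] at this
    have h2 : g⁻¹ * φ e3 * g = φ e3 := by rw [mul_assoc, ← T3.mem_cent.mp hg]; simp
    obtain ⟨b1, b2⟩ : b ∈ J0 ∧ g⁻¹ * φ b * g ∈ im φ J0 := by
      rcases hb with rfl | rfl | rfl
      · exact ⟨hj, h1⟩
      · refine ⟨mul_mem hj m3, ?_⟩
        have := mul_mem h1 (h2.symm ▸ mem_im φ m3 : g⁻¹ * φ e3 * g ∈ _)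
        rw [h.mul (h.JH hj) m3']
        convert this using 1
        group
      · refine ⟨mul_mem hj (inv_mem m3), ?_⟩
        have := mul_mem h1 (inv_mem (h2.symm ▸ mem_im φ m3 : g⁻¹ * φ e3 * g ∈ _))
        rw [h.mul (h.JH hj) (inv_mem m3'), h.inv m3']
        convert this using 1
        group
    exact h.rangeN (h.wc2 (h.ctr (YM hk) (h.JH b1) e' h.cy) b2)
  · rw [← card_C216, ← (h.mono C216M).card]
    congr 2
    refine le_antisymm (fun g hg => ?_) (fun g hg => ?_)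
    · obtain ⟨k, hk, rfl⟩ := h.ex (h.nJ hg.1)
      exact mem_im φ ((n_3 k hk).1 ((hL hk).mp hg.2)).2.1
    · obtain ⟨k, hk, rfl⟩ := (h.mono C216M).ex hg
      exact ⟨h.rangeN (mem_im φ (C216M hk)), hL' hk⟩

/-- The configuration with a large centralizer of a three-cycle. -/
structure Big (B : Subgroup (Perm (Fin 9))) (χ : Perm (Fin 9) → G) : Prop extends Loc M χ where
  emb : Emb B χ
  hW : W6 ≤ B
  hS : S3p ≤ B
  ce : ∀ g, g * χ e3 = χ e3 * g → ∃ p ∈ W6, ∃ e, (e = 1 ∨ e = e3 ∨ e = e3⁻¹) ∧ g = χ (p * e)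

theorem Loc.big (h : Loc M φ) (π : centralizer ({φ e3} : Set G) →* Perm (Fin 6))
    (hπ : Function.Surjective π) (hk : ∀ g, π g = 1 ↔ (g : G) ∈ zpowers (φ e3)) :
    ∃ B χ, Big B χ ∧ ∀ a ∈ M, χ a = φ a := by
  obtain ⟨m1, -, m3, -⟩ := s_m
  obtain ⟨-, r2, -, -, -, r6, r7, r8, r9, r10, q0, q1, q3, q4, q01, q34, n01, n34, q03, q04, q13,
    q14, q2, q12, q23, q02, q24, a0, a1, i3, b1, b2, n1⟩ := n_m
  have m3' := h.JH m3
  have z3 := h.cube m3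
  have hL' : ∀ {k}, k ∈ C216 → φ k ∈ centralizer ({φ e3} : Set G) := fun hk =>
    T3.mem_cent.mpr ((h.comm (C216M hk) m3').mpr (n_C _ hk))
  have hz := fun {b} hb => h.mem_zp3 m3' (b := b) hb (d_J e3 m3).1
  have SM : S3p ≤ M := fun q hq => (n_S q hq).1
  have k2 : ∀ {a} (ha : a ∈ C216), a * a = 1 →
      (⟨φ a, hL' ha⟩ * ⟨φ a, hL' ha⟩ : centralizer ({φ e3} : Set G)) = 1 := fun ha e =>
    Subtype.ext ((h.sq_eq_one (C216M ha)).mpr e)
  have k3 : ∀ {a b} (ha : a ∈ C216) (hb : b ∈ C216), (a * b) ^ 3 = 1 →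
      (⟨φ a, hL' ha⟩ * ⟨φ b, hL' hb⟩ : centralizer ({φ e3} : Set G)) ^ 3 = 1 := fun ha hb e =>
    Subtype.ext ((congrArg (· ^ 3) (h.mul (C216M ha) (C216M hb)).symm).trans
      ((h.pow_eq_one (C216M (mul_mem ha hb))).mpr e))
  have kc : ∀ {a b} (ha : a ∈ C216) (hb : b ∈ C216), a * b = b * a →
      (⟨φ a, hL' ha⟩ * ⟨φ b, hL' hb⟩ : centralizer ({φ e3} : Set G)) =
        ⟨φ b, hL' hb⟩ * ⟨φ a, hL' ha⟩ := fun ha hb e =>
    Subtype.ext ((h.comm (C216M ha) (C216M hb)).mpr e)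
  have kn : ∀ {a b}, a ∈ C216 → b ∈ C216 → ¬ (a * b = 1 ∨ a * b = e3 ∨ a * b = e3⁻¹) →
      φ a * φ b ∉ zpowers (φ e3) := fun ha hb e => by
    rwa [← h.mul (C216M ha) (C216M hb), hz (C216M (mul_mem ha hb))]
  obtain ⟨ι, i1, i2, i3', j0, j1, j3, j4⟩ := lift3c z3 (fun g hg => T3.mem_cent.mp hg) π hπ hk
    (k2 r7 q0) (k2 r8 q1) (k2 r9 q3) (k2 r10 q4) (k3 r7 r8 q01) (k3 r9 r10 q34) (kn r7 r8 n01)
    (kn r9 r10 n34) (kc r7 r9 q03) (kc r7 r10 q04) (kc r8 r9 q13) (kc r8 r10 q14)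
  simp only at j0 j1 j3 j4
  have hι : Function.Injective ι := (injective_iff_map_eq_one ι).mpr
    (fun p hp => i3' p (hp ▸ one_mem _))
  have inv2 : ∀ g, g * φ e3 = φ e3 * g → g * g = 1 → ∃ p, g = ι p := fun g hg e => by
    obtain ⟨p, ζ, hζ, rfl⟩ := i2 g (T3.mem_cent.mpr hg)
    have c : ι p * ζ = ζ * ι p := by
      obtain ⟨n, rfl⟩ := hζ
      exact (Commute.zpow_right (T3.mem_cent.mp (i1 p)) n).eq
    rw [mul_assoc, ← mul_assoc (ι p), c, mul_assoc, ← mul_assoc, ← map_mul] at e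
    rw [i3' (p * p) (eq_inv_of_mul_eq_one_right e ▸ inv_mem (mul_mem hζ hζ)), map_one,
      mul_one] at e
    refine ⟨p, mul_eq_right.mpr (two_ne_three ?_ e)⟩
    rcases (mem_zpowers_three z3).mp hζ with rfl | rfl | rfl <;> simp [z3]
  obtain ⟨ε, e0, e1', e2', e3', e4⟩ := coxA_five q0 q1 q2 q3 q4 q01 q12 q23 q34 q02 q03 q04 q13
    q14 q24
  have hε : Function.Injective ε := injective_of_perm (by norm_num) ε (p := c0 * c1)
    (by rw [← S6.adj0, ← S6.adj1]; decide) (by rwa [map_mul, e0, e1'])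
  have εW : ∀ p, ε p ∈ W6 := range_le_of_gens ε (e0 ▸ dec_mem_cl (by decide))
    (e1' ▸ dec_mem_cl (by decide)) (e2' ▸ dec_mem_cl (by decide)) (e3' ▸ dec_mem_cl (by decide))
    (e4 ▸ dec_mem_cl (by decide))
  have Wε : W6 ≤ ε.range := cl_le (by
    simp only [gW6, List.mem_cons, List.not_mem_nil, or_false]
    rintro c (rfl | rfl | rfl | rfl | rfl)
    exacts [⟨_, e0⟩, ⟨_, e1'⟩, ⟨_, e2'⟩, ⟨_, e3'⟩, ⟨_, e4⟩])
  have ct : ∀ p, ι p ∈ centralizer ({φ t3} : Set G) := by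
    obtain ⟨-, -, -, t0, t1', -, t3', t4⟩ := n_S t3 b1
    have c := fun {a} (ha : a ∈ C216) e => (h.comm (SM b1) (C216M ha)).mpr e
    have u0 := c r7 t0
    have u1 := c r8 t1'
    have u3 := c r9 t3'
    have u4 := c r10 t4
    rw [← j0] at u0
    rw [← j1] at u1
    rw [← j3] at u3
    rw [← j4] at u4
    have v : ∀ {a b}, ε a = b → b * b = 1 → ι a * ι a = 1 := fun e e' => by
      rw [← map_mul, hε (by rw [map_mul, e, e', map_one] : ε (_ * _) = ε 1), map_one]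
    obtain ⟨p, hp⟩ := inv2 (φ t3 * ι c2 * (φ t3)⁻¹) (by
      have := conj_comm (g := φ t3) (Commute.inv_right (T3.mem_cent.mp (i1 c2))).eq
      rwa [← h.inv m3', h.cj (SM b1) (inv_mem m3') (c := e3) (by
        rw [← conj_eq_iff, ← conj_inv, conj_eq_iff.mpr i3, inv_inv])] at this)
      (T3.conj_sq (v e2' q2))
    have w : ∀ {a}, φ t3 * ι a = ι a * φ t3 → ι a = φ t3 * ι a * (φ t3)⁻¹ := fun e =>
      (conj_eq_iff.mpr e).symm
    have : p = c2 := n_6 p (hι (by rw [map_mul, ← hp, T3.conj_sq (v e2' q2), map_one]))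
      (hι (by
        rw [map_mul, map_mul, ← hp, w u0]
        exact conj_comm (by rw [← map_mul, ← map_mul, hε (by
          rw [map_mul, map_mul, e0, e2', q02] : ε (c2 * c0) = ε (c0 * c2))])))
      (hι (by
        rw [map_pow, map_mul, ← hp, w u1, conj_mul, map_one]
        exact conj_cube (by rw [← map_mul, ← map_pow, hε (by
          rw [map_pow, map_mul, e1', e2', q12, map_one] : ε ((c1 * c2) ^ 3) = ε 1), map_one])))
      (hι (by
        rw [map_pow, map_mul, ← hp, w u3, conj_mul, map_one]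
        exact conj_cube (by rw [← map_mul, ← map_pow, hε (by
          rw [map_pow, map_mul, e2', e3', q23, map_one] : ε ((c2 * c3) ^ 3) = ε 1), map_one])))
      (hι (by
        rw [map_mul, map_mul, ← hp, w u4]
        exact conj_comm (by rw [← map_mul, ← map_mul, hε (by
          rw [map_mul, map_mul, e4, e2', q24] : ε (c2 * c4) = ε (c4 * c2))])))
    exact range_le_of_gens ι (T3.mem_cent.mpr u0.symm) (T3.mem_cent.mpr u1.symm)
      (T3.mem_cent.mpr (conj_eq_iff.mp (this ▸ hp)).symm) (T3.mem_cent.mpr u3.symm)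
      (T3.mem_cent.mpr u4.symm)
  have cS : ∀ p, ∀ q ∈ S3p, ι p * φ q = φ q * ι p ∧ ε p * q = q * ε p := fun p q hq => by
    have h1 : S3p ≤ ((centralizer {ι p}).comap (h.mono SM).hom).map S3p.subtype := cl_le (by
      simp only [gS3p, List.mem_cons, List.not_mem_nil, or_false]
      rintro c (rfl | rfl)
      exacts [⟨⟨e3, b2⟩, T3.mem_cent.mpr (T3.mem_cent.mp (i1 p)).symm, rfl⟩,
        ⟨⟨t3, b1⟩, T3.mem_cent.mpr (T3.mem_cent.mp (ct p)).symm, rfl⟩])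
    obtain ⟨_, h2, rfl⟩ := h1 hq
    obtain ⟨-, -, -, t0, t1', t2', t3', t4⟩ := n_S _ hq
    exact ⟨(T3.mem_cent.mp h2).symm, T3.mem_cent.mp (range_le_of_gens ε
      (e0 ▸ T3.mem_cent.mpr t0.symm) (e1' ▸ T3.mem_cent.mpr t1'.symm)
      (e2' ▸ T3.mem_cent.mpr t2'.symm) (e3' ▸ T3.mem_cent.mpr t3'.symm)
      (e4 ▸ T3.mem_cent.mpr t4.symm) p)⟩
  let θ := MonoidHom.noncommCoprod (ι.prod ε) ((h.mono SM).hom.prod S3p.subtype)
    (fun p q => Prod.ext (cS p q q.2).1 (cS p q q.2).2)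
  have hθ : ∀ p q (hq : q ∈ S3p), θ (p, ⟨q, hq⟩) = (ι p * φ q, ε p * q) := fun _ _ _ => rfl
  obtain ⟨ψ, hψ, eψ⟩ := exists_emb_of_graph θ.range (by
    rintro g ⟨⟨p, q, hq⟩, e⟩
    rw [hθ, Prod.ext_iff] at e
    obtain rfl := (n_S q hq).2.1 (eq_inv_of_mul_eq_one_right e.2 ▸ inv_mem (εW p))
    obtain rfl : p = 1 := hε ((mul_one _).symm.trans (e.2.trans (map_one ε).symm))
    exact e.1.symm.trans (by simp [h.one])) (by
    rintro m ⟨⟨p, q, hq⟩, e⟩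
    rw [hθ, Prod.ext_iff] at e
    have e1 : φ q = (ι p)⁻¹ := eq_inv_of_mul_eq_one_right e.1
    obtain rfl := i3' p (by
      rw [← inv_mem_iff, ← e1, hz (SM hq)]
      exact (n_S q hq).2.2.1 ((h.comm (SM hq) m3').mp (e1 ▸ T3.mem_cent.mp (inv_mem (i1 p)))))
    obtain rfl := h.inj (SM hq) (by rw [e1, map_one, inv_one])
    exact e.2.symm.trans (by simp))
  have f : ∀ p q, q ∈ S3p → ψ (ε p * q) = ι p * φ q := fun p q hq => eψ _ _ ⟨_, hθ p q hq⟩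
  have mB : ∀ p q, q ∈ S3p → ε p * q ∈ θ.range.map (MonoidHom.snd _ _) := fun p q hq =>
    ⟨_, ⟨_, hθ p q hq⟩, rfl⟩
  have f1 : ∀ p, ψ (ε p) = ι p := fun p => by simpa [h.one] using f p 1 (one_mem _)
  have WB : W6 ≤ θ.range.map (MonoidHom.snd _ _) := fun a ha => by
    obtain ⟨p, rfl⟩ := Wε ha
    simpa only [mul_one] using mB p 1 (one_mem _)
  have ag : ∀ a ∈ W72, φ a = ψ a := (h.mono W72M).eq_on_cl (hψ.mono (W72W.trans WB)) (by
    simp only [gW72, List.mem_cons, List.not_mem_nil, or_false]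
    rintro c (rfl | rfl | rfl | rfl | rfl)
    · exact j0.symm.trans ((f1 _).symm.trans (congrArg ψ e0))
    · exact j1.symm.trans ((f1 _).symm.trans (congrArg ψ e1'))
    · exact j3.symm.trans ((f1 _).symm.trans (congrArg ψ e3'))
    · exact j4.symm.trans ((f1 _).symm.trans (congrArg ψ e4))
    obtain ⟨p, hp⟩ := inv2 _ (T3.mem_cent.mp (hL' r6)) ((h.sq_eq_one (C216M r6)).mpr r2)
    have t : ∀ {a b c d}, ι a = φ c → ι b = φ d → c ∈ C216 → ta * c * ta⁻¹ = d →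
        ε p * ε a = ε b * ε p := fun {a b c d} e e' hc e'' => by
      rw [← map_mul, ← map_mul, hι (by
        rw [map_mul, map_mul, ← hp, e, e', ← conj_eq_iff, ← h.conj (C216M r6) (C216M hc), e''] :
          ι (p * a) = ι (b * p))]
    refine hp.trans ((f1 _).symm.trans (congrArg ψ ((n_W _ (εW p)).2.2.2.2.2
      (e0 ▸ e3' ▸ t j0 j3 r7 a0) (e1' ▸ e4 ▸ t j1 j4 r8 a1) ?_)))
    rw [← map_mul, hι (by rw [map_mul, ← hp, map_one, h.sq_eq_one (C216M r6), r2] :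
      ι (p * p) = ι 1), map_one])
  obtain ⟨χ, -, k2, k3, k4⟩ := h.toEmb.glue hψ (by
    rintro _ ha ⟨_, ⟨⟨p, q, hq⟩, rfl⟩, rfl⟩
    change ε p * q ∈ M at ha
    change φ (ε p * q) = ψ (ε p * q)
    have h1 : ε p ∈ M := by simpa using mul_mem ha (inv_mem (SM hq))
    rw [h.mul h1 (SM hq), f p q hq, ag _ ((n_W _ (εW p)).1 ((d_M _ h1).2.2 _ m1)), f1])
  refine ⟨_, χ, ⟨h.congr k3, k2, WB, fun q hq => by simpa using mB 1 q hq, fun g hg => ?_⟩, k3⟩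
  rw [k3 _ m3'] at hg
  obtain ⟨p, ζ, hζ, rfl⟩ := i2 g (T3.mem_cent.mpr hg)
  obtain ⟨e, he, rfl⟩ := h.exJ (zpowers_le_of_mem (mem_im φ m3) hζ)
  have h1 := (hz (h.JH he)).mp hζ
  have h2 : e ∈ S3p := by
    rcases h1 with rfl | rfl | rfl
    exacts [one_mem _, b2, inv_mem b2]
  exact ⟨_, εW p, e, h1, by rw [k4 _ (mB p e h2), f p e h2, (cS p e h2).1]⟩

end Cfsg.Agent.H1.S9
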