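import Cfsg.Agent.H1.S9Emb
import Cfsg.Agent.H1.S9Data2
import Cfsg.Agent.H1.S9G1
import Cfsg.Agent.H1.S9G2
import Cfsg.Agent.H1.S9G4

/-!
# Three-local recognition of `S_9`: centralizers of elements of order three
-/

set_option autoImplicit false

namespace Cfsg.Agent.H1.S9

open Subgroup Cfsg.Agent.H9 Cfsg.Agent.H1.T3 Cfsg.Agent.H1.PC Cfsg.Agent.L0.SC3 Equiv
open Cfsg.Agent.L0.Code
open Cfsg.Agent.H1.A9K (h9 J0 hJ0 S0 hS0)
open scoped Pointwise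

universe v

variable {G : Type v} [Group G] [Finite G]

theorem card_J0 : Nat.card J0 = 27 := hJ0.card_eq.trans (by decide +kernel)

theorem JC : J0 ≤ C9 := fun j hj => (d_J j hj).2.2.2.1

theorem C2 : C9 ≤ H2 := fun k hk => (d_C k hk).1

theorem C4 : C9 ≤ H4 := fun k hk => (d_C k hk).2.1

theorem H2M : H2 ≤ M := fun k hk => (d_H.1 k hk).1

theorem H4M : H4 ≤ M := fun k hk => (d_H.2 k hk).1

theorem CM : C9 ≤ M := C2.trans H2M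

theorem SC : S0 ≤ C9 := hS0.le_of hC9 (by decide +kernel)

theorem eq_J0 {A : Subgroup (Perm (Fin 9))} (hA : A ≤ M) (hc : Nat.card A = 27)
    (hab : ∀ a ∈ A, ∀ b ∈ A, a * b = b * a) (h3 : ∀ a ∈ A, a ^ 3 = 1) : A = J0 := by
  refine eq_of_le_of_card_ge (fun k hk => ?_) (by rw [hc, card_J0])
  rcases (d_M k (hA hk)).1 (h3 k hk) with e | ⟨l, hl, e⟩
  · exact e
  have h1 : MulAut.conj l • A ≤ P18 := fun x hx => by
    have h2 := mem_conj_smul_iff.mp hx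
    have h4 := conj_comm (g := l) (hab _ h2 k hk)
    rw [conj_eq_iff.mpr e, show l * (l⁻¹ * x * l) * l⁻¹ = x by group] at h4
    exact (d_M x (by simpa [mul_assoc] using mul_mem (mul_mem hl (hA h2)) (inv_mem hl))).2.1 h4
  have := card_le_of_le h1
  rw [card_conj_smul, hc, card_P18] at this
  omega

/-- The three-local hypotheses. -/
structure Loc (H : Subgroup (Perm (Fin 9))) (φ : Perm (Fin 9) → G) : Prop extends Emb H φ where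
  hC : C9 ≤ H
  hM : H ≤ M
  nJ : normalizer (im φ J0 : Set G) ≤ im φ H
  cx : ∀ g, g * φ x3 = φ x3 * g → g ∈ im φ H
  sig : ∀ O : Subgroup G, (Nat.card O).Coprime 3 → im φ J0 ≤ normalizer (O : Set G) → O = ⊥

namespace Loc

variable {H : Subgroup (Perm (Fin 9))} {φ : Perm (Fin 9) → G} (h : Loc H φ)
include h

omit [Finite G] in
theorem JH : J0 ≤ H := JC.trans h.hC

omit [Finite G] in
theorem exJ {g : G} (hg : g ∈ im φ J0) : ∃ a ∈ J0, φ a = g := (h.mono h.JH).ex hg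

omit [Finite G] in
theorem cardJ : Nat.card (im φ J0) = 27 := (h.mono h.JH).card.trans card_J0

omit [Finite G] in
theorem cube {a : Perm (Fin 9)} (ha : a ∈ J0) : φ a ^ 3 = 1 :=
  (h.pow_eq_one (h.JH ha)).mpr (d_J a ha).1

omit [Finite G] in
theorem abJ : ∀ a ∈ im φ J0, ∀ b ∈ im φ J0, a * b = b * a := fun a ha b hb => by
  obtain ⟨a', ha', rfl⟩ := h.exJ ha
  obtain ⟨b', hb', rfl⟩ := h.exJ hb
  exact (h.comm (h.JH ha') (h.JH hb')).mpr ((d_J a' ha').2.1 b' hb')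

omit [Finite G] in
theorem expJ : ∀ a ∈ im φ J0, a ^ 3 = 1 := fun a ha => by
  obtain ⟨a', ha', rfl⟩ := h.exJ ha
  exact h.cube ha'

theorem rangeN : im φ H ≤ normalizer (im φ J0 : Set G) := fun g hg => by
  obtain ⟨k, hk, rfl⟩ := h.ex hg
  refine mem_normalizer_of_conj_mem (fun j hj => ?_)
  obtain ⟨i, hi, rfl⟩ := h.exJ hj
  rw [← h.conj hk (h.JH hi)]
  exact mem_im φ ((d_M k (h.hM hk)).2.2 i hi)

theorem wc {g : G} (hg : MulAut.conj g • im φ J0 ≤ im φ H) : g ∈ im φ H := by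
  obtain ⟨B, hB, e, hc, hm⟩ := h.pull hg
  have k : ∀ a ∈ B, g⁻¹ * φ a * g ∈ im φ J0 := fun a ha =>
    mem_conj_smul_iff.mp ((hm a (hB ha)).mp ha)
  rw [eq_J0 (hB.trans h.hM) (by rw [hc, card_conj_smul, h.cardJ]) (fun a ha b hb =>
    (h.comm (hB ha) (hB hb)).mp (by
      simpa [mul_assoc] using conj_comm (g := g) (h.abJ _ (k a ha) _ (k b hb))))
    (fun a ha => (h.pow_eq_one (hB ha)).mp (by
      simpa [mul_assoc] using conj_cube (g := g) (h.expJ _ (k a ha))))] at e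
  exact h.nJ (mem_normalizer_of_conj_smul_eq e.symm)

theorem wc2 {g a : G} (ha : ∀ c, c * a = a * c → c ∈ im φ H) (hg : g⁻¹ * a * g ∈ im φ J0) :
    g ∈ im φ H := h.wc (fun j hj => ha j (by
  simpa [mul_assoc] using conj_comm (g := g) (h.abJ _ (mem_conj_smul_iff.mp hj) _ hg)))

theorem sylS : IsSylowIn 3 (im φ S0) ⊤ := by
  have : Fact (Nat.Prime 3) := ⟨Nat.prime_three⟩
  have hS := SC.trans h.hC
  refine syl_of_norm (isSylowIn_of_card (k := 4) (im_mono φ hS)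
    (by rw [(h.mono hS).card, A9K.card_S0]; rfl) (fun hd => by
      have := hd.trans (h.card ▸ card_dvd_of_le h.hM)
      rw [card_M] at this
      omega)) (fun g hg => h.wc (fun j hj => im_mono φ hS ?_)) le_top
  rw [← conj_smul_eq_of_mem_normalizer hg.1]
  exact mem_conj_smul_iff.mpr (im_mono φ (fun j hj => (d_J j hj).2.2.1) (mem_conj_smul_iff.mp hj))

theorem fuse {s : Set G} {g : G} (hs : ∀ a ∈ s, a ∈ im φ J0)
    (hg : ∀ a ∈ s, g * a * g⁻¹ ∈ im φ J0) :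
    ∃ k ∈ H, ∀ a ∈ s, φ k * a * (φ k)⁻¹ = g * a * g⁻¹ := by
  have : Fact (Nat.Prime 3) := ⟨Nat.prime_three⟩
  obtain ⟨n, hn, e⟩ := fuse_of_wc h.sylS (im_mono φ (fun j hj => (d_J j hj).2.2.1)) h.abJ
    (fun g hg => h.rangeN (h.wc (hg.trans (im_mono φ (SC.trans h.hC))))) hs hg
  obtain ⟨k, hk, rfl⟩ := h.ex (h.nJ hn)
  exact ⟨k, hk, e⟩

theorem fuse1 {a b : Perm (Fin 9)} (ha : a ∈ J0) (hb : b ∈ J0) (e : IsConj (φ a) (φ b)) :
    ∃ k ∈ H, k * a = b * k := by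
  obtain ⟨g, e⟩ := isConj_iff.mp e
  obtain ⟨k, hk, e'⟩ := h.fuse (s := {φ a}) (g := g) (by rintro _ rfl; exact mem_im φ ha)
    (by rintro _ rfl; exact e ▸ mem_im φ hb)
  have := e' _ rfl
  rw [e, ← h.conj hk (h.JH ha), h.eq_iff (h.JH ((d_M k (h.hM hk)).2.2 a ha)) (h.JH hb)] at this
  exact ⟨k, hk, conj_eq_iff.mp this⟩

theorem fuse3 {a d e : Perm (Fin 9)} (ha : a ∈ J0) (hd : d ∈ J0) (he : e ∈ J0) {g : G}
    (h1 : g * φ d = φ d * g) (h2 : g * φ e = φ e * g) (h3 : g * φ a * g⁻¹ ∈ im φ J0) :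
    ∃ k ∈ H, k * d = d * k ∧ k * e = e * k ∧ φ (k * a * k⁻¹) = g * φ a * g⁻¹ := by
  have e1 := conj_eq_iff.mpr h1
  have e2 := conj_eq_iff.mpr h2
  obtain ⟨k, hk, e'⟩ := h.fuse (s := {φ a, φ d, φ e}) (g := g) (by
    rintro _ (rfl | rfl | rfl)
    exacts [mem_im φ ha, mem_im φ hd, mem_im φ he]) (by
    rintro _ (rfl | rfl | rfl)
    exacts [h3, e1.symm ▸ mem_im φ hd, e2.symm ▸ mem_im φ he])
  exact ⟨k, hk, (h.comm hk (h.JH hd)).mp (conj_eq_iff.mp ((e' _ (by simp)).trans e1)),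
    (h.comm hk (h.JH he)).mp (conj_eq_iff.mp ((e' _ (by simp)).trans e2)),
    (h.conj hk (h.JH ha)).trans (e' _ (by simp))⟩

theorem sylJ {L : Subgroup G} (hJL : im φ J0 ≤ L) (hL : ∀ k ∈ H, φ k ∈ L → k ^ 4 ∈ J0) :
    IsSylowIn 3 (im φ J0) L := by
  have : Fact (Nat.Prime 3) := ⟨Nat.prime_three⟩
  obtain ⟨R, hR, hJR⟩ := exists_isSylowIn_ge hJL (IsPGroup.of_card (p := 3) (n := 3) h.cardJ)
  rcases hJR.eq_or_lt with e | hlt
  · rwa [e]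
  obtain ⟨x, hx1, hx2, hx3⟩ := H7.exists_mem_normalizer_of_lt hR.isPGroup.isNilpotent hlt
  obtain ⟨k, hk, rfl⟩ := h.ex (h.nJ hx3)
  obtain ⟨n, hn⟩ := hR.isPGroup ⟨_, hx1⟩
  obtain ⟨m, hm⟩ := exists_pow_eq_self_of_coprime (x := φ k) (n := 4) (Nat.Coprime.coprime_dvd_right
    (orderOf_dvd_of_pow_eq_one (congrArg Subtype.val hn)) (Nat.Coprime.pow_right n (by norm_num)))
  exact absurd (hm ▸ pow_mem (h.pow hk 4 ▸ mem_im φ (hL k hk (hR.le hx1))) m) hx2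

theorem sg {d e a : Perm (Fin 9)} (hd : d ∈ J0) (he : e ∈ J0) (ha : a ∈ J0) (a1 : a ≠ 1)
    {H' : Subgroup (Perm (Fin 9))} (hH : H ≤ H')
    (T : ∀ k ∈ H', k * d = d * k → k * e = e * k → k ^ 4 ∈ J0 ∧ (k * a = a * k → k ∈ J0) ∧
      ∀ j ∈ J0, k * j * k⁻¹ * j⁻¹ = 1 ∨ k * j * k⁻¹ * j⁻¹ = a ∨ k * j * k⁻¹ * j⁻¹ = a⁻¹)
    (hC : ∀ g, g * φ d = φ d * g → g * φ e = φ e * g → g * φ a = φ a * g → g ∈ im φ H)
    (g : G) (h1 : g * φ d = φ d * g) (h2 : g * φ e = φ e * g) : g ∈ im φ H := by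
  have hJL : im φ J0 ≤ centralizer ({φ d, φ e} : Set G) := fun j hj =>
    mem_cent2.mpr ⟨h.abJ _ hj _ (mem_im φ hd), h.abJ _ hj _ (mem_im φ he)⟩
  have T' := fun k hk (hL : φ k ∈ centralizer ({φ d, φ e} : Set G)) => T k (hH hk)
    ((h.comm hk (h.JH hd)).mp (mem_cent2.mp hL).1) ((h.comm hk (h.JH he)).mp (mem_cent2.mp hL).2)
  have hC' : ∀ g ∈ centralizer ({φ d, φ e} : Set G), g * φ a = φ a * g → g ∈ im φ J0 :=
    fun g hg e' => by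
      obtain ⟨k, hk, rfl⟩ := h.ex (hC g (mem_cent2.mp hg).1 (mem_cent2.mp hg).2 e')
      exact mem_im φ ((T' k hk hg).2.1 ((h.comm hk (h.JH ha)).mp e'))
  have hg := mem_cent2.mpr ⟨h1, h2⟩
  have key := sig3 (h.sylJ hJL (fun k hk hL => (T' k hk hL).1)) (mem_im φ ha) (h.cube ha)
    (h.ne (h.JH ha) a1) (fun x hx l hl hlx => by
      obtain ⟨j, hj, rfl⟩ := h.exJ hx
      obtain ⟨k, hk, k1, k2, k3⟩ := h.fuse3 hj hd he (mem_cent2.mp hl).1 (mem_cent2.mp hl).2 hlx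
      have m := h.JH ((d_M k (h.hM hk)).2.2 j hj)
      rw [← k3, ← h.inv (h.JH hj), ← h.mul m (inv_mem (h.JH hj)),
        h.mem_zp3 (h.JH ha) (mul_mem m (inv_mem (h.JH hj))) (d_J a ha).1]
      exact (T k (hH hk) k1 k2).2.2 j hj) hC' h.sig g⁻¹ (inv_mem hg)
  refine h.nJ (mem_normalizer_of_conj_mem (fun j hj => hC' _
    (mul_mem (mul_mem hg (hJL hj)) (inv_mem hg)) ?_))
  have h3 : g⁻¹ * φ a * g⁻¹⁻¹ ∈ im φ J0 := by
    rcases key with e | e <;> rw [e]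
    exacts [mem_im φ ha, inv_mem (mem_im φ ha)]
  simpa [mul_assoc] using conj_comm (g := g) (h.abJ _ hj _ h3)

theorem cent2 : ∀ g, g * φ y = φ y * g → g * φ yp = φ yp * g → g ∈ im φ H := by
  obtain ⟨-, -, -, -, m5, m6, -, -, -, -, m11, -, -, -, -, m16, -⟩ := d_m
  refine h.sg m5 m6 s_m.2.2.1 m11 h.hM g_c2 (fun g h1 _ h3 => h.cx g ?_)
  rw [m16, h.mul (h.JH m5) (h.JH s_m.2.2.1)]
  exact (Commute.mul_right h1 h3).eq

omit [Finite G] in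
theorem cinv {a : Perm (Fin 9)} (ha : a ∈ H) {g : G} (e : g * φ a = φ a * g) :
    g * φ a⁻¹ = φ a⁻¹ * g := h.inv ha ▸ (Commute.inv_right e).eq

theorem vq {K : Subgroup (Perm (Fin 9))} {LA : List ℕ}
    (top : ∀ {X : Type v} [Group X] [Finite X] {ι : K →* X}, GA.Hyp LA LA ι → ι.range = ⊤)
    {d : Perm (Fin 9)} (hd : d ∈ J0)
    (T1 : ∀ a ∈ K, a ∈ H ∧ a * d = d * a ∧ a ≠ d ∧ a ≠ d⁻¹ ∧ (enc a ∈ LA ↔ a ^ 3 = 1 ∧ a ≠ 1) ∧
      (a ^ 3 = 1 → a ∈ J0))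
    (T2 : ∀ k ∈ H, k * d = d * k → ∃ l ∈ K, k * l⁻¹ = 1 ∨ k * l⁻¹ = d ∨ k * l⁻¹ = d⁻¹)
    (hC : ∀ a ∈ K, a ^ 3 = 1 → a ≠ 1 → ∀ g, g * φ d = φ d * g → g * φ a = φ a * g → g ∈ im φ H)
    (g : G) (hg : g * φ d = φ d * g) : g ∈ im φ H := by
  have hK : K ≤ H := fun a ha => (T1 a ha).1
  have hdH := h.JH hd
  have hZ : zpowers (φ d) ≤ im φ J0 := zpowers_le_of_mem (mem_im φ hd)
  obtain ⟨k, hk⟩ := quot_top top (fun a => by
      simpa only [Subtype.ext_iff, ne_eq, coe_pow, coe_one] using (T1 a a.2).2.2.2.2.1)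
    (h.mono hK).hom (L := centralizer {φ d}) (Z := zpowers (φ d))
    (le_normalizer_of_cent (by
      rintro g hg _ ⟨n, rfl⟩
      exact (Commute.zpow_right (T3.mem_cent.mp hg) n).eq))
    (fun a => T3.mem_cent.mpr ((h.comm (hK a.2) hdH).mpr (T1 a a.2).2.1))
    (fun a ha => Subtype.ext ((((h.mem_zp3 hdH (hK a.2) (d_J d hd).1).mp ha).resolve_right
      (not_or.mpr ⟨(T1 a a.2).2.2.1, (T1 a a.2).2.2.2.1⟩))))
    (fun a b a3 a1 b3 g hg e => by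
      have ha := (T1 a a.2).2.2.2.2.2 (congrArg Subtype.val a3)
      have hb := (T1 b b.2).2.2.2.2.2 (congrArg Subtype.val b3)
      have hg' := T3.mem_cent.mp hg
      obtain ⟨k, hk, k1, -, k3⟩ := h.fuse3 ha hd hd hg' hg' (by
        simpa [Emb.hom_apply] using mul_mem (hZ e) (mem_im φ hb))
      rw [h.conj hk (hK a.2)] at k3
      have h1 := hC a a.2 (congrArg Subtype.val a3) (fun e => a1 (Subtype.ext e))
        ((φ k)⁻¹ * g) (Commute.mul_left (Commute.inv_left ((h.comm hk hdH).mpr k1)) hg').eq (by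
          rw [← conj_eq_iff]
          calc _ = (φ k)⁻¹ * (g * φ a * g⁻¹) * φ k := by group
            _ = _ := by rw [← k3]; group)
      obtain ⟨m, hm, rfl⟩ := h.ex (show g ∈ im φ H by simpa using mul_mem (mem_im φ hk) h1)
      obtain ⟨l, hl, e'⟩ := T2 m hm ((h.comm hm hdH).mp hg')
      exact ⟨⟨l, hl⟩, by
        rwa [Emb.hom_apply, ← h.inv (hK hl), ← h.mul hm (inv_mem (hK hl)),
          h.mem_zp3 hdH (mul_mem hm (inv_mem (hK hl))) (d_J d hd).1]⟩) g (T3.mem_cent.mpr hg)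
  simpa [Emb.hom_apply] using mul_mem (im_mono φ h.JH (hZ hk)) (mem_im φ (hK k.2))

omit [Finite G] in
theorem ctr {a b k : Perm (Fin 9)} (hk : k ∈ H) (ha : a ∈ H) (e : k * a = b * k)
    (hb : ∀ g, g * φ b = φ b * g → g ∈ im φ H) : ∀ g, g * φ a = φ a * g → g ∈ im φ H :=
  h.cent_tr le_rfl hk ha e hb

omit [Finite G] in
theorem ctr' {j a : Perm (Fin 9)} (hj : j ∈ J0) (e : a = j ∨ a = j⁻¹)
    (ha : a ∈ H → ∀ g, g * φ a = φ a * g → g ∈ im φ H) (g : G) (hg : g * φ j = φ j * g) :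
    g ∈ im φ H := by
  rcases e with rfl | rfl
  exacts [ha (h.JH hj) g hg, ha (inv_mem (h.JH hj)) g (h.cinv (h.JH hj) hg)]

omit [Finite G] in
theorem cmul {d a b : Perm (Fin 9)} (hd : d ∈ H) (ha : a ∈ H)
    (e : b = a ∨ b = a * d ∨ b = a * d⁻¹) {g : G} (h1 : g * φ d = φ d * g)
    (h2 : g * φ a = φ a * g) : b ∈ H ∧ g * φ b = φ b * g := by
  rcases e with rfl | rfl | rfl
  · exact ⟨ha, h2⟩
  · exact ⟨mul_mem ha hd, h.mul ha hd ▸ (Commute.mul_right h2 h1).eq⟩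
  · exact ⟨mul_mem ha (inv_mem hd),
      h.mul ha (inv_mem hd) ▸ (Commute.mul_right h2 (h.cinv hd h1)).eq⟩

section

variable (hall : ∀ j ∈ J0, j ≠ 1 → ∀ g, g * φ j = φ j * g → g ∈ im φ H)
include hall

theorem hW {a b : Perm (Fin 9)} (ha : a ∈ J0) (hb : b ∈ J0) (b1 : b ≠ 1) {g : G}
    (e : g * φ a * g⁻¹ = φ b) : g ∈ im φ H :=
  h.wc2 (hall b hb b1) (by rw [← e]; simpa [mul_assoc] using mem_im φ ha)

theorem hS (hu : ∀ k ∈ H, k ^ 3 = 1 → k ∈ J0 ∨ ∃ l ∈ H, l * k = u * l) {a b : Perm (Fin 9)}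
    (ha : a ∈ J0) (a1 : a ≠ 1) (hb : b ∈ H) {g : G} (e : g * φ a * g⁻¹ = φ b) :
    (b ∈ J0 ∧ b ≠ 1) ∨ (IsConj (φ a) (φ u) ∧ ∃ k ∈ H, k * a * k⁻¹ = x3 ∨ k * a * k⁻¹ = x3⁻¹) := by
  obtain ⟨m1, -, -, m4, -, -, -, m8, -, -, -, m12, -, m14, -⟩ := d_m
  have hu' := h.hC m1
  rcases hu b hb ((h.pow_eq_one hb).mp (e ▸ conj_cube (h.cube ha))) with e1 | ⟨l, hl, e1⟩
  · exact Or.inl ⟨e1, fun e' => conj_ne_one (g := g) (h.ne (h.JH ha) a1) (by rw [e, e', h.one])⟩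
  have e2 : φ l * g * φ a * (φ l * g)⁻¹ = φ u := by rw [← h.cj hl hb e1, ← e]; group
  refine Or.inr ⟨isConj_iff.mpr ⟨_, e2⟩, ?_⟩
  generalize φ l * g = g at e2
  have e3 := conj_comm (g := g⁻¹) ((h.comm (h.JH m4) hu').mpr m14.symm)
  rw [← e2, show g⁻¹ * (g * φ a * g⁻¹) * g⁻¹⁻¹ = φ a by group] at e3
  obtain ⟨t, ht, e4⟩ := h.ex (hall a ha a1 _ e3)
  rw [← e4, h.comm ht (h.JH ha)] at e3
  rcases hu t ht ((h.pow_eq_one ht).mp (e4 ▸ conj_cube (h.cube m4))) with e5 | ⟨k, hk, e5⟩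
  · exact absurd ((h.mem h.JH hu').mp (e2 ▸ conj_mem_of_mem_normalizer
      (h.rangeN (h.wc2 h.cx (by simpa [e4] using mem_im φ e5))) (mem_im φ ha))) m12
  · have e6 := conj_comm (g := k) e3
    rw [conj_eq_iff.mpr e5] at e6
    exact ⟨k, hk, ((d_J _ ((d_M k (h.hM hk)).2.2 a ha)).2.2.2.2.2.1 e6.symm).resolve_left
      (conj_ne_one a1)⟩

theorem hS' (hu : ∀ k ∈ H, k ^ 3 = 1 → k ∈ J0 ∨ ∃ l ∈ H, l * k = u * l)
    (hx : ∀ k ∈ H, k * x3 ≠ x3⁻¹ * k) {a b : Perm (Fin 9)}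
    (ha : a ∈ J0) (a1 : a ≠ 1) (hb : b ∈ H) {g : G} (e : g * φ a * g⁻¹ = φ b) :
    b ∈ J0 ∧ b ≠ 1 := by
  obtain ⟨m1, m2, -, m4, -, -, -, -, -, -, -, -, -, -, m15, -⟩ := d_m
  refine (h.hS hall hu ha a1 hb e).resolve_right (fun ⟨e1, k, hk, e2⟩ => ?_)
  have inv : ∀ {a b : G}, IsConj a b → IsConj a⁻¹ b⁻¹ := fun e => by
    obtain ⟨g, rfl⟩ := isConj_iff.mp e
    exact isConj_iff.mpr ⟨g, conj_inv.symm⟩
  have e3 := (e1.trans (h.isConj (h.hC m2) (h.hC m1) (conj_eq_iff.mp m15))).trans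
    (h.inv (h.hC m1) ▸ (inv e1).symm)
  have e4 : IsConj (φ x3) (φ x3⁻¹) := by
    rcases e2 with e2 | e2 <;> have e5 := h.isConj hk (h.JH ha) (conj_eq_iff.mp e2)
    · exact h.inv (h.JH m4) ▸ (e5.symm.trans e3).trans (inv e5)
    · have := (e5.symm.trans e3).trans (inv e5)
      rw [← h.inv (inv_mem (h.JH m4)), inv_inv] at this
      exact this.symm
  obtain ⟨l, hl, e5⟩ := h.fuse1 m4 (inv_mem m4) e4
  exact hx l hl e5

end

end Loc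

theorem mem_LA (a : Perm (Fin 9)) : enc a ∈ S9G2.LA ↔ a ∈ J0 ∧ a ≠ 1 := by
  have h1 : ∀ c ∈ S9G2.LA, c ∈ S3702.LJ ∧ c ≠ idc 9 := by decide +kernel
  have h2 : ∀ c ∈ S3702.LJ, c ≠ idc 9 → c ∈ S9G2.LA := by decide +kernel
  rw [hJ0.mem_iff, ne_eq, eq_iff_enc h9, enc_one']
  exact ⟨h1 _, fun h => h2 _ h.1 h.2⟩

theorem mem_LB (a : Perm (Fin 9)) (ha : enc a ∈ S9G2.LB) :
    a ∈ J0 ∧ a ≠ 1 ∧ a ≠ x3 ∧ a ≠ x3⁻¹ := by
  have h1 : ∀ c ∈ S9G2.LB, c ∈ S3702.LJ ∧ c ≠ idc 9 ∧ c ≠ nat_lit 0x687354021 ∧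
      c ≠ invc 9 (nat_lit 0x687354021) := by decide +kernel
  simp only [hJ0.mem_iff, ne_eq, eq_iff_enc h9, enc_one', enc_inv h9, enc_x3]
  exact h1 _ ha

variable {φ : Perm (Fin 9) → G}

theorem Loc.refl {H : Subgroup (Perm (Fin 9))} (h : Loc H φ) (h2 : H ≤ H2)
    (hy : ∀ g, g * φ yp = φ yp * g → g ∈ im φ H) :
    ∀ j ∈ J0, j ≠ 1 → ∀ g, g * φ j = φ j * g → g ∈ im φ H := fun j hj j1 => by
  obtain ⟨-, -, -, -, m5, m6, m7, -, -, m10, -⟩ := d_m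
  obtain ⟨k, hk, a, ha, e⟩ := (g_cl j hj j1).1
  refine h.ctr' hj ha (fun ha => ?_)
  rcases e with e | e | e | e | e <;> refine h.ctr (h.hC hk) ha e ?_
  · exact h.cx
  · exact hy
  · exact fun g hg => h.sg s_m.2.2.1 s_m.2.2.1 m6 m10 h2 g_e (fun g _ _ => hy g) g hg hg
  · exact fun g hg => h.sg m5 m5 m6 m10 h2 g_y2 (fun g _ _ => hy g) g hg hg
  · exact fun g hg => h.sg m7 m7 m6 m10 h2 g_x (fun g _ _ => hy g) g hg hg

theorem Loc.top1 (h : Loc C9 φ) : im φ C9 = ⊤ := by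
  obtain ⟨-, -, -, m4, -, m6, -, m8, -⟩ := d_m
  have hall := h.refl C2 (fun g hg => h.sg m6 m6 m4 m8 le_rfl g_1 (fun g _ _ => h.cx g) g hg hg)
  exact h.range ▸ S9G1.top ⟨h.hom_inj, fun a b ha hb g e => h.range ▸ h.hW hall
    ((mem_LA a).mp ha).1 ((mem_LA b).mp hb).1 ((mem_LA b).mp hb).2 e,
    fun a b ha g e => (mem_LA b).mpr (h.hS' hall (fun k hk => (d_C k hk).2.2.2.2.2)
      (fun k hk => (d_C k hk).2.2.2.2.1) ((mem_LA a).mp ha).1 ((mem_LA a).mp ha).2 b.2 e)⟩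

theorem Loc.top2 (h : Loc H2 φ) : im φ H2 = ⊤ := by
  have : Fact (Nat.Prime 3) := ⟨Nat.prime_three⟩
  obtain ⟨-, m2, -, -, -, m6, -, -, -, m10, -, -, -, -, -, -, -, -, -, -, -, -, -, m24⟩ := d_m
  obtain ⟨s1, s2, s3⟩ := g_st
  have hy := h.JH m6
  have tz := mul_mem (h.hC m2) m24
  have hJL : im φ J0 ≤ centralizer ({φ yp} : Set G) := fun a ha =>
    T3.mem_cent.mpr (h.abJ a ha _ (mem_im φ m6))
  have hz := fun {b} hb => h.mem_zp3 hy (b := b) hb (d_J yp m6).1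
  have hall := h.refl le_rfl (fun g hg => h.nJ (st_mod (p := 3) (by norm_num)
    (Z := zpowers (φ yp)) (h.sylJ hJL (fun k hk hL =>
      (s1 k hk ((h.comm hk hy).mp (T3.mem_cent.mp hL))).1)) (zpowers_le_of_mem (mem_im φ m6)) (by
      rintro g hg _ ⟨n, rfl⟩
      exact (Commute.zpow_right (T3.mem_cent.mp hg) n).eq) h.abJ h.expJ (by
      rw [h.cardJ, Nat.card_zpowers, orderOf_three (h.cube m6) (h.ne hy m10)]; rfl)
    (fun x hx g hg hgx => by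
      obtain ⟨j, hj, rfl⟩ := h.exJ hx
      obtain ⟨k, hk, k1, -, k3⟩ := h.fuse3 hj m6 m6 (T3.mem_cent.mp hg) (T3.mem_cent.mp hg) hgx
      have m := h.JH ((d_M k (h.hM hk)).2.2 j hj)
      rw [← k3, ← h.inv (h.JH hj), ← h.mul m (inv_mem (h.JH hj)), ← h.mul m (h.JH hj),
        hz (mul_mem m (inv_mem (h.JH hj))), hz (mul_mem m (h.JH hj))]
      exact (s1 k hk k1).2 j hj)
    ⟨φ (ta * z), T3.mem_cent.mpr ((h.comm tz hy).mpr s2), fun x hx => by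
      obtain ⟨j, hj, rfl⟩ := h.exJ hx
      have m := h.JH ((d_M _ (h.hM tz)).2.2 j hj)
      rw [← h.conj tz (h.JH hj), ← h.mul m (h.JH hj), hz (mul_mem m (h.JH hj))]
      exact s3 j hj⟩ (fun O _ h2 h3 => h.sig O h3 (hJL.trans h2)) (T3.mem_cent.mpr hg)))
  refine h.range ▸ S9G2.top ⟨h.hom_inj, fun a b ha hb g e => h.range ▸ h.hW hall
    ((mem_LA a).mp ha).1 ((mem_LA b).mp hb).1 ((mem_LA b).mp hb).2 e,
    fun a b ha g e => (mem_LA b).mpr ?_⟩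
  obtain ⟨a1, a2, a3, a4⟩ := mem_LB a ha
  exact (h.hS hall (fun k hk => (d_H.1 k hk).2.1) a1 a2 b.2 e).resolve_right
    (fun ⟨_, k, hk, e⟩ => ((d_H.1 k hk).2.2 a a1 e).elim a3 a4)

theorem Loc.top4 (h : Loc H4 φ) : im φ H4 = ⊤ := by
  obtain ⟨-, -, -, -, m5, m6, -, -, -, m10, -⟩ := d_m
  have hy := fun g hg => h.sg m5 m5 m6 m10 le_rfl g_y (fun g h1 _ => h.cent2 g h1) g hg hg
  have he := h.vq (fun H => V4a.top H) s_m.2.2.1 (fun a ha => by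
    obtain ⟨a1, a2, a3, a4, a5, a6⟩ := v_a.1 a ha
    exact ⟨a1, a2, a3, a4, a5, fun e => (a6 e).1⟩) v_a.2 (fun a ha a3 a1 g h1 h2 => by
    obtain ⟨b, hb, k, hk, e⟩ := ((v_a.1 a ha).2.2.2.2.2 a3).2.resolve_left a1
    obtain ⟨b1, b2⟩ := h.cmul (h.JH s_m.2.2.1) (v_a.1 a ha).1 hb h1 h2
    rcases e with e | e | e
    exacts [h.ctr hk b1 e h.cx g b2, h.ctr hk (inv_mem b1) e h.cx g (h.cinv b1 b2),
      h.ctr hk b1 e hy g b2])
  have hall : ∀ j ∈ J0, j ≠ 1 → ∀ g, g * φ j = φ j * g → g ∈ im φ H4 := fun j hj j1 => by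
    obtain ⟨k, hk, a, ha, e⟩ := (g_cl j hj j1).2
    refine h.ctr' hj ha (fun ha => ?_)
    rcases e with e | e | e <;> refine h.ctr hk ha e ?_
    exacts [h.cx, hy, he]
  exact h.range ▸ S9G4.top ⟨h.hom_inj, fun a b ha hb g e => h.range ▸ h.hW hall
    ((mem_LA a).mp ha).1 ((mem_LA b).mp hb).1 ((mem_LA b).mp hb).2 e,
    fun a b ha g e => (mem_LA b).mpr (h.hS' hall (fun k hk => (d_H.2 k hk).2.1)
      (fun k hk => (d_H.2 k hk).2.2) ((mem_LA a).mp ha).1 ((mem_LA a).mp ha).2 b.2 e)⟩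

theorem Loc.cy (h : Loc M φ) : ∀ g, g * φ y = φ y * g → g ∈ im φ M := by
  have m5 := d_m.2.2.2.2.1
  have m6 := h.JH d_m.2.2.2.2.2.1
  refine h.vq (fun H => V4b.top H) m5 (fun a ha => by
    obtain ⟨a1, a2, a3, a4, a5, a6⟩ := v_b.1 a ha
    exact ⟨a1, a2, a3, a4, a5, fun e => (a6 e).1⟩) v_b.2 (fun a ha a3 a1 g h1 h2 => ?_)
  rcases ((v_b.1 a ha).2.2.2.2.2 a3).2.resolve_left a1 with rfl | rfl | ⟨b, hb, k, hk, e⟩
  · exact h.cent2 g h1 h2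
  · exact h.cent2 g h1 (by simpa using h.cinv (inv_mem m6) h2)
  obtain ⟨b1, b2⟩ := h.cmul (h.JH m5) (v_b.1 a ha).1 hb h1 h2
  rcases e with e | e
  exacts [h.ctr (H4M hk) b1 e h.cx g b2, h.ctr (H4M hk) (inv_mem b1) e h.cx g (h.cinv b1 b2)]

end Cfsg.Agent.H1.S9
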