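import Cfsg.Agent.H1.S9End
import Cfsg.Agent.H1.S9Data4

/-!
# Three-local recognition of `S_9`: the normalizer of the elementary abelian subgroup
-/

set_option autoImplicit false

namespace Cfsg.Agent.H1.S9

open Subgroup Cfsg.Agent.H9 Cfsg.Agent.H1.T3 Cfsg.Agent.H1.PC Cfsg.Agent.L0.SC3 Equiv
open Cfsg.Agent.L0.Code
open Cfsg.Agent.H1.A9K (h9 J0 hJ0)

universe v

variable {G : Type v} [Group G] [Finite G]

omit [Finite G] in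
theorem Emb.tri {φ : Perm (Fin 9) → G} (h : Emb J0 φ) {a b c : Perm (Fin 9)} (ha : a ∈ J0)
    (hb : b ∈ J0) (hc : c ∈ J0) (i j k : ℕ) :
    φ (a ^ i * b ^ j * c ^ k) = φ a ^ i * φ b ^ j * φ c ^ k := by
  rw [h.mul (mul_mem (pow_mem ha _) (pow_mem hb _)) (pow_mem hc _),
    h.mul (pow_mem ha _) (pow_mem hb _), h.pow ha, h.pow hb, h.pow hc]

theorem IsE.mem {a : Perm (Fin 9)} (ha : IsE a) : a ∈ J0 := by
  rcases ha with rfl | rfl | rfl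
  exacts [s_m.1, s_m.2.1, s_m.2.2.1]

/-- The hypotheses on the centralizer. -/
structure Pre (κ : Perm (Fin 9) → G) : Prop extends Emb C9 κ where
  cx : ∀ g, g * κ x3 = κ x3 * g → g ∈ im κ C9
  sig : ∀ O : Subgroup G, (Nat.card O).Coprime 3 → im κ J0 ≤ normalizer (O : Set G) → O = ⊥

namespace Pre

variable {κ : Perm (Fin 9) → G} (h : Pre κ)
include h

theorem rangeN {k : Perm (Fin 9)} (hk : k ∈ C9) : κ k ∈ normalizer (im κ J0 : Set G) :=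
  mem_normalizer_of_conj_mem (fun j hj => by
    obtain ⟨i, hi, rfl⟩ := (h.mono JC).ex hj
    rw [← h.conj hk (JC hi)]
    exact mem_im κ ((d_M k (CM hk)).2.2 i hi))

omit [Finite G] in
theorem abJ : ∀ a ∈ im κ J0, ∀ b ∈ im κ J0, a * b = b * a := fun a ha b hb => by
  obtain ⟨a', ha', rfl⟩ := (h.mono JC).ex ha
  obtain ⟨b', hb', rfl⟩ := (h.mono JC).ex hb
  exact (h.comm (JC ha') (JC hb')).mpr ((d_J a' ha').2.1 b' hb')

theorem cls : ∃ c < 3, ∀ n ∈ normalizer (im κ J0 : Set G), ∀ v ∈ S9C.LB.getD c [],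
    ∃ v' ∈ S9C.LS.getD c [], n * κ (E v) * n⁻¹ = κ (E v') := by
  obtain ⟨m1, m2, m3, -, -, -, -, -, -, -, -, -, ex, -⟩ := s_m
  obtain ⟨u1, u2, u3, u4, u5, u6⟩ := d_U
  obtain ⟨a1, a2, -, a4, -⟩ := d_m
  have hJ := h.mono JC
  let _ : CommGroup (im κ J0) :=
    { (im κ J0).toGroup with mul_comm := fun a b => Subtype.ext (h.abJ a a.2 b b.2) }
  have c3 : ∀ {a} (ha : a ∈ J0), (⟨κ a, mem_im κ ha⟩ : im κ J0) ^ 3 = 1 := fun ha =>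
    Subtype.ext ((hJ.pow_eq_one ha).mpr (d_J _ ha).1)
  have eF : ∀ v, ((S9C.Fc (⟨κ e1, mem_im κ m1⟩ : im κ J0) ⟨κ e2, mem_im κ m2⟩ ⟨κ e3, mem_im κ m3⟩ v :
      im κ J0) : G) = κ (E v) := fun v => (hJ.tri m1 m2 m3 _ _ _).symm
  have cj : ∀ {k a b} (hk : k ∈ C9) (ha : a ∈ J0) (hb : b ∈ J0), k * a * k⁻¹ = b →
      (im κ J0).normalizerMonoidHom ⟨κ k, h.rangeN hk⟩ ⟨κ a, mem_im κ ha⟩ = ⟨κ b, mem_im κ hb⟩ :=
    fun hk ha _ e => Subtype.ext (e ▸ (h.conj hk (JC ha)).symm)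
  obtain ⟨c, hc, H⟩ := S9C.classify (c3 m1) (c3 m2) (c3 m3) (fun v hv v' hv' e =>
      (d_E v hv).2 v' hv' ((hJ.eq_iff (d_E v hv).1 (d_E v' hv').1).mp
        ((eF v).symm.trans ((congrArg Subtype.val e).trans (eF v')))))
    (fun a => by
      obtain ⟨j, hj, e⟩ := hJ.ex a.2
      obtain ⟨v, hv, rfl⟩ := (d_J j hj).2.2.2.2.1
      exact ⟨v, hv, Subtype.ext (e.symm.trans (eF v).symm)⟩)
    (X := (im κ J0).normalizerMonoidHom.range) ⟨⟨_, h.rangeN a1⟩, rfl⟩ ⟨⟨_, h.rangeN a2⟩, rfl⟩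
    (cj a1 m1 m2 u1) (cj a1 m2 m3 u2) (cj a1 m3 m1 u3) (cj a2 m1 m2 u4) (cj a2 m2 m1 u5)
    (cj a2 m3 m3 u6) (by
      rintro _ ⟨⟨n, hn⟩, rfl⟩ e a ha
      have e1' : n * (κ e1 * κ e2 * κ e3) * n⁻¹ = κ e1 * κ e2 * κ e3 := congrArg Subtype.val e
      rw [← hJ.mul m1 m2, ← hJ.mul (mul_mem m1 m2) m3, ← ex] at e1'
      obtain ⟨k, hk, rfl⟩ := h.ex (h.cx n (conj_eq_iff.mp e1'))
      have t := fun a (ha : IsE a) => ((d_C k hk).2.2.1 a ha).imp (cj hk ha.mem m1)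
        (Or.imp (cj hk ha.mem m2) (cj hk ha.mem m3))
      rcases ha with rfl | rfl | rfl
      exacts [t _ (Or.inl rfl), t _ (Or.inr (Or.inl rfl)), t _ (Or.inr (Or.inr rfl))])
  exact ⟨c, hc, fun n hn v hv => (H _ ⟨⟨n, hn⟩, rfl⟩ v hv).imp (fun v' e => ⟨e.1, by
    rw [← eF, ← eF]; exact congrArg Subtype.val e.2⟩)⟩

theorem lam : ∃ μ : Perm (Fin 9) → G, Emb J0 μ ∧ im μ J0 = im κ J0 ∧ μ x3 = κ x3 ∧
    (∀ p ∈ S3, ∀ j ∈ J0, κ p * μ j * (κ p)⁻¹ = μ (p * j * p⁻¹)) ∧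
    ∀ n ∈ normalizer (im κ J0 : Set G), ∃ s ∈ Y, ∀ j ∈ J0, n * μ j * n⁻¹ = μ (s * j * s⁻¹) := by
  obtain ⟨m1, m2, m3, -, -, -, n1, n2, n3, n4, n5, n6, -⟩ := s_m
  obtain ⟨c, hc, H⟩ := h.cls
  obtain ⟨a1, a2, a3, a4⟩ := d_al c hc
  have hJ := h.mono JC
  obtain ⟨μ, e0⟩ : ∃ μ : Perm (Fin 9) → G, ∀ j, μ j = κ (al c j) := ⟨_, fun _ => rfl⟩
  have hμ : Emb J0 μ := ⟨fun ha hb => by
    rw [e0, e0, e0, (a2 _ hb).2.2.2.1 _ ha, hJ.mul (a2 _ ha).1 (a2 _ hb).1],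
    fun ha e => (a2 _ ha).2.1 (hJ.inj (a2 _ ha).1 (e0 _ ▸ e))⟩
  refine ⟨_, hμ, le_antisymm (fun g hg => ?_) (fun g hg => ?_), by rw [e0, a1], fun p hp j hj => by
    rw [e0, e0, (a2 j hj).2.2.2.2 p hp, h.conj (d_S3 p hp).2 (JC (a2 j hj).1)], fun n hn => ?_⟩
  · obtain ⟨j, hj, rfl⟩ := hμ.ex hg
    exact e0 j ▸ mem_im κ (a2 j hj).1
  · obtain ⟨j, hj, rfl⟩ := hJ.ex hg
    obtain ⟨i, hi, rfl⟩ := (a2 j hj).2.2.1
    exact e0 i ▸ mem_im μ hi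
  have k : ∀ a, IsE a → ∃ b ∈ J0, b.support.card = 3 ∧ n * μ a * n⁻¹ = μ b := fun a ha => by
    obtain ⟨v, hv, e⟩ := a3 a ha
    obtain ⟨v', hv', e'⟩ := H n hn v hv
    obtain ⟨b, hb, e1', e2'⟩ := a4 v' hv'
    exact ⟨b, hb, e1', by rw [e0, e0, e, e', e2']⟩
  have d : ∀ {a a' b b'}, a ∈ J0 → a' ∈ J0 → b ∈ J0 → n * μ a * n⁻¹ = μ b →
      n * μ a' * n⁻¹ = μ b' → (a' ≠ a → b' ≠ b) ∧ (a' ≠ a⁻¹ → b' ≠ b⁻¹) :=
    fun ha ha' hb e e' => ⟨fun h1 h2 => h1 ((hμ.eq_iff ha' ha).mp (by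
      rw [h2, ← e] at e'; simpa using e')), fun h1 h2 => h1 ((hμ.eq_iff ha' (inv_mem ha)).mp (by
      rw [h2, hμ.inv hb, ← e, conj_inv] at e'; simpa [hμ.inv ha] using e'))⟩
  obtain ⟨b1, p1, q1, r1⟩ := k _ (Or.inl rfl)
  obtain ⟨b2, p2, q2, r2⟩ := k _ (Or.inr (Or.inl rfl))
  obtain ⟨b3, p3, q3, r3⟩ := k _ (Or.inr (Or.inr rfl))
  obtain ⟨s, hs, t1', t2', t3'⟩ := d_sY _ p1 q1 _ p2 q2 ((d m1 m2 p1 r1 r2).1 n1)
    ((d m1 m2 p1 r1 r2).2 n2) _ p3 q3 ((d m1 m3 p1 r1 r3).1 n3) ((d m1 m3 p1 r1 r3).2 n4)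
    ((d m2 m3 p2 r2 r3).1 n5) ((d m2 m3 p2 r2 r3).2 n6)
  refine ⟨s, hs, fun j hj => ?_⟩
  obtain ⟨v, -, rfl⟩ := (d_J j hj).2.2.2.2.1
  rw [E, hμ.tri m1 m2 m3, ← conj_mul, ← conj_mul, ← conj_mul, ← conj_mul]
  simp only [← conj_pow]
  rw [t1', t2', t3', hμ.tri p1 p2 p3, r1, r2, r3]

theorem loc : ∃ H φ, (H = C9 ∨ H = H2 ∨ H = H4 ∨ H = M) ∧ Loc H φ ∧ im φ J0 = im κ J0 := by
  have : Fact (Nat.Prime 2) := ⟨Nat.prime_two⟩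
  obtain ⟨μ, hμ, eJ, ex, hS, act⟩ := h.lam
  obtain ⟨m1, m2, m3, -⟩ := s_m
  obtain ⟨a1, a2, a3, a4, -, -, -, -, -, -, -, -, -, -, -, -, a17, a18, a19, -, a21, -, a23, a24⟩ :=
    d_m
  obtain ⟨f1, f2⟩ := f_D
  have cY := fun {s} hs => (d_Y s hs).2.1
  let Δ : Subgroup (G × Perm (Fin 9)) :=
    { carrier := {p | p.2 ∈ Y ∧ ∀ j ∈ J0, p.1 * μ j * p.1⁻¹ = μ (p.2 * j * p.2⁻¹)}
      mul_mem' := fun {a b} ha hb => ⟨mul_mem ha.1 hb.1, fun j hj => by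
        have := ha.2 _ (cY hb.1 j hj)
        rw [← hb.2 j hj] at this
        simpa [mul_assoc] using this⟩
      one_mem' := ⟨one_mem _, by simp⟩
      inv_mem' := fun {a} ha => ⟨inv_mem ha.1, fun j hj => by
        have := ha.2 _ (cY (inv_mem ha.1) j hj)
        rw [show a.2 * (a.2⁻¹ * j * a.2⁻¹⁻¹) * a.2⁻¹ = j by group] at this
        simp [← this, mul_assoc]⟩ }
  have mJ : ∀ {j}, j ∈ J0 → μ j ∈ im κ J0 := fun hj => eJ ▸ mem_im μ hj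
  have exJ : ∀ {g}, g ∈ im κ J0 → ∃ j ∈ J0, μ j = g := fun hg => hμ.ex (eJ ▸ hg)
  have ΔN : ∀ {n s}, (n, s) ∈ Δ → n ∈ normalizer (im κ J0 : Set G) := fun e =>
    mem_normalizer_of_conj_mem (fun g hg => by
      obtain ⟨j, hj, rfl⟩ := exJ hg
      exact e.2 j hj ▸ mJ (cY e.1 j hj))
  have Δ1 : ∀ {n}, (n, 1) ∈ Δ ↔ n ∈ im κ J0 := fun {n} => ⟨fun e => by
    have c : ∀ g ∈ im κ J0, n * g = g * n := fun g hg => by
      obtain ⟨j, hj, rfl⟩ := exJ hg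
      exact conj_eq_iff.mp (by simpa using e.2 j hj)
    obtain ⟨k, hk, rfl⟩ := h.ex (h.cx n (c _ (mem_im κ a4)))
    exact mem_im κ ((s_C k hk).2 ((h.comm hk a3).mp (c _ (mem_im κ m1)))
      ((h.comm hk (JC m2)).mp (c _ (mem_im κ m2)))), fun e => ⟨one_mem _, fun j hj => by
    simpa [conj_eq_iff] using h.abJ _ e _ (mJ hj)⟩⟩
  have Δ2 : ∀ {s}, (1, s) ∈ Δ → s = 1 := fun {s} e => by
    have c := fun j hj => (hμ.eq_iff (cY e.1 j hj) hj).mp (by simpa using (e.2 j hj).symm)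
    exact (f1 s e.1).2.2 (c _ m1) (c _ m2) (c _ m3)
  have ΔS : ∀ {p}, p ∈ S3 → (κ p, p) ∈ Δ := fun hp => ⟨(d_S3 _ hp).1, hS _ hp⟩
  have CN : im κ C9 ≤ normalizer (im κ J0 : Set G) := fun g hg => by
    obtain ⟨k, hk, rfl⟩ := h.ex hg
    exact h.rangeN hk
  let Q := (Δ ⊓ Dg.comap (MonoidHom.snd _ _)).map (MonoidHom.fst _ _)
  have mQ : ∀ {q}, q ∈ Q ↔ ∃ d ∈ Dg, (q, d) ∈ Δ :=
    ⟨by rintro ⟨⟨q, d⟩, e, rfl⟩; exact ⟨d, e.2, e.1⟩, fun ⟨d, h1, h2⟩ => ⟨(_, d), ⟨h2, h1⟩, rfl⟩⟩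
  have QN : Q ≤ normalizer (im κ J0 : Set G) := fun q hq => (mQ.mp hq).elim (fun _ e => ΔN e.2)
  by_cases hQ : Q ≤ im κ J0
  · refine ⟨C9, κ, Or.inl rfl, ⟨h.toEmb, le_rfl, CM, fun n hn => ?_, h.cx, h.sig⟩, rfl⟩
    obtain ⟨s, hs⟩ := act n hn
    obtain ⟨p, hp, e⟩ := (f1 s hs.1).2.1
    simpa using mul_mem (inv_mem (mem_im κ (d_S3 p hp).2)) (im_mono κ JC (hQ (mQ.mpr
      ⟨_, e, mul_mem (ΔS hp) (show (n, s) ∈ Δ from hs)⟩)))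
  obtain ⟨V, hV⟩ := exists_isSylowIn 2 Q
  have QV : ∀ {q}, q ∈ Q → ∃ v ∈ V, v⁻¹ * q ∈ im κ J0 := hV.exists_mul QN (fun a ha ho => by
    obtain ⟨d, hd, e⟩ := mQ.mp ha
    exact mem_of_odd (Nat.coprime_two_right.mp ho) (Δ1.mp ((f2 d hd).1 ▸ mul_mem e e)))
  have VJ : ∀ {v}, v ∈ V → v ∈ im κ J0 → v = 1 := fun hv hj => by
    obtain ⟨j, hj', rfl⟩ := exJ hj
    exact eq_one_of_mem_pgroup_of_coprime hV.isPGroup hv (Nat.Coprime.coprime_dvd_left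
      (orderOf_dvd_of_pow_eq_one ((hμ.pow_eq_one hj').mpr (d_J j hj').1)) (by norm_num))
  have fr : ∀ {n s}, (n, s) ∈ Δ → ∃ j ∈ J0, ∃ y ∈ normalizer (V : Set G), (y, s) ∈ Δ ∧
      n = μ j * y := fun {n s} e => by
    obtain ⟨l, hl, e1⟩ := hV.frattini (g := n) (mem_normalizer_of_conj_mem (fun q hq => by
      obtain ⟨d, hd, e'⟩ := mQ.mp hq
      exact mQ.mpr ⟨_, (f1 s e.1).1 d hd, mul_mem (mul_mem e e') (inv_mem e)⟩))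
    obtain ⟨v, hv, e2⟩ := QV hl
    obtain ⟨j, hj, e3'⟩ := exJ (inv_mem e2)
    exact ⟨j, hj, v⁻¹ * (l * n), mul_mem (inv_mem (le_normalizer hv)) e1,
      by simpa [mul_assoc] using mul_mem (Δ1.mpr e2) e, by rw [e3']; group⟩
  have YJ : ∀ {j}, j ∈ J0 → μ j ∈ normalizer (V : Set G) → j = 1 := fun {j} hj e => by
    refine ((d_J j hj).2.2.2.2.2.2.2.resolve_right (fun ⟨a, e1, e2⟩ => hQ (fun q hq => ?_)))
    obtain ⟨-, -, y, hy, e3', -⟩ := fr (ΔS a18)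
    have k1 := e3'.2 j hj ▸ mul_mem (mul_mem hy e) (inv_mem hy)
    have k2 := (inv_mem e3').2 j hj ▸ mul_mem (mul_mem (inv_mem hy) e) (inv_mem (inv_mem hy))
    have j1 := cY e3'.1 j hj
    have j2 := cY (inv_mem e3'.1) j hj
    have k3 : μ a ∈ normalizer (V : Set G) := by
      rcases e1 with rfl | rfl | rfl
      · exact e
      · rw [hμ.mul (inv_mem hj) j1, hμ.inv hj]
        exact mul_mem (inv_mem e) k1
      · rw [hμ.mul (mul_mem hj j1) j2, hμ.mul hj j1]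
        exact mul_mem (mul_mem e k1) k2
    have k4 : μ x3 ∈ normalizer (V : Set G) := by
      rcases e2 with rfl | rfl
      · exact k3
      · rwa [hμ.inv a4, inv_mem_iff] at k3
    obtain ⟨v, hv, e4⟩ := QV hq
    obtain ⟨d, hd, e5⟩ := mQ.mp (hV.le hv)
    have k5 := VJ (v := v * μ x3 * v⁻¹ * (μ x3)⁻¹) (by
      simpa [mul_assoc] using mul_mem hv (conj_mem_of_mem_normalizer k4 (inv_mem hv)))
      (mul_mem (conj_mem_of_mem_normalizer (ΔN e5) (mJ a4)) (inv_mem (mJ a4)))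
    rw [mul_inv_eq_one, e5.2 _ a4, hμ.eq_iff (cY e5.1 _ a4) a4] at k5
    rw [(f2 d hd).2 k5] at e5
    simpa using mul_mem (Δ1.mp e5) e4
  let Γ : Subgroup (G × Perm (Fin 9)) :=
    { carrier := {p | ∃ j ∈ J0, ∃ y ∈ normalizer (V : Set G), ∃ s, (y, s) ∈ Δ ∧
        p = (μ j * y, j * s)}
      mul_mem' := by
        rintro _ _ ⟨j, hj, y, hy, s, e, rfl⟩ ⟨j', hj', y', hy', s', e', rfl⟩
        refine ⟨j * (s * j' * s⁻¹), mul_mem hj (cY e.1 _ hj'), y * y', mul_mem hy hy', s * s',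
          mul_mem e e', ?_⟩
        rw [hμ.mul hj (cY e.1 _ hj'), ← e.2 _ hj']
        simp [mul_assoc]
      one_mem' := ⟨1, one_mem _, 1, one_mem _, 1, one_mem _, Prod.ext (by simp [hμ.one]) (by simp)⟩
      inv_mem' := by
        rintro _ ⟨j, hj, y, hy, s, e, rfl⟩
        refine ⟨s⁻¹ * j⁻¹ * s⁻¹⁻¹, cY (inv_mem e.1) _ (inv_mem hj), y⁻¹, inv_mem hy, s⁻¹,
          inv_mem e, ?_⟩
        rw [← show _ = μ (s⁻¹ * j⁻¹ * s⁻¹⁻¹) from (inv_mem e).2 _ (inv_mem hj), hμ.inv hj]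
        simp [mul_assoc] }
  obtain ⟨φ, hφ, eφ⟩ := exists_emb_of_graph Γ (by
    rintro g ⟨j, hj, y, hy, s, e, e'⟩
    obtain ⟨rfl, e2⟩ := Prod.ext_iff.mp e'
    obtain rfl := (d_J j hj).2.2.2.2.2.2.1 (eq_inv_of_mul_eq_one_left e2.symm ▸ inv_mem e.1)
    obtain rfl : s = 1 := by simpa using e2.symm
    obtain ⟨i, hi, rfl⟩ := exJ (Δ1.mp e)
    simp [YJ hi hy, hμ.one]) (by
    rintro m ⟨j, hj, y, hy, s, e, e'⟩
    obtain ⟨e2, rfl⟩ := Prod.ext_iff.mp e'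
    obtain rfl := YJ hj (eq_inv_of_mul_eq_one_left e2.symm ▸ inv_mem hy)
    obtain rfl : y = 1 := by simpa [hμ.one] using e2.symm
    simp [Δ2 e])
  set H := Γ.map (MonoidHom.snd _ _)
  have mH : ∀ {j y s}, j ∈ J0 → y ∈ normalizer (V : Set G) → (y, s) ∈ Δ →
      j * s ∈ H ∧ φ (j * s) = μ j * y := fun {j y s} hj hy e =>
    ⟨⟨_, ⟨j, hj, y, hy, s, e, rfl⟩, rfl⟩, eφ _ _ ⟨j, hj, y, hy, s, e, rfl⟩⟩
  have JH := fun j (hj : j ∈ J0) => mH hj (one_mem _) (one_mem Δ)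
  simp only [mul_one] at JH
  have SH : S3 ≤ H := fun p hp => by
    obtain ⟨-, -, y, hy, e, -⟩ := fr (ΔS hp)
    simpa using (mH (one_mem _) hy e).1
  have gH : ∀ {c}, dec 9 c ∈ H → cl 9 [nat_lit 0x876543021, nat_lit 0x210876543,
      nat_lit 0x876210543, c] ≤ H := fun hc => cl_le (by
    simp only [List.mem_cons, List.not_mem_nil, or_false]
    rintro c (rfl | rfl | rfl | rfl)
    exacts [(JH _ m1).1, SH a18, SH a19, hc])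
  have CH : C9 ≤ H := cl_le (by
    simp only [gC9, List.mem_cons, List.not_mem_nil, or_false]
    rintro c (rfl | rfl | rfl)
    exacts [(JH _ m1).1, SH a18, SH a19])
  have HL : ∀ {L}, C9 ≤ L → (z ∈ H → z ∈ L) → (w ∈ H → w ∈ L) → (t1 ∈ H → t1 ∈ L) → H ≤ L :=
    fun {L} hL h1 h2 h3 => by
      rintro _ ⟨_, ⟨j, hj, y, hy, s, e, rfl⟩, rfl⟩
      obtain ⟨p, hp, q, hq, e'⟩ := (d_Y s e.1).2.2.2.2.2
      have h4 := mul_mem (mul_mem (SH hp) (by simpa using (mH (one_mem _) hy e).1)) (SH hq)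
      have h5 : p * s * q ∈ L := by
        rcases e' with e' | e' | e' | e' <;> rw [e'] at h4 ⊢
        exacts [one_mem _, h1 h4, h2 h4, h3 h4]
      exact mul_mem (hL (JC hj)) (by simpa [mul_assoc] using mul_mem (mul_mem
        (inv_mem (hL (d_S3 p hp).2)) h5) (inv_mem (hL (d_S3 q hq).2)))
  have HM : H ≤ M := by
    rintro _ ⟨_, ⟨j, hj, y, hy, s, e, rfl⟩, rfl⟩
    exact mul_mem (CM (JC hj)) (YM e.1)
  have eJ' : im φ J0 = im κ J0 := (im_congr (fun j hj => (JH j hj).2)).trans eJ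
  have NH : normalizer (im κ J0 : Set G) ≤ im φ H := fun n hn => by
    obtain ⟨s, hs⟩ := act n hn
    obtain ⟨j, hj, y, hy, e, rfl⟩ := fr (show (n, s) ∈ Δ from hs)
    exact (mH hj hy e).2 ▸ mem_im φ (mH hj hy e).1
  refine ⟨H, φ, ?_, ⟨hφ, CH, HM, eJ' ▸ NH, fun g hg => NH (CN (h.cx g (by
    rwa [(JH _ a4).2, ex] at hg))), eJ' ▸ h.sig⟩, eJ'⟩
  by_cases b1 : t1 ∈ H
  · exact Or.inr (Or.inr (Or.inr (le_antisymm HM (gH b1))))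
  by_cases b2 : w ∈ H <;> by_cases b3 : z ∈ H
  · exact absurd (a17 ▸ mul_mem (mul_mem (CH a1) (mul_mem b2 b3)) (inv_mem (CH a1))) b1
  · exact Or.inr (Or.inr (Or.inl (le_antisymm
      (HL C4 (absurd · b3) (fun _ => a23) (absurd · b1)) (gH b2))))
  · exact Or.inr (Or.inl (le_antisymm (HL C2 (fun _ => a24) (absurd · b2) (absurd · b1)) (gH b3)))
  · exact Or.inl (le_antisymm (HL le_rfl (absurd · b3) (absurd · b2) (absurd · b1)) CH)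

theorem main : (im κ J0).Normal ∨ Nonempty (G ≃* Perm (Fin 9)) := by
  obtain ⟨H, φ, hH, h1, h2⟩ := h.loc
  refine Or.imp_left (fun e : im φ H = ⊤ => normalizer_eq_top_iff.mp
    (eq_top_iff.mpr (h2 ▸ e ▸ h1.rangeN))) ?_
  rcases hH with rfl | rfl | rfl | rfl
  exacts [Or.inl h1.top1, Or.inl h1.top2, Or.inl h1.top4, h1.main8]

end Pre

end Cfsg.Agent.H1.S9
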