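import Cfsg.Agent.H1.S9K8

/-!
# Three-local recognition of `S_9`: a subgroup of index two
-/

set_option autoImplicit false

namespace Cfsg.Agent.H1.S9

open Subgroup Cfsg.Agent.H9 Cfsg.Agent.H1.T3 Cfsg.Agent.H1.PC Cfsg.Agent.L0.SC3 Equiv
open Cfsg.Agent.L0.Code
open Cfsg.Agent.H1.A9K (h9 J0 hJ0 S0 hS0)
open scoped Pointwise

universe v

variable {G : Type v} [Group G] [Finite G] {φ : Perm (Fin 9) → G}

theorem Loc.ctau (h : Loc M φ) {K C : Subgroup (Perm (Fin 9))} {LA : List ℕ}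
    (top : ∀ {X : Type v} [Group X] [Finite X] {ι : K →* X}, GA.Hyp LA LA ι → ι.range = ⊤)
    (hE : Emb C φ) (h72 : C72 ≤ C)
    (T : (∀ a ∈ K, a ∈ C ∧ a ≠ ta ∧ (enc a ∈ LA ↔ a ^ 3 = 1 ∧ a ≠ 1) ∧
      (a ^ 3 = 1 → ∃ k ∈ K, k * a * k⁻¹ ∈ J0)) ∧ ∀ c ∈ C, c * ta = ta * c ∧ (c ∈ K ∨ c * ta ∈ K))
    (h3 : ∀ g, g * φ e3 = φ e3 * g → g * φ ta = φ ta * g → g ∈ im φ C) :
    centralizer {φ ta} = im φ C := by
  obtain ⟨T1, T2⟩ := T
  obtain ⟨i1, -, -, -, -, i6, -, i8, -, -, -, -, -, -, -, -, -, i18, i19, i20, -⟩ := n_i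
  have m3 := s_m.2.2.1
  have hK : K ≤ C := fun a ha => (T1 a ha).1
  have tC := h72 i20
  have t2 := (h.sq_eq_one i8).mpr i1
  have cC : ∀ {c}, c ∈ C → φ c ∈ centralizer ({φ ta} : Set G) := fun hc =>
    T3.mem_cent.mpr ((hE.comm hc tC).mpr (T2 _ hc).1)
  have key : ∀ a ∈ J0, ∀ b ∈ J0, a ≠ 1 → a ∈ C → b ∈ C → ∀ g ∈ centralizer ({φ ta} : Set G),
      g * φ a * g⁻¹ = φ b → g ∈ im φ C := fun a ha b hb a1 ha' hb' g hg e => by
    rcases (n_D b hb).2.2 with rfl | e1 | ⟨k, hk, e1⟩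
    · exact absurd (e.trans h.one) (conj_ne_one (h.ne (h.JH ha) a1))
    · obtain ⟨k, -, e2⟩ := h.fuse1 ha hb (e ▸ isConj_mk g _)
      have e3' := (n_D a ha).2.1 (by rw [← e1, ← conj_eq_iff.mpr e2, Perm.card_support_conj])
        (T2 a ha').1
      have e4 : g * φ e3 * g⁻¹ = φ e3 ∨ g * φ e3 * g⁻¹ = (φ e3)⁻¹ := by
        rcases e3' with rfl | rfl <;> rcases (n_D b hb).2.1 e1 (T2 b hb').1 with rfl | rfl
        · exact Or.inl e
        · exact Or.inr (h.inv (h.JH m3) ▸ e)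
        · exact Or.inr (by rwa [h.inv (h.JH m3), ← conj_inv, inv_eq_iff_eq_inv] at e)
        · exact Or.inl (by rwa [h.inv (h.JH m3), ← conj_inv, inv_inj] at e)
      rcases e4 with e4 | e4
      · exact h3 g (conj_eq_iff.mp e4) (T3.mem_cent.mp hg)
      have e5 := h.cj (C72M i19) (h.JH m3) n_m.2.2.2.2.2.2.2.2.2.2.2.2.2.2.2.2.2.2.2.2.2.2.2.2.2.2.2.2.2.1
      rw [h.inv (h.JH m3)] at e5
      simpa using mul_mem (h3 (g * φ t3) (by
        rw [← conj_eq_iff, show g * φ t3 * φ e3 * (g * φ t3)⁻¹ =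
          g * (φ t3 * φ e3 * (φ t3)⁻¹) * g⁻¹ by group, e5, ← conj_inv, e4, inv_inv])
        (T3.mem_cent.mp (mul_mem hg (cC (h72 i19))))) (inv_mem (mem_im φ (h72 i19)))
    · obtain ⟨m, hm, rfl⟩ := h.ex (h.wc2 (g := g) (e1.elim (fun e1 => h.ctr (YM hk) (h.JH hb) e1 h.cx)
        (fun e1 => h.ctr (YM hk) (h.JH hb) e1 h.cy)) (by
          rw [← e]; simpa [mul_assoc] using mem_im φ ha))
      exact mem_im φ (h72 ((n_3 m hm).2.2 ((h.comm hm i8).mp (T3.mem_cent.mp hg))))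
  refine le_antisymm (fun g hg => ?_) (fun g hg => by
    obtain ⟨c, hc, rfl⟩ := hE.ex hg
    exact cC hc)
  obtain ⟨k, hk⟩ := quot_top top (fun a => by
      simpa only [Subtype.ext_iff, ne_eq, coe_pow, coe_one] using (T1 a a.2).2.2.1)
    (hE.mono hK).hom (L := centralizer {φ ta}) (Z := zpowers (φ ta))
    (le_normalizer_of_cent (by
      rintro g hg _ ⟨n, rfl⟩
      exact (Commute.zpow_right (T3.mem_cent.mp hg) n).eq)) (fun a => cC (hK a.2))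
    (fun a ha => Subtype.ext (((hE.mem_zp2 tC (hK a.2) i1).mp ha).resolve_right (T1 a a.2).2.1))
    (fun a b a3 a1 b3 g hg e => by
      have a3' : (a : Perm (Fin 9)) ^ 3 = 1 := congrArg Subtype.val a3
      have b3' : (b : Perm (Fin 9)) ^ 3 = 1 := congrArg Subtype.val b3
      have e' : g * φ a * g⁻¹ = φ b := by
        rcases (mem_zpowers_two t2).mp e with e | e
        · exact mul_inv_eq_one.mp e
        have e1 := conj_cube (g := g) ((hE.pow_eq_one (hK a.2)).mpr a3')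
        rw [show g * φ a * g⁻¹ = φ ta * φ b from mul_inv_eq_iff_eq_mul.mp e,
          Commute.mul_pow (T3.mem_cent.mp (cC (hK b.2))).symm, (hE.pow_eq_one (hK b.2)).mpr b3',
          mul_one] at e1
        exact absurd (two_ne_three e1 t2) (h.ne i8 i6)
      obtain ⟨k, hk, ka⟩ := (T1 a a.2).2.2.2 a3'
      obtain ⟨l, hl, lb⟩ := (T1 b b.2).2.2.2 b3'
      have h1 := key _ ka _ lb (conj_ne_one (fun e => a1 (Subtype.ext e)))
        (hK (mul_mem (mul_mem hk a.2) (inv_mem hk))) (hK (mul_mem (mul_mem hl b.2) (inv_mem hl)))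
        (φ l * g * (φ k)⁻¹) (mul_mem (mul_mem (cC (hK hl)) hg) (inv_mem (cC (hK hk)))) (by
          rw [hE.conj (hK hk) (hK a.2), hE.conj (hK hl) (hK b.2), ← e']; group)
      obtain ⟨c, hc, rfl⟩ := hE.ex (show g ∈ im φ C by
        simpa [mul_assoc] using mul_mem (mul_mem (inv_mem (mem_im φ (hK hl))) h1)
          (mem_im φ (hK hk)))
      rcases (T2 c hc).2 with e | e
      · exact ⟨⟨c, e⟩, by simp [Emb.hom_apply]⟩
      · exact ⟨⟨_, e⟩, by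
          change φ c * (φ (c * ta))⁻¹ ∈ _
          rw [hE.mul hc tC, mul_inv_rev, ← mul_assoc,
            conj_eq_iff.mpr (Commute.inv_right (T3.mem_cent.mp (cC hc))).eq]
          simp⟩) g hg
  simpa [Emb.hom_apply] using mul_mem (zpowers_le_of_mem (mem_im φ tC) hk) (mem_im φ (hK k.2))

theorem Loc.nc (h : Loc M φ)
    (hw : ∀ g, g * φ e3 = φ e3 * g → g * φ w = φ w * g → g ^ 4 ∈ zpowers (φ e3)) {b : G}
    (hb : 9 ∣ Nat.card (centralizer ({b} : Set G))) : ¬ IsConj (φ w) b ∧ ¬ IsConj (φ tp) b := by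
  obtain ⟨-, -, -, -, -, -, -, -, i9, i10, -, -, -, i14, i15, -⟩ := n_i
  obtain ⟨-, -, -, -, m5, -, -, -, m9, -, m11, -⟩ := d_m
  have m3 := s_m.2.2.1
  refine ⟨fun e => not_nine' (T3.mem_cent.mpr ((h.comm (h.JH m3) i9).mpr i14)) (h.cube m3)
    (h.ne (h.JH m3) m11) (fun g hg e => hw g e (T3.mem_cent.mp hg)) (card_cent_conj e ▸ hb),
    fun e => not_nine' (T3.mem_cent.mpr ((h.comm (h.JH m5) i10).mpr i15)) (h.cube m5)
    (h.ne (h.JH m5) m9) (fun g hg e => ?_) (card_cent_conj e ▸ hb)⟩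
  obtain ⟨k, hk, rfl⟩ := h.ex (h.cy g e)
  rw [← h.pow hk, h.mem_zp3 (h.JH m5) (pow_mem hk 4) (d_J y m5).1]
  exact (n_3 k hk).2.1 ((h.comm hk (h.JH m5)).mp e) ((h.comm hk i10).mp (T3.mem_cent.mp hg))

theorem Loc.nine (h : Loc M φ) : 9 ∣ Nat.card (centralizer ({φ t3} : Set G)) :=
  Dvd.dvd.trans (by rw [card_W72]; norm_num) ((h.mono W72M).dvd_cent (fun k hk =>
    (h.comm (W72M hk) d_m.2.2.2.2.2.2.2.2.2.2.2.2.2.2.2.2.2.2.2.2.2.1).mpr
      (n_W k (W72W hk)).2.2.2.1))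

theorem Loc.trTI (h : Loc M φ) (he : ∀ g, g * φ e3 = φ e3 * g → g ∈ im φ M) :
    ∃ N, Idx2 N ⊤ ∧ φ ta ∉ N ∧ φ t3 ∉ N := by
  obtain ⟨i1, i2, -, -, -, i6, i7, i8, i9, -, i11, -, -, -, -, -, -, -, i19, -, i21, -⟩ := n_i
  obtain ⟨T1, T2, T3'⟩ := n_T
  have m3 := h.JH s_m.2.2.1
  have t3M := C72M i19
  have hC := h.ctau (fun H => V4c.top H) (h.mono C72M) le_rfl n_Kc (fun g h1 h2 => by
    obtain ⟨k, hk, rfl⟩ := h.ex (he g h1)
    exact mem_im φ ((n_3 k hk).2.2 ((h.comm hk i8).mp h2)))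
  have hc : Nat.card (centralizer ({φ ta} : Set G)) = 72 := by
    rw [hC, (h.mono C72M).card, card_C72]
  have nc := fun {b} => h.nc (b := b) (fun g h1 h2 => by
    obtain ⟨k, hk, rfl⟩ := h.ex (he g h1)
    rw [← h.pow hk, h.mem_zp3 m3 (pow_mem hk 4) (d_J e3 s_m.2.2.1).1]
    exact ((n_3 k hk).1 ((h.comm hk m3).mp h1)).2.2.2 ((h.comm hk i9).mp h2))
  have TM : T16 ≤ M := fun r hr => YM (T1 r hr).1
  have n16 : ∀ {a}, a ∈ M → (∀ r ∈ T16, r * a = a * r) → ¬ IsConj (φ a) (φ ta) := fun ha e e' => by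
    have := (h.mono TM).dvd_cent (fun k hk => (h.comm (TM hk) ha).mpr (e k hk))
    rw [card_cent_conj e', hc, card_T16] at this
    omega
  have n9 := nc (b := φ ta) (by rw [hc]; norm_num)
  have t2 := (h.sq_eq_one i8).mpr i1
  have hT : IsSylowIn 2 (im φ T16) ⊤ := sylow_via le_top
    (IsPGroup.of_card (n := 4) ((h.mono TM).card.trans card_T16)) (mem_im φ i21) (fun g hg => by
      obtain ⟨r, hr, e⟩ := (h.mono TM).ex hg
      have e1 : IsConj (φ r) (φ ta) := e ▸ (isConj_mk g _).symm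
      rcases (T1 r hr).2.2.2 ((h.sq_eq_one (TM hr)).mp (e ▸ T3.conj_sq t2)) with
        rfl | ⟨k, hk, e'⟩ | ⟨l, hl, e'⟩
      · exact absurd (e.symm.trans h.one) (conj_ne_one (h.ne i8 i6))
      · rcases e' with e' | e' | e' | e' <;>
          have e2 := (h.isConj (YM hk) (TM hr) e').symm.trans e1
        exacts [absurd e2 (n16 t3M (fun r hr => (T1 r hr).2.1)),
          absurd e2 (n16 i11 (fun r hr => (T1 r hr).2.2.1)), absurd e2 n9.1, absurd e2 n9.2]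
      · exact ⟨φ l, mem_im φ hl, by rw [← e, ← h.conj (TM hl) (TM hr), e']⟩)
    (im_mono φ (fun r hr => (T3' r hr).1)) (isSylowIn_of_card (k := 3) (P := im φ R8)
      (le_inf le_top (fun g hg => by
        obtain ⟨r, hr, rfl⟩ := (h.mono (fun r hr => TM (T3' r hr).1)).ex hg
        exact T3.mem_cent.mpr ((h.comm (TM (T3' r hr).1) i8).mpr (T3' r hr).2)))
      ((h.mono (fun r hr => TM (T3' r hr).1)).card.trans card_R8) (by rw [top_inf_eq, hc]; norm_num))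
  obtain ⟨N, h1, h2⟩ := (h.mono TM).thompson (fun a ha => (T2 a ha).1) hT
    (by rw [card_T16, card_A8])
  have k : ∀ {b}, ¬ IsConj (φ w) b ∧ ¬ IsConj (φ tp) b →
      ∀ a ∈ A8, a * a = 1 → a ≠ 1 → ¬ IsConj (φ a) b := fun hb a ha a2 a1 e => by
    obtain ⟨k, hk, e' | e'⟩ := ((T2 a ha).2 a2).resolve_left a1 <;>
      have e2 := (h.isConj (YM hk) (TM (T2 a ha).1) e').symm.trans e
    exacts [hb.1 e2, hb.2 e2]
  exact ⟨N, h1, h2 _ t2 (h.ne i8 i6) (k n9),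
    h2 _ ((h.sq_eq_one t3M).mpr i2) (h.ne t3M i7) (k (nc h.nine))⟩

theorem Big.tr {B : Subgroup (Perm (Fin 9))} (h : Big B φ) :
    ∃ N, Idx2 N ⊤ ∧ φ ta ∉ N ∧ φ t3 ∉ N := by
  obtain ⟨i1, i2, -, -, -, i6, i7, i8, i9, -, -, i12, i13, i14, -, i16, i17, -, i19, i20, -, i22,
    i23, i24, i25, i26, i27, i28, i29, i30, i31, p1, p2, p3, p4, d1, d2, d3, d4, d5, d6, i42, i43,
    i44⟩ := n_i
  obtain ⟨B1, B2, B3⟩ := n_B
  obtain ⟨R1, R2, R3⟩ := n_R
  obtain ⟨b1, b2, -⟩ := n_m.2.2.2.2.2.2.2.2.2.2.2.2.2.2.2.2.2.2.2.2.2.2.2.2.2.2.2.2.2.2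
  have hE := h.emb
  have m3 := s_m.2.2.1
  have t3M := C72M i19
  have t1M := d_m.2.2.2.2.2.2.2.2.2.2.2.2.2.2.2.2.2.2.2.2.1
  have BB : B288 ≤ B := cl_le (by
    simp only [gB288, List.mem_cons, List.not_mem_nil, or_false]
    rintro c (rfl | rfl | rfl | rfl | rfl | rfl)
    exacts [h.hW (hW6.memd le_rfl (by decide +kernel)), h.hW i43, h.hS b2, h.hS b1,
      h.hW (hW6.memd le_rfl (by decide +kernel)), h.hW i44])
  have ce : ∀ {a}, a ∈ W6 → e3 * a = a * e3 → ∀ g, g * φ e3 = φ e3 * g → g * φ a = φ a * g →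
      ∃ p ∈ W6, ∃ e, (e = 1 ∨ e = e3 ∨ e = e3⁻¹) ∧ p * a = a * p ∧ e ∈ zpowers e3 ∧
        g = φ (p * e) := fun {a} ha ea g h1 h2 => by
    obtain ⟨p, hp, e, he, rfl⟩ := h.ce g h1
    have h3 := (mem_zpowers_three (d_J e3 m3).1).mpr he
    have h4 : e * a = a * e := by
      obtain ⟨n, rfl⟩ := h3
      exact (Commute.zpow_left ea n).eq
    rw [hE.comm (mul_mem (h.hW hp) (h.hS (zpowers_le_of_mem b2 h3))) (h.hW ha), mul_assoc, h4,
      ← mul_assoc, ← mul_assoc, mul_left_inj] at h2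
    exact ⟨p, hp, e, he, h2, h3, rfl⟩
  have hC := h.ctau (fun H => V4d.top H) (hE.mono BB) C72B n_Kd (fun g h1 h2 => by
    obtain ⟨p, hp, e, -, e1, e2, rfl⟩ := ce i44 (n_W _ i44).2.2.2.2.1.symm g h1 h2
    exact mem_im φ (mul_mem ((n_W p hp).2.1 e1) (zpowers_le_of_mem i42 e2)))
  have hc : Nat.card (centralizer ({φ ta} : Set G)) = 288 := by
    rw [hC, (hE.mono BB).card, card_B288]
  have nc := fun {b} => h.nc (b := b) (fun g h1 h2 => by
    obtain ⟨p, hp, e, -, e1, e2, rfl⟩ := ce i43 i14 g h1 h2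
    have h3 : Commute p e := by
      obtain ⟨n, rfl⟩ := e2
      exact Commute.zpow_right (n_W p hp).2.2.2.2.1 n
    have h4 := h.hS (zpowers_le_of_mem b2 e2)
    rw [← hE.pow (mul_mem (h.hW hp) h4), h3.mul_pow, (n_W p hp).2.2.1 e1, one_mul,
      hE.mem_zp3 (h.hS b2) (pow_mem h4 4) (d_J e3 m3).1, ← mem_zpowers_three (d_J e3 m3).1]
    exact pow_mem e2 4)
  have n9 := nc (b := φ ta) (by rw [hc]; norm_num)
  have n9' := nc h.nine
  have nt : ¬ IsConj (φ t3) (φ ta) := fun e => by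
    have := (hE.mono h.hW).dvd_cent (fun k hk => (hE.comm (h.hW hk) (h.hS b1)).mpr
      (n_W k hk).2.2.2.1)
    rw [card_cent_conj e, hc, card_W6] at this
    omega
  have cj : ∀ {b a}, b ∈ B288 → Cj b a → IsConj (φ b) (φ a) := fun hb ⟨q, hq, p, hp, e⟩ =>
    hE.isConj (mul_mem (h.hW (B2 p hp)) (h.hS hq)) (BB hb) e
  have cl : ∀ b ∈ B288, b * b = 1 → b ≠ 1 → (b.support.card = 2 ∧ IsConj (φ b) (φ t3)) ∨
      (b.support.card = 6 ∧ SX b ∧ (IsConj (φ b) (φ ta) ∨ IsConj (φ b) (φ z))) ∨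
      (b.support.card ≠ 6 ∧ ¬ IsConj (φ b) (φ t3) ∧ ¬ IsConj (φ b) (φ ta)) := fun b hb b2 b1 => by
    rcases (B1 b hb b2).resolve_left b1 with ⟨e, e'⟩ | ⟨e, e'⟩ | ⟨e, e', e''⟩ | ⟨e, e'⟩
    · exact Or.inl ⟨e, e'.elim (fun e => (cj hb e).trans (h.isConj i13 t3M i16).symm) (cj hb)⟩
    · have := (e'.elim (cj hb) (fun e => (cj hb e).trans (h.isConj i13 i12 i17))).symm
      exact Or.inr (Or.inr ⟨by omega, fun e => n9'.1 (this.trans e), fun e => n9.1 (this.trans e)⟩)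
    · exact Or.inr (Or.inl ⟨e, e', e''.imp (cj hb) (cj hb)⟩)
    · have := (cj hb e').symm
      exact Or.inr (Or.inr ⟨by omega, fun e => n9'.2 (this.trans e), fun e => n9.2 (this.trans e)⟩)
  have RB : R32 ≤ B288 := fun r hr => (R1 r hr).1
  have hR := hE.mono (RB.trans BB)
  have t2 := (h.sq_eq_one i8).mpr i1
  have t2' := (h.sq_eq_one t3M).mpr i2
  by_cases hS : IsSylowIn 2 (im φ R32) ⊤
  · obtain ⟨N, h1, h2⟩ := hR.thompson (fun a ha => (R2 a ha).1) hS (by rw [card_R32, card_R16])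
    have k := fun a ha a2 a1 => ((cl a (RB (R2 a ha).1) a2 a1).resolve_left
      (fun e => ((R2 a ha).2 a2).1 e.1)).resolve_left (fun e => ((R2 a ha).2 a2).2 e.1)
    exact ⟨N, h1, h2 _ t2 (h.ne i8 i6) (fun a ha a2 a1 => (k a ha a2 a1).2.2),
      h2 _ t2' (h.ne t3M i7) (fun a ha a2 a1 => (k a ha a2 a1).2.1)⟩
  obtain ⟨g, hg, gt⟩ : ∃ g ∈ normalizer (im φ R32 : Set G), g ∉ centralizer ({φ ta} : Set G) := by
    by_contra hn
    push Not at hn
    exact hS (syl_of_norm (isSylowIn_of_card (k := 5) (hC ▸ im_mono φ RB) (hR.card.trans card_R32)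
      (by rw [hc]; norm_num)) (fun g hg => hn g hg.1) le_top)
  have cg : ∀ {a}, a ∈ R32 → a * a = 1 → a ≠ 1 → ∃ r ∈ R32, φ r = g * φ a * g⁻¹ ∧ r * r = 1 ∧
      r ≠ 1 ∧ IsConj (φ r) (φ a) := fun ha a2 a1 => by
    obtain ⟨r, hr, e⟩ := hR.ex (conj_mem_of_mem_normalizer hg (mem_im φ ha))
    exact ⟨r, hr, e, (hR.sq_eq_one hr).mp (e ▸ T3.conj_sq ((hR.sq_eq_one ha).mpr a2)),
      fun e' => conj_ne_one (hR.ne ha a1) (by rw [← e, e', hR.one]), e ▸ (isConj_mk g _).symm⟩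
  have zt : IsConj (φ z) (φ ta) := by
    obtain ⟨r, hr, e, r2, r1, e1⟩ := cg i27 i1 i6
    have c : ∀ a ∈ R32, r * a = a * r := fun a ha => (hR.comm hr ha).mp (by
      have := T3.mem_cent.mp ((hC ▸ im_mono φ RB : im φ R32 ≤ centralizer {φ ta})
        (conj_mem_of_mem_normalizer (inv_mem hg) (mem_im φ ha)))
      simpa [e, mul_assoc] using (conj_comm (g := g) this).symm)
    rcases cl r (RB hr) r2 r1 with e2 | e2 | e2
    · exact absurd (e2.2.symm.trans e1) nt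
    · rcases (R1 r hr).2.2.2 e2.1 r2 (c _ i28) (c _ i29) with rfl | rfl
      · exact absurd (T3.mem_cent.mpr (conj_eq_iff.mp e.symm)) gt
      · exact (hE.isConj (h.hW i24) (BB (RB hr)) i25).symm.trans e1
    · exact absurd e1 e2.2.2
  have gP : ∀ p, SP p → ∃ r, SP r ∧ φ r = g * φ p * g⁻¹ := fun p hp => by
    obtain ⟨q1, q2, q3, -⟩ := R3 p hp
    have p1 : p ≠ 1 := fun e => by simp [e] at q3
    obtain ⟨r, hr, e, r2, r1, e1⟩ := cg q1 q2 p1
    have e2 := e1.trans ((cl p (RB q1) q2 p1).resolve_right (fun e => e.elim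
      (fun e => by omega) (fun e => by
        have := (B1 p (RB q1) q2).resolve_left p1
        rcases this with ⟨-, e'⟩ | e' | e' | e'
        · exact e.2.1 (e'.elim (fun e => (cj (RB q1) e).trans (h.isConj i13 t3M i16).symm)
            (cj (RB q1)))
        all_goals omega))).2
    rcases cl r (RB hr) r2 r1 with e3 | e3 | e3
    · exact ⟨r, (R1 r hr).2.2.1 e3.1, e⟩
    · exact absurd (e2.symm.trans (e3.2.2.elim id (·.trans zt))) nt
    · exact absurd e2 e3.2.1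
  have hP : Nat.card (φ '' {p | SP p}) = 4 :=
    hR.card_list hSP (by decide +kernel) (fun p hp => (R3 p hp).1)
  have nP : ∀ {n}, (∀ p, SP p → ∃ r, SP r ∧ φ r = n * φ p * n⁻¹) →
      n ∈ normalizer (φ '' {p | SP p}) := fun e => mem_normalizer_fintype (by
    rintro _ ⟨p, hp, rfl⟩
    exact e p hp)
  have yP := nP (fun p hp => ⟨_, (R3 p hp).2.2.2.2.1, hE.conj (BB i30) (BB (RB (R3 p hp).1))⟩)
  have h1 := card_orbit (normalizer (φ '' {p | SP p})) (φ t3)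
  rw [show {s | ∃ n ∈ normalizer (φ '' {p | SP p}), n * φ t3 * n⁻¹ = s} = φ '' {p | SP p} from
    Set.ext (fun s => ⟨fun ⟨n, hn, e⟩ => e ▸ (hn _).mp ⟨t3, p4, rfl⟩, by
      rintro ⟨q, hq, rfl⟩
      obtain ⟨p, hp, e⟩ := gP t3 p4
      have pt : p ≠ t3 := fun e' => gt (by
        obtain ⟨r1, s1, u1⟩ := gP _ p1
        obtain ⟨r2, s2, u2⟩ := gP _ p2
        obtain ⟨r3, s3, u3⟩ := gP _ p3
        have n : ∀ {a b r s}, SP a → SP b → a ≠ b → φ r = g * φ a * g⁻¹ → φ s = g * φ b * g⁻¹ →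
            r ≠ s := fun ha hb hab e e' e'' => hab ((hR.eq_iff (R3 _ ha).1 (R3 _ hb).1).mp (by
          simpa [e'', e'] using e.symm))
        have := (((R3 r1 s1).2.2.2.2.2 (n p1 p4 d4 u1 (e' ▸ e)) r2 s2).2 (n p2 p4 d5 u2 (e' ▸ e))
          (n p1 p2 d1 u1 u2) r3 s3 (n p3 p4 d6 u3 (e' ▸ e)) (n p1 p3 d2 u1 u3) (n p2 p3 d3 u2 u3))
        have m : ∀ {a b c}, SP a → SP b → SP c → φ (a * b * c) = φ a * φ b * φ c :=
          fun ha hb hc => by
            rw [hR.mul (mul_mem (R3 _ ha).1 (R3 _ hb).1) (R3 _ hc).1, hR.mul (R3 _ ha).1 (R3 _ hb).1]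
        rw [T3.mem_cent, ← conj_eq_iff]
        conv_rhs => rw [← this, m s1 s2 s3, u1, u2, u3]
        rw [← i31, m p1 p2 p3]
        group)
      have mp := BB (RB (R3 p hp).1)
      have my := BB i30
      rcases ((R3 p hp).2.2.2.2.2 pt q hq).1 with rfl | rfl | rfl | rfl
      · exact ⟨1, one_mem _, by simp⟩
      · exact ⟨g, nP gP, e.symm⟩
      · exact ⟨φ y * g, mul_mem yP (nP gP), by rw [hE.conj my mp, e]; group⟩
      · exact ⟨φ y * (φ y * g), mul_mem yP (mul_mem yP (nP gP)), by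
          rw [hE.conj my (mul_mem (mul_mem my mp) (inv_mem my)), hE.conj my mp, e]; group⟩⟩),
    hP] at h1
  have h2 : 32 ∣ Nat.card (normalizer (φ '' {p | SP p}) ⊓ centralizer {φ t3} : Subgroup G) := by
    rw [← card_R32, ← hR.card]
    refine card_dvd_of_le (fun x hx => ?_)
    obtain ⟨r, hr, rfl⟩ := hR.ex hx
    exact ⟨nP (fun p hp => ⟨_, (R3 p hp).2.2.2.1 r hr, hR.conj hr (R3 p hp).1⟩),
      T3.mem_cent.mpr ((hR.comm hr (R3 _ p4).1).mpr (R1 r hr).2.1)⟩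
  have h3 := (h1 ▸ Nat.mul_dvd_mul_right h2 4).trans (card_subgroup_dvd_card _)
  have h4 := hc ▸ card_subgroup_dvd_card (centralizer ({φ ta} : Set G))
  obtain ⟨N, h5, h6⟩ := sign_class (a := φ ta) t2 (by rw [hc]; omega) (by
    rw [show {c | IsConj (φ ta) c ∧ φ ta * c = c * φ ta} = φ '' {p | SX p} from Set.ext (fun c =>
      ⟨fun ⟨e1, e2⟩ => by
        obtain ⟨b, hb, rfl⟩ := (hE.mono BB).ex (hC ▸ T3.mem_cent.mpr e2.symm)
        obtain ⟨k, hk⟩ := isConj_iff.mp e1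
        rcases cl b hb ((hE.sq_eq_one (BB hb)).mp (hk ▸ T3.conj_sq t2))
          (fun e => conj_ne_one (h.ne i8 i6) (by rw [hk, e, h.one])) with e | e | e
        exacts [absurd (e.2.symm.trans e1.symm) nt, ⟨b, e.2.1, rfl⟩, absurd e1.symm e.2.2], by
        rintro ⟨b, hb, rfl⟩
        obtain ⟨q1, q2, q3⟩ := B3 b hb
        refine ⟨?_, (T3.mem_cent.mp (hC ▸ mem_im φ q1)).symm⟩
        rcases cl b q1 q2 (fun e => by simp [e] at q3) with e | e | e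
        exacts [by omega, (e.2.2.elim id (·.trans zt)).symm, absurd q3 e.1]⟩),
      (hE.mono BB).card_list hSX (by decide +kernel) (fun p hp => (B3 p hp).1)]
    decide +kernel)
  refine ⟨N, h5, h6, fun e => h6 ?_⟩
  obtain ⟨k, hk⟩ := isConj_iff.mp zt
  rw [← hk, h5.conj (mem_top _) (mem_top _), i22, h.mul i9 t3M, i23,
    h.mul t1M (mul_mem (mul_mem i13 t1M) (inv_mem i13)), h.conj i13 t1M]
  exact mul_mem ((h5.mul _ (mem_top _) _ (mem_top _)).mpr (h5.conj (mem_top _) (mem_top _)).symm) e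

theorem Loc.tr (h : Loc M φ) : ∃ χ : Perm (Fin 9) → G, Loc M χ ∧ (∀ a ∈ M, χ a = φ a) ∧
    ∃ N, Idx2 N ⊤ ∧ χ ta ∉ N ∧ χ t3 ∉ N := by
  rcases h.dich with e | ⟨π, h1, h2⟩
  · exact ⟨φ, h, fun _ _ => rfl, h.trTI e⟩
  · obtain ⟨B, χ, h3, h4⟩ := h.big π h1 h2
    exact ⟨χ, h3.toLoc, h4, h3.tr⟩

end Cfsg.Agent.H1.S9
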