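import Cfsg.Agent.H1.U6Pure1

/-!
Elementary abelian subgroups of `SU₆(2)` all of whose involutions have rank two have order at most 16.
-/

set_option autoImplicit false
set_option maxHeartbeats 400000

namespace Cfsg.Agent.H1.U6

open Cfsg.Agent.L0.Code (cntB)
open Cfsg.Agent.H6 (F4 card_F4)

theorem card_le_two_mul {X : Type*} [Group X] [Finite X] {A B : Subgroup X}
    (h : ∀ x ∈ B, ∀ y ∈ B, x ∉ A → y ∉ A → x * y ∈ A) : Nat.card B ≤ 2 * Nat.card A := by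
  by_cases hc : B ≤ A
  · have := Subgroup.card_le_of_le hc
    omega
  obtain ⟨g, hg, hg'⟩ := SetLike.not_le_iff_exists.mp hc
  have h1 : (B : Set X) ⊆ A ∪ (g⁻¹ * ·) '' A := fun y hy => by
    by_cases hy' : y ∈ A
    exacts [.inl hy', .inr ⟨g * y, h g hg y hy hg' hy', by simp⟩]
  have h2 := (Set.ncard_le_ncard h1).trans (Set.ncard_union_le _ _)
  rw [Set.ncard_image_of_injective _ (mul_right_injective _)] at h2
  change (B : Set X).ncard ≤ 2 * (A : Set X).ncard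
  omega

theorem exists_card_pow {X : Type*} [Group X] [Finite X] {A : Subgroup X} (h : ∀ x ∈ A, x * x = 1) :
    ∃ k, Nat.card A = 2 ^ k :=
  (IsPGroup.iff_card (p := 2)).mp fun x => ⟨1, Subtype.ext (by simpa [pow_two] using h x x.2)⟩

theorem s2_sq : s2 * s2 = 1 := by rw [s2, ← map_mul, show sr 2 * sr 2 = 1 by decide, map_one]

section Core

variable {L : Subgroup G} (hL : ∀ f ∈ L, f ≠ 1 → IsConj s2 f)

include hL

theorem pure_sq (f : G) (hf : f ∈ L) : f * f = 1 := by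
  by_cases h : f = 1
  · rw [h, mul_one]
  · obtain ⟨g, rfl⟩ := isConj_iff.mp (hL f hf h)
    calc _ = g * (s2 * s2) * g⁻¹ := by group
      _ = 1 := by rw [s2_sq]; group

theorem pure_inv {f : G} (hf : f ∈ L) : f⁻¹ = f := inv_eq_of_mul_eq_one_right (pure_sq hL f hf)

theorem pure_comm {f g : G} (hf : f ∈ L) (hg : g ∈ L) : f * g = g * f := by
  rw [← pure_inv hL (mul_mem hf hg), mul_inv_rev, pure_inv hL hf, pure_inv hL hg]

theorem pure_q (hs : s2 ∈ L) {f : G} (hf : f ∈ L) (ha : suAct f (ev b6 12 5) = ev b6 12 5) :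
    ∃ j < 3, ∃ n < 2 ^ 9, Q j n f ∧ (f ≠ 1 → tb Rb n = true) := by
  by_cases h : f = 1
  · exact ⟨0, by norm_num, 0, by norm_num, h ▸ q_one 0, fun h' => absurd h h'⟩
  obtain ⟨c, d, y, y', hp⟩ := exists_pr (hL f hf h)
  rcases pr_s2.fix_or (pure_sq hL f hf) (pure_comm hL hf hs) with e | ⟨β, hβ, e⟩
  · obtain ⟨j, hj, n, hn, h1, h2⟩ := exists_q hp e.1 e.2
    exact ⟨j, hj, n, hn, h1, fun _ => h2⟩
  · exact absurd (pr_s2.indep (α := 1) (β := β) (by rw [← e, ha, one_smul, two6])).2 hβ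

theorem exists_ps (hs : s2 ∈ L) (ha : ∀ f ∈ L, suAct f (ev b6 12 5) = ev b6 12 5) {j : ℕ} (hj : j < 3)
    (hq : ∀ f ∈ L, ∃ n < 2 ^ 9, Q j n f) :
    ∃ S, PS S ∧ Nat.card L ≤ S.card ∧ ∀ n ∈ S, ∃ f ∈ L, Q j n f := by
  classical
  refine ⟨(Finset.range (2 ^ 9)).filter fun n => ∃ f ∈ L, Q j n f, ⟨fun n hn => ?_, fun n hn m hm => ?_, ?_,
    fun n hn h0 => ?_⟩, ?_, fun n hn => (Finset.mem_filter.mp hn).2⟩
  · exact Finset.mem_range.mp (Finset.mem_filter.mp hn).1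
  · simp only [Finset.mem_filter, Finset.mem_range] at hn hm ⊢
    obtain ⟨a1, f, hf, a2⟩ := hn
    obtain ⟨b1, g, hg, b2⟩ := hm
    exact ⟨Nat.xor_lt_two_pow a1 b1, f * g, mul_mem hf hg, a2.mul hj a1 b1 b2⟩
  · exact Finset.mem_filter.mpr ⟨by norm_num, s2, hs, q_s2 hj⟩
  · simp only [Finset.mem_filter, Finset.mem_range] at hn
    obtain ⟨a1, f, hf, a2⟩ := hn
    obtain ⟨j', hj', n', hn', b1, b2⟩ := pure_q hL hs hf (ha f hf)
    have e : n = n' := by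
      by_cases e : j' = j
      · exact a2.unique hj a1 hn' (e ▸ b1)
      · exact a2.unique hj a1 hn' (b1.small hj' hj (b1.cross hj' hj e hn' a1 a2))
    rw [e]
    exact b2 fun e1 => h0 (a2.unique hj a1 (by norm_num) (e1 ▸ q_one j))
  · choose c hc hc' using hq
    rw [← Nat.card_eq_finsetCard]
    exact Nat.card_le_card_of_injective (fun f : L => ⟨c f f.2, Finset.mem_filter.mpr
      ⟨Finset.mem_range.mpr (hc f f.2), f, f.2, hc' f f.2⟩⟩) fun f g e =>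
        Subtype.ext ((hc' f f.2).eq (by rw [show c f f.2 = c g g.2 from congrArg Subtype.val e]; exact hc' g g.2))

/-- The part of a pure subgroup in a plane. -/
def Pl (j w : ℕ) (hj : j < 3) (hw : w ≤ 9) : Subgroup G where
  carrier := {f | f ∈ L ∧ ∃ n < 2 ^ w, Q j n f}
  one_mem' := ⟨one_mem _, 0, by positivity, q_one j⟩
  mul_mem' := fun ⟨hf, n, hn, a⟩ ⟨hg, m, hm, b⟩ =>
    have := Nat.pow_le_pow_right (show 0 < 2 by norm_num) hw
    ⟨mul_mem hf hg, _, Nat.xor_lt_two_pow hn hm, a.mul hj (by omega) (by omega) b⟩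
  inv_mem' := fun h => by rw [pure_inv hL h.1]; exact h

theorem three_planes (hs : s2 ∈ L) (ha : ∀ f ∈ L, suAct f (ev b6 12 5) = ev b6 12 5) :
    (∃ j < 3, ∀ f ∈ L, ∃ n < 2 ^ 9, Q j n f) ∨
      Nat.card L ≤ 4 * Nat.card (Pl hL 0 4 (by norm_num) (by norm_num)) := by
  by_cases hc : ∃ j < 3, ∀ f ∈ L, ∃ n < 2 ^ 9, Q j n f
  · exact .inl hc
  right
  push Not at hc
  set P0 := Pl hL 0 4 (by norm_num) (by norm_num)
  have le0 : ∀ i hi, P0 ≤ Pl hL i 9 hi le_rfl := fun i hi f ⟨hf, n, hn, a⟩ =>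
    ⟨hf, n, by omega, a.small (by norm_num) hi hn⟩
  have inf0 : ∀ {i j hi hj f}, i ≠ j → f ∈ Pl hL i 9 hi le_rfl → f ∈ Pl hL j 9 hj le_rfl → f ∈ P0 :=
    fun {i j hi hj f} hij ⟨hf, n, hn, a⟩ ⟨_, m, hm, b⟩ =>
      have := a.cross hi hj hij hn hm b
      ⟨hf, n, this, a.small hi (by norm_num) this⟩
  have cov : ∀ f ∈ L, ∃ i, ∃ hi, f ∈ Pl hL i 9 hi le_rfl := fun f hf => by
    obtain ⟨j, hj, n, hn, a, -⟩ := pure_q hL hs hf (ha f hf)
    exact ⟨j, hj, hf, n, hn, a⟩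
  have key : ∀ i hi, Nat.card (Pl hL i 9 hi le_rfl) ≤ 2 * Nat.card P0 := fun i hi => by
    obtain ⟨g, hg, hg'⟩ := hc i hi
    have gi : g ∉ Pl hL i 9 hi le_rfl := fun ⟨_, n, hn, a⟩ => hg' n hn a
    obtain ⟨j, hj, gj⟩ := cov g hg
    have ij : i ≠ j := by rintro rfl; exact gi gj
    have aux : ∀ x ∈ Pl hL i 9 hi le_rfl, x ∉ P0 → ∃ k, ∃ hk, k ≠ i ∧ k ≠ j ∧ x * g ∈ Pl hL k 9 hk le_rfl := by
      intro x hx hx0
      obtain ⟨k, hk, a⟩ := cov _ (mul_mem hx.1 hg)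
      refine ⟨k, hk, ?_, ?_, a⟩
      · rintro rfl; exact gi ((Subgroup.mul_mem_cancel_left _ hx).mp a)
      · rintro rfl; exact hx0 (inf0 ij hx ((Subgroup.mul_mem_cancel_right _ gj).mp a))
    refine card_le_two_mul fun x hx y hy hx0 hy0 => ?_
    obtain ⟨k, hk, a1, a2, a3⟩ := aux x hx hx0
    obtain ⟨k', hk', b1, b2, b3⟩ := aux y hy hy0
    obtain rfl : k = k' := by omega
    refine inf0 (hi := hk) a1 ?_ (mul_mem hx hy)
    have := mul_mem a3 b3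
    rwa [← pure_comm hL hg hy.1, mul_assoc, ← mul_assoc g, pure_sq hL g hg, one_mul] at this
  have h1 : (L : Set G) ⊆ Pl hL 0 9 (by norm_num) le_rfl ∪ (Pl hL 1 9 (by norm_num) le_rfl \ P0) ∪
      (Pl hL 2 9 (by norm_num) le_rfl \ P0) := fun f hf => by
    by_cases h0 : f ∈ P0
    · exact .inl (.inl (le0 0 _ h0))
    obtain ⟨i, hi, a⟩ := cov f hf
    interval_cases i
    exacts [.inl (.inl a), .inl (.inr ⟨a, h0⟩), .inr ⟨a, h0⟩]
  have h2 := (Set.ncard_le_ncard h1).trans ((Set.ncard_union_le _ _).trans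
    (Nat.add_le_add_right (Set.ncard_union_le _ _) _))
  rw [Set.ncard_diff (le0 1 _), Set.ncard_diff (le0 2 _)] at h2
  have k0 := key 0 (by norm_num)
  have k1 := key 1 (by norm_num)
  have k2 := key 2 (by norm_num)
  change Set.ncard _ ≤ 2 * Set.ncard _ at k0 k1 k2
  change Set.ncard _ ≤ 4 * Set.ncard _
  omega

theorem pure_fix (hs : s2 ∈ L) (ha : ∀ f ∈ L, suAct f (ev b6 12 5) = ev b6 12 5) :
    Nat.card L ≤ 16 ∧ ∀ g : G, ∀ M ∈ BL, Rep b6 12 (act g) M → (∀ f ∈ L, g * f = f * g) → Nat.card L ≤ 8 := by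
  obtain ⟨k, hk⟩ := exists_card_pow (pure_sq hL)
  have pw : ∀ {m : ℕ}, 2 ^ k < 2 ^ (m + 1) → 2 ^ k ≤ 2 ^ m := fun h =>
    Nat.pow_le_pow_right (by norm_num) (Nat.lt_succ_iff.mp ((Nat.pow_lt_pow_iff_right (by norm_num)).mp h))
  rcases three_planes hL hs ha with ⟨j, hj, hq⟩ | h
  · obtain ⟨S, h1, h2, h3⟩ := exists_ps hL hs ha hj hq
    rw [hk] at h2 ⊢
    refine ⟨pw (m := 4) (by have := h1.card_le; omega), fun g M hM hg hc => pw (m := 3) ?_⟩
    have a1 := card_le_of (S := S) (T := {0, 3}) (P := fun n => cmB M (QQ j n)) (l := CL) fun n hn hT => by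
      simp only [Finset.mem_insert, Finset.mem_singleton, not_or] at hT
      obtain ⟨f, hf, a⟩ := h3 n hn
      exact ⟨(h1.mem hn hT.1 hT.2).1, cmB_of hg a.rep (hc f hf)⟩
    have a2 := (bl_count M hM j hj).1
    have a3 : ({0, 3} : Finset ℕ).card ≤ 2 := Finset.card_le_two
    omega
  · set P0 := Pl hL 0 4 (by norm_num) (by norm_num)
    obtain ⟨S, h1, h2, h3⟩ := exists_ps (L := P0) (fun f hf => hL f hf.1)
      ⟨hs, 3, by norm_num, q_s2 (by norm_num)⟩ (fun f hf => ha f hf.1) (j := 0) (by norm_num)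
      (fun f ⟨_, n, hn, a⟩ => ⟨n, by omega, a⟩)
    have sm : ∀ n ∈ S, n < 16 := fun n hn => by
      obtain ⟨f, ⟨_, m, hm, a⟩, b⟩ := h3 n hn
      rw [b.unique (by norm_num) (h1.lt n hn) (by omega) a]; exact hm
    refine ⟨by have := h1.card_small sm; omega, fun g M hM hg hc => ?_⟩
    have a1 := card_le_of (S := S) (T := {0, 3}) (P := fun n => Nat.blt n 16 && cmB M (QQ 0 n)) (l := CL)
      fun n hn hT => by
        simp only [Finset.mem_insert, Finset.mem_singleton, not_or] at hT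
        obtain ⟨f, hf, a⟩ := h3 n hn
        exact ⟨(h1.mem hn hT.1 hT.2).1, by rw [Nat.blt_eq.mpr (sm n hn), cmB_of hg a.rep (hc f hf.1)]; rfl⟩
    have a2 := (bl_count M hM 0 (by norm_num)).2
    have a3 : ({0, 3} : Finset ℕ).card ≤ 2 := Finset.card_le_two
    omega

theorem pure_core (hs : s2 ∈ L) : Nat.card L ≤ 16 := by
  by_cases ha : ∀ f ∈ L, suAct f (ev b6 12 5) = ev b6 12 5
  · exact (pure_fix hL hs ha).1
  push Not at ha
  obtain ⟨g, hg, ha⟩ := ha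
  let L1 : Subgroup G :=
    { carrier := {f | f ∈ L ∧ suAct f (ev b6 12 5) = ev b6 12 5}
      one_mem' := ⟨one_mem _, suAct_one _⟩
      mul_mem' := fun h h' => ⟨mul_mem h.1 h'.1, by rw [suAct_mul, h'.2, h.2]⟩
      inv_mem' := fun h => ⟨inv_mem h.1, suAct_inv_eq h.2⟩ }
  have h1 : Nat.card L ≤ 2 * Nat.card L1 := card_le_two_mul fun x hx y hy hx' hy' => by
    refine ⟨mul_mem hx hy, ?_⟩
    obtain ⟨β, hβ, e⟩ := (pr_s2.fix_or (pure_sq hL x hx) (pure_comm hL hx hs)).resolve_left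
      fun e => hx' ⟨hx, e.1⟩
    obtain ⟨β', -, e'⟩ := (pr_s2.fix_or (pure_sq hL y hy) (pure_comm hL hy hs)).resolve_left
      fun e => hy' ⟨hy, e.1⟩
    have e2 : suAct x (ev b6 12 80) = β⁻¹ • ev b6 12 5 := by
      have : suAct x (suAct x (ev b6 12 5)) = ev b6 12 5 := by rw [← suAct_mul, pure_sq hL x hx, suAct_one]
      rw [← this, e, map_smul, smul_smul, inv_mul_cancel₀ hβ, one_smul]
    exact pr_s2.fix_of (pure_sq hL _ (mul_mem hx hy)) (β := β' * β⁻¹)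
      (by rw [suAct_mul, e', map_smul, e2, smul_smul])
  obtain ⟨c, d, y, y', hp⟩ := exists_pr (hL g hg (by rintro rfl; exact ha (suAct_one _)))
  obtain ⟨β, hβ, e⟩ := (hp.fix_or s2_sq (pure_comm hL hs hg)).resolve_left fun e => ha (by
    rw [hp.act, UF.H_eq_zero_comm (pr_s2.perp e.1).1, UF.H_eq_zero_comm (pr_s2.perp e.2).1]; simp)
  obtain ⟨M, hM, hg'⟩ := exists_bl hp hβ e
  have := (pure_fix (L := L1) (fun f hf => hL f hf.1) ⟨hs, by
    rw [pr_s2.act, pr_s2.cc, pr_s2.cd]; simp⟩ fun f hf => hf.2).2 g M hM hg'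
    fun f hf => pure_comm hL hg hf.1
  omega

end Core

theorem pure_le {L : Subgroup G} (hL : ∀ f ∈ L, f ≠ 1 → IsConj s2 f) : Nat.card L ≤ 16 := by
  by_cases h : L = ⊥
  · rw [h, Subgroup.card_bot]; norm_num
  obtain ⟨f, hf, h1⟩ := (Subgroup.bot_or_exists_ne_one L).resolve_left h
  obtain ⟨g, rfl⟩ := isConj_iff.mp (hL f hf h1)
  rw [← Subgroup.card_map_of_injective (f := (MulAut.conj g⁻¹).toMonoidHom) (MulAut.conj g⁻¹).injective]
  refine pure_core ?_ ⟨_, hf, by simp [mul_assoc]⟩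
  rintro _ ⟨x, hx, rfl⟩ h2
  exact (hL x hx (by rintro rfl; exact h2 (map_one _))).trans (isConj_iff.mpr ⟨g⁻¹, rfl⟩)

end Cfsg.Agent.H1.U6
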