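import Cfsg.Agent.H1.U6Inv2
import Cfsg.Agent.H1.U6Pure
import Cfsg.Agent.H6.U6Aut
import Cfsg.Agent.H6.U6Final

/-!
The local structure of an extension of the module of order `2 ^ 20` by `U₆(2)`.
-/

set_option autoImplicit false

namespace Cfsg.Agent.H1.U6

open Cfsg.Agent.H7.U6 (fix9 hyp9)

variable {X : Type*} [Group X] {A H : Subgroup X} {V : Type*} [AddCommGroup V] {e : V → X}
  {σ : H →* AddMonoid.End V}

/-- An additive model of an abelian normal subgroup. -/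
structure Mdl (A H : Subgroup X) (e : V → X) (σ : H →* AddMonoid.End V) : Prop where
  add : ∀ u v, e (u + v) = e u * e v
  inj : Function.Injective e
  rng : ∀ x, x ∈ A ↔ ∃ v, e v = x
  act : ∀ h v, e (σ h v) = h * e v * (h : X)⁻¹
  le : A ≤ H
  sq : ∀ a ∈ A, a * a = 1

theorem exists_mdl.{u} {X : Type u} [Group X] {A H : Subgroup X} (hH : H = Subgroup.normalizer (A : Set X))
    (hex : ∀ a ∈ A, a * a = 1) :
    ∃ (V : Type u) (_ : AddCommGroup V) (e : V → X) (σ : H →* AddMonoid.End V), Mdl A H e σ := by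
  have inv : ∀ a ∈ A, a⁻¹ = a := fun a ha => inv_eq_of_mul_eq_one_right (hex a ha)
  letI : CommGroup A := { (inferInstance : Group A) with
    mul_comm := fun a c => Subtype.ext (by
      change a.1 * c.1 = c.1 * a.1
      rw [← inv _ (mul_mem a.2 c.2), mul_inv_rev, inv _ a.2, inv _ c.2]) }
  have m : ∀ (h : H) (a : A), h * a.1 * (h : X)⁻¹ ∈ A := fun h a =>
    (Subgroup.mem_normalizer_iff.mp (hH ▸ h.2) a.1).mp a.2
  refine ⟨Additive A, inferInstance, fun v => (v.toMul : A), MonoidHom.mk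
    ⟨fun h => AddMonoidHom.mk' (fun v => Additive.ofMul ⟨_, m h v.toMul⟩) fun u v => ?_, ?_⟩ fun h h' => ?_,
    fun u v => rfl, fun u v h => Additive.toMul.injective (Subtype.ext h),
    fun x => ⟨fun h => ⟨Additive.ofMul ⟨x, h⟩, rfl⟩, fun ⟨v, h⟩ => h ▸ v.toMul.2⟩, fun h v => rfl,
    hH ▸ Subgroup.le_normalizer, hex⟩
  · refine Additive.toMul.injective (Subtype.ext ?_)
    change h * (u.toMul.1 * v.toMul.1) * (h : X)⁻¹ = h * u.toMul.1 * (h : X)⁻¹ * (h * v.toMul.1 * (h : X)⁻¹)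
    group
  · refine AddMonoidHom.ext fun v => Additive.toMul.injective (Subtype.ext ?_)
    change 1 * v.toMul.1 * (1 : X)⁻¹ = v.toMul.1
    group
  · refine AddMonoidHom.ext fun v => Additive.toMul.injective (Subtype.ext ?_)
    change h.1 * h'.1 * v.toMul.1 * (h.1 * h'.1)⁻¹ = h * (h' * v.toMul.1 * (h' : X)⁻¹) * (h : X)⁻¹
    group

/-- The number of fixed points. -/
noncomputable def cf (A : Subgroup X) (x : X) : ℕ := Nat.card ↥(A ⊓ Subgroup.centralizer {x})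

namespace Mdl

variable (M : Mdl A H e σ)
include M

theorem mem (v : V) : e v ∈ A := (M.rng _).mpr ⟨v, rfl⟩

theorem zero : e 0 = 1 := by
  have := M.add 0 0
  rw [add_zero] at this
  exact mul_eq_left.mp this.symm

theorem two : Two V := fun v => M.inj (by rw [M.add, M.sq _ (M.mem v), M.zero])

theorem inv {a : X} (ha : a ∈ A) : a⁻¹ = a := inv_eq_of_mul_eq_one_right (M.sq a ha)

theorem comm {a c : X} (ha : a ∈ A) (hc : c ∈ A) : a * c = c * a := by
  rw [← M.inv (mul_mem ha hc), mul_inv_rev, M.inv ha, M.inv hc]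

theorem conj {h a : X} (hh : h ∈ H) (ha : a ∈ A) : h * a * h⁻¹ ∈ A := by
  obtain ⟨v, rfl⟩ := (M.rng a).mp ha
  exact (M.act ⟨h, hh⟩ v) ▸ M.mem _

theorem card : Nat.card V = Nat.card A :=
  Nat.card_eq_of_bijective (fun v => ⟨e v, M.mem v⟩) ⟨fun _ _ h => M.inj (congrArg Subtype.val h),
    fun a => by obtain ⟨v, hv⟩ := (M.rng _).mp a.2; exact ⟨v, Subtype.ext hv⟩⟩

theorem fin [Finite X] : Finite V := Finite.of_injective e M.inj

theorem fix_iff (h : H) (v : V) : σ h v = v ↔ h * e v = e v * h := by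
  rw [← M.inj.eq_iff, M.act, mul_inv_eq_iff_eq_mul]

theorem cf_eq (h : H) : cf A h = Nat.card {v // σ h v = v} :=
  (Nat.card_eq_of_bijective (fun v : {v // σ h v = v} => (⟨e v, M.mem v,
    Subgroup.mem_centralizer_singleton_iff.mpr ((M.fix_iff h v).mp v.2).symm⟩ : ↥(A ⊓ Subgroup.centralizer {h.1})))
    ⟨fun _ _ h => Subtype.ext (M.inj (congrArg Subtype.val h)), fun a => by
      obtain ⟨v, hv⟩ := (M.rng _).mp a.2.1
      exact ⟨⟨v, (M.fix_iff h v).mpr (by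
        rw [hv]; exact (Subgroup.mem_centralizer_singleton_iff.mp a.2.2).symm)⟩, Subtype.ext hv⟩⟩).symm

theorem cf_conj {h : X} (hh : h ∈ H) (x : X) : cf A (h * x * h⁻¹) = cf A x := by
  have k : ∀ {h x a : X}, h ∈ H → a ∈ A ⊓ Subgroup.centralizer {x} →
      h * a * h⁻¹ ∈ A ⊓ Subgroup.centralizer {h * x * h⁻¹} := fun {h x a} hh ha =>
    ⟨M.conj hh ha.1, Subgroup.mem_centralizer_singleton_iff.mpr (by
      have := Subgroup.mem_centralizer_singleton_iff.mp ha.2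
      calc _ = h * (a * x) * h⁻¹ := by group
        _ = _ := by rw [this]; group)⟩
  refine Nat.card_congr ⟨fun a => ⟨h⁻¹ * a * h⁻¹⁻¹, by simpa [mul_assoc] using k (inv_mem hh) a.2⟩,
    fun a => ⟨_, k hh a.2⟩, fun a => Subtype.ext (by simp [mul_assoc]), fun a => Subtype.ext (by simp [mul_assoc])⟩

theorem cent_mul {a : X} (ha : a ∈ A) (x : X) :
    A ⊓ Subgroup.centralizer {a * x} = A ⊓ Subgroup.centralizer {x} := by
  ext c
  simp only [Subgroup.mem_inf, Subgroup.mem_centralizer_singleton_iff]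
  refine and_congr_right fun hc => ?_
  rw [← mul_assoc, M.comm hc ha, mul_assoc, mul_assoc, mul_right_inj]

theorem pow_mul {a c : X} (ha : a ∈ A) (hc : c ∈ H) (n : ℕ) : ∃ a' ∈ A, (a * c) ^ n = a' * c ^ n := by
  induction n with
  | zero => exact ⟨1, one_mem _, by simp⟩
  | succ n ih =>
    obtain ⟨a', ha', e⟩ := ih
    exact ⟨a * (c * a' * c⁻¹), mul_mem ha (M.conj hc ha'), by rw [pow_succ', e, pow_succ']; group⟩

end Mdl

theorem si_sq (i : ℕ) : si i * si i = 1 := by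
  have : sr i * sr i = 1 := by
    match i with
    | 0 => decide
    | 1 => decide
    | 2 => decide
    | _ + 3 => exact (by decide : sr 3 * sr 3 = 1)
  rw [si, ← map_mul, this, map_one]

theorem eq_one_of_sq {z : G} (hz : z ∈ ZG) (h : z * z = 1) : z = 1 := by
  have := center_cube hz
  rwa [pow_three', h, one_mul] at this

theorem tw_zc : tw true zc = zc * zc :=
  eq_of_rep (rep_tw rep_zc) (Cfsg.Agent.H7.U6.rmul rep_zc rep_zc) (by decide +kernel)

theorem tw_center {z : G} (hz : z ∈ ZG) : tw true z = z * z := by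
  have := zc_cube
  rcases mem_center_iff.mp hz with rfl | rfl | rfl
  · simp
  · exact tw_zc
  · rw [map_mul, tw_zc]

theorem exists_inv (ε : Bool) {g : G} (h : g * tw ε g ∈ ZG) : ∃ z ∈ ZG, g * z * tw ε (g * z) = 1 := by
  cases ε
  · simp only [tw_false] at h ⊢
    refine ⟨g * g, h, ?_⟩
    have := center_cube h
    rw [← this]; simp only [pow_succ, pow_zero, one_mul, mul_assoc]
  · refine ⟨1, one_mem _, ?_⟩
    rw [mul_one]
    have e1 := tw_center h
    rw [map_mul, tw_tw] at e1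
    have e2 : tw true g * g = g * tw true g := by
      have := Subgroup.mem_center_iff.mp h g
      rw [mul_assoc] at this
      exact (mul_left_cancel this).symm
    rw [e2] at e1
    exact mul_eq_left.mp e1.symm

variable {ι : G →* X}

theorem eq_one_iff (hk : ι.ker = ZG) {g : G} : ι g = 1 ↔ g ∈ ZG := by rw [← hk, MonoidHom.mem_ker]

theorem ord3 (hk : ι.ker = ZG) {x : G} (h : O3 x) : orderOf (ι x) = 3 :=
  orderOf_eq_prime (by rw [← map_pow, eq_one_iff hk]; exact h.2) fun e => h.1 ((eq_one_iff hk).mp e)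

/-- The element induces the field automorphism. -/
def Out (H : Subgroup X) (ι : G →* X) (k : X) : Prop :=
  k ∈ H ∧ k * k = 1 ∧ ∀ x, k * ι x * k⁻¹ = ι (tw true x)

/-- The configuration. -/
structure Cf (A H : Subgroup X) (e : V → X) (σ : H →* AddMonoid.End V) (ι : G →* X)
    (ρ : G →* AddMonoid.End V) (b : ℕ → V) : Prop extends Mdl A H e σ where
  hk : ι.ker = ZG
  hι : ∀ g, ι g ∈ H
  dis : ∀ g, ι g ∈ A → ι g = 1
  hρ : ∀ g, ρ g = σ ⟨ι g, hι g⟩
  md : Mod ρ b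

namespace Cf

variable {ρ : G →* AddMonoid.End V} {b : ℕ → V} (C : Cf A H e σ ι ρ b)
include C

theorem center {g : G} (h : ι g ∈ A) : g ∈ ZG := (eq_one_iff C.hk).mp (C.dis g h)

theorem act' (g : G) (v : V) : e (ρ g v) = ι g * e v * (ι g)⁻¹ := by rw [C.hρ, C.act]

theorem cf_si [Finite X] : cf A (ι (si 1)) = 2 ^ 14 ∧ cf A (ι (si 2)) = 2 ^ 12 ∧ cf A (ι (si 3)) = 2 ^ 10 := by
  haveI := C.fin
  have := card_fix C.md
  simp only [C.hρ, ← C.cf_eq] at this
  exact this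

theorem cf_isConj {g g' : G} (h : IsConj g g') : cf A (ι g') = cf A (ι g) := by
  obtain ⟨y, rfl⟩ := isConj_iff.mp h
  rw [map_mul, map_mul, map_inv, C.cf_conj (C.hι y)]

theorem free {u c : X} {v w : V} {x : G} (hc : c ∈ H) (hu : u = e v * c) (h3 : O3 x) (hx : ι x * c = c * ι x)
    (hv : ρ x (v + w + σ ⟨c, hc⟩ w) = v + w + σ ⟨c, hc⟩ w) : ∃ y ∈ H, orderOf y = 3 ∧ y * u = u * y := by
  rw [C.hρ, C.fix_iff] at hv
  have e1 : e w * u * (e w)⁻¹ = e (v + w + σ ⟨c, hc⟩ w) * c := by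
    rw [C.add, C.add, C.act, hu, C.inv (C.mem w), C.comm (C.mem v) (C.mem w)]
    simp [mul_assoc]
  have e2 : ι x * (e w * u * (e w)⁻¹) = e w * u * (e w)⁻¹ * ι x := by
    rw [e1, ← mul_assoc, hv, mul_assoc, hx, mul_assoc]
  have hw := C.le (C.mem w)
  refine ⟨(e w)⁻¹ * ι x * e w, mul_mem (mul_mem (inv_mem hw) (C.hι x)) hw, ?_, ?_⟩
  · rw [← ord3 C.hk h3]
    exact (SemiconjBy.orderOf_eq (e w) (by simp [SemiconjBy, mul_assoc]))
  · calc _ = (e w)⁻¹ * (ι x * (e w * u * (e w)⁻¹)) * e w := by group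
      _ = _ := by rw [e2]; group

theorem std {ε : Bool} {k : X} (hk : (ε = false ∧ k = 1) ∨ (ε = true ∧ Out H ι k)) {i : ℕ} (hi : i < 4)
    {a : X} (ha : a ∈ A) (hs : a * (ι (si i) * k) * (a * (ι (si i) * k)) = 1) :
    (ε = false ∧ (i = 0 ∨ i = 2)) ∨
      ∃ y ∈ H, orderOf y = 3 ∧ y * (a * (ι (si i) * k)) = a * (ι (si i) * k) * y := by
  obtain ⟨v, rfl⟩ := (C.rng a).mp ha
  have fx : ∀ c (hc : c ∈ H), c * c = 1 → e v * c * (e v * c) = 1 → σ ⟨c, hc⟩ v = v := fun c hc h1 h2 => by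
    rw [C.fix_iff]
    have i1 : c⁻¹ = c := inv_eq_of_mul_eq_one_right h1
    change c * e v = e v * c
    rw [← inv_eq_of_mul_eq_one_right h2, mul_inv_rev, i1, C.inv ha]
  rcases hk with ⟨rfl, rfl⟩ | ⟨rfl, hk, k2, hc⟩
  · rw [mul_one] at hs ⊢
    by_cases h : i = 1 ∨ i = 3
    · obtain ⟨w, x, h3, h4, h5⟩ := inner C.md h (v := v)
        (by rw [C.hρ]; exact fx _ _ (by rw [← map_mul, si_sq, map_one]) hs)
      rw [C.hρ (si i)] at h5
      exact .inr (C.free (C.hι _) rfl h3 (by rw [← map_mul, h4, map_mul]) h5)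
    · exact .inl ⟨rfl, by omega⟩
  · have hm : ι (si i) * k ∈ H := mul_mem (C.hι _) hk
    have c1 : ∀ x, k * ι x = ι (tw true x) * k := fun x => by rw [← hc, inv_mul_cancel_right]
    have hΓ := gam_rep C.md (Γ := σ ⟨k, hk⟩) (by rw [← map_mul, ← map_one σ]; congr 1; exact Subtype.ext k2)
      (fun x => by rw [C.hρ, C.hρ, ← map_mul, ← map_mul]; congr 1; exact Subtype.ext (c1 x))
    have e1 : ∀ w, ρ (si i) (σ ⟨k, hk⟩ w) = σ ⟨_, hm⟩ w := fun w => by
      rw [C.hρ]; exact (DFunLike.congr_fun (map_mul σ ⟨_, C.hι _⟩ ⟨k, hk⟩) w).symm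
    have t : tw true (si i) = si i := tw_pm _ _
    obtain ⟨w, x, h3, h4, h5⟩ := outer C.md hΓ hi (v := v) (by
      rw [e1]
      refine fx _ _ ?_ hs
      rw [mul_assoc, ← mul_assoc k, c1, t, mul_assoc, k2, mul_one, ← map_mul, si_sq, map_one])
    rw [e1] at h5
    exact .inr (C.free hm rfl h3 (by rw [← mul_assoc, ← map_mul, h4, map_mul, mul_assoc, ← c1, mul_assoc]) h5)

theorem cls (hd : ∀ h ∈ H, ∃ a ∈ A, ∃ g, h = a * ι g ∨ ∃ k, Out H ι k ∧ h = a * (ι g * k)) {u : X}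
    (hu : u ∈ H) (h2 : u * u = 1) (hA : u ∉ A) (h3 : ∀ x ∈ H, orderOf x = 3 → x * u ≠ u * x) :
    ∃ a ∈ A, ∃ g, IsConj s2 g ∧ u = a * ι g := by
  obtain ⟨a, ha, g, ε, k, hk, rfl⟩ : ∃ a ∈ A, ∃ g ε k, ((ε = false ∧ k = 1) ∨ (ε = true ∧ Out H ι k)) ∧
      u = a * (ι g * k) := by
    obtain ⟨a, ha, g, h | ⟨k, hk, h⟩⟩ := hd u hu
    exacts [⟨a, ha, g, false, 1, .inl ⟨rfl, rfl⟩, by rw [mul_one, h]⟩, ⟨a, ha, g, true, k, .inr ⟨rfl, hk⟩, h⟩]
  have k1 : k ∈ H ∧ k * k = 1 ∧ ∀ x, k * ι x = ι (tw ε x) * k := by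
    rcases hk with ⟨rfl, rfl⟩ | ⟨rfl, hk, k2, hc⟩
    · exact ⟨one_mem _, one_mul _, fun x => by rw [tw_false, one_mul, mul_one]⟩
    · exact ⟨hk, k2, fun x => by rw [← hc, inv_mul_cancel_right]⟩
  obtain ⟨a', ha', e1⟩ := C.pow_mul ha (mul_mem (C.hι g) k1.1) 2
  rw [pow_two, h2, pow_two, mul_assoc (ι g), ← mul_assoc k, k1.2.2, mul_assoc, k1.2.1, mul_one, ← map_mul] at e1
  obtain ⟨z, hz, e2⟩ := exists_inv ε (C.center (g := g * tw ε g) (by
    rw [eq_inv_of_mul_eq_one_right e1.symm]; exact inv_mem ha'))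
  have e3 : ι g = ι (g * z) := by rw [map_mul, (eq_one_iff C.hk).mpr hz, mul_one]
  obtain ⟨i, hi, y, e4⟩ := inv_class e2
  have e5 : ι g * k = ι y * (ι (si i) * k) * (ι y)⁻¹ := by
    rw [e3, e4, ← map_inv (tw ε), map_mul, map_mul, mul_assoc, ← k1.2.2, map_inv]
    simp only [mul_assoc]; rfl
  have ha1 := C.conj (inv_mem (C.hι y)) ha
  have e6 : a * (ι g * k) = ι y * ((ι y)⁻¹ * a * (ι y)⁻¹⁻¹ * (ι (si i) * k)) * (ι y)⁻¹ := by rw [e5]; group
  rcases C.std hk hi ha1 (by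
    rw [e6] at h2
    calc _ = (ι y)⁻¹ * 1 * ι y := by rw [← h2]; group
      _ = 1 := by group) with ⟨rfl, h⟩ | ⟨x, hx, o3, e7⟩
  · obtain rfl : k = 1 := by
      rcases hk with ⟨-, h⟩ | ⟨h, -⟩
      exacts [h, absurd h (by decide)]
    rw [mul_one] at hA ⊢
    rw [tw_false] at e4
    rcases h with rfl | rfl
    · exact absurd (by rw [e3, e4]; simpa [sr] using ha) hA
    · exact ⟨a, ha, _, isConj_iff.mpr ⟨y, rfl⟩, by rw [e3, e4]; rfl⟩
  · refine absurd ?_ (h3 (ι y * x * (ι y)⁻¹) (mul_mem (mul_mem (C.hι y) hx) (inv_mem (C.hι y))) ?_)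
    · rw [e6]
      calc _ = ι y * (x * ((ι y)⁻¹ * a * (ι y)⁻¹⁻¹ * (ι (si i) * k))) * (ι y)⁻¹ := by group
        _ = _ := by rw [e7]; group
    · rw [← o3]; exact (SemiconjBy.orderOf_eq (ι y) (by simp [SemiconjBy])).symm

theorem sq_of_conj {g : G} (h : IsConj s2 g) : g * g = 1 := by
  obtain ⟨y, rfl⟩ := isConj_iff.mp h
  calc _ = y * (s2 * s2) * y⁻¹ := by group
    _ = 1 := by rw [s2_sq]; group

theorem h3 [Finite X] (hd : ∀ h ∈ H, ∃ a ∈ A, ∃ g, h = a * ι g ∨ ∃ k, Out H ι k ∧ h = a * (ι g * k))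
    (U : Subgroup X) (hU : U ≤ H) (h2 : ∀ u ∈ U, u * u = 1)
    (h : ∀ u ∈ U, u ∉ A → ∀ x ∈ H, orderOf x = 3 → x * u ≠ u * x) :
    Nat.card U ≤ 16 * Nat.card ↥(U ⊓ A) ∧ (¬ U ≤ A → Nat.card ↥(U ⊓ A) < 2 ^ 12) := by
  have cl := fun u (hu : u ∈ U) (hA : u ∉ A) => C.cls hd (hU hu) (h2 u hu) hA (h u hu hA)
  have inv : ∀ u ∈ U, u⁻¹ = u := fun u hu => inv_eq_of_mul_eq_one_right (h2 u hu)
  have cm : ∀ u ∈ U, ∀ u' ∈ U, u * u' = u' * u := fun u hu u' hu' => by
    rw [← inv _ (mul_mem hu hu'), mul_inv_rev, inv _ hu, inv _ hu']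
  have same : ∀ {a a' : X} {g g' : G}, a ∈ A → a' ∈ A → a * ι g = a' * ι g' → g * g'⁻¹ ∈ ZG :=
    fun {a a' g g'} ha ha' e => C.center (by
      have : ι (g * g'⁻¹) = a⁻¹ * a' := by
        rw [map_mul, map_inv, eq_inv_mul_iff_mul_eq, ← mul_assoc, e, mul_inv_cancel_right]
      rw [this]; exact mul_mem (inv_mem ha) ha')
  have prd : ∀ (a a' : X) (g g' : G), a * ι g * (a' * ι g') = a * (ι g * a' * (ι g)⁻¹) * ι (g * g') :=
    fun a a' g g' => by rw [map_mul]; group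
  refine ⟨?_, fun hA => ?_⟩
  · let L : Subgroup G :=
      { carrier := {g | g * g = 1 ∧ ∃ a ∈ A, a * ι g ∈ U}
        one_mem' := ⟨one_mul _, 1, one_mem _, by simp⟩
        mul_mem' := by
          rintro g g' ⟨e1, a, ha, hu⟩ ⟨e2, a', ha', hu'⟩
          refine ⟨?_, _, mul_mem ha (C.conj (C.hι g) ha'), prd a a' g g' ▸ mul_mem hu hu'⟩
          have := cm _ hu _ hu'
          rw [prd, prd] at this
          have hz := same (mul_mem ha (C.conj (C.hι g) ha')) (mul_mem ha' (C.conj (C.hι g') ha)) this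
          rw [mul_inv_rev, inv_eq_of_mul_eq_one_right e1, inv_eq_of_mul_eq_one_right e2] at hz
          refine eq_one_of_sq hz ?_
          have c := Subgroup.mem_center_iff.mp hz g
          have c' : g' * g * g' * g = g * g' * (g * g') := by
            calc _ = g * (g * g' * (g * g')) * g := by
                  rw [← mul_assoc, ← mul_assoc, ← mul_assoc, e1, one_mul]
              _ = _ := by rw [c, mul_assoc, e1, mul_one]
          calc _ = g * g' * (g * g') * (g' * g * g' * g) := by rw [c']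
            _ = g * g' * g * (g' * g') * g * g' * g := by group
            _ = g * g' * (g * g) * g' * g := by rw [e2]; group
            _ = g * (g' * g') * g := by rw [e1]; group
            _ = 1 := by rw [e2, mul_one, e1]
        inv_mem' := by
          rintro g ⟨e1, h⟩
          rw [inv_eq_of_mul_eq_one_right e1]; exact ⟨e1, h⟩ }
    have hL : Nat.card L ≤ 16 := pure_le fun f hf h1 => by
      obtain ⟨e1, a, ha, hu⟩ := hf
      obtain ⟨a', ha', g, hg, e2⟩ := cl _ hu fun h => h1 (eq_one_of_sq (C.center ((mul_mem_cancel_left ha).mp h)) e1)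
      have hz := same ha ha' e2
      have e3 := C.sq_of_conj hg
      have : f * g⁻¹ = 1 := eq_one_of_sq hz (by
        have c := Subgroup.mem_center_iff.mp hz g
        rw [inv_mul_cancel_right] at c
        rw [inv_eq_of_mul_eq_one_right e3] at c ⊢
        exact (mul_assoc _ _ _).trans ((congrArg (f * ·) c).trans e1))
      have e4 : f = g := by rw [← inv_mul_cancel_right f g, this, one_mul]
      rw [e4]; exact hg
    choose a ha hu using fun l : L => l.2.2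
    have := Nat.card_le_card_of_surjective (fun p : L × ↥(U ⊓ A) => (⟨p.2 * (a p.1 * ι p.1), U.mul_mem p.2.2.1 (hu p.1)⟩ : U))
      (fun u => by
        obtain ⟨l, c, hc, e1⟩ : ∃ l : L, ∃ c ∈ A, u = c * ι l := by
          by_cases h : u.1 ∈ A
          · exact ⟨1, u, h, by simp⟩
          · obtain ⟨c, hc, g, hg, e1⟩ := cl _ u.2 h
            exact ⟨⟨g, C.sq_of_conj hg, c, hc, e1 ▸ u.2⟩, c, hc, e1⟩
        exact ⟨⟨l, u * (a l * ι l)⁻¹, U.mul_mem u.2 (U.inv_mem (hu l)), by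
          rw [e1]; simpa [mul_assoc] using mul_mem hc (inv_mem (ha l))⟩,
          Subtype.ext (inv_mul_cancel_right _ _)⟩)
    rw [Nat.card_prod] at this
    exact this.trans (Nat.mul_le_mul_right _ hL)
  · obtain ⟨u, hu, hA⟩ := SetLike.not_le_iff_exists.mp hA
    obtain ⟨a, ha, g, hg, rfl⟩ := cl u hu hA
    have e1 : cf A (ι g) = 2 ^ 12 := (C.cf_isConj hg).trans C.cf_si.2.1
    have le : U ⊓ A ≤ A ⊓ Subgroup.centralizer {ι g} := by
      rw [← C.cent_mul ha]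
      exact fun d hd => ⟨hd.2, Subgroup.mem_centralizer_singleton_iff.mpr (cm _ hd.1 _ hu)⟩
    by_contra hc
    have eq := Subgroup.eq_of_le_of_card_ge le (by rw [← cf, e1]; omega)
    have g2 : (ι g)⁻¹ = ι g := inv_eq_of_mul_eq_one_right (by rw [← map_mul, C.sq_of_conj hg, map_one])
    have haU : a ∈ U ⊓ A := by
      rw [eq]
      refine ⟨ha, Subgroup.mem_centralizer_singleton_iff.mpr ?_⟩
      rw [← inv _ hu, mul_inv_rev, g2, C.inv ha]
    obtain ⟨x, h3, hx⟩ := inner2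
    obtain ⟨y, rfl⟩ := isConj_iff.mp hg
    refine h _ ((U.mul_mem_cancel_left haU.1).mp hu) (fun h => hA (mul_mem ha h)) (ι (y * x * y⁻¹)) (C.hι _) ?_ ?_
    · rw [← ord3 C.hk h3, map_mul, map_mul, map_inv]
      exact (SemiconjBy.orderOf_eq (ι y) (by simp [SemiconjBy])).symm
    · rw [← map_mul, ← map_mul]
      refine congrArg ι ?_
      calc _ = y * (x * si 2) * y⁻¹ := by rw [s2, si]; group
        _ = _ := by rw [hx, s2, si]; group

theorem h1 (a : X) (ha : a ∈ A) : ∃ x ∈ H, orderOf x = 3 ∧ x * a = a * x := by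
  obtain ⟨v, rfl⟩ := (C.rng a).mp ha
  obtain ⟨x, y, h', e1, -⟩ := fix9 C.md v
  rw [C.hρ, C.fix_iff] at e1
  exact ⟨ι x, C.hι x, ord3 C.hk h'.2.1, e1⟩

theorem h2 [Finite X] (D : Subgroup X) (hD : D ≤ A) (hc : Nat.card D = 2 ^ 19) : ∃ x ∈ H, ∃ y ∈ H, x * y = y * x ∧
    orderOf x = 3 ∧ orderOf y = 3 ∧ orderOf (x * y) = 3 ∧ orderOf (x * y⁻¹) = 3 ∧
    (∀ d ∈ D, x * d * x⁻¹ ∈ D) ∧ (∀ d ∈ D, y * d * y⁻¹ ∈ D) := by
  haveI := C.fin
  let D' : AddSubgroup V :=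
    { carrier := {v | e v ∈ D}
      zero_mem' := by change e 0 ∈ D; rw [C.zero]; exact one_mem _
      add_mem' := fun {u v} hu hv => by change e _ ∈ D; rw [C.add]; exact mul_mem hu hv
      neg_mem' := fun {v} hv => by rw [C.two.neg]; exact hv }
  obtain ⟨x, y, h, hx, hy⟩ := hyp9 C.md D' (by
    rw [← hc]
    exact Nat.card_eq_of_bijective (fun v => ⟨e v, v.2⟩) ⟨fun _ _ h => Subtype.ext (C.inj (congrArg Subtype.val h)),
      fun d => by obtain ⟨v, hv⟩ := (C.rng _).mp (hD d.2); exact ⟨⟨v, by change e v ∈ D; rw [hv]; exact d.2⟩, Subtype.ext hv⟩⟩)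
  have k : ∀ x, (∀ d ∈ D', ρ x d ∈ D') → ∀ d ∈ D, ι x * d * (ι x)⁻¹ ∈ D := fun x hx d hd => by
    obtain ⟨v, rfl⟩ := (C.rng _).mp (hD hd)
    rw [← C.act']; exact hx v hd
  refine ⟨ι x, C.hι x, ι y, C.hι y, ?_, ord3 C.hk h.2.1, ord3 C.hk h.2.2.1, ?_, ?_, k x hx, k y hy⟩
  · have := (eq_one_iff C.hk).mpr h.1
    rwa [map_mul, map_mul, map_mul, map_inv, map_inv, mul_inv_eq_one, mul_inv_eq_iff_eq_mul] at this
  · rw [← map_mul]; exact ord3 C.hk h.2.2.2.1
  · rw [← map_inv, ← map_mul]; exact ord3 C.hk h.2.2.2.2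

theorem h4 (hd : ∀ h ∈ H, ∃ a ∈ A, ∃ g, h = a * ι g ∨ ∃ k, Out H ι k ∧ h = a * (ι g * k))
    (odd : ∀ {g : G} {p : ℕ}, p.Prime → p ≠ 2 → g ∉ ZG → g ^ p ∈ ZG → Nat.card {v // ρ g v = v} < 2 ^ 14)
    (x : X) (hx : x ∈ H) (hp : (orderOf x).Prime) (h2 : orderOf x ≠ 2) :
    Nat.card ↥(A ⊓ Subgroup.centralizer {x}) < 2 ^ 14 := by
  obtain ⟨m, hm⟩ := hp.odd_of_ne_two h2
  obtain ⟨a, ha, g, rfl⟩ : ∃ a ∈ A, ∃ g, x = a * ι g := by
    obtain ⟨a, ha, g, e1 | ⟨k, hk, e1⟩⟩ := hd x hx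
    · exact ⟨a, ha, g, e1⟩
    · obtain ⟨a', ha', e2⟩ := C.pow_mul ha (mul_mem (C.hι g) hk.1) 2
      have c1 : k * ι g = ι (tw true g) * k := by rw [← hk.2.2, inv_mul_cancel_right]
      rw [← e1, pow_two (ι g * k), mul_assoc (ι g), ← mul_assoc k, c1, mul_assoc, hk.2.1, mul_one, ← map_mul] at e2
      obtain ⟨a'', ha'', e3⟩ := C.pow_mul ha' (C.hι (g * tw true g)) (m + 1)
      rw [← e2, ← pow_mul, show 2 * (m + 1) = orderOf x + 1 by omega, pow_succ, pow_orderOf_eq_one, one_mul,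
        ← map_pow] at e3
      exact ⟨_, ha'', _, e3⟩
  obtain ⟨a', ha', e1⟩ := C.pow_mul ha (C.hι g) (orderOf (a * ι g))
  rw [pow_orderOf_eq_one, ← map_pow] at e1
  have := odd hp h2 (g := g) (fun hg => by
    rw [(eq_one_iff C.hk).mpr hg, mul_one] at hp h2
    exact h2 ((Nat.prime_dvd_prime_iff_eq hp Nat.prime_two).mp
      (orderOf_dvd_of_pow_eq_one (by rw [pow_two, C.sq a ha]))))
    (C.center (by rw [eq_inv_of_mul_eq_one_right e1.symm]; exact inv_mem ha'))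
  rw [C.hρ, ← C.cf_eq] at this
  rw [C.cent_mul ha]
  exact this

theorem aut [Finite X] {k : X} (hk : k ∈ H) (hn : ∀ g, ∃ g', k * ι g * k⁻¹ = ι g') :
    ∃ (g : G) (j : ZMod 3) (ε : Bool), ∀ x, k * ι x * k⁻¹ = ι (g * dl j (tw ε x) * g⁻¹) := by
  obtain ⟨c1, c2, c3⟩ := C.cf_si
  refine Cfsg.Agent.H6.U6.aut (ι' := (MulAut.conj k).toMonoidHom.comp ι) C.hk ?_ hn ?_ fun g hg e1 => ?_
  · rw [← C.hk]; ext g; simp
  · obtain ⟨g, hg⟩ := hn (si 1)
    obtain ⟨z, hz, e2⟩ := exists_inv false (g := g) (by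
      rw [tw_false, ← eq_one_iff C.hk, map_mul, ← hg]
      calc _ = k * ι (si 1 * si 1) * k⁻¹ := by rw [map_mul]; group
        _ = 1 := by rw [si_sq, map_one]; group)
    have e3 : ι g = ι (g * z) := by rw [map_mul, (eq_one_iff C.hk).mpr hz, mul_one]
    obtain ⟨i, hi, y, e4⟩ := inv_class e2
    rw [tw_false] at e4
    have hc : IsConj (si i) (g * z) := isConj_iff.mpr ⟨y, e4.symm⟩
    have e5 := C.cf_isConj hc
    rw [← e3, ← hg, C.cf_conj hk, c1] at e5
    obtain rfl : i = 1 := by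
      interval_cases i
      · have : k * ι (si 1) * k⁻¹ = 1 := by rw [hg, e3, e4]; simp [sr]
        rw [conj_eq_one_iff, eq_one_iff C.hk] at this
        exact absurd (eq_one_of_sq this (si_sq 1)) fun e => by
          have := act_pm_e (sr 1) 0
          rw [← si, e, suAct_one] at this
          exact absurd this (by decide)
      · rfl
      · rw [c2] at e5; norm_num at e5
      · rw [c3] at e5; norm_num at e5
    exact ⟨g * z, hc, hg.trans e3⟩
  · have e2 := C.cf_isConj hg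
    change k * ι (si 3) * k⁻¹ = _ at e1
    rw [← e1, C.cf_conj hk, c2, c3] at e2
    norm_num at e2

end Cf

end Cfsg.Agent.H1.U6
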