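import Cfsg.Agent.L0.Code

/-!
Linear algebra over the field with two elements on bit vectors, for kernel computation.
-/

set_option autoImplicit false

namespace Cfsg.Agent.H1.U6

open Cfsg.Agent.L0.Code (frc frc_eq allB allB_iff anyB anyB_iff memb memb_iff memF memF_iff cntB cntB_eq)

/-- Column `i` (of width `W`) of a packed matrix. -/
def col (W M i : ℕ) : ℕ := Nat.mod (Nat.shiftRight M (Nat.mul W i)) (Nat.shiftLeft (nat_lit 1) W)

theorem col_eq (W M i : ℕ) : col W M i = M / 2 ^ (W * i) % 2 ^ W := by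
  change (M >>> (W * i)) % (1 <<< W) = _
  rw [Nat.shiftRight_eq_div_pow, Nat.shiftLeft_eq, one_mul]

theorem col_lt (W M i : ℕ) : col W M i < 2 ^ W := by
  rw [col_eq]; exact Nat.mod_lt _ (by positivity)

/-- Bit `i` of `n`. -/
def bt (n i : ℕ) : ℕ := Nat.mod (Nat.shiftRight n i) (nat_lit 2)

theorem bt_eq (n i : ℕ) : bt n i = if n.testBit i then 1 else 0 := by
  change (n >>> i) % 2 = _
  rw [Nat.testBit_eq_decide_div_mod_eq, Nat.shiftRight_eq_div_pow]
  rcases Nat.mod_two_eq_zero_or_one (n / 2 ^ i) with h | h <;> simp [h]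

/-- Boolean bit test. -/
def tb (n i : ℕ) : Bool := Nat.beq (bt n i) (nat_lit 1)

theorem tb_eq (n i : ℕ) : tb n i = n.testBit i := by
  rw [tb, bt_eq]; cases n.testBit i <;> rfl

/-- Apply a packed matrix with `w` columns of width `W` to a bit vector. -/
noncomputable def app (W w M n : ℕ) : ℕ :=
  frc M fun M => frc n fun n =>
    Nat.rec (nat_lit 0) (fun i ih => Nat.xor ih (Nat.mul (bt n i) (col W M i))) w

theorem app_zero (W M n : ℕ) : app W 0 M n = 0 := by rw [app, frc_eq, frc_eq]; rfl

theorem app_succ (W w M n : ℕ) :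
    app W (w + 1) M n = app W w M n ^^^ (if n.testBit w then col W M w else 0) := by
  rw [app, app, frc_eq, frc_eq, frc_eq, frc_eq]
  change _ ^^^ (bt n w * col W M w) = _
  rw [bt_eq]
  split_ifs <;> simp

theorem app_lt (W w M n : ℕ) : app W w M n < 2 ^ W := by
  induction w with
  | zero => rw [app_zero]; positivity
  | succ w ih =>
    rw [app_succ]
    refine Nat.xor_lt_two_pow ih ?_
    split_ifs
    · exact col_lt _ _ _
    · positivity

/-- Maps compatible with exclusive or. -/
def IsLin (f : ℕ → ℕ) : Prop := ∀ n m, f (n ^^^ m) = f n ^^^ f m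

theorem xor_shuffle (a b c d : ℕ) : (a ^^^ b) ^^^ (c ^^^ d) = (a ^^^ c) ^^^ (b ^^^ d) := by
  simp only [Nat.xor_assoc]
  rw [← Nat.xor_assoc b c d, Nat.xor_comm b c, Nat.xor_assoc]

theorem isLin_app (W w M : ℕ) : IsLin (app W w M) := fun n m => by
  induction w with
  | zero => simp [app_zero]
  | succ w ih =>
    rw [app_succ, app_succ, app_succ, ih, xor_shuffle, Nat.testBit_xor]
    cases n.testBit w <;> cases m.testBit w <;> simp

theorem IsLin.zero {f : ℕ → ℕ} (h : IsLin f) : f 0 = 0 := by
  have := h 0 0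
  rw [Nat.xor_self, Nat.xor_self] at this
  exact this

theorem isLin_id : IsLin (fun n => n) := fun _ _ => rfl

theorem IsLin.comp {f g : ℕ → ℕ} (hf : IsLin f) (hg : IsLin g) : IsLin (fun n => f (g n)) :=
  fun n m => by simp only [hg n m, hf _ _]

theorem IsLin.xor {f g : ℕ → ℕ} (hf : IsLin f) (hg : IsLin g) : IsLin (fun n => f n ^^^ g n) :=
  fun n m => by simp only [hg n m, hf _ _, xor_shuffle]

theorem xor_ind {P : ℕ → Prop} (h0 : P 0) (hx : ∀ n m, P n → P m → P (n ^^^ m)) (w : ℕ)
    (h : ∀ j < w, P (2 ^ j)) : ∀ n < 2 ^ w, P n := by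
  induction w with
  | zero => intro n hn; obtain rfl : n = 0 := by omega
            exact h0
  | succ w ih =>
    intro n hn
    have ih' := ih (fun j hj => h j (by omega))
    by_cases h1 : n < 2 ^ w
    · exact ih' n h1
    · have h2 : n ^^^ 2 ^ w < 2 ^ w := by
        apply Nat.lt_pow_two_of_testBit
        intro i hi
        rw [Nat.testBit_xor, Nat.testBit_two_pow]
        rcases hi.eq_or_lt with rfl | hi
        · have : n.testBit w = true := by
            rw [Nat.testBit_eq_decide_div_mod_eq, decide_eq_true_iff]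
            have a1 : n / 2 ^ w < 2 := Nat.div_lt_of_lt_mul (by rw [← pow_succ]; exact hn)
            have a2 : 1 ≤ n / 2 ^ w := (Nat.le_div_iff_mul_le (by positivity)).mpr (by omega)
            omega
          simp [this]
        · rw [Nat.testBit_lt_two_pow (lt_of_lt_of_le hn (Nat.pow_le_pow_right (by norm_num) hi))]
          simp; omega
      have e : n = (n ^^^ 2 ^ w) ^^^ 2 ^ w := by rw [Nat.xor_assoc, Nat.xor_self, Nat.xor_zero]
      rw [e]
      exact hx _ _ (ih' _ h2) (h w (by omega))

theorem lin_ext {f g : ℕ → ℕ} (hf : IsLin f) (hg : IsLin g) (w : ℕ)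
    (h : ∀ j < w, f (2 ^ j) = g (2 ^ j)) : ∀ n < 2 ^ w, f n = g n :=
  xor_ind (P := fun n => f n = g n) (by rw [hf.zero, hg.zero])
    (fun n m h1 h2 => by rw [hf, hg, h1, h2]) w h

/-- Raw bounded universal quantifier. -/
noncomputable def allN (P : ℕ → Bool) (n : ℕ) : Bool :=
  Nat.rec true (fun i ih => Bool.rec false ih (P i)) n

theorem allN_iff (P : ℕ → Bool) (n : ℕ) : allN P n = true ↔ ∀ i < n, P i = true := by
  induction n with
  | zero => simp [allN]
  | succ n ih =>
    have : allN P (n + 1) = (P n && allN P n) := by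
      unfold allN
      cases h : P n <;> simp [h]
    rw [this, Bool.and_eq_true, ih]
    constructor
    · rintro ⟨h1, h2⟩ i hi
      rcases (Nat.lt_succ_iff.mp hi).eq_or_lt with rfl | hi
      exacts [h1, h2 i hi]
    · exact fun h => ⟨h n (by omega), fun i hi => h i (by omega)⟩

/-- Power of two. -/
def p2 (j : ℕ) : ℕ := Nat.shiftLeft (nat_lit 1) j

theorem p2_eq (j : ℕ) : p2 j = 2 ^ j := by
  change 1 <<< j = _
  rw [Nat.shiftLeft_eq, one_mul]

/-- Two maps agree on the basis. -/
noncomputable def agr (w : ℕ) (f g : ℕ → ℕ) : Bool := allN (fun j => Nat.beq (f (p2 j)) (g (p2 j))) w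

theorem lin_agr {f g : ℕ → ℕ} (hf : IsLin f) (hg : IsLin g) {w : ℕ} (h : agr w f g = true) :
    ∀ n < 2 ^ w, f n = g n :=
  lin_ext hf hg w fun j hj => by
    have := (allN_iff _ _).mp h j hj
    rw [p2_eq] at this
    exact Nat.eq_of_beq_eq_true this

/-- Pack columns. -/
noncomputable def pack (W w : ℕ) (f : ℕ → ℕ) : ℕ :=
  Nat.rec (nat_lit 0) (fun i ih => Nat.add ih (Nat.shiftLeft (f i) (Nat.mul W i))) w

theorem pack_succ (W w : ℕ) (f : ℕ → ℕ) : pack W (w + 1) f = pack W w f + f w * 2 ^ (W * w) := by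
  change _ + (f w) <<< (W * w) = _
  rw [Nat.shiftLeft_eq]; rfl

theorem pack_lt (W w : ℕ) (f : ℕ → ℕ) (h : ∀ j, f j < 2 ^ W) : pack W w f < 2 ^ (W * w) := by
  induction w with
  | zero => simp [pack]
  | succ w ih =>
    rw [pack_succ, Nat.mul_succ, pow_add]
    have := h w
    nlinarith

theorem col_pack (W w : ℕ) (f : ℕ → ℕ) (h : ∀ j, f j < 2 ^ W) (i : ℕ) (hi : i < w) :
    col W (pack W w f) i = f i := by
  induction w with
  | zero => omega
  | succ w ih =>
    rw [col_eq, pack_succ]
    rcases Nat.lt_succ_iff_lt_or_eq.mp hi with hlt | rfl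
    · have := ih hlt
      rw [col_eq] at this
      obtain ⟨m, rfl⟩ : ∃ m, w = i + 1 + m := ⟨w - (i + 1), by omega⟩
      have e : f (i + 1 + m) * 2 ^ (W * (i + 1 + m)) =
          2 ^ (W * i) * (2 ^ W * (f (i + 1 + m) * 2 ^ (W * m))) := by ring
      rw [e, Nat.add_mul_div_left _ _ (by positivity), Nat.add_mul_mod_self_left, this]
    · rw [Nat.add_mul_div_right _ _ (by positivity), Nat.div_eq_of_lt (pack_lt W i f h), zero_add,
        Nat.mod_eq_of_lt (h i)]

/-- Product of square packed matrices. -/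
noncomputable def mul (w A B : ℕ) : ℕ :=
  frc A fun A => frc B fun B => pack w w (fun i => app w w A (col w B i))

theorem col_mul (w A B i : ℕ) (hi : i < w) : col w (mul w A B) i = app w w A (col w B i) := by
  rw [mul, frc_eq, frc_eq, col_pack _ _ _ (fun _ => app_lt _ _ _ _) _ hi]

/-- The identity matrix. -/
noncomputable def idm (w : ℕ) : ℕ := pack w w (fun i => Nat.mod (p2 i) (p2 w))

theorem col_idm (w i : ℕ) (hi : i < w) : col w (idm w) i = 2 ^ i := by
  rw [idm, col_pack _ _ _ (fun j => by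
    change p2 j % p2 w < _
    rw [p2_eq w]; exact Nat.mod_lt _ (by positivity)) _ hi]
  change p2 i % p2 w = _
  rw [p2_eq, p2_eq, Nat.mod_eq_of_lt (Nat.pow_lt_pow_right (by norm_num) hi)]

theorem col_xor (W A B i : ℕ) : col W (A ^^^ B) i = col W A i ^^^ col W B i := by
  rw [col_eq, col_eq, col_eq, Nat.xor_div_two_pow, Nat.xor_mod_two_pow]

theorem isLin_appM (W w n : ℕ) : IsLin (fun M => app W w M n) := fun A B => by
  induction w with
  | zero => simp [app_zero]
  | succ w ih =>
    simp only [app_succ] at ih ⊢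
    rw [ih, xor_shuffle, col_xor]
    split_ifs <;> simp

/-- Raw bounded counting. -/
noncomputable def cntN (P : ℕ → Bool) (n : ℕ) : ℕ :=
  Nat.rec (nat_lit 0) (fun i ih => Bool.rec ih (Nat.succ ih) (P i)) n

theorem cntN_eq (P : ℕ → Bool) (n : ℕ) : cntN P n = ((Finset.range n).filter (P · = true)).card := by
  induction n with
  | zero => rfl
  | succ n ih =>
    have : cntN P (n + 1) = cntN P n + if P n = true then 1 else 0 := by
      unfold cntN
      cases h : P n <;> simp [h]
    rw [this, ih, Finset.range_add_one, Finset.filter_insert]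
    split_ifs
    · rw [Finset.card_insert_of_notMem (by simp)]
    · rfl

section Ev

variable {V V' : Type*} [AddCommGroup V] [AddCommGroup V']

/-- The sum of the basis vectors selected by the bits of `n`. -/
def ev (b : ℕ → V) : ℕ → ℕ → V
  | 0, _ => 0
  | w + 1, n => ev b w n + if n.testBit w then b w else 0

theorem ev_zero (b : ℕ → V) (w : ℕ) : ev b w 0 = 0 := by
  induction w with
  | zero => rfl
  | succ w ih => simp [ev, ih]

/-- Characteristic two. -/
def Two (V : Type*) [AddCommGroup V] : Prop := ∀ v : V, v + v = 0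

theorem Two.neg (h : Two V) (v : V) : -v = v := neg_eq_of_add_eq_zero_left (h v)

theorem Two.eq_of_add (h : Two V) {u v : V} (e : u + v = 0) : u = v := by
  rw [← h.neg v]; exact eq_neg_of_add_eq_zero_left e

theorem ev_xor (h : Two V) (b : ℕ → V) (w n m : ℕ) : ev b w (n ^^^ m) = ev b w n + ev b w m := by
  induction w with
  | zero => simp [ev]
  | succ w ih =>
    rw [ev, ev, ev, ih, Nat.testBit_xor, add_add_add_comm]
    cases n.testBit w <;> cases m.testBit w <;> simp [h (b w)]

theorem ev_two_pow (b : ℕ → V) {w j : ℕ} (hj : j < w) : ev b w (2 ^ j) = b j := by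
  induction w with
  | zero => omega
  | succ w ih =>
    rw [ev, Nat.testBit_two_pow]
    rcases Nat.lt_succ_iff_lt_or_eq.mp hj with hlt | rfl
    · rw [ih hlt]; simp [hlt.ne]
    · have : ∀ k ≤ j, ev b k (2 ^ j) = 0 := by
        intro k hk
        induction k with
        | zero => rfl
        | succ k ih2 => rw [ev, ih2 (by omega), Nat.testBit_two_pow]; simp; omega
      rw [this j le_rfl]; simp

theorem map_ev (x : V →+ V') (b : ℕ → V) (w n : ℕ) : x (ev b w n) = ev (fun i => x (b i)) w n := by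
  induction w with
  | zero => simp [ev]
  | succ w ih => rw [ev, ev, map_add, ih]; split_ifs <;> simp

theorem ev_congr {b b' : ℕ → V} {w : ℕ} (h : ∀ i < w, b i = b' i) (n : ℕ) : ev b w n = ev b' w n := by
  induction w with
  | zero => rfl
  | succ w ih => rw [ev, ev, ih (fun i hi => h i (by omega)), h w (by omega)]

theorem ev_app (h : Two V) (b : ℕ → V) (w' W w M n : ℕ) :
    ev b w' (app W w M n) = ev (fun i => ev b w' (col W M i)) w n := by
  induction w with
  | zero => rw [app_zero, ev_zero]; rfl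
  | succ w ih => rw [app_succ, ev_xor h, ih, ev]; split_ifs <;> simp [ev_zero]

theorem ev_mem (S : AddSubgroup V) {b : ℕ → V} {w : ℕ} (h : ∀ i < w, b i ∈ S) (n : ℕ) : ev b w n ∈ S := by
  induction w with
  | zero => exact S.zero_mem
  | succ w ih =>
    rw [ev]
    refine S.add_mem (ih fun i hi => h i (by omega)) ?_
    split_ifs
    exacts [h w (by omega), S.zero_mem]

/-- A basis of a finite group of exponent two. -/
structure Bas (b : ℕ → V) (w : ℕ) : Prop where
  two : Two V
  inj : ∀ n < 2 ^ w, ev b w n = 0 → n = 0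
  surj : ∀ v, ∃ n < 2 ^ w, ev b w n = v

theorem Bas.eq {b : ℕ → V} {w : ℕ} (h : Bas b w) {n m : ℕ} (hn : n < 2 ^ w) (hm : m < 2 ^ w)
    (e : ev b w n = ev b w m) : n = m :=
  Nat.eq_of_xor_eq_zero (h.inj _ (Nat.xor_lt_two_pow hn hm) (by rw [ev_xor h.two, e, h.two]))

theorem bas_of_inj [Finite V] {b : ℕ → V} {w : ℕ} (h2 : Two V) (hc : Nat.card V = 2 ^ w)
    (h : ∀ n < 2 ^ w, ev b w n = 0 → n = 0) : Bas b w := by
  refine ⟨h2, h, fun v => ?_⟩
  let f : Fin (2 ^ w) → V := fun n => ev b w n
  have hf : Function.Injective f := fun n m e => Fin.ext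
    (Nat.eq_of_xor_eq_zero (h _ (Nat.xor_lt_two_pow n.2 m.2) (by
      rw [ev_xor h2]; change f n + f m = 0; rw [e, h2])))
  obtain ⟨n, hn⟩ := (hf.bijective_of_nat_card_le (by simp [hc])).2 v
  exact ⟨n, n.2, hn⟩

/-- The endomorphism `x` has the packed matrix `M`. -/
def Rep (b : ℕ → V) (w : ℕ) (x : AddMonoid.End V) (M : ℕ) : Prop :=
  ∀ i < w, x (b i) = ev b w (col w M i)

variable {b : ℕ → V} {w : ℕ} {x y : AddMonoid.End V} {M M' : ℕ}

theorem Rep.app (h2 : Two V) (h : Rep b w x M) (n : ℕ) : x (ev b w n) = ev b w (app w w M n) := by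
  rw [ev_app h2, ← ev_congr h]; exact map_ev x b w n

theorem Rep.mul (h2 : Two V) (h : Rep b w x M) (h' : Rep b w y M') : Rep b w (x * y) (mul w M M') :=
  fun i hi => by rw [col_mul _ _ _ _ hi, ← h.app h2, ← h' i hi]; rfl

theorem rep_one : Rep b w 1 (idm w) := fun i hi => by rw [col_idm _ _ hi, ev_two_pow b hi]; rfl

theorem Rep.add (h2 : Two V) (h : Rep b w x M) (h' : Rep b w y M') : Rep b w (x + y) (M ^^^ M') :=
  fun i hi => by rw [col_xor, ev_xor h2, ← h i hi, ← h' i hi]; rfl

theorem rep_zero : Rep b w 0 0 := fun i _ => by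
  rw [col_eq]; simp [ev_zero]

theorem Rep.ext (hb : Bas b w) (h : Rep b w x M) (h' : Rep b w y M) : x = y := by
  ext v
  obtain ⟨n, -, rfl⟩ := hb.surj v
  rw [h.app hb.two, h'.app hb.two]

/-- Equality of packed matrices column by column. -/
noncomputable def meq (w A B : ℕ) : Bool :=
  frc A fun A => frc B fun B => allN (fun i => Nat.beq (col w A i) (col w B i)) w

theorem Rep.of_meq (h : Rep b w x M) (e : meq w M M' = true) : Rep b w x M' := fun i hi => by
  rw [meq, frc_eq, frc_eq, allN_iff] at e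
  rw [h i hi, Nat.eq_of_beq_eq_true (e i hi)]

theorem Rep.meq (hb : Bas b w) (h : Rep b w x M) (h' : Rep b w x M') : meq w M M' = true := by
  rw [U6.meq, frc_eq, frc_eq, allN_iff]
  intro i hi
  rw [hb.eq (col_lt _ _ _) (col_lt _ _ _) ((h i hi).symm.trans (h' i hi))]
  exact Nat.beq_refl _

theorem exists_rep (hb : Bas b w) (x : AddMonoid.End V) : ∃ M, Rep b w x M := by
  choose f hf using fun i => hb.surj (x (b i))
  exact ⟨pack w w f, fun i hi => by rw [col_pack _ _ _ (fun j => (hf j).1) _ hi, (hf i).2]⟩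

theorem ev_lin (h2 : Two V') (h2' : Two V) (f : V →+ V') {g : ℕ → ℕ} (hg : IsLin g) (b' : ℕ → V') (w' : ℕ)
    (h : ∀ i < w, f (b i) = ev b' w' (g (2 ^ i))) : ∀ n < 2 ^ w, f (ev b w n) = ev b' w' (g n) :=
  xor_ind (P := fun n => f (ev b w n) = ev b' w' (g n)) (by rw [hg.zero, ev_zero, ev_zero, map_zero])
    (fun n m h1 h3 => by rw [ev_xor h2', hg, ev_xor h2, map_add, h1, h3]) w
    (fun j hj => by rw [ev_two_pow b hj, h j hj])

theorem Bas.card (hb : Bas b w) (P : V → Prop) (p : ℕ → Bool)
    (h : ∀ n < 2 ^ w, p n = true ↔ P (ev b w n)) : Nat.card {v // P v} = cntN p (2 ^ w) := by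
  rw [cntN_eq, ← Nat.card_eq_finsetCard]
  refine (Nat.card_eq_of_bijective (fun n : ↥((Finset.range (2 ^ w)).filter (p · = true)) =>
    (⟨ev b w n.1, (h _ (by simpa using (Finset.mem_filter.mp n.2).1)).mp
      (Finset.mem_filter.mp n.2).2⟩ : {v // P v})) ⟨fun n m e => Subtype.ext (hb.eq ?_ ?_ ?_), ?_⟩).symm
  · simpa using (Finset.mem_filter.mp n.2).1
  · simpa using (Finset.mem_filter.mp m.2).1
  · exact congrArg Subtype.val e
  · rintro ⟨v, hv⟩
    obtain ⟨n, hn, rfl⟩ := hb.surj v
    exact ⟨⟨n, Finset.mem_filter.mpr ⟨by simpa using hn, (h n hn).mpr hv⟩⟩, rfl⟩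

/-- An endomorphism commuting with enough known endomorphisms. -/
theorem comm_rep (h2 : Two V) {u n0 Bi : ℕ} (h0 : x (ev b w u) = ev b w n0) (Ws : ℕ → AddMonoid.End V)
    (Wc : ℕ → ℕ) (hW : ∀ k < w, Rep b w (Ws k) (Wc k)) (hc : ∀ k < w, x * Ws k = Ws k * x)
    (hB : meq w (mul w (pack w w fun k => app w w (Wc k) u) Bi) (idm w) = true) :
    Rep b w x (mul w (pack w w fun k => app w w (Wc k) n0) Bi) := fun i hi => by
  rw [meq, frc_eq, frc_eq, allN_iff] at hB
  have e := Nat.eq_of_beq_eq_true (hB i hi)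
  rw [col_idm _ _ hi, col_mul _ _ _ _ hi] at e
  rw [← ev_two_pow b hi, ← e, col_mul _ _ _ _ hi, ev_app h2, ev_app h2]
  refine (map_ev x _ _ _).trans (ev_congr (fun k hk => ?_) _)
  rw [col_pack _ _ _ (fun _ => app_lt _ _ _ _) _ hk, col_pack _ _ _ (fun _ => app_lt _ _ _ _) _ hk,
    ← (hW k hk).app h2, ← (hW k hk).app h2, ← h0]
  exact DFunLike.congr_fun (hc k hk) _

/-- A set of numbers closed under exclusive or with many leading bits is large. -/
theorem two_pow_le_card (S : ℕ → Prop) [DecidablePred S] (h0 : S 0) (hx : ∀ n m, S n → S m → S (n ^^^ m))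
    (p : ℕ → Bool) (hp : ∀ t, p t = true → ∃ y, S y ∧ y ≠ 0 ∧ y.log2 = t) (t : ℕ) :
    2 ^ cntN p t ≤ ((Finset.range (2 ^ t)).filter S).card := by
  induction t with
  | zero => exact Finset.card_pos.mpr ⟨0, by simp [h0]⟩
  | succ t ih =>
    have e : cntN p (t + 1) = cntN p t + if p t = true then 1 else 0 := by
      unfold cntN
      cases h : p t <;> simp [h]
    have hsub : (Finset.range (2 ^ t)).filter S ⊆ (Finset.range (2 ^ (t + 1))).filter S :=
      Finset.filter_subset_filter _ (Finset.range_subset_range.mpr (Nat.pow_le_pow_right (by norm_num) (by omega)))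
    rw [e]
    split_ifs with h
    · obtain ⟨y, hy, hy0, rfl⟩ := hp t h
      have y1 : 2 ^ y.log2 ≤ y := Nat.log2_self_le hy0
      have y2 : y < 2 ^ (y.log2 + 1) := Nat.lt_log2_self
      have yb : y.testBit y.log2 = true := Nat.testBit_log2 hy0
      set A := (Finset.range (2 ^ y.log2)).filter S
      have hd : Disjoint A (A.image (· ^^^ y)) := by
        rw [Finset.disjoint_left]
        intro a ha hb
        obtain ⟨c, hc, rfl⟩ := Finset.mem_image.mp hb
        have a1 := Nat.testBit_lt_two_pow (Finset.mem_range.mp (Finset.mem_filter.mp ha).1)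
        have a2 := Nat.testBit_lt_two_pow (Finset.mem_range.mp (Finset.mem_filter.mp hc).1)
        rw [Nat.testBit_xor, a2, yb] at a1
        exact absurd a1 (by decide)
      have hi : (A.image (· ^^^ y)).card = A.card := Finset.card_image_of_injective _ fun a c e => by
        have : (a ^^^ y) ^^^ y = (c ^^^ y) ^^^ y := congrArg (· ^^^ y) e
        simpa [Nat.xor_assoc] using this
      have := Finset.card_le_card (Finset.union_subset hsub (show A.image (· ^^^ y) ⊆ _ from fun a ha => by
        obtain ⟨c, hc, rfl⟩ := Finset.mem_image.mp ha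
        have hc' := hsub hc
        rw [Finset.mem_filter, Finset.mem_range] at hc' ⊢
        exact ⟨Nat.xor_lt_two_pow hc'.1 y2, hx _ _ hc'.2 hy⟩))
      rw [Finset.card_union_of_disjoint hd, hi] at this
      rw [pow_succ]; omega
    · exact ih.trans (Finset.card_le_card hsub)

/-- Reduce a vector by a list of pivots. -/
noncomputable def red (l : List ℕ) (c : ℕ) : ℕ :=
  List.rec c (fun p _ ih => frc ih fun c => Bool.rec c (Nat.xor c p) (Nat.blt (Nat.xor c p) c)) l

/-- Pivots of the column space. -/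
noncomputable def piv (w M k : ℕ) : List ℕ :=
  Nat.rec [] (fun i ih => frc (red ih (col w M i)) fun c => Bool.rec (c :: ih) ih (Nat.beq c (nat_lit 0))) k

/-- A lower bound for the rank. -/
noncomputable def rk (w M : ℕ) : ℕ := frc M fun M =>
  cntN (fun t => anyB (fun y => Nat.beq (Nat.log2 y) t) (piv w M w)) w

theorem red_mem {S : ℕ → Prop} (hx : ∀ n m, S n → S m → S (n ^^^ m)) {l : List ℕ} (hl : ∀ y ∈ l, S y)
    {c : ℕ} (hc : S c) : S (red l c) := by
  induction l with
  | nil => exact hc
  | cons p l ih =>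
    have ih' := ih fun y hy => hl y (List.mem_cons_of_mem _ hy)
    have e : red (p :: l) c = Bool.rec (motive := fun _ => ℕ) (red l c) (red l c ^^^ p)
      (Nat.blt (red l c ^^^ p) (red l c)) := frc_eq (red l c) (fun c => Bool.rec (motive := fun _ => ℕ) c
        (Nat.xor c p) (Nat.blt (Nat.xor c p) c))
    rw [e]
    cases Nat.blt (red l c ^^^ p) (red l c)
    exacts [ih', hx _ _ ih' (hl p List.mem_cons_self)]

theorem piv_mem {S : ℕ → Prop} (hx : ∀ n m, S n → S m → S (n ^^^ m)) {w M : ℕ} (k : ℕ)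
    (h : ∀ i < k, S (col w M i)) : ∀ y ∈ piv w M k, S y ∧ y ≠ 0 := by
  induction k with
  | zero => intro y hy; exact absurd hy List.not_mem_nil
  | succ k ih =>
    have ih' := ih fun i hi => h i (by omega)
    have e : piv w M (k + 1) = Bool.rec (motive := fun _ => List ℕ)
      (red (piv w M k) (col w M k) :: piv w M k) (piv w M k)
      (Nat.beq (red (piv w M k) (col w M k)) 0) := frc_eq (red (piv w M k) (col w M k))
        (fun c => Bool.rec (motive := fun _ => List ℕ) (c :: piv w M k) (piv w M k) (Nat.beq c 0))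
    rw [e]
    cases hb : Nat.beq (red (piv w M k) (col w M k)) 0
    · intro y hy
      rcases List.mem_cons.mp hy with rfl | hy
      · exact ⟨red_mem hx (fun y hy => (ih' y hy).1) (h k (by omega)), Nat.ne_of_beq_eq_false hb⟩
      · exact ih' y hy
    · exact ih'

theorem card_ker_le [Finite V] (hb : Bas b w) (h : Rep b w x M) :
    Nat.card (AddMonoidHom.ker (x : V →+ V)) * 2 ^ rk w M ≤ 2 ^ w := by
  classical
  have e1 : Nat.card V = 2 ^ w := by
    have := hb.card (fun _ => True) (fun _ => true) (by simp)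
    rw [cntN_eq] at this
    simpa using this
  have e2 := AddSubgroup.card_eq_card_quotient_mul_card_addSubgroup (AddMonoidHom.ker (x : V →+ V))
  rw [Nat.card_congr (QuotientAddGroup.quotientKerEquivRange (x : V →+ V)).toEquiv, e1] at e2
  have e3 := hb.card (fun v => v ∈ AddMonoidHom.range (x : V →+ V))
    (fun n => decide (ev b w n ∈ AddMonoidHom.range (x : V →+ V))) (by simp)
  have hx : ∀ n m, ev b w n ∈ AddMonoidHom.range (x : V →+ V) → ev b w m ∈ AddMonoidHom.range (x : V →+ V) →
      ev b w (n ^^^ m) ∈ AddMonoidHom.range (x : V →+ V) := fun n m h1 h3 => by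
    rw [ev_xor hb.two]; exact add_mem h1 h3
  have e4 := two_pow_le_card (fun n => ev b w n ∈ AddMonoidHom.range (x : V →+ V))
    (by rw [ev_zero]; exact zero_mem _) hx
    (fun t => anyB (fun y => Nat.beq (Nat.log2 y) t) (piv w M w)) (fun t ht => by
      obtain ⟨y, hy, e⟩ := (anyB_iff _ _).mp ht
      have := piv_mem hx w (fun i hi => ⟨b i, h i hi⟩) y hy
      exact ⟨y, this.1, this.2, Nat.eq_of_beq_eq_true e⟩) w
  rw [cntN_eq] at e3
  simp only [decide_eq_true_eq] at e3
  rw [rk, frc_eq, e2, mul_comm]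
  exact Nat.mul_le_mul_right _ (e4.trans (le_of_eq e3.symm))

end Ev

/-! ### Breadth first search -/

/-- Push the unvisited members of a list. -/
noncomputable def push (k : List ℕ → ℕ → ℕ) (ys : List ℕ) : List ℕ → ℕ → ℕ :=
  List.rec k (fun y _ ih st vis => frc y fun y => Bool.rec
    (frc (Nat.lor vis (p2 y)) fun vis => ih (y :: st) vis) (ih st vis) (tb vis y)) ys

/-- Closure of a list under `step`, as a bit set. -/
noncomputable def bfs (step : ℕ → List ℕ) (fuel : ℕ) : List ℕ → ℕ → ℕ :=
  Nat.rec (fun _ vis => vis)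
    (fun _ ih st vis => List.rec vis (fun x st _ => push ih (step x) st vis) st) fuel

theorem push_spec {P : ℕ → Prop} {k : List ℕ → ℕ → ℕ}
    (hk : ∀ st vis, (∀ x ∈ st, P x) → (∀ n, vis.testBit n → P n) → ∀ n, (k st vis).testBit n → P n)
    (ys : List ℕ) (hy : ∀ y ∈ ys, P y) (st : List ℕ) (vis : ℕ) (h1 : ∀ x ∈ st, P x)
    (h2 : ∀ n, vis.testBit n → P n) : ∀ n, (push k ys st vis).testBit n → P n := by
  induction ys generalizing st vis with
  | nil => exact hk st vis h1 h2
  | cons y ys ih =>
    have e : push k (y :: ys) st vis =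
        if tb vis y then push k ys st vis else push k ys (y :: st) (vis ||| p2 y) := by
      refine (frc_eq y (fun y => Bool.rec (motive := fun _ => ℕ)
        (frc (Nat.lor vis (p2 y)) fun vis => push k ys (y :: st) vis) (push k ys st vis)
        (tb vis y))).trans ?_
      cases tb vis y
      · exact frc_eq _ _
      · rfl
    have hy' : ∀ z ∈ ys, P z := fun z hz => hy z (List.mem_cons_of_mem _ hz)
    rw [e]
    split_ifs
    · exact ih hy' st vis h1 h2
    · refine ih hy' _ _ (fun x hx => ?_) (fun n hn => ?_)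
      · rcases List.mem_cons.mp hx with rfl | hx
        exacts [hy _ List.mem_cons_self, h1 x hx]
      · rw [Nat.testBit_or, p2_eq, Nat.testBit_two_pow, Bool.or_eq_true] at hn
        rcases hn with hn | hn
        · exact h2 n hn
        · rw [← of_decide_eq_true hn]; exact hy _ List.mem_cons_self

theorem bfs_spec {P : ℕ → Prop} {step : ℕ → List ℕ} (hs : ∀ x, P x → ∀ y ∈ step x, P y) (fuel : ℕ) :
    ∀ st vis, (∀ x ∈ st, P x) → (∀ n, vis.testBit n → P n) →
      ∀ n, (bfs step fuel st vis).testBit n → P n := by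
  induction fuel with
  | zero => exact fun st vis _ h => h
  | succ f ih =>
    intro st vis h1 h2
    cases st with
    | nil => exact h2
    | cons x st =>
      exact push_spec ih (step x) (hs x (h1 x List.mem_cons_self)) st vis
        (fun z hz => h1 z (List.mem_cons_of_mem _ hz)) h2

/-- The orbit of a list of vectors under a list of matrices. -/
noncomputable def orb (w : ℕ) (gs st : List ℕ) (fuel : ℕ) : ℕ :=
  push (bfs (fun x => List.rec [] (fun M _ ih => app w w M x :: ih) gs) fuel) st [] (nat_lit 0)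

theorem orb_spec {P : ℕ → Prop} {w : ℕ} {gs st : List ℕ} (hs : ∀ M ∈ gs, ∀ x, P x → P (app w w M x))
    (h : ∀ x ∈ st, P x) (fuel n : ℕ) (hn : tb (orb w gs st fuel) n = true) : P n := by
  rw [tb_eq] at hn
  refine push_spec (bfs_spec (fun x hx => ?_) fuel) st h [] 0 (by simp) (by simp) n hn
  clear hn
  induction gs with
  | nil => simp
  | cons M gs ih =>
    intro y hy
    rcases List.mem_cons.mp hy with rfl | hy
    · exact hs M List.mem_cons_self x hx
    · exact ih (fun M' hM => hs M' (List.mem_cons_of_mem _ hM)) y hy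

attribute [irreducible] app pack mul idm meq rk orb allN cntN agr

end Cfsg.Agent.H1.U6
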