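import Cfsg.Agent.H1.U6Inv

/-!
The twenty dimensional module of `SU₆(2)`: codes and definitions.
-/

set_option autoImplicit false

namespace Cfsg.Agent.H1.U6

open Cfsg.Agent.H6 (F4 card_F4)
open Equiv
open Matrix hiding swap_mul_self

/-- Codes of the generators on the twenty dimensional module. -/
def g20 (i : ℕ) : ℕ := col (nat_lit 400) (nat_lit 296141405042252450190696577051543040755927302218095329966311774491819629594547053546512047536221790204596973174394536015667869445933275433315716813016593829594990988333347162145248353219255129625526909980054241245147238675446290307642179025303854469976795143481126755187163445970995229135122167167686725299468236941664025336981692460853338874233969849346449365797253786943429269038505426491716570924571612338256753927823087897054888620175584942272370251370236440944425907979594205714105048222811593036758400125351426325998096553032975605901040741343611512740336220865802309209264030038885582835550428902652716022061665425493109334453193369536155251321019963504091541058934043443557535227349045840517979381940906383044773219168736354063471620956053624045613058951553366761912232129534964548089349286434890301878012854990896648650872572287785196045324980649854366458193019695591635931232468613081436792698789093045942847539410488233681055735720749775152157581901825)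 (Nat.mod i (nat_lit 8))

/-- Code of the field automorphism on the twenty dimensional module. -/
def gam : ℕ := nat_lit 645563700834567568932846667444585810573406530531104277292081536568183580280167604868383696022083139226962010668765544450

/-- The code of a word in the twenty dimensional module. -/
noncomputable def e20 (l : List ℕ) : ℕ := evc 20 g20 l

/-- The module in its standard basis. -/
structure Mod {V : Type*} [AddCommGroup V] (ρ : G →* AddMonoid.End V) (b : ℕ → V) : Prop where
  bas : Bas b 20
  rep : ∀ i, Rep b 20 (ρ (gen i)) (g20 i)

theorem Mod.evw {V : Type*} [AddCommGroup V] {ρ : G →* AddMonoid.End V} {b : ℕ → V} (h : Mod ρ b)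
    (l : List ℕ) : Rep b 20 (ρ (evw l)) (e20 l) := rep_evw h.bas.two h.rep l

/-- The centre. -/
abbrev ZG : Subgroup G := Subgroup.center G

/-- The element has order three modulo the centre. -/
def O3 (x : G) : Prop := x ∉ ZG ∧ x ^ 3 ∈ ZG

/-- The elements generate an elementary abelian group of order nine modulo the centre. -/
def E9 (x y : G) : Prop := x * y * x⁻¹ * y⁻¹ ∈ ZG ∧ O3 x ∧ O3 y ∧ O3 (x * y) ∧ O3 (x * y⁻¹)

/-- The standard involutions. -/
def si (i : ℕ) : G := pm (sr i)

/-- The diagonal matrix with last entry a power of `ω`. -/
def dv (j : ZMod 3) : V6 := ![1, 1, 1, 1, 1, w3 j]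

/-- The diagonal automorphisms. -/
def dl (j : ZMod 3) : G →* G := UF.semi (RingHom.id F4) (dv j) (by revert j; decide)

theorem act_dl (j : ZMod 3) (g : G) (v : V6) : suAct (dl j g) (dv j * v) = dv j * suAct g v := by
  have : ∀ j k, UF.σ (dv j k) * dv j k = 1 := by decide
  funext i
  simp only [suAct_def, mulVec, dotProduct, dl, UField.semi_apply, RingHom.id_apply, Pi.mul_apply,
    Finset.mul_sum]
  refine Finset.sum_congr rfl fun k _ => ?_
  linear_combination (dv j i * suMat g i k * v k) * this j k

theorem dv_add (i j : ZMod 3) : dv (i + j) = dv i * dv j := by revert i j; decide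

theorem dv_zero : dv 0 = 1 := by decide

theorem act_dl' (j : ZMod 3) (g : G) (v : V6) : suAct (dl j g) v = dv j * suAct g (dv (-j) * v) := by
  rw [← act_dl, ← mul_assoc, ← dv_add, add_neg_cancel, dv_zero, one_mul]

theorem dl_dl (i j : ZMod 3) (g : G) : dl i (dl j g) = dl (i + j) g := g_ext fun v => by
  rw [act_dl', act_dl', act_dl', ← mul_assoc, ← mul_assoc, ← dv_add, ← dv_add, neg_add_rev]

theorem dl_zero (g : G) : dl 0 g = g := g_ext fun v => by
  rw [act_dl', neg_zero, dv_zero, one_mul, one_mul]

theorem tw_dl (j : ZMod 3) (g : G) : tw true (dl j g) = dl (-j) (tw true g) := g_ext fun v => by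
  have : ∀ (j : ZMod 3) (u : V6), tau true ∘ (dv j * u) = dv (-j) * (tau true ∘ u) := fun j u => by
    have : ∀ j k, tau true (dv j k) = dv (-j) k := by decide
    funext k; simp only [Function.comp_apply, Pi.mul_apply, map_mul, this]
  rw [act_tw', act_dl', act_dl', act_tw', this, neg_neg, this]

theorem mem_ZG_map {f : G →* G} (hf : Function.Injective f) {g : G} : f g ∈ ZG ↔ g ∈ ZG := by
  have hs := Finite.injective_iff_surjective.mp hf
  simp only [Subgroup.mem_center_iff]
  refine ⟨fun h x => hf (by rw [map_mul, map_mul, h]), fun h x => ?_⟩
  obtain ⟨y, rfl⟩ := hs x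
  rw [← map_mul, ← map_mul, h]

theorem dl_injective (j : ZMod 3) : Function.Injective (dl j) := UF.semi_injective _ _ _

theorem tw_injective (b : Bool) : Function.Injective (tw b) := UF.semi_injective _ _ _

/-- Code of the field automorphism on the natural module. -/
def frc12 : ℕ := nat_lit 16726920277616186443403424698584896704098305

/-- The field automorphism on the natural module. -/
def fr6 : AddMonoid.End V6 := AddMonoidHom.mk' (fun v => tau true ∘ v) fun u v => funext fun i => map_add _ _ _

theorem rep_fr6 : Rep b6 12 fr6 frc12 := by
  simp only [Rep, fr6]; decide +kernel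

theorem rep_tw {g : G} {M : ℕ} (h : Rep b6 12 (act g) M) :
    Rep b6 12 (act (tw true g)) (mul 12 frc12 (mul 12 M frc12)) := by
  have : act (tw true g) = fr6 * (act g * fr6) := AddMonoidHom.ext fun v => act_tw' true g v
  rw [this]; exact rep_fr6.mul two6 (h.mul two6 rep_fr6)

/-- Codes of the diagonal matrices on the natural module. -/
def dlc (j : ZMod 3) : ℕ := if j = 0 then nat_lit 11151733894906779683522195341810241573494785 else if j = 1 then nat_lit 16728281324007119222759978408402059022835713 else nat_lit 5579269854209491405845972770507605342691329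

/-- The diagonal matrices on the natural module. -/
def dl6 (j : ZMod 3) : AddMonoid.End V6 := AddMonoidHom.mk' (fun v => dv j * v) (mul_add _)

theorem rep_dl6 (j : ZMod 3) : Rep b6 12 (dl6 j) (dlc j) := by
  revert j; simp only [Rep, dl6]; decide +kernel

theorem rep_dl (j : ZMod 3) {g : G} {M : ℕ} (h : Rep b6 12 (act g) M) :
    Rep b6 12 (act (dl j g)) (mul 12 (dlc j) (mul 12 M (dlc (-j)))) := by
  have : act (dl j g) = dl6 j * (act g * dl6 (-j)) := AddMonoidHom.ext fun v => act_dl' j g v
  rw [this]; exact (rep_dl6 j).mul two6 (h.mul two6 (rep_dl6 (-j)))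

theorem not_mem_ZG_of_inZ {g : G} {M : ℕ} (h : Rep b6 12 (act g) M) (e : inZ M = false) : g ∉ ZG := by
  intro hg
  rw [inZ, Cfsg.Agent.L0.Code.frc_eq, Bool.or_eq_false_iff, Bool.or_eq_false_iff] at e
  have k : ∀ M', Rep b6 12 (act g) M' → meq 12 M M' ≠ false := fun M' h' => by
    rw [h.meq bas6 h']; exact Bool.noConfusion
  rcases mem_center_iff.mp hg with e' | e' | e'
  · exact k _ (by rw [e', map_one]; exact rep_one) e.1.1
  · exact k _ (by rw [e']; exact rep_zc) e.1.2
  · exact k _ (by rw [e', map_mul]; exact rep_zc.mul two6 rep_zc) e.2

end Cfsg.Agent.H1.U6
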