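import Cfsg.Agent.H1.U6Bit
import Cfsg.Agent.H1.UNorm
import Cfsg.Agent.H6.Transfer

/-!
The group `SU₆(2)`: generators, codes, centre, order.
-/

set_option autoImplicit false

namespace Cfsg.Agent.H1.U6

open Cfsg.Agent.L0.Code (frc frc_eq allB allB_iff anyB anyB_iff memb memb_iff memF memF_iff cntB cntB_eq)
open Cfsg.Agent.H6 (F4 card_F4)
open Equiv Matrix

/-- A generator of the multiplicative group. -/
def om : F4 := ⟨0, 1⟩

/-- The Frobenius map. -/
def sg : F4 →+* F4 where
  toFun x := x * x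
  map_one' := by decide
  map_mul' := by decide
  map_zero' := by decide
  map_add' := by decide

/-- The field with four elements and its involution. -/
def UF : UField F4 2 := ⟨sg, fun x => (sq x).symm, card_F4⟩

/-- The group. -/
abbrev G : Type := SU 6 F4 2

/-- The natural module. -/
abbrev V6 : Type := Fin 6 → F4

theorem two4 : ∀ x : F4, x + x = 0 := by decide

theorem two6 : Two V6 := fun v => funext fun i => two4 (v i)

theorem cases4 : ∀ x : F4, x = 0 ∨ x = 1 ∨ x = om ∨ x = om * om := by decide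

/-- The action on the natural module. -/
def act : G →* AddMonoid.End V6 where
  toFun g := (suAct g).toAddMonoidHom
  map_one' := AddMonoidHom.ext fun v => suAct_one v
  map_mul' g h := AddMonoidHom.ext fun v => suAct_mul g h v

theorem act_apply (g : G) (v : V6) : act g v = suAct g v := rfl

theorem act_injective : Function.Injective act := fun _ _ e => su_ext fun _ => DFunLike.congr_fun e _

/-- The basis over the prime field. -/
def b6 (i : ℕ) : V6 := fun j => if i / 2 = j.1 then (if i % 2 = 0 then 1 else om) else 0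

/-- The basis of the field. -/
def b1 (i : ℕ) : F4 := if i = 0 then 1 else om

theorem ev6_apply (n : ℕ) (j : Fin 6) : ev b6 12 n j =
    (if n.testBit (2 * j.1) then 1 else 0) + (if n.testBit (2 * j.1 + 1) then om else 0) := by
  fin_cases j <;> simp [ev, b6, ite_apply]

theorem bas6 : Bas b6 12 := bas_of_inj two6 (by simp [card_F4]) fun n hn h => by
  have key : ∀ x y : Bool, (if x then (1 : F4) else 0) + (if y then om else 0) = 0 → x = false ∧ y = false := by
    decide
  apply Nat.eq_of_testBit_eq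
  intro i
  rw [Nat.zero_testBit]
  by_cases hi : i < 12
  · have := key _ _ ((ev6_apply n ⟨i / 2, by omega⟩).symm.trans (congrFun h _))
    rcases Nat.mod_two_eq_zero_or_one i with e | e
    · rw [← this.1]; congr 1; simp only; omega
    · rw [← this.2]; congr 1; simp only; omega
  · exact Nat.testBit_lt_two_pow (lt_of_lt_of_le hn (Nat.pow_le_pow_right (by norm_num) (by omega)))

theorem bas1 : Bas b1 2 := bas_of_inj two4 (by simp [card_F4]) (by decide)

/-- The code of the Hermitian form. -/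
noncomputable def hc (n m : ℕ) : ℕ := app 2 12 (app 24 12 (nat_lit 217578932603342554428740004477667171021502337359945457500511109009754921828592534945801) m) n

theorem hc_basis : ∀ i < 12, ∀ j < 12, UF.H (b6 i) (b6 j) = ev b1 2 (hc (2 ^ i) (2 ^ j)) := by
  simp only [UField.H_def]
  decide +kernel

theorem H_ev {n m : ℕ} (hn : n < 2 ^ 12) (hm : m < 2 ^ 12) :
    UF.H (ev b6 12 n) (ev b6 12 m) = ev b1 2 (hc n m) := by
  have h1 : ∀ i < 12, UF.H (b6 i) (ev b6 12 m) = ev b1 2 (hc (2 ^ i) m) := fun i hi =>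
    ev_lin two4 two6 (UF.H (b6 i)).toAddMonoidHom (g := fun m => hc (2 ^ i) m)
      ((isLin_appM 2 12 _).comp (isLin_app 24 12 _)) b1 2 (hc_basis i hi) m hm
  exact ev_lin two4 two6 (UF.H.flip (ev b6 12 m)).toAddMonoidHom (g := fun n => hc n m)
    (isLin_app 2 12 _) b1 2 h1 n hn

theorem hc_lt (n m : ℕ) : hc n m < 2 ^ 2 := app_lt _ _ _ _

theorem H_eq_zero {n m : ℕ} (hn : n < 2 ^ 12) (hm : m < 2 ^ 12) :
    UF.H (ev b6 12 n) (ev b6 12 m) = 0 ↔ hc n m = 0 := by
  rw [H_ev hn hm]
  exact ⟨bas1.inj _ (hc_lt _ _), fun h => by rw [h, ev_zero]⟩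

theorem H_eq_one {n m : ℕ} (hn : n < 2 ^ 12) (hm : m < 2 ^ 12) :
    UF.H (ev b6 12 n) (ev b6 12 m) = 1 ↔ hc n m = 1 := by
  rw [H_ev hn hm, show (1 : F4) = ev b1 2 1 by decide]
  exact ⟨bas1.eq (hc_lt _ _) (by norm_num), fun h => by rw [h]⟩

/-- Permutation matrices. -/
def pm0 (σ : Perm (Fin 6)) : G := UF.mkSU (σ⁻¹.permMatrix F4)
  (fun u v => by
    rw [Matrix.permMatrix_mulVec, Matrix.permMatrix_mulVec, UField.H_def, UField.H_def]
    exact Equiv.sum_comp σ⁻¹ (fun i => u i * UF.σ (v i)))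
  (by
    rw [det_permutation]
    rcases Int.units_eq_one_or (Perm.sign σ⁻¹) with h | h <;> rw [h] <;> decide)

theorem act_pm0 (σ : Perm (Fin 6)) (v : V6) : suAct (pm0 σ) v = v ∘ ⇑σ⁻¹ := Matrix.permMatrix_mulVec σ⁻¹

/-- Permutation matrices. -/
def pm : Perm (Fin 6) →* G := MonoidHom.mk' pm0 fun σ τ => act_injective (AddMonoidHom.ext fun v => by
  rw [map_mul]
  change suAct _ v = suAct _ (suAct _ v)
  rw [act_pm0, act_pm0, act_pm0]; rfl)

theorem act_pm (σ : Perm (Fin 6)) (v : V6) : suAct (pm σ) v = v ∘ ⇑σ⁻¹ := act_pm0 σ v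

/-- Powers of `ω`. -/
def w3 (a : ZMod 3) : F4 := if a = 0 then 1 else if a = 1 then om else om * om

theorem w3_add : ∀ a b, w3 (a + b) = w3 a * w3 b := by decide

theorem w3_norm : ∀ a, w3 a * UF.σ (w3 a) = 1 := by decide

theorem w3_sum (a : Fin 6 → ZMod 3) : ∏ i, w3 (a i) = w3 (∑ i, a i) := by
  simp only [Fin.prod_univ_six, Fin.sum_univ_six, w3_add]

/-- Diagonal matrices. -/
def dg (a : Fin 6 → ZMod 3) (h : ∑ i, a i = 0) : G := UF.mkSU (diagonal fun i => w3 (a i))
  (UF.isU_diagonal fun i => w3_norm (a i)) (by rw [det_diagonal, w3_sum, h]; rfl)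

theorem act_dg (a : Fin 6 → ZMod 3) (h : ∑ i, a i = 0) (v : V6) :
    suAct (dg a h) v = fun i => w3 (a i) * v i := funext fun i => mulVec_diagonal _ _ i

theorem g_ext {g h : G} (e : ∀ v, suAct g v = suAct h v) : g = h := act_injective (AddMonoidHom.ext e)

theorem dg_mul (a b : Fin 6 → ZMod 3) (ha : ∑ i, a i = 0) (hb : ∑ i, b i = 0) :
    dg a ha * dg b hb = dg (a + b) (by simp [Finset.sum_add_distrib, ha, hb]) := g_ext fun v => by
  rw [suAct_mul, act_dg, act_dg, act_dg]
  funext i
  rw [Pi.add_apply, w3_add, mul_assoc]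

theorem dg_zero (h : ∑ i, (0 : Fin 6 → ZMod 3) i = 0) : dg 0 h = 1 := g_ext fun v => by
  rw [act_dg, suAct_one]; funext i; exact one_mul _

theorem pm_dg (σ : Perm (Fin 6)) (a : Fin 6 → ZMod 3) (ha : ∑ i, a i = 0) :
    pm σ * dg a ha = dg (a ∘ ⇑σ⁻¹) (by rw [← ha]; exact Equiv.sum_comp σ⁻¹ a) * pm σ := g_ext fun v => by
  rw [suAct_mul, suAct_mul, act_dg, act_dg, act_pm, act_pm]; rfl

/-- Transvections. -/
noncomputable def tv (p : V6) (hp : UF.H p p = 0) : G :=
  (UF.exists_tv hp (a := 1) (by decide)).choose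

theorem act_tv (p : V6) (hp : UF.H p p = 0) (v : V6) : suAct (tv p hp) v = v + UF.H v p • p := by
  rw [tv, (UF.exists_tv hp (a := 1) (by decide)).choose_spec, one_mul]

theorem tv_conj (g : G) (p : V6) (hp : UF.H p p = 0) :
    g * tv p hp * g⁻¹ = tv (suAct g p) (by rw [UField.H_act, hp]) := g_ext fun v => by
  rw [suAct_mul, suAct_mul, act_tv, act_tv, map_add, map_smul, suAct_act_inv, UField.H_act_right]

theorem tv_smul {c : F4} (hc : c ≠ 0) (p : V6) (hp : UF.H p p = 0) (hp' : UF.H (c • p) (c • p) = 0) :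
    tv (c • p) hp' = tv p hp := g_ext fun v => by
  have : ∀ c : F4, c ≠ 0 → UF.σ c * c = 1 := by decide
  rw [act_tv, act_tv, UField.H_smul_right, smul_smul, mul_right_comm, this c hc, one_mul]

theorem tv_congr {p q : V6} (e : p = q) (hp : UF.H p p = 0) : tv p hp = tv q (e ▸ hp) := by subst e; rfl

/-- The vector with all entries one. -/
def r1 : V6 := ![1, 1, 1, 1, 1, 1]

/-- A twisted version. -/
def r2 : V6 := ![1, 1, 1, 1, 1, om]

theorem r1_iso : UF.H r1 r1 = 0 := by rw [UField.H_def]; decide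

theorem r2_iso : UF.H r2 r2 = 0 := by rw [UField.H_def]; decide

/-- The exponents of the diagonal generator. -/
def a0 : Fin 6 → ZMod 3 := ![1, 2, 0, 0, 0, 0]

/-- The adjacent transpositions. -/
def sw (i : ℕ) : Perm (Fin 6) := match i with
  | 0 => swap 0 1 | 1 => swap 1 2 | 2 => swap 2 3 | 3 => swap 3 4 | _ => swap 4 5

/-- The generators. -/
noncomputable def gen0 (i : ℕ) : G := match i with
  | 5 => dg a0 (by decide) | 6 => tv r1 r1_iso | 7 => tv r2 r2_iso | i => pm (sw i)

/-- The generators. -/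
noncomputable def gen (i : ℕ) : G := gen0 (i % 8)

/-- Codes of the generators. -/
def g12 (i : ℕ) : ℕ := col (nat_lit 144) (nat_lit 5096448643803064140371727366162752198134998097327889579882378096936885400389570355676853647623266156692064795553939123450174067829675479833728780372903061825243210432085751611977258512024197538979617284096033137534021066634377415378954891858943083196662042346183739876018883700272459117707729416729062909068289882250158059630431216880960059506692) (Nat.mod i (nat_lit 8))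

theorem rep_gen (i : ℕ) : Rep b6 12 (act (gen i)) (g12 i) := by
  have h : i % 8 < 8 := Nat.mod_lt _ (by norm_num)
  change Rep b6 12 (act (gen0 (i % 8))) (col 144 _ (i % 8))
  generalize i % 8 = k at h
  interval_cases k <;> simp only [Rep, gen0, act_apply, act_pm, act_dg, act_tv, UField.H_def] <;>
    decide +kernel

/-- Evaluate a word. -/
noncomputable def evw (l : List ℕ) : G := (l.map gen).prod

/-- Evaluate a word on codes. -/
noncomputable def evc (w : ℕ) (gc : ℕ → ℕ) (l : List ℕ) : ℕ :=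
  List.rec (idm w) (fun i _ ih => mul w (gc i) ih) l

theorem rep_evw {V : Type*} [AddCommGroup V] (h2 : Two V) {b : ℕ → V} {w : ℕ} {ρ : G →* AddMonoid.End V}
    {gc : ℕ → ℕ} (h : ∀ i, Rep b w (ρ (gen i)) (gc i)) (l : List ℕ) : Rep b w (ρ (evw l)) (evc w gc l) := by
  induction l with
  | nil => rw [evw, List.map_nil, List.prod_nil, map_one]; exact rep_one
  | cons i l ih => rw [evw, List.map_cons, List.prod_cons, map_mul]; exact (h i).mul h2 ih

/-- The code of a word in the natural module. -/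
noncomputable def e12 (l : List ℕ) : ℕ := evc 12 g12 l

theorem rep12 (l : List ℕ) : Rep b6 12 (act (evw l)) (e12 l) := rep_evw two6 rep_gen l

theorem eq_of_rep {g h : G} {M M' : ℕ} (h1 : Rep b6 12 (act g) M) (h2 : Rep b6 12 (act h) M')
    (e : meq 12 M M' = true) : g = h := act_injective ((h1.of_meq e).ext bas6 h2)

theorem evw_eq {l l' : List ℕ} (e : meq 12 (e12 l) (e12 l') = true) : evw l = evw l' :=
  eq_of_rep (rep12 l) (rep12 l') e

theorem evw_append (l l' : List ℕ) : evw (l ++ l') = evw l * evw l' := by simp [evw]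

theorem evw_mem {L : Subgroup G} (h : ∀ i, gen i ∈ L) (l : List ℕ) : evw l ∈ L :=
  L.list_prod_mem fun _ hx => by obtain ⟨i, -, rfl⟩ := List.mem_map.mp hx; exact h i

/-- The central element. -/
def zc : G := dg (fun _ => 1) (by decide)

theorem act_zc (v : V6) : suAct zc v = om • v := by rw [zc, act_dg]; rfl

theorem mem_center_iff {g : G} : g ∈ Subgroup.center G ↔ g = 1 ∨ g = zc ∨ g = zc * zc := by
  constructor
  · intro h
    obtain ⟨l, hl⟩ := UF.isScal_of_center (by norm_num) h
    rcases cases4 l with rfl | rfl | rfl | rfl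
    · have := suAct_inv_act g (H1.ev F4 0)
      rw [hl, zero_smul, map_zero] at this
      exact absurd (congrFun this 0) (by decide)
    · exact .inl (g_ext fun v => by rw [hl, one_smul, suAct_one])
    · exact .inr (.inl (g_ext fun v => by rw [hl, act_zc]))
    · exact .inr (.inr (g_ext fun v => by rw [hl, suAct_mul, act_zc, act_zc, smul_smul]))
  · have hz : zc ∈ Subgroup.center G := Subgroup.mem_center_iff.mpr fun g => IsScal.comm ⟨om, act_zc⟩ g
    rintro (rfl | rfl | rfl)
    exacts [one_mem _, hz, mul_mem hz hz]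

theorem zc_mem : zc ∈ Subgroup.center G := mem_center_iff.mpr (.inr (.inl rfl))

theorem zc_cube : zc * zc * zc = 1 := g_ext fun v => by
  rw [suAct_mul, suAct_mul, act_zc, act_zc, act_zc, smul_smul, smul_smul, suAct_one,
    show om * om * om = 1 by decide, one_smul]

theorem center_cube {g : G} (h : g ∈ Subgroup.center G) : g ^ 3 = 1 := by
  have : zc ^ 3 = 1 := by rw [pow_three', zc_cube]
  rcases mem_center_iff.mp h with rfl | rfl | rfl
  · exact one_pow 3
  · exact this
  · rw [← pow_two, ← pow_mul, mul_comm, pow_mul, this, one_pow]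

/-- Code of the central element. -/
def zcc : ℕ := nat_lit 16728281407104152607163161326845828016386050

theorem rep_zc : Rep b6 12 (act zc) zcc := by
  simp only [Rep, act_apply, act_zc]; decide +kernel

/-- Test for a scalar matrix. -/
noncomputable def inZ (M : ℕ) : Bool :=
  frc M fun M => meq 12 M (idm 12) || meq 12 M zcc || meq 12 M (mul 12 zcc zcc)

theorem mem_center_of_inZ {g : G} {M : ℕ} (h : Rep b6 12 (act g) M) (e : inZ M = true) :
    g ∈ Subgroup.center G := by
  rw [inZ, frc_eq, Bool.or_eq_true, Bool.or_eq_true] at e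
  rw [mem_center_iff]
  rcases e with (e | e) | e
  · exact .inl (eq_of_rep h (by rw [map_one]; exact rep_one) e)
  · exact .inr (.inl (eq_of_rep h rep_zc e))
  · exact .inr (.inr (eq_of_rep h (by rw [map_mul]; exact rep_zc.mul two6 rep_zc) e))

theorem card_center : Nat.card (Subgroup.center G) = 3 := by
  have h1 : zc ≠ 1 := fun e => by
    have := act_zc (H1.ev F4 0)
    rw [e, suAct_one] at this
    exact absurd (congrFun this 0) (by decide)
  have ho : orderOf zc = 3 := orderOf_eq_prime (center_cube zc_mem) h1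
  rw [← ho, ← Nat.card_zpowers]
  congr 2
  refine le_antisymm (fun g hg => ?_) ((Subgroup.zpowers_le).mpr zc_mem)
  rcases mem_center_iff.mp hg with rfl | rfl | rfl
  exacts [one_mem _, Subgroup.mem_zpowers _, mul_mem (Subgroup.mem_zpowers _) (Subgroup.mem_zpowers _)]

/-! ### The stabilizer chain -/

/-- The action on vectors. -/
@[reducible] def mulAct : MulAction G V6 where
  smul g v := suAct g v
  one_smul := suAct_one
  mul_smul := suAct_mul

attribute [local instance] mulAct

/-- The first `k` coordinates. -/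
def Ik (k : ℕ) : Set (Fin 6) := {j | j.1 < k}

theorem ev_e (j : Fin 6) : ev b6 12 (4 ^ j.1) = H1.ev F4 j := by
  revert j; decide +kernel

theorem mem_uPerp_iff {k : ℕ} (hk : k ≤ 6) : ∀ n < 2 ^ 12, ev b6 12 n ∈ uPerp F4 (Ik k) ↔ n % 4 ^ k = 0 := by
  intro n hn
  have key : ∀ x y : Bool, (if x then (1 : F4) else 0) + (if y then om else 0) = 0 ↔ x = false ∧ y = false := by
    decide
  rw [mem_uPerp, show 4 ^ k = 2 ^ (2 * k) by rw [pow_mul]; rfl]
  simp only [ev6_apply, key, Ik, Set.mem_setOf_eq]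
  constructor
  · intro h
    apply Nat.eq_of_testBit_eq
    intro i
    rw [Nat.zero_testBit, Nat.testBit_mod_two_pow]
    by_cases hi : i < 2 * k
    · have := h ⟨i / 2, by omega⟩ (by simp only; omega)
      rcases Nat.mod_two_eq_zero_or_one i with e | e
      · rw [show i = 2 * (i / 2) by omega, this.1, Bool.and_false]
      · rw [show i = 2 * (i / 2) + 1 by omega, this.2, Bool.and_false]
    · simp [hi]
  · intro h a ha
    have t := fun i => congrArg (·.testBit i) h
    simp only [Nat.zero_testBit, Nat.testBit_mod_two_pow] at t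
    have t1 := t (2 * a.1)
    have t2 := t (2 * a.1 + 1)
    rw [decide_eq_true (by omega), Bool.true_and] at t1 t2
    exact ⟨t1, t2⟩

/-- The unit vectors supported on the last coordinates. -/
noncomputable def unitB (k n : ℕ) : Bool :=
  Bool.rec false (Nat.beq (hc n n) (nat_lit 1)) (Nat.beq (Nat.mod n (Nat.pow (nat_lit 4) k)) (nat_lit 0))

theorem unitB_iff {k : ℕ} (hk : k ≤ 6) (n : ℕ) (hn : n < 2 ^ 12) : unitB k n = true ↔
    ev b6 12 n ∈ uPerp F4 (Ik k) ∧ UF.H (ev b6 12 n) (ev b6 12 n) = 1 := by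
  rw [mem_uPerp_iff hk n hn, H_eq_one hn hn, ← Nat.beq_eq, ← @Nat.beq_eq (hc n n), unitB]
  change Bool.rec false (Nat.beq (hc n n) 1) (Nat.beq (n % 4 ^ k) 0) = true ↔ _
  cases Nat.beq (n % 4 ^ k) 0 <;> simp

theorem suFix_succ {j : Fin 6} {g : G} : g ∈ suFix F4 2 (Ik (j.1 + 1)) ↔
    g ∈ suFix F4 2 (Ik j.1) ∧ suAct g (H1.ev F4 j) = H1.ev F4 j := by
  simp only [mem_suFix, Ik, Set.mem_setOf_eq]
  refine ⟨fun h => ⟨fun a ha => h a (by omega), h j (by omega)⟩, fun h a ha => ?_⟩
  rcases (Nat.lt_succ_iff.mp ha).eq_or_lt with e | e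
  · rw [Fin.ext e]; exact h.2
  · exact h.1 a e

theorem card_step (j : Fin 6) (hj : j.1 < 5) : Nat.card (suFix F4 2 (Ik j.1)) =
    cntN (unitB j.1) (2 ^ 12) * Nat.card (suFix F4 2 (Ik (j.1 + 1))) := by
  rw [← bas6.card (fun y => y ∈ uPerp F4 (Ik j.1) ∧ UF.H y y = 1) _ (unitB_iff (k := j.1) (by omega)),
    ← Nat.card_congr (MulAction.orbitProdStabilizerEquivGroup (suFix F4 2 (Ik j.1)) (H1.ev F4 j)), Nat.card_prod]
  congr 1
  · refine Nat.card_congr (Equiv.subtypeEquivRight fun y => ⟨?_, fun h => ?_⟩)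
    · rintro ⟨g, rfl⟩
      exact ⟨UF.act_mem_uPerp g.2 (ev_mem_uPerp (by simp [Ik])), (UF.H_act _ _ _).trans (UF.H_ev_self j)⟩
    · obtain ⟨A, hA, e⟩ := UF.exists_fix_map (I := Ik j.1) (j := j) (j' := 5) (by simp [Ik])
        (by simp only [Ik, Set.mem_setOf_eq]; omega) (by rintro rfl; omega) h.1 h.2
      exact ⟨⟨A, hA⟩, e⟩
  · exact Nat.card_congr ⟨fun g => ⟨g.1.1, suFix_succ.mpr ⟨g.1.2, g.2⟩⟩,
      fun g => ⟨⟨g.1, (suFix_succ.mp g.2).1⟩, (suFix_succ.mp g.2).2⟩, fun _ => rfl, fun _ => rfl⟩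

theorem suFix_five : suFix F4 2 (Ik 5) = ⊥ := by
  rw [eq_bot_iff]
  intro g hg
  have h5 := UF.act_mem_uPerp hg (ev_mem_uPerp (b := 5) (by simp [Ik]))
  have hd := det_suMat g
  have hm : suMat g = diagonal (Function.update 1 5 (suMat g 5 5)) := by
    refine Matrix.ext fun i j => ?_
    by_cases hj : j = 5
    · subst hj
      by_cases hi : i = 5
      · subst hi; simp
      · rw [diagonal_apply_ne _ hi, ← suAct_ev]
        exact h5 i (by simp only [Ik, Set.mem_setOf_eq]; omega)
    · rw [← suAct_ev, hg j (by simp only [Ik, Set.mem_setOf_eq]; omega)]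
      simp [H1.ev, Pi.single_apply, diagonal_apply, hj]
      split_ifs with e
      · subst e; simp [hj]
      · rfl
  rw [hm, det_diagonal, Finset.prod_update_of_mem (Finset.mem_univ _)] at hd
  simp only [Pi.one_apply, Finset.prod_const_one, mul_one] at hd
  rw [hd] at hm
  exact suMat_injective (by rw [hm, map_one]; simp)

theorem suFix_zero : suFix F4 2 (Ik 0) = ⊤ := eq_top_iff.mpr fun _ _ _ h => absurd h (by simp [Ik])

theorem card_step' (k k' c : ℕ) (hk : k < 5) (hk' : k' = k + 1) (hc : cntN (unitB k) (2 ^ 12) = c) :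
    Nat.card (suFix F4 2 (Ik k)) = c * Nat.card (suFix F4 2 (Ik k')) := by
  rw [hk', ← hc]; exact card_step ⟨k, by omega⟩ hk

theorem card_G : Nat.card G = 2 ^ 15 * 3 ^ 7 * 5 * 7 * 11 := by
  have h0 := card_step' 0 1 2016 (by decide) rfl (by decide +kernel)
  have h1 := card_step' 1 2 528 (by decide) rfl (by decide +kernel)
  have h2 := card_step' 2 3 120 (by decide) rfl (by decide +kernel)
  have h3 := card_step' 3 4 36 (by decide) rfl (by decide +kernel)
  have h4 := card_step' 4 5 6 (by decide) rfl (by decide +kernel)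
  rw [suFix_five, Subgroup.card_bot] at h4
  rw [suFix_zero, h1, h2, h3, h4] at h0
  exact (Subgroup.card_top (G := G)).symm.trans (h0.trans (by norm_num))

/-- The check for one step of the chain. -/
noncomputable def chainB (k : ℕ) (ws : List (List ℕ)) : Bool :=
  allB (fun l => allN (fun i => Nat.beq (app 12 12 (e12 l) (Nat.pow 4 i)) (Nat.pow 4 i)) k) ws &&
  frc (orb 12 (ws.map e12) [Nat.pow 4 k] 4096) fun vis =>
    allN (fun n => Bool.rec true (tb vis n) (unitB k n)) 4096

theorem chain_step {L : Subgroup G} (h : ∀ i, gen i ∈ L) (j : Fin 6) (ws : List (List ℕ))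
    (hc : chainB j.1 ws = true) (hL : suFix F4 2 (Ik (j.1 + 1)) ≤ L) : suFix F4 2 (Ik j.1) ≤ L := by
  rw [chainB, Bool.and_eq_true, frc_eq, allB_iff, allN_iff] at hc
  intro g hg
  obtain ⟨n, hn, e⟩ := bas6.surj (suAct g (H1.ev F4 j))
  have hu : unitB j.1 n = true := (unitB_iff (by omega) n hn).mpr (by
    rw [e]
    exact ⟨UF.act_mem_uPerp hg (ev_mem_uPerp (by simp [Ik])), (UF.H_act _ _ _).trans (UF.H_ev_self j)⟩)
  have hv := hc.2 n hn
  rw [hu] at hv
  obtain ⟨x, hx, hx', e'⟩ := orb_spec (P := fun n => ∃ x ∈ L, x ∈ suFix F4 2 (Ik j.1) ∧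
      suAct x (H1.ev F4 j) = ev b6 12 n) (fun M hM y ⟨x, hx, hx', e⟩ => by
    obtain ⟨l, hl, rfl⟩ := List.mem_map.mp hM
    refine ⟨evw l * x, mul_mem (evw_mem h l) hx, mul_mem (fun a ha => ?_) hx', ?_⟩
    · have := Nat.eq_of_beq_eq_true ((allN_iff _ _).mp (hc.1 l hl) a.1 ha)
      rw [← ev_e, ← act_apply, (rep12 l).app two6]
      exact congrArg _ this
    · rw [suAct_mul, e, ← act_apply, (rep12 l).app two6])
    (fun x hx => by
      rw [List.mem_singleton.mp hx]
      exact ⟨1, one_mem _, one_mem _, by rw [suAct_one]; exact (ev_e j).symm⟩) _ n hv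
  have : x⁻¹ * g ∈ L := hL (suFix_succ.mpr ⟨mul_mem (inv_mem hx') hg, by
    rw [suAct_mul, ← e, ← e', suAct_inv_act]⟩)
  simpa using mul_mem hx this

set_option maxRecDepth 1000000 in
theorem eq_top_of_gen {L : Subgroup G} (h : ∀ i, gen i ∈ L) : L = ⊤ := by
  rw [eq_top_iff, ← suFix_zero]
  refine chain_step h 0 [[0], [1], [2], [3], [4], [5], [6]] (by decide +kernel) ?_
  refine chain_step h 1 [[1], [2], [3], [4], [5, 5, 1, 5], [7, 5, 5, 6, 5, 7]] (by decide +kernel) ?_
  refine chain_step h 2 [[2], [3], [4], [1, 2, 5, 5, 1, 5, 2, 1], [6, 5, 5, 1, 5, 5, 6, 7, 5, 1, 5, 7]] (by decide +kernel) ?_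
  refine chain_step h 3 [[3], [4], [6, 5, 5, 1, 5, 5, 6, 7, 5, 1, 5, 7], [6, 5, 5, 1, 5, 5, 7, 6, 5, 1, 5, 6, 7, 6]] (by decide +kernel) ?_
  refine chain_step h 4 [[4], [3, 7, 4, 5, 5, 1, 5, 5, 7, 5, 1, 5, 4, 7, 3]] (by decide +kernel) ?_
  change suFix F4 2 (Ik 5) ≤ L
  rw [suFix_five]; exact bot_le

end Cfsg.Agent.H1.U6
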