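import Cfsg.Agent.H1.U6Grp

/-!
Involutions of `SU₆(2)` and of its extension by the field automorphism.
-/

set_option autoImplicit false

namespace Cfsg.Agent.H1.U6

open Cfsg.Agent.H6 (F4 card_F4)
open Equiv
open Matrix hiding swap_mul_self

/-- Basis vectors. -/
abbrev e6 (j : Fin 6) : V6 := H1.ev F4 j

/-- The field automorphisms. -/
def tau (b : Bool) : F4 →+* F4 := if b then sg else RingHom.id F4

theorem tau_tau : ∀ b x, tau b (tau b x) = x := by decide

theorem tau_sg : ∀ b x, tau b (UF.σ x) = UF.σ (tau b x) := by decide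

/-- The induced automorphisms of the group. -/
def tw (b : Bool) : G →* G := UF.semi (tau b) 1 (fun _ => by simp)

theorem act_tw (b : Bool) (g : G) (v : V6) : suAct (tw b g) (tau b ∘ v) = tau b ∘ suAct g v := by
  funext i
  simp only [suAct_def, mulVec, dotProduct, tw, UField.semi_apply, Function.comp_apply, map_sum, map_mul,
    Pi.one_apply, map_one, one_mul, mul_one]

theorem tau_comp (b : Bool) (v : V6) : tau b ∘ tau b ∘ v = v := funext fun i => tau_tau b (v i)

theorem act_tw' (b : Bool) (g : G) (v : V6) : suAct (tw b g) v = tau b ∘ suAct g (tau b ∘ v) := by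
  rw [← act_tw, tau_comp]

theorem tw_false (g : G) : tw false g = g := g_ext fun v => act_tw' false g v

theorem tw_tw (b : Bool) (g : G) : tw b (tw b g) = g := g_ext fun v => by
  rw [act_tw', act_tw', tau_comp, tau_comp]

theorem tw_pm (b : Bool) (σ : Perm (Fin 6)) : tw b (pm σ) = pm σ := g_ext fun v => by
  rw [act_tw', act_pm, act_pm]; funext i; exact tau_tau b _

theorem H_tau (b : Bool) (u v : V6) : UF.H (tau b ∘ u) (tau b ∘ v) = tau b (UF.H u v) := by
  simp only [UField.H_def, map_sum, map_mul, Function.comp_apply, tau_sg]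

theorem tau_e (b : Bool) (j : Fin 6) : tau b ∘ e6 j = e6 j := by
  revert b j; decide

theorem act_pm_e (σ : Perm (Fin 6)) (j : Fin 6) : suAct (pm σ) (e6 j) = e6 (σ j) := by
  rw [act_pm]; funext i
  simp only [Function.comp_apply, H1.ev, Pi.single_apply, Perm.inv_eq_iff_eq]

/-- The semilinear map. -/
def th (b : Bool) (k : G) (v : V6) : V6 := suAct k (tau b ∘ v)

theorem th_add (b : Bool) (k : G) (u v : V6) : th b k (u + v) = th b k u + th b k v := by
  rw [th, th, th, ← map_add]; congr 1; funext i; exact map_add _ _ _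

theorem th_smul (b : Bool) (k : G) (c : F4) (v : V6) : th b k (c • v) = tau b c • th b k v := by
  rw [th, th, ← map_smul]; congr 1; funext i; exact map_mul _ _ _

theorem H_th (b : Bool) (k : G) (u v : V6) : UF.H (th b k u) (th b k v) = tau b (UF.H u v) := by
  rw [th, th, UField.H_act, H_tau]

theorem th_th {b : Bool} {k : G} (h : k * tw b k = 1) (v : V6) : th b k (th b k v) = v := by
  rw [th, th, ← act_tw, tau_comp, ← suAct_mul, h, suAct_one]

theorem th_conj (b : Bool) (k g : G) (v : V6) :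
    th b (g⁻¹ * k * tw b g) v = suAct g⁻¹ (th b k (suAct g v)) := by
  rw [th, th, suAct_mul, suAct_mul, act_tw]

theorem th_e (b : Bool) (k : G) (j : Fin 6) : th b k (e6 j) = suAct k (e6 j) := by rw [th, tau_e]

/-- Twisted conjugacy. -/
def TC (b : Bool) (k k' : G) : Prop := ∃ g, k = g * k' * (tw b g)⁻¹

theorem TC.trans {b : Bool} {x y z : G} (h : TC b x y) (h' : TC b y z) : TC b x z := by
  obtain ⟨g, rfl⟩ := h
  obtain ⟨g', rfl⟩ := h'
  exact ⟨g * g', by rw [map_mul]; group⟩

theorem tc_conj (b : Bool) (k g : G) : TC b k (g⁻¹ * k * tw b g) := ⟨g, by group⟩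

theorem inv_conj {b : Bool} {k : G} (h : k * tw b k = 1) (g : G) :
    (g⁻¹ * k * tw b g) * tw b (g⁻¹ * k * tw b g) = 1 := by
  rw [map_mul, map_mul, map_inv, tw_tw]
  calc _ = g⁻¹ * (k * tw b k) * g := by group
    _ = 1 := by rw [h]; group

/-- The first `j` basis vectors are permuted. -/
structure St (b : Bool) (k : G) (j : ℕ) (σ : Perm (Fin 6)) : Prop where
  inv : k * tw b k = 1
  sq : σ * σ = 1
  fix : ∀ i : Fin 6, j ≤ i.1 → σ i = i
  act : ∀ i : Fin 6, i.1 < j → suAct k (e6 i) = e6 (σ i)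

namespace St

variable {b : Bool} {k : G} {j : ℕ} {σ : Perm (Fin 6)} (h : St b k j σ)

include h

theorem lt {i : Fin 6} (hi : i.1 < j) : (σ i).1 < j := by
  by_contra hc
  have := h.fix _ (not_lt.mp hc)
  rw [σ.injective this] at hc
  exact hc hi

theorem mem {y : V6} (hy : y ∈ uPerp F4 (Ik j)) : th b k y ∈ uPerp F4 (Ik j) := fun i hi => by
  have e : e6 i = th b k (e6 (σ i)) := by
    rw [th_e, h.act _ (h.lt hi), ← Perm.mul_apply, h.sq, Perm.one_apply]
  rw [← UF.H_ev_right (th b k y), show H1.ev F4 i = e6 i from rfl, e, H_th, UF.H_ev_right, hy _ (h.lt hi), map_zero]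

theorem conj {g : G} (hg : g ∈ suFix F4 2 (Ik j)) : St b (g⁻¹ * k * tw b g) j σ :=
  ⟨inv_conj h.inv g, h.sq, h.fix, fun i hi => by
    rw [← th_e b, th_conj, hg i hi, th_e, h.act i hi]
    exact suAct_inv_eq (hg _ (h.lt hi))⟩

theorem key (i : Fin 6) (hi : j ≤ i.1) :
    ∃ y ∈ uPerp F4 (Ik j), UF.H y y = 1 ∧ (th b k y = y ∨ UF.H (th b k y) y = 0) := by
  have he : e6 i ∈ uPerp F4 (Ik j) := ev_mem_uPerp (by simpa [Ik] using hi)
  have self : ∀ y : V6, UF.H y y = 0 ∨ UF.H y y = 1 := fun y =>
    (by decide : ∀ x : F4, UF.σ x = x → x = 0 ∨ x = 1) _ (UF.H_self y)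
  have t2 := th_th h.inv
  by_contra hc
  push Not at hc
  cases b
  · have hs : ∀ c v, th false k (c • v) = c • th false k v := fun c v => th_smul false k c v
    have adj : ∀ u v, UF.H (th false k u) v = UF.H u (th false k v) := fun u v => by
      rw [← t2 v, H_th, t2]; rfl
    have hN : ∀ x ∈ uPerp F4 (Ik j), UF.H (th false k x) x = UF.H x x := by
      intro x hx
      by_contra hne
      have a1 : UF.σ (UF.H (th false k x) x) = UF.H (th false k x) x := by rw [UF.H_swap, adj]
      rcases self x with h0 | h0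
      · have a2 : UF.H (th false k x) x = 1 :=
          (by decide : ∀ x : F4, UF.σ x = x → x ≠ 0 → x = 1) _ a1 (h0 ▸ hne)
        have a3 : UF.H x (th false k x) = 1 := by rw [← adj, a2]
        have a4 : UF.H (th false k x) (th false k x) = 0 := by rw [H_th, h0]; rfl
        refine (hc (x + om • (th false k x + x)) (add_mem hx (Submodule.smul_mem _ _ (add_mem (h.mem hx) hx)))
          ?_).2 ?_
        · simp only [UField.H_add_left, UField.H_add_right, UField.H_smul_left, UField.H_smul_right,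
            h0, a2, a3, a4]
          decide
        · simp only [th_add, hs, t2, UField.H_add_left, UField.H_add_right, UField.H_smul_left,
            UField.H_smul_right, h0, a2, a3, a4]
          decide
      · exact (hc x hx h0).2 ((by decide : ∀ x : F4, UF.σ x = x → x ≠ 1 → x = 0) _ a1 (h0 ▸ hne))
    refine (hc _ he (UF.H_ev_self i)).1 (funext fun l => ?_)
    by_cases hl : l.1 < j
    · rw [h.mem he l hl, he l hl]
    · have hl' : e6 l ∈ uPerp F4 (Ik j) := ev_mem_uPerp (by simpa [Ik] using hl)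
      have b1 := hN _ (add_mem he hl')
      have b2 := hN _ (add_mem (Submodule.smul_mem _ om he) hl')
      have b3 := hN _ he
      have b4 := hN _ hl'
      simp only [th_add, hs, UField.H_add_left, UField.H_add_right, UField.H_smul_left,
        UField.H_smul_right, b3, b4] at b1 b2
      rw [← UF.H_ev_right (th false k (e6 i)), ← UF.H_ev_right (e6 i)]
      change UF.H (th false k (e6 i)) (e6 l) = UF.H (e6 i) (e6 l)
      revert b1 b2
      generalize UF.H (th false k (e6 i)) (e6 l) = a, UF.H (th false k (e6 l)) (e6 i) = a',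
        UF.H (e6 i) (e6 l) = c, UF.H (e6 l) (e6 i) = c', UF.H (e6 i) (e6 i) = p, UF.H (e6 l) (e6 l) = p'
      revert a a' c c' p p'
      decide +kernel
  · have fx : ∀ x, th true k (x + th true k x) = x + th true k x := fun x => by rw [th_add, t2, add_comm]
    have iso : ∀ x ∈ uPerp F4 (Ik j), UF.H (x + th true k x) (x + th true k x) = 0 := fun x hx =>
      (self _).resolve_right fun e => (hc _ (add_mem hx (h.mem hx)) e).1 (fx x)
    have he' := Submodule.smul_mem _ om he
    set y1 := e6 i + th true k (e6 i) with hy1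
    set y2 := om • e6 i + th true k (om • e6 i) with hy2
    have c1 : UF.H y1 y1 = 0 := iso _ he
    have c2 : UF.H y2 y2 = 0 := iso _ he'
    have f1 : th true k y1 = y1 := fx _
    have f2 : th true k y2 = y2 := fx _
    have c3 : sg (UF.H y1 y2) = UF.H y1 y2 := by
      have := H_th true k y1 y2
      rw [f1, f2] at this
      exact this.symm
    have c4 : UF.H y2 y1 = UF.H y1 y2 := by rw [← UF.H_swap]; exact c3
    have e : e6 i = y2 + (om * om) • y1 := by
      rw [hy1, hy2, th_smul]
      funext l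
      simp only [Pi.add_apply, Pi.smul_apply, smul_eq_mul]
      generalize e6 i l = a, th true k (e6 i) l = c
      revert a c; decide
    have c5 : UF.H y1 y2 = 1 := by
      have := UF.H_ev_self i
      change UF.H (e6 i) (e6 i) = 1 at this
      rw [e] at this
      simp only [UField.H_add_left, UField.H_add_right, UField.H_smul_left, UField.H_smul_right, c1, c2,
        c4] at this
      revert this
      generalize UF.H y1 y2 = a
      revert a; decide
    refine (hc (y1 + om • y2) (add_mem (add_mem he (h.mem he))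
      (Submodule.smul_mem _ _ (add_mem he' (h.mem he')))) ?_).2 ?_
    · simp only [UField.H_add_left, UField.H_add_right, UField.H_smul_left, UField.H_smul_right, c1, c2,
        c4, c5]
      decide
    · simp only [th_add, th_smul, f1, f2, UField.H_add_left, UField.H_add_right, UField.H_smul_left,
        UField.H_smul_right, c1, c2, c4, c5]
      decide

theorem succ {i : Fin 6} (hi : i.1 = j) (e : suAct k (e6 i) = e6 i) : St b k (j + 1) σ :=
  ⟨h.inv, h.sq, fun l hl => h.fix l (by omega), fun l hl => by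
    rcases (Nat.lt_succ_iff.mp hl).eq_or_lt with e' | e'
    · rw [show l = i from Fin.ext (e'.trans hi.symm), e, h.fix i hi.ge]
    · exact h.act l e'⟩

theorem pair {i i' : Fin 6} (hi : i.1 = j) (hi' : i'.1 = j + 1) (e : suAct k (e6 i) = e6 i') :
    St b k (j + 2) (σ * swap i i') := by
  have f1 := h.fix i hi.ge
  have f2 := h.fix i' (by omega)
  have e' : suAct k (e6 i') = e6 i := by rw [← th_e b, ← e, ← th_e b, th_th h.inv]
  refine ⟨h.inv, ?_, fun l hl => ?_, fun l hl => ?_⟩
  · have : σ * swap i i' = swap i i' * σ := by rw [mul_swap_eq_swap_mul, f1, f2]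
    rw [mul_assoc, ← mul_assoc (swap i i'), ← this, mul_assoc, swap_mul_self, mul_one, h.sq]
  · rw [Perm.mul_apply, swap_apply_of_ne_of_ne (by rintro rfl; omega) (by rintro rfl; omega),
      h.fix l (by omega)]
  · by_cases e1 : l = i
    · rw [e1, Perm.mul_apply, swap_apply_left, f2, e]
    by_cases e2 : l = i'
    · rw [e2, Perm.mul_apply, swap_apply_right, f1, e']
    · rw [Perm.mul_apply, swap_apply_of_ne_of_ne e1 e2]
      have := Fin.val_ne_of_ne e1
      have := Fin.val_ne_of_ne e2
      exact h.act l (by omega)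

end St

theorem exists_fix (i : Fin 6) (hi : i.1 < 5) {y : V6} (hy : y ∈ uPerp F4 (Ik i.1)) (h1 : UF.H y y = 1) :
    ∃ g ∈ suFix F4 2 (Ik i.1), suAct g (e6 i) = y :=
  UF.exists_fix_map (I := Ik i.1) (j := i) (j' := 5) (by simp [Ik])
    (by simp only [Ik, Set.mem_setOf_eq]; omega) (by rintro rfl; omega) hy h1

theorem eq_of_five {g g' : G} (h : ∀ i : Fin 6, i.1 < 5 → suAct g (e6 i) = suAct g' (e6 i)) : g = g' := by
  have : g'⁻¹ * g ∈ suFix F4 2 (Ik 5) := fun i hi => by rw [suAct_mul, h i hi, suAct_inv_act]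
  rw [suFix_five, Subgroup.mem_bot] at this
  calc g = g' * (g'⁻¹ * g) := by group
    _ = g' := by rw [this, mul_one]

theorem St.five {b : Bool} {k : G} {j : ℕ} {σ : Perm (Fin 6)} (h : St b k j σ) (hj : 5 ≤ j) :
    ∃ σ' : Perm (Fin 6), σ' * σ' = 1 ∧ TC b k (pm σ') :=
  ⟨σ, h.sq, 1, by
    have : k = pm σ := eq_of_five fun i hi => by rw [h.act i (by omega), act_pm_e]
    rw [map_one, one_mul, inv_one, mul_one, this]⟩

/-- Diagonal matrices on the last two coordinates. -/
def d45 (a : ZMod 3) : G := dg ![0, 0, 0, 0, a, -a] (by revert a; decide)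

theorem d45_mem (a : ZMod 3) : d45 a ∈ suFix F4 2 (Ik 4) := fun i (hi : i.1 < 4) => by
  rw [d45, act_dg]; revert a i; decide

theorem d45_four (a : ZMod 3) : suAct (d45 a) (e6 4) = w3 a • e6 4 := by
  rw [d45, act_dg]; revert a; decide

theorem d45_five (a : ZMod 3) : suAct (d45 a) (e6 5) = (w3 a * w3 a) • e6 5 := by
  rw [d45, act_dg]; revert a; decide

theorem St.main (b : Bool) (m : ℕ) : ∀ (j : ℕ) (k : G) (σ : Perm (Fin 6)), 5 ≤ j + m → St b k j σ →
    ∃ σ' : Perm (Fin 6), σ' * σ' = 1 ∧ TC b k (pm σ') := by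
  induction m with
  | zero => exact fun j k σ hj h => h.five hj
  | succ m ih =>
    intro j k σ hj h
    by_cases h5 : 5 ≤ j
    · exact h.five h5
    obtain ⟨y, hy, h1, h2⟩ := h.key ⟨j, by omega⟩ le_rfl
    obtain ⟨g, hg, e⟩ := exists_fix ⟨j, by omega⟩ (by simp only; omega) hy h1
    have h' := h.conj hg
    have e1 : suAct (g⁻¹ * k * tw b g) (e6 ⟨j, by omega⟩) = suAct g⁻¹ (th b k y) := by
      rw [← th_e b, th_conj, e]
    rcases h2 with h2 | h2
    · obtain ⟨σ', a1, a2⟩ := ih (j + 1) _ σ (by omega)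
        (h'.succ (i := ⟨j, by omega⟩) rfl (by rw [e1, h2, ← e, suAct_inv_act]))
      exact ⟨σ', a1, (tc_conj b k g).trans a2⟩
    set k1 := g⁻¹ * k * tw b g
    set y' := suAct g⁻¹ (th b k y)
    have u1 : UF.H y' y' = 1 := by rw [UField.H_act, H_th, h1, map_one]
    have m1 : y' ∈ uPerp F4 (Ik (j + 1)) := fun l hl => by
      rcases (Nat.lt_succ_iff.mp hl).eq_or_lt with e' | e'
      · rw [← UF.H_ev_right y', UField.H_act_left, inv_inv, show l = ⟨j, by omega⟩ from Fin.ext e', e, h2]
      · exact UF.act_mem_uPerp (inv_mem hg) (h.mem hy) l e'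
    refine (fun ⟨σ', a1, a2⟩ => ⟨σ', a1, (tc_conj b k g).trans a2⟩ :
      (∃ σ' : Perm (Fin 6), σ' * σ' = 1 ∧ TC b k1 (pm σ')) → _) ?_
    by_cases h4 : j < 4
    · obtain ⟨g2, hg2, e2⟩ := exists_fix ⟨j + 1, by omega⟩ (by simp only; omega) m1 u1
      have hg2' := (suFix_succ (j := ⟨j, by omega⟩)).mp hg2
      obtain ⟨σ', a1, a2⟩ := ih (j + 2) _ _ (by omega) ((h'.conj hg2'.1).pair (i := ⟨j, by omega⟩)
        (i' := ⟨j + 1, by omega⟩) rfl rfl (by
          rw [← th_e b, th_conj, hg2'.2, th_e, e1, ← e2, suAct_inv_act]))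
      exact ⟨σ', a1, (tc_conj b k1 g2).trans a2⟩
    obtain rfl : j = 4 := by omega
    have ey : y' = y' 5 • e6 5 := funext fun l => by
      by_cases hl : l = 5
      · subst hl; simp [H1.ev]
      · rw [m1 l (by simp only [Ik, Set.mem_setOf_eq]; omega)]; simp [H1.ev, hl]
    have c0 : y' 5 ≠ 0 := fun e0 => by
      rw [e0, zero_smul] at ey
      rw [ey, map_zero] at u1
      exact zero_ne_one u1
    obtain ⟨a, ha⟩ := (by decide : ∀ c : F4, c ≠ 0 → ∃ a, w3 a = c) _ c0
    change suAct k1 (e6 4) = y' at e1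
    rw [ey, ← ha] at e1
    clear_value k1 y'
    cases b
    · refine (fun ⟨σ', a1, a2⟩ => ⟨σ', a1, (tc_conj false k1 _).trans a2⟩ :
        (∃ σ' : Perm (Fin 6), σ' * σ' = 1 ∧ TC false _ (pm σ')) → _)
        (((h'.conj (d45_mem a)).pair (i := 4) (i' := 5) rfl rfl ?_).five (by norm_num))
      rw [tw_false, suAct_mul, suAct_mul, d45_four, map_smul, e1, smul_smul]
      exact suAct_inv_eq (d45_five a)
    · have e5 : suAct k1 (e6 5) = w3 a • e6 4 := by
        have := th_th h'.inv (e6 4)
        rw [th_e, e1, th_smul, th_e] at this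
        rw [← this, smul_smul, show w3 a * tau true (w3 a) = 1 from w3_norm a, one_smul]
      have f4 := h'.fix 4 le_rfl
      have f5 := h'.fix 5 (by decide)
      have : k1 * pm (swap 4 5) = d45 a * pm σ :=
        eq_of_five fun i hi => by
          rw [suAct_mul, suAct_mul, act_pm_e, act_pm_e]
          by_cases hi4 : i = 4
          · rw [hi4, swap_apply_left, e5, f4, d45_four]
          · have hi' : i.1 < 4 := by have := Fin.val_ne_of_ne hi4; omega
            rw [swap_apply_of_ne_of_ne hi4 (by rintro rfl; omega), h'.act i hi', d45_mem a _ (h'.lt hi')]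
      have := congrArg (fun x => suAct x (e6 5)) this
      simp only [suAct_mul, act_pm_e, swap_apply_right, e1, f5, d45_five] at this
      have a0 : a = 0 := (by decide : ∀ a : ZMod 3, w3 a • e6 5 = (w3 a * w3 a) • e6 5 → a = 0) a this
      exact (h'.pair (i := 4) (i' := 5) rfl rfl (by rw [e1, a0]; exact one_smul _ _)).five (by norm_num)

/-- The standard involutions of the symmetric group. -/
def sr (i : ℕ) : Perm (Fin 6) := match i with
  | 0 => 1 | 1 => swap 0 1 | 2 => swap 0 1 * swap 2 3 | _ => swap 0 1 * swap 2 3 * swap 4 5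

theorem perm_class {σ : Perm (Fin 6)} (h : σ * σ = 1) : ∃ i < 4, IsConj (sr i) σ := by
  have key : ∀ τ : Perm (Fin 6), τ * τ = 1 →
      τ.cycleType = Multiset.replicate (τ.support.card / 2) 2 ∧ τ.support.card % 2 = 0 := fun τ hτ => by
    have h1 := Perm.cycleType_of_pow_prime_eq_one (p := 2) (σ := τ) (by rw [pow_two, hτ])
    have h2 := τ.sum_cycleType
    rw [h1, Multiset.sum_replicate, smul_eq_mul] at h2
    exact ⟨by rw [← h2, Nat.mul_div_cancel _ two_pos]; exact h1, by omega⟩
  have hs : σ.support.card ≤ 6 := (Finset.card_le_univ _).trans (by simp)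
  have hr : ∀ i < 4, sr i * sr i = 1 ∧ (sr i).support.card = 2 * i := by decide
  have h2 := (key σ h).2
  refine ⟨σ.support.card / 2, by omega, Perm.isConj_iff_cycleType_eq.mpr ?_⟩
  rw [(key σ h).1, (key _ (hr _ (by omega)).1).1, (hr _ (by omega)).2, Nat.mul_div_cancel_left _ two_pos]

theorem inv_class {b : Bool} {k : G} (h : k * tw b k = 1) : ∃ i < 4, TC b k (pm (sr i)) := by
  obtain ⟨σ, h1, h2⟩ := St.main b 5 0 k 1 (by norm_num) ⟨h, mul_one _, fun _ _ => rfl, fun _ hi => by omega⟩
  obtain ⟨i, hi, hc⟩ := perm_class h1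
  obtain ⟨ρ, rfl⟩ := isConj_iff.mp hc
  exact ⟨i, hi, h2.trans ⟨pm ρ, by rw [tw_pm, map_mul, map_mul, map_inv]⟩⟩

end Cfsg.Agent.H1.U6
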