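import Cfsg.Agent.H1.U6Asm

/-!
Reduction of the hypotheses to the standard configuration.
-/

set_option autoImplicit false

namespace Cfsg.Agent.H1.U6

variable {X : Type*} [Group X] {A H K : Subgroup X} {V : Type*} [AddCommGroup V] {e : V → X}
  {σ : H →* AddMonoid.End V} {ι : G →* X}

theorem exists_cf [Finite X] (M : Mdl A H e σ) (hA : Nat.card A = 2 ^ 20) (hk : ι.ker = ZG) (hι : ∀ g, ι g ∈ H)
    (dis : ∀ g, ι g ∈ A → ι g = 1) (hn : ¬ ∀ g, ∀ a ∈ A, ι g * a = a * ι g) :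
    ∃ ρ b, Cf A H e σ ι ρ b := by
  haveI := M.fin
  obtain ⟨b, hb⟩ := exists_mod (ρ := σ.comp (ι.codRestrict H hι)) M.two (M.card.trans hA) (by
    rw [← map_one σ]; exact congrArg σ (Subtype.ext ((eq_one_iff hk).mpr zc_mem))) (by
    by_contra hc
    push Not at hc
    refine hn fun g a ha => ?_
    obtain ⟨v, rfl⟩ := (M.rng a).mp ha
    exact (M.fix_iff ⟨ι g, hι g⟩ v).mp (DFunLike.congr_fun (hc g) v))
  exact ⟨_, b, M, hk, hι, dis, fun _ => rfl, hb⟩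

theorem elem [Finite X] (hA : Nat.card A = 2 ^ 20) (hH : H = Subgroup.normalizer (A : Set X))
    (hmin : ∀ B : Subgroup X, B ≤ A → (∀ h ∈ H, ∀ b ∈ B, h * b * h⁻¹ ∈ B) → B = ⊥ ∨ B = A) :
    ∀ a ∈ A, a * a = 1 := by
  have m : ∀ h ∈ H, ∀ a ∈ A, h * a * h⁻¹ ∈ A := fun h hh a ha =>
    (Subgroup.mem_normalizer_iff.mp (hH ▸ hh) a).mp ha
  let B : Subgroup X :=
    { carrier := {a | a ∈ A ∧ a * a = 1 ∧ ∀ c ∈ A, a * c = c * a}
      one_mem' := ⟨one_mem _, one_mul _, fun c _ => by rw [one_mul, mul_one]⟩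
      mul_mem' := by
        rintro a c ⟨a1, a2, a3⟩ ⟨c1, c2, c3⟩
        refine ⟨mul_mem a1 c1, ?_, fun d hd => by rw [mul_assoc, c3 d hd, ← mul_assoc, a3 d hd, mul_assoc]⟩
        rw [mul_assoc, ← mul_assoc c, ← a3 c c1, mul_assoc, c2, mul_one, a2]
      inv_mem' := by
        rintro a ⟨a1, a2, a3⟩
        rw [inv_eq_of_mul_eq_one_right a2]; exact ⟨a1, a2, a3⟩ }
  rcases hmin B (fun a ha => ha.1) (fun h hh a ha => ⟨m h hh a ha.1, by
      calc _ = h * (a * a) * h⁻¹ := by group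
        _ = 1 := by rw [ha.2.1]; group, fun c hc => by
      have := ha.2.2 _ (m _ (inv_mem hh) c hc)
      calc _ = h * (a * (h⁻¹ * c * h⁻¹⁻¹)) * h⁻¹ := by group
        _ = _ := by rw [this]; group⟩) with h | h
  · have hp : IsPGroup 2 A := IsPGroup.of_card hA
    haveI : Nontrivial A := Finite.one_lt_card_iff_nontrivial.mp (by rw [hA]; norm_num)
    haveI := hp.center_nontrivial
    obtain ⟨n, hn, e1⟩ := (hp.to_subgroup (Subgroup.center A)).nontrivial_iff_card.mp inferInstance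
    obtain ⟨z, hz⟩ := exists_prime_orderOf_dvd_card' (G := Subgroup.center A) 2 (by
      rw [e1]; exact dvd_pow_self 2 hn.ne')
    have : z.1.1 ∈ B := ⟨z.1.2, by
      have := pow_orderOf_eq_one z
      rw [hz, pow_two] at this
      exact congrArg (fun y => y.1.1) this, fun c hc =>
        (congrArg Subtype.val (Subgroup.mem_center_iff.mp z.2 ⟨c, hc⟩)).symm⟩
    rw [h, Subgroup.mem_bot] at this
    rw [show z = 1 from Subtype.ext (Subtype.ext this), orderOf_one] at hz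
    omega
  · exact fun a ha => (show a ∈ B from h ▸ ha).2.1

theorem Mdl.dec (M : Mdl A H e σ) (hK : K ≤ H) (h : A ⊔ K = H) : ∀ x ∈ H, ∃ a ∈ A, ∃ k ∈ K, x = a * k := by
  let S : Subgroup X :=
    { carrier := {x | ∃ a ∈ A, ∃ k ∈ K, x = a * k}
      one_mem' := ⟨1, one_mem _, 1, one_mem _, (one_mul _).symm⟩
      mul_mem' := by
        rintro _ _ ⟨a, ha, k, hk, rfl⟩ ⟨a', ha', k', hk', rfl⟩
        exact ⟨_, mul_mem ha (M.conj (hK hk) ha'), _, mul_mem hk hk', by group⟩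
      inv_mem' := by
        rintro _ ⟨a, ha, k, hk, rfl⟩
        exact ⟨_, M.conj (hK (inv_mem hk)) (inv_mem ha), _, inv_mem hk, by group⟩ }
  have : H ≤ S := h ▸ sup_le (fun a ha => ⟨a, ha, 1, one_mem _, (mul_one _).symm⟩)
    (fun k hk => ⟨1, one_mem _, k, hk, (one_mul _).symm⟩)
  exact fun x hx => this hx

theorem Mdl.card_H (M : Mdl A H e σ) (hK : K ≤ H) (h : A ⊔ K = H) (hAK : A ⊓ K = ⊥) :
    Nat.card H = Nat.card A * Nat.card K := by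
  rw [← Nat.card_prod]
  refine (Nat.card_eq_of_bijective (fun p : A × K => (⟨p.1 * p.2, mul_mem (M.le p.1.2) (hK p.2.2)⟩ : H))
    ⟨fun p q e => ?_, fun x => ?_⟩).symm
  · have e1 : p.1.1 * p.2.1 = q.1.1 * q.2.1 := congrArg Subtype.val e
    have e2 : q.1.1⁻¹ * p.1.1 = q.2.1 * p.2.1⁻¹ := by
      rw [inv_mul_eq_iff_eq_mul, ← mul_assoc, ← e1, mul_inv_cancel_right]
    have : q.1.1⁻¹ * p.1.1 ∈ A ⊓ K := ⟨A.mul_mem (A.inv_mem q.1.2) p.1.2, by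
      rw [e2]; exact K.mul_mem q.2.2 (K.inv_mem p.2.2)⟩
    rw [hAK, Subgroup.mem_bot, inv_mul_eq_one] at this
    rw [this] at e1
    exact Prod.ext (Subtype.ext this.symm) (Subtype.ext (mul_left_cancel e1))
  · obtain ⟨a, ha, k, hk, e1⟩ := M.dec hK h x x.2
    exact ⟨⟨⟨a, ha⟩, ⟨k, hk⟩⟩, Subtype.ext e1.symm⟩

theorem Mdl.no_fix [Finite X] (M : Mdl A H e σ) (hA : Nat.card A = 2 ^ 20) (hK : K ≤ H) (h : A ⊔ K = H)
    (hmin : ∀ B : Subgroup X, B ≤ A → (∀ h ∈ H, ∀ b ∈ B, h * b * h⁻¹ ∈ B) → B = ⊥ ∨ B = A)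
    {a : X} (ha : a ∈ A) (hc : ∀ k ∈ K, k * a = a * k) : a = 1 := by
  rcases hmin (Subgroup.zpowers a) (Subgroup.zpowers_le.mpr ha) (fun x hx b hb => by
    obtain ⟨c, hc', k, hk, rfl⟩ := M.dec hK h x hx
    obtain ⟨n, rfl⟩ := Subgroup.mem_zpowers_iff.mp hb
    have : Commute (c * k) a := Commute.mul_left (M.comm hc' ha) (hc k hk)
    rw [(this.zpow_right n).eq, mul_inv_cancel_right]
    exact hb) with e1 | e1
  · exact Subgroup.zpowers_eq_bot.mp e1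
  · have := orderOf_dvd_of_pow_eq_one (show a ^ 2 = 1 by rw [pow_two, M.sq a ha])
    rw [← Nat.card_zpowers, e1, hA] at this
    norm_num at this

theorem exists_iota {Y : Type*} [Group Y] (F : Type*) [Field F] [Fintype F] (hF : Fintype.card F = 4)
    (h : Nonempty (Y ≃* Cfsg.PSU 6 F 2)) : Nat.card Y = 2 ^ 15 * 3 ^ 6 * 5 * 7 * 11 ∧
      ∃ ι : G →* Y, ι.ker = ZG ∧ Function.Surjective ι := by
  obtain ⟨f⟩ := h
  let f' := f.trans (Cfsg.Agent.H6.psuCongr (FiniteField.ringEquivOfCardEq (hF.trans Cfsg.Agent.H6.card_F4.symm)))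
  refine ⟨?_, f'.symm.toMonoidHom.comp (QuotientGroup.mk' ZG), ?_, f'.symm.surjective.comp (QuotientGroup.mk'_surjective _)⟩
  · have := Subgroup.card_eq_card_quotient_mul_card_subgroup ZG
    rw [card_G, card_center] at this
    rw [Nat.card_congr f'.toEquiv]
    change Nat.card (G ⧸ ZG) = _
    omega
  · ext g; simp

theorem exists_std [Finite X] (M : Mdl A H e σ) (hA : Nat.card A = 2 ^ 20) (hK : K ≤ H) (hAK : A ⊓ K = ⊥)
    (h : A ⊔ K = H) (F : Type*) [Field F] [Fintype F] (hF : Fintype.card F = 4)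
    (hK' : Nonempty (K ≃* Cfsg.PSU 6 F 2) ∨
      ∃ K₀ : Subgroup K, K₀.Normal ∧ K₀.index = 2 ∧ Nonempty (K₀ ≃* Cfsg.PSU 6 F 2) ∧
        Subgroup.centralizer (K₀ : Set K) = ⊥)
    (hmin : ∀ B : Subgroup X, B ≤ A → (∀ h ∈ H, ∀ b ∈ B, h * b * h⁻¹ ∈ B) → B = ⊥ ∨ B = A) :
    Nat.card K ∣ 2 ^ 16 * 3 ^ 6 * 5 * 7 * 11 ∧ ∃ ι ρ b, Cf A H e σ ι ρ b ∧
      ∀ h ∈ H, ∃ a ∈ A, ∃ g, h = a * ι g ∨ ∃ k, Out H ι k ∧ h = a * (ι g * k) := by
  obtain ⟨a0, ha0, a1⟩ : ∃ a ∈ A, a ≠ 1 := by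
    by_contra hc
    push Not at hc
    rw [(Subgroup.eq_bot_iff_forall A).mpr hc, Subgroup.card_bot] at hA
    norm_num at hA
  have dis : ∀ k ∈ K, k ∈ A → k = 1 := fun k hk ha => by
    rw [← Subgroup.mem_bot, ← hAK]; exact ⟨ha, hk⟩
  rcases hK' with hK' | ⟨K₀, hn, hi, hK', hc⟩
  · obtain ⟨c, ι, hk, hs⟩ := exists_iota F hF hK'
    obtain ⟨ρ, b, C⟩ := exists_cf (ι := K.subtype.comp ι) M hA (by rw [← hk]; ext g; simp)
      (fun g => hK (ι g).2) (fun g => dis _ (ι g).2) fun hh => a1 (M.no_fix hA hK h hmin ha0 fun k hk => by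
        obtain ⟨g, hg⟩ := hs ⟨k, hk⟩
        simpa [hg] using hh g a0 ha0)
    refine ⟨by rw [c]; norm_num, _, ρ, b, C, fun x hx => ?_⟩
    obtain ⟨a, ha, k, hk, rfl⟩ := M.dec hK h x hx
    obtain ⟨g, hg⟩ := hs ⟨k, hk⟩
    exact ⟨a, ha, g, .inl (by simp [hg])⟩
  obtain ⟨c, ι₀, hk₀, hs⟩ := exists_iota F hF hK'
  obtain ⟨k, hk⟩ : ∃ k, k ∉ K₀ := by
    by_contra hh
    push Not at hh
    rw [(Subgroup.eq_top_iff' K₀).mpr hh, Subgroup.index_top] at hi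
    omega
  obtain ⟨ι, hι⟩ : ∃ ι : G →* X, ∀ g, ι g = (ι₀ g).1.1 := ⟨(K.subtype.comp K₀.subtype).comp ι₀, fun _ => rfl⟩
  have ker : ι.ker = ZG := by rw [← hk₀]; ext g; simp [hι]
  have mem : ∀ g, ι g ∈ K := fun g => hι g ▸ (ι₀ g).1.2
  have rng : ∀ y : K, y ∈ K₀ ↔ ∃ g, ι g = y := fun y => ⟨fun hy => by
    obtain ⟨g, hg⟩ := hs ⟨y, hy⟩
    exact ⟨g, by simp [hι, hg]⟩, fun ⟨g, hg⟩ => (show (ι₀ g).1 = y from Subtype.ext ((hι g).symm.trans hg)) ▸ (ι₀ g).2⟩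
  have two : ∀ y y' : K, y ∉ K₀ → y' ∉ K₀ → ∃ g, ι g = y * y' := fun y y' h1 h2 =>
    (rng _).mp ((Subgroup.mul_mem_iff_of_index_two hi).mpr (iff_of_false h1 h2))
  have cen : ∀ y ∈ K, (∀ g, y * ι g * y⁻¹ = ι g) → y = 1 := fun y hy h => by
    have : (⟨y, hy⟩ : K) ∈ Subgroup.centralizer (K₀ : Set K) := fun x hx => by
      obtain ⟨g, hg⟩ := (rng x).mp hx
      refine Subtype.ext ?_
      change x.1 * y = y * x.1
      rw [← hg, ← mul_inv_eq_iff_eq_mul.mp (h g)]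
    rw [hc, Subgroup.mem_bot] at this
    exact congrArg Subtype.val this
  have nt : ¬ ∀ g, ∀ a ∈ A, ι g * a = a * ι g := fun hh => by
    obtain ⟨g, hg⟩ := two k k hk hk
    have fx : ∀ a ∈ A, k.1 * a = a * k → a = 1 := fun a ha e1 => M.no_fix hA hK h hmin ha fun y hy => by
      by_cases hy' : (⟨y, hy⟩ : K) ∈ K₀
      · obtain ⟨g, hg⟩ := (rng _).mp hy'
        exact (show ι g = y from hg) ▸ hh g a ha
      · obtain ⟨g, hg⟩ := two _ k⁻¹ hy' (by rwa [inv_mem_iff])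
        have : y = ι g * k := by rw [hg]; simp
        rw [this, mul_assoc, e1, ← mul_assoc, hh g a ha, mul_assoc]
    have m := M.conj (hK k.2) ha0
    have := fx _ (mul_mem ha0 m) (by
      have e1 := hh g a0 ha0
      rw [hg] at e1
      rw [M.comm ha0 m]
      calc _ = k.1 * k.1 * a0 * k.1⁻¹ * a0 := by group
        _ = a0 * k * a0 := by rw [e1]; group
        _ = _ := by rw [← M.comm ha0 m]; group)
    refine a1 (fx _ ha0 ?_)
    rw [← mul_inv_eq_iff_eq_mul, eq_inv_of_mul_eq_one_right this, M.inv ha0]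
  obtain ⟨ρ, b, C⟩ := exists_cf M hA ker (fun g => hK (mem g)) (fun g => dis _ (mem g)) nt
  obtain ⟨g, j, ε, hg⟩ := C.aut (hK k.2) fun g => by
    obtain ⟨g', e1⟩ := (rng _).mp (hn.conj_mem _ ((rng ⟨_, mem g⟩).mpr ⟨g, rfl⟩) k)
    exact ⟨g', e1.symm⟩
  let k' : K := ⟨_, mem g⟩⁻¹ * k
  have hk' : k' ∉ K₀ := fun h =>
    hk ((K₀.mul_mem_cancel_left (inv_mem ((rng ⟨_, mem g⟩).mpr ⟨g, rfl⟩))).mp h)
  have e1 : ∀ x, k'.1 * ι x * k'.1⁻¹ = ι (dl j (tw ε x)) := fun x => by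
    calc _ = (ι g)⁻¹ * (k * ι x * k.1⁻¹) * ι g := by simp [k', mul_assoc]
      _ = _ := by rw [hg, map_mul, map_mul, map_inv]; group
  have e2 : ∀ x, k'.1 * k'.1 * ι x * (k'.1 * k'.1)⁻¹ = ι (dl j (tw ε (dl j (tw ε x)))) := fun x => by
    rw [← e1, ← e1]; group
  cases ε
  · obtain ⟨y, hy⟩ := two k' k' hk' hk'
    have := cen (k'.1 * (k'.1 * k'.1)) (mul_mem k'.2 (mul_mem k'.2 k'.2)) fun x => by
      calc _ = k'.1 * (k'.1 * k'.1 * ι x * (k'.1 * k'.1)⁻¹) * k'.1⁻¹ := by group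
        _ = _ := by
          rw [e2, e1, tw_false, tw_false, tw_false, dl_dl, dl_dl,
            (by decide : ∀ j : ZMod 3, j + j + j = 0), dl_zero]
    exact absurd ((rng _).mpr ⟨y⁻¹, by rw [map_inv, hy]; exact inv_eq_of_mul_eq_one_left this⟩) hk'
  have k2 : k'.1 * k'.1 = 1 := cen _ (mul_mem k'.2 k'.2) fun x => by
    rw [e2, tw_dl, tw_tw, dl_dl, add_neg_cancel, dl_zero]
  have sj : ∀ g, ∃ g', ι g = ι.comp (dl (-j)) g' := fun g =>
    ⟨dl j g, by rw [MonoidHom.comp_apply, dl_dl, neg_add_cancel, dl_zero]⟩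
  obtain ⟨ρ', b', C'⟩ := exists_cf (ι := ι.comp (dl (-j))) M hA (by
      ext g
      rw [MonoidHom.mem_ker, MonoidHom.comp_apply, eq_one_iff ker, mem_ZG_map (dl_injective _)])
    (fun g => hK (mem _)) (fun g => dis _ (mem _)) fun hh => nt fun g => by
      obtain ⟨g', e3⟩ := sj g
      rw [e3]; exact hh g'
  refine ⟨by rw [← K₀.index_mul_card, hi, c]; norm_num, _, ρ', b', C', fun x hx => ?_⟩
  obtain ⟨a, ha, y, hy, rfl⟩ := M.dec hK h x hx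
  by_cases hy' : (⟨y, hy⟩ : K) ∈ K₀
  · obtain ⟨g, hg⟩ := (rng _).mp hy'
    obtain ⟨g', e3⟩ := sj g
    exact ⟨a, ha, g', .inl (by rw [← e3, hg])⟩
  · obtain ⟨g, hg⟩ := two _ k' hy' hk'
    obtain ⟨g', e3⟩ := sj g
    refine ⟨a, ha, g', .inr ⟨k', ⟨hK k'.2, k2, fun x => ?_⟩, by rw [← e3, hg, mul_assoc, k2, mul_one]⟩⟩
    rw [MonoidHom.comp_apply, MonoidHom.comp_apply, e1, tw_dl, dl_dl, neg_neg,
      (by decide : ∀ j : ZMod 3, j + j = -j)]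

end Cfsg.Agent.H1.U6
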