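import Cfsg.Agent.H1.U6Wt

/-!
Identification of the module of order `2 ^ 20` of `U₆(2)`.
-/

set_option autoImplicit false

namespace Cfsg.Agent.H1.U6

open Cfsg.Agent.L0.Code (frc frc_eq allB allB_iff)
open Cfsg.Agent.H6 (F4 card_F4)
open Equiv
open Matrix hiding swap_mul_self

variable {V : Type*} [AddCommGroup V] {ρ : G →* AddMonoid.End V}

/-- Coset representatives. -/
def sgE (j : ℕ) : Perm (Fin 6) := pw ([[], [2], [3, 2], [4, 3, 2], [1, 2], [3, 1, 2], [4, 3, 1, 2], [2, 3, 1, 2], [4, 2, 3, 1, 2], [3, 4, 2, 3, 1, 2]].getD j [])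

theorem sep_sgE : Sep (fun j => mu0 ∘ ⇑(sgE j)⁻¹) 10 := sep_of (by decide +kernel)

theorem bas_wt [Finite V] (h2 : Two V) (hc : Nat.card V = 2 ^ 20) {v : V} (hv : Wt ρ mu0 v) (h0 : v ≠ 0)
    {a : A6} (ha : ∑ i, a i = 0) (e : mu0 ⬝ᵥ a ≠ 0) : Bas (tb2 ρ sgE v (ρ (dg a ha) v)) 20 :=
  bas_of_inj h2 hc (tb2_inj h2 sep_sgE hv (hv.act a ha) h0 (rho_ne h0) (ne_of_nm h2 h0 ((hv a ha).2 e)))

theorem yy_eq (h2 : Two V) {y : G} {v : V} (h : nm ρ y v = 0) : ρ y (ρ y v) = v + ρ y v :=
  (h2.eq_of_add h).symm

theorem wt_four [Finite V] (h2 : Two V) (hc : Nat.card V = 2 ^ 20) {v w : V} (hv : Wt ρ mu0 v) (h0 : v ≠ 0)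
    {a : A6} (ha : ∑ i, a i = 0) (e : mu0 ⬝ᵥ a ≠ 0) (hw : Wt ρ mu0 w) (hw0 : w ≠ 0) :
    w = v ∨ w = ρ (dg a ha) v ∨ w = ρ (dg a ha) (ρ (dg a ha) v) := by
  obtain ⟨m, -, hm⟩ := (bas_wt h2 hc hv h0 ha e).surj w
  have hs := ev_cp (tb2 ρ sgE v (ρ (dg a ha) v)) 10 m
  rw [hm] at hs
  set f := cp (tb2 ρ sgE v (ρ (dg a ha) v)) m with hf
  have hf' : ∀ j, Wt ρ (mu0 ∘ ⇑(sgE j)⁻¹) (f j) := fun j => wt_cp (by rw [tb2_even]; exact hv.perm _)
    (by rw [tb2_odd]; exact (hv.act a ha).perm _) m
  have e0 : sgE 0 = 1 := rfl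
  have := indep h2 sep_sgE (fun j => if j = 0 then f j + w else f j) (fun j _ => by
    split_ifs with h
    · subst h; exact (hf' 0).add hw
    · exact hf' j) (by
    rw [Finset.sum_range_succ'] at hs ⊢
    simp only [Nat.succ_ne_zero, if_false, if_true]
    rw [← add_assoc, ← hs, h2]) 0 (by norm_num)
  rw [if_pos rfl] at this
  have e1 := h2.eq_of_add this
  rw [hf, cp, tb2_even, tb2_odd, e0, map_one, rho_one, rho_one] at e1
  rw [yy_eq h2 ((hv a ha).2 e)]
  split_ifs at e1
  · exact .inr (.inr e1.symm)
  · exact .inl (by rw [← e1, add_zero])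
  · exact .inr (.inl (by rw [← e1, zero_add]))
  · exact absurd (by rw [← e1, add_zero]) hw0

theorem pm_sq {s : Perm (Fin 6)} (hs : s * s = 1) (v : V) : ρ (pm s) (ρ (pm s) v) = v := by
  rw [← rho_mul, ← map_mul, hs, map_one, rho_one]

theorem dg_three (a : A6) (ha : ∑ i, a i = 0) (v : V) : ρ (dg a ha) (ρ (dg a ha) (ρ (dg a ha) v)) = v := by
  rw [← rho_mul, ← rho_mul, mul_assoc, dg_cube, rho_one]

theorem fix_s [Finite V] (h2 : Two V) (hc : Nat.card V = 2 ^ 20) {v : V} (hv : Wt ρ mu0 v) (h0 : v ≠ 0)
    (s : Perm (Fin 6)) (a : A6) (h : s * s = 1 ∧ mu0 ∘ ⇑s⁻¹ = mu0 ∧ ∑ i, a i = 0 ∧ mu0 ⬝ᵥ a ≠ 0 ∧ a ∘ ⇑s⁻¹ = a) :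
    ρ (pm s) v = v := by
  obtain ⟨hs, hm, ha, e, ea⟩ := h
  have c : ∀ w, ρ (pm s) (ρ (dg a ha) w) = ρ (dg a ha) (ρ (pm s) w) := fun w => by
    rw [← rho_mul, ← rho_mul, pm_dg, dg_congr ea _ ha]
  have n1 := ne_of_nm h2 h0 ((hv a ha).2 e)
  rcases wt_four h2 hc hv h0 ha e (hm ▸ hv.perm s) (rho_ne h0) with h | h | h
  · exact h
  · have := pm_sq (ρ := ρ) hs v
    rw [h, c, h, yy_eq h2 ((hv a ha).2 e), add_eq_left] at this
    exact absurd this (rho_ne h0)
  · have := pm_sq (ρ := ρ) hs v
    rw [h, c, c, h, dg_three] at this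
    exact absurd (by rw [this, h2]) n1

/-- The permutation exchanging the two halves. -/
def tau6 : Perm (Fin 6) := swap 0 3 * swap 1 4 * swap 2 5

/-- An exponent vector of weight one. -/
def ax0 : A6 := ![1, 0, 0, 2, 0, 0]

theorem ax0_sum : ∑ i, ax0 i = 0 := by decide

theorem exists_u [Finite V] (h2 : Two V) (hc : Nat.card V = 2 ^ 20) {v : V} (hv : Wt ρ mu0 v) (h0 : v ≠ 0) :
    ∃ u ≠ 0, Wt ρ mu0 u ∧ ρ (pm tau6) u = ρ (dg ax0 ax0_sum) u := by
  have c : ∀ w, ρ (pm tau6) (ρ (dg ax0 ax0_sum) w) =
      ρ (dg ax0 ax0_sum) (ρ (dg ax0 ax0_sum) (ρ (pm tau6) w)) := fun w => by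
    rw [← rho_mul, ← rho_mul, ← rho_mul, pm_dg, dg_mul]
    congr 3
    exact dg_congr (by decide) _ _
  rcases wt_four h2 hc hv h0 ax0_sum (by decide) ((hv.perm tau6).congr (by decide +kernel)) (rho_ne h0)
    with h | h | h
  · exact ⟨_, rho_ne h0, hv.act _ ax0_sum, by rw [c, h]⟩
  · exact ⟨v, h0, hv, h⟩
  · exact ⟨_, rho_ne (rho_ne h0), (hv.act _ ax0_sum).act _ ax0_sum, by
      rw [dg_three, ← h, pm_sq (by decide)]⟩

/-- All coset representatives. -/
def sgA (k : ℕ) : Perm (Fin 6) := sgE (k / 2) * if k % 2 = 0 then 1 else tau6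

theorem perm_chk : ∀ i < 5, ∀ k < 20, ∃ k' < 20, col 20 (g20 i) k = 2 ^ k' ∧
    ∃ a ∈ [1, sw 0, sw 1, sw 0 * sw 1, sw 1 * sw 0, sw 0 * (sw 1 * sw 0)],
    ∃ c ∈ [1, sw 3, sw 4, sw 3 * sw 4, sw 4 * sw 3, sw 3 * (sw 4 * sw 3)],
      sw i * sgA k = sgA k' * (a * c) := by
  decide +kernel

theorem diag_chk : ∀ k < 20, k ^^^ 1 < 20 ∧ sgA k * tau6 = sgA (k ^^^ 1) ∧ col 20 (g20 5) k =
    if mu0 ⬝ᵥ (a0 ∘ sgA k) = 0 then 2 ^ k else if mu0 ⬝ᵥ (a0 ∘ sgA k) = 1 then 2 ^ (k ^^^ 1) else
      2 ^ k ^^^ 2 ^ (k ^^^ 1) := by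
  decide +kernel

theorem exists_mono [Finite V] (h2 : Two V) (hc : Nat.card V = 2 ^ 20) (hz : ρ zc = 1) (hd : ρ (gen 5) ≠ 1) :
    ∃ b, Bas b 20 ∧ ∀ i < 6, Rep b 20 (ρ (gen i)) (g20 i) := by
  obtain ⟨v, hv0, hv⟩ := exists_mu0 h2 hc hz hd
  obtain ⟨u, h0, hu, ht⟩ := exists_u h2 hc hv hv0
  have hb : ∀ k, tb2 ρ sgE u (ρ (dg ax0 ax0_sum) u) k = ρ (pm (sgA k)) u := fun k => by
    rw [tb2, sgA, map_mul, rho_mul]
    split_ifs
    · rw [map_one, rho_one]
    · rw [ht]
  refine ⟨_, bas_wt h2 hc hu h0 ax0_sum (by decide), fun i hi k hk => ?_⟩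
  rcases Nat.lt_succ_iff_lt_or_eq.mp hi with hi | rfl
  · obtain ⟨k', hk', e1, a, ha, c, hc', e2⟩ := perm_chk i hi k hk
    have f0 := fix_s h2 hc hu h0 (sw 0) ![0, 0, 1, 2, 0, 0] (by decide)
    have f1 := fix_s h2 hc hu h0 (sw 1) ![1, 0, 0, 0, 0, 2] (by decide)
    have f3 := fix_s h2 hc hu h0 (sw 3) ![1, 0, 0, 0, 0, 2] (by decide)
    have f4 := fix_s h2 hc hu h0 (sw 4) ![0, 0, 1, 2, 0, 0] (by decide)
    have fa : ρ (pm a) u = u := by
      simp only [List.mem_cons, List.not_mem_nil, or_false] at ha
      rcases ha with rfl | rfl | rfl | rfl | rfl | rfl <;> simp only [map_mul pm, rho_mul, f0, f1, map_one pm, rho_one]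
    have fc : ρ (pm c) u = u := by
      simp only [List.mem_cons, List.not_mem_nil, or_false] at hc'
      rcases hc' with rfl | rfl | rfl | rfl | rfl | rfl <;> simp only [map_mul pm, rho_mul, f3, f4, map_one pm, rho_one]
    have g : gen i = pm (sw i) := by interval_cases i <;> rfl
    rw [e1, ev_two_pow _ hk', hb, hb, g, ← rho_mul, ← map_mul, e2, map_mul pm, map_mul pm, rho_mul, rho_mul, fc, fa]
  · obtain ⟨e0, e1, e2⟩ := diag_chk k hk
    have ha : ∑ i, (a0 ∘ sgA k) i = 0 := by rw [← a0_sum]; exact Equiv.sum_comp (sgA k) a0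
    have e3 : gen 5 * pm (sgA k) = pm (sgA k) * dg (a0 ∘ sgA k) ha := by
      rw [pm_dg]; congr 1
      exact dg_congr (funext fun i => by simp) a0_sum _
    have e4 : ρ (pm (sgA k)) (ρ (dg ax0 ax0_sum) u) = ρ (pm (sgA (k ^^^ 1))) u := by
      rw [← ht, ← rho_mul, ← map_mul, e1]
    rw [e2, hb, ← rho_mul, e3, rho_mul]
    generalize a0 ∘ sgA k = a at ha
    have s1 : ∑ i, (a - ax0) i = 0 := by simp [Finset.sum_sub_distrib, ha, ax0_sum]
    have s2 : ∑ i, (a - ax0 - ax0) i = 0 := by simp [Finset.sum_sub_distrib, ha, ax0_sum]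
    have m1 : mu0 ⬝ᵥ ax0 = 1 := by decide
    split_ifs with c0 c1
    · rw [ev_two_pow _ hk, hb, (hu a ha).1 c0]
    · rw [ev_two_pow _ e0, hb, ← e4, dg_congr (add_sub_cancel ax0 a).symm ha (by simpa using ha),
        ← dg_mul ax0 (a - ax0) ax0_sum s1, rho_mul, (hu _ s1).1 (by rw [dotProduct_sub, c1, m1, sub_self])]
    · have e5 : dg a ha = dg ax0 ax0_sum * (dg ax0 ax0_sum * dg (a - ax0 - ax0) s2) := by
        rw [dg_mul, dg_mul]; exact dg_congr (by abel) _ _
      rw [ev_xor h2, ev_two_pow _ hk, ev_two_pow _ e0, hb, hb, ← e4, e5, rho_mul, rho_mul,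
        (hu _ s2).1 (by
          rw [dotProduct_sub, dotProduct_sub, m1]
          exact (by decide : ∀ x : ZMod 3, x ≠ 0 → x ≠ 1 → x - 1 - 1 = 0) _ c0 c1),
        yy_eq h2 ((hu _ ax0_sum).2 (by decide)), map_add]

theorem rep_evw' (h2 : Two V) {b : ℕ → V} {w : ℕ} {gc : ℕ → ℕ} (l : List ℕ)
    (h : ∀ i ∈ l, Rep b w (ρ (gen i)) (gc i)) : Rep b w (ρ (evw l)) (evc w gc l) := by
  induction l with
  | nil => rw [evw, List.map_nil, List.prod_nil, map_one]; exact rep_one
  | cons i l ih =>
    rw [evw, List.map_cons, List.prod_cons, map_mul]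
    exact (h i List.mem_cons_self).mul h2 (ih fun j hj => h j (List.mem_cons_of_mem _ hj))

/-- The right hand side of a fixed space certificate. -/
noncomputable def fcs (St : List (List ℕ × ℕ)) (n : ℕ) : ℕ :=
  List.rec (nat_lit 0) (fun p _ ih => Nat.xor (app 20 20 p.2 (Nat.xor n (app 20 20 (e20 p.1) n))) ih) St

theorem isLin_fcs (St : List (List ℕ × ℕ)) : IsLin (fcs St) := by
  induction St with
  | nil => exact fun _ _ => (Nat.xor_self 0).symm
  | cons p St ih => exact ((isLin_app 20 20 p.2).comp (isLin_id.xor (isLin_app 20 20 _))).xor ih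

theorem fcs_zero {St : List (List ℕ × ℕ)} {n : ℕ} (h : ∀ p ∈ St, app 20 20 (e20 p.1) n = n) : fcs St n = 0 := by
  induction St with
  | nil => rfl
  | cons p St ih =>
    change app 20 20 p.2 (n ^^^ app 20 20 (e20 p.1) n) ^^^ fcs St n = 0
    rw [h p List.mem_cons_self, ih fun q hq => h q (List.mem_cons_of_mem _ hq), Nat.xor_self,
      (isLin_app _ _ _).zero, Nat.xor_self]

theorem fix_cert {St : List (List ℕ × ℕ)} {F P k n : ℕ}
    (hc : agr 20 (fun n => Nat.xor n (app 20 k F (app k 20 P n))) (fcs St) = true) (hn : n < 2 ^ 20)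
    (h : ∀ p ∈ St, app 20 20 (e20 p.1) n = n) : n = app 20 k F (app k 20 P n) := by
  have := lin_agr (isLin_id.xor ((isLin_app 20 k F).comp (isLin_app k 20 P))) (isLin_fcs St) hc n hn
  rw [fcs_zero h] at this
  exact Nat.eq_of_xor_eq_zero this

/-- A word in the monomial generators commuting with a generator. -/
noncomputable def cwB (j : ℕ) (l : List ℕ) : Bool :=
  allB (fun i => Nat.blt i 6) l && meq 12 (e12 (j :: l)) (e12 (l ++ [j]))

/-- The check determining a transvection. -/
noncomputable def heckeB (j u F P Bi WC : ℕ) (St : List (List ℕ × ℕ)) (Ws : List (List ℕ)) : Bool :=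
  allB (fun p => cwB j p.1 && Nat.beq (app 20 20 (e20 p.1) u) u) St &&
  agr 20 (fun n => Nat.xor n (app 20 4 F (app 4 20 P n))) (fcs St) &&
  allN (fun k => cwB j (Ws.getD k []) && meq 20 (e20 (Ws.getD k [])) (col 400 WC k)) 20 &&
  meq 20 (mul 20 (pack 20 20 fun k => app 20 20 (col 400 WC k) u) Bi) (idm 20) &&
  inZ (e12 [j, 5, 0, j, 5, 0, j, 5, 0]) &&
  allN (fun c => frc (mul 20 (pack 20 20 fun k => app 20 20 (col 400 WC k) (app 20 4 F c)) Bi) fun M =>
    frc (mul 20 M (mul 20 (g20 5) (g20 0))) fun N => !meq 20 (mul 20 N (mul 20 N N)) (idm 20) || meq 20 M (g20 j)) 16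

theorem hecke (h2 : Two V) (hz : ρ zc = 1) {b : ℕ → V} (hb : Bas b 20)
    (hr : ∀ i < 6, Rep b 20 (ρ (gen i)) (g20 i)) (j u F P Bi WC : ℕ) (St : List (List ℕ × ℕ))
    (Ws : List (List ℕ)) (h : heckeB j u F P Bi WC St Ws = true) : Rep b 20 (ρ (gen j)) (g20 j) := by
  simp only [heckeB, Bool.and_eq_true, allB_iff, allN_iff, frc_eq] at h
  obtain ⟨⟨⟨⟨⟨c1, c2⟩, c3⟩, c4⟩, c5⟩, c6⟩ := h
  have cw : ∀ l, cwB j l = true → Rep b 20 (ρ (evw l)) (e20 l) ∧ ρ (gen j) * ρ (evw l) = ρ (evw l) * ρ (gen j) :=
    fun l hl => by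
      rw [cwB, Bool.and_eq_true, allB_iff] at hl
      refine ⟨rep_evw' h2 l fun i hi => hr i (Nat.blt_eq.mp (hl.1 i hi)), ?_⟩
      have := evw_eq hl.2
      rw [evw_append, ← List.singleton_append, evw_append] at this
      rw [← map_mul, ← map_mul]
      simpa [evw] using congrArg ρ this
  obtain ⟨n, hn, e⟩ := hb.surj (ρ (gen j) (ev b 20 u))
  have e1 := fix_cert c2 hn fun p hp => hb.eq (app_lt _ _ _ _) hn (by
    obtain ⟨k1, k2⟩ := cw _ (c1 p hp).1
    rw [← k1.app h2, e]
    refine (DFunLike.congr_fun k2 _).symm.trans ?_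
    change ρ (gen j) (ρ (evw p.1) _) = _
    rw [k1.app h2, Nat.eq_of_beq_eq_true (c1 p hp).2])
  have e2 := comm_rep h2 e.symm (fun k => ρ (evw (Ws.getD k []))) (fun k => col 400 WC k)
    (fun k hk => (cw _ (c3 k hk).1).1.of_meq (c3 k hk).2) (fun k hk => (cw _ (c3 k hk).1).2) c4
  rw [e1] at e2
  have e3 := e2.mul h2 ((hr 5 (by norm_num)).mul h2 (hr 0 (by norm_num)))
  have e4 := e3.mul h2 (e3.mul h2 e3)
  have e5 := map_evw ρ hz c5
  simp only [List.map_cons, List.map_nil, List.prod_cons, List.prod_nil, mul_one] at e5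
  simp only [mul_assoc] at e4
  rw [e5] at e4
  have := c6 _ (app_lt 4 20 P n)
  rw [e4.meq hb rep_one, Bool.not_true, Bool.false_or] at this
  exact e2.of_meq this

set_option maxRecDepth 1000000 in
theorem exists_mod [Finite V] (h2 : Two V) (hc : Nat.card V = 2 ^ 20) (hz : ρ zc = 1) (hn : ∃ g, ρ g ≠ 1) :
    ∃ b, Mod ρ b := by
  have hd : ρ (gen 5) ≠ 1 := fun e => by
    obtain ⟨g, hg⟩ := hn
    exact hg (congrArg Units.val (triv_of_d ρ.toHomUnits (Units.ext hz) (Units.ext e) g))
  obtain ⟨b, hb, hr⟩ := exists_mono h2 hc hz hd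
  have r6 := hecke h2 hz hb hr 6 (nat_lit 1) (nat_lit 799652910846289456922625) (nat_lit 18465) (nat_lit 1291125554700094681454528120150733151374004819596536383975174637135793331478721023188113305127324549703733114332013133825)
      (nat_lit 42423470367826798605902342875730279776484806437874998168262612669563081896218712408462702920983071947444690369475056156118981452996748479571082085158935668389131484386097168553267292822423778842913272503680377055547285815190416914573924976652200876918702972860024800113133088021951509141105435651703173073288562796461848968434165999567442601923998767238199566631300895061367054239645387650786020139994021337625316233299247708192288559273933402970329223561791068730646087631912616933617637204054630906652723528331828712830447136047446604149966526520232900674022947475211134054313190095495747739690836869534963663536444481199463317985336427350971818568437444724439396170071456755888561424042918973686397374104244407881384517266892292214449497384108421281096168994104266032715367616907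790630422991037874752473847888025360743923711424427172413971777750694722224596386879202305083860889568284803246912257136912103932188148213604940366797993593767474613077513281618675151516011728101494954929412323441936343474264105787337238229758947462104213930493476201460724450407445637389857243068042653019663760271789639933149998193766385418140325493308961502313760456106851419080854629300285891830868539928874390198161098237637686711332242481611613078052310520914146982133589376962267293701229208599373176759566510522102955482843065121687337302672756997711663995681647356623169308102960618526038905961678381612863903414520903859007013302660885073093246825293943581860076731526476154411501388290364479216968704847627975105902527213016244112514191881445710452147248552493529542100617863623212685610930541220032777965494627411265928471617029260379398770074765807148974084973532536973284173531544786521521917561297170126073120779585159094387063318180359766643026470783677918333168590849455453398636815571876753386180732032135246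638454343965945158908547852250442982929319231009817414941516335308316969753333310874514867874421844094732596893684037855130724996805528016253098772130645539644112391674775724175082307358375529880058626182768132150249729996106275835251543085317170424006406644235629434160366087750634101571570132711586317900504775629302782458695312445343095268710270286464902581627799193482208757644107416012347204731713631953622629902587139348149489733164025997087755285258103115730837918247907490689772254527599069723473361502730167031321011450582974960992845410909835718646064574468288561713904968010672923213825)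
      [([0], nat_lit 30354259337182063543387938172600629267875851189464354025412290759501021568399572992), ([1], nat_lit 34253993625689546818397994538743618342506987520), ([3], nat_lit 106437899166749672079360), ([4], nat_lit 31316085071250845863600719535276032)]
      [[], [2, 3, 4, 1, 2, 3, 0, 1, 2], [2], [3, 4, 1, 2, 3, 0, 1, 2], [3, 2], [4, 1, 2, 3, 0, 1, 2], [4, 3, 2], [1, 2, 3, 0, 1, 2], [1, 2], [3, 4, 2, 3, 0, 1, 2], [3, 1, 2], [4, 2, 3, 0, 1, 2], [4, 3, 1, 2], [2, 3, 0, 1, 2], [2, 3, 1, 2], [4, 3, 0, 1, 2], [4, 2, 3, 1, 2], [3, 0, 1, 2], [3, 4, 2, 3, 1, 2], [0, 1, 2]]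
      (by decide +kernel)
  have r7 := hecke h2 hz hb hr 7 (nat_lit 2) (nat_lit 785559638976740750000129) (nat_lit 18465) (nat_lit 1936688639878315431583652982599609761515165421139749446858109952060492553498577093850649384055337503771987321746187354115)
      (nat_lit 424234703678267986059023428757302797764848064378749981682626126695630818962187124084627029209830719474446903694750561561025526368332057797399583201773819347059927012451725509238386255192159055636669513387711496646323599831010041956944423852797982476088453295817013570103351262861532237428946417422032533727603242359002379069826045043649683132395849636179984736120856764900288810868355421369024871349856983687033436580106693390543097263552330821829161266564599526135735247094683029093511563145730454815852366883037017463303853923378369559258606649419565074697476244857505986476778659651026785108401259078698987430743438349774920335420118183040311110814310243200961433176287380805326295498368102837733061148734208799270635808919041990935957854532079343707473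641017240872535059344426094398707490120392448743271384722416390605658167137749730889939159668174360110301864017355911154281052847696557752311541298899299729723040583730273196604814080459853925114583129186936711344692493105475469725530511229045660810612953267829424791578202175234979754953345027577894919564388606092777350566113344272381177633492542956242361499815464358187205520698927968249344654662691998854290465104212478248012717176400876692682109809922370213715238483382658700183651677725989746579745140515942216375539495227977192469056245688823597462215161006303373774811880708065247630994569139901100574674435004636623194168035028227045379331843278732539538251137392398516257340246499090764041037822552145951212076732754487388448830774985110074529787407996585685677556824189410963445210862340210553250338366741426174892096306004395619360176941137750893733713787384583489370755113929669273214459552872596706048934172510589465697904365564388025263091061370028803913769079433793158463231973594294436780505098570356078047781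34374299610607912197151290521334113587837641150962402119263962687943364357145614469335174716668594986380859932530447020023077780043033809152895709606861227688622337827704927830430805200264447664255682087989634610416999266216728551718356089122005329445357247646609789321172484918420434143711037660080582793627208764623246168667658511116867739611811059370121127926717292766914828689165688824476669933337112934372234384823978770880772361371641907482510817730627301775383016839969713031976764426476866797644802747565513086802561049792431467448368825505338849498152706460350959507690502988314826865720878675961163130338457681921)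
      [([0], nat_lit 30354259337182063543387938172600629267875851189464354025412290759501021568399572992), ([1], nat_lit 34253993625689546818397994538743618342506987520), ([3], nat_lit 149012971048441179275264), ([3, 2, 1, 5, 4, 3, 2, 1, 5, 5, 2, 3, 4, 1, 2, 3], nat_lit 78127871658569682232843943895105536)]
      [[], [2, 3, 3, 2, 1, 5, 4, 3, 2, 1, 5, 5, 2, 3, 4, 1, 2, 3, 1, 2, 3, 0, 1, 2], [2], [3, 3, 2, 1, 5, 4, 3, 2, 1, 5, 5, 2, 3, 4, 1, 2, 3, 1, 2, 3, 0, 1, 2], [3, 2], [3, 2, 1, 5, 4, 3, 2, 1, 5, 5, 2, 3, 4, 1, 2, 3, 1, 2, 3, 0, 1, 2], [3, 2, 1, 5, 4, 3, 2, 1, 5, 5, 2, 3, 4, 1, 2, 3, 3, 2], [1, 2, 3, 0, 1, 2], [1, 2], [3, 3, 2, 1, 5, 4, 3, 2, 1, 5, 5, 2, 3, 4, 1, 2, 3, 2, 3, 0, 1, 2], [3, 1, 2], [3, 2, 1, 5, 4, 3, 2, 1, 5, 5, 2, 3, 4, 1, 2, 3, 2, 3, 0, 1, 2], [3, 2, 1, 5, 4, 3, 2, 1, 5, 5, 2, 3, 4, 1, 2, 3, 3, 1, 2], [2, 3, 0, 1, 2], [2, 3, 1, 2], [3, 2, 1, 5, 4, 3, 2, 1, 5, 5, 2, 3, 4, 1, 2, 3, 3, 0, 1, 2], [3, 2, 1, 5, 4, 3, 2, 1, 5, 5, 2, 3, 4, 1, 2, 3, 2, 3, 1, 2], [3, 0, 1, 2], [3, 3, 2, 1, 5, 4, 3, 2,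 1, 5, 5, 2, 3, 4, 1, 2, 3, 2, 3, 1, 2], [0, 1, 2]]
      (by decide +kernel)
  refine ⟨b, hb, fun i => ?_⟩
  have h : i % 8 < 8 := Nat.mod_lt _ (by norm_num)
  have e : gen i = gen (i % 8) := by rw [gen, gen, Nat.mod_mod]
  have e' : g20 i = g20 (i % 8) := by
    unfold g20; congr 1; exact (Nat.mod_mod i 8).symm
  rw [e, e']
  generalize i % 8 = m at h
  by_cases h6 : m < 6
  · exact hr m h6
  · obtain rfl | rfl : m = 6 ∨ m = 7 := by omega
    exacts [r6, r7]

end Cfsg.Agent.H1.U6
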