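import Cfsg.Agent.H1.U6Inv

/-!
Elementary abelian subgroups of `SU₆(2)` all of whose involutions have rank two.
-/

set_option autoImplicit false
set_option maxHeartbeats 400000

namespace Cfsg.Agent.H1.U6

open Cfsg.Agent.L0.Code (frc frc_eq allB allB_iff anyB anyB_iff memb memb_iff memF memF_iff cntB cntB_eq)
open Cfsg.Agent.H6 (F4 card_F4)
open Equiv

theorem exists_end {V : Type*} [AddCommGroup V] {b : ℕ → V} {w : ℕ} (hb : Bas b w) (M : ℕ) :
    ∃ x : AddMonoid.End V, Rep b w x M := by
  choose c hc using hb.surj
  refine ⟨AddMonoidHom.mk' (fun v => ev b w (app w w M (c v))) fun u v => ?_, fun i hi => ?_⟩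
  · rw [← ev_xor hb.two, ← isLin_app, hb.eq (hc (u + v)).1 (Nat.xor_lt_two_pow (hc u).1 (hc v).1)
      (by rw [ev_xor hb.two, (hc u).2, (hc v).2, (hc _).2])]
  · change ev b w (app w w M (c (b i))) = _
    rw [hb.eq (hc (b i)).1 (Nat.pow_lt_pow_right (by norm_num) hi) (by rw [(hc _).2, ev_two_pow b hi]),
      ev_app hb.two, ev_two_pow _ hi]

/-- Scalar multiple of a coded vector. -/
noncomputable def scal (c m : ℕ) : ℕ := app 12 2 (Nat.add m (Nat.mul (app 12 12 zcc m) 4096)) c

theorem ev_zc (m : ℕ) : ev b6 12 (app 12 12 zcc m) = om • ev b6 12 m := by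
  rw [← rep_zc.app two6, act_apply, act_zc]

theorem ev_scal (c : ℕ) {m : ℕ} (hm : m < 2 ^ 12) : ev b6 12 (scal c m) = ev b1 2 c • ev b6 12 m := by
  have h0 : col 12 (Nat.add m (Nat.mul (app 12 12 zcc m) 4096)) 0 = m := by
    rw [col_eq]; change (m + _ * 4096) / _ % _ = _; omega
  have h1 : col 12 (Nat.add m (Nat.mul (app 12 12 zcc m) 4096)) 1 = app 12 12 zcc m := by
    have := app_lt 12 12 zcc m
    rw [col_eq]; change (m + _ * 4096) / _ % _ = _; omega
  have e2 : ∀ {W : Type} [AddCommGroup W] (b : ℕ → W), ev b 2 c =
      (if c.testBit 0 then b 0 else 0) + if c.testBit 1 then b 1 else 0 := fun b => by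
    rw [ev, ev, ev, zero_add]
  rw [scal, ev_app two6, e2, e2, h0, h1, ev_zc]
  cases c.testBit 0 <;> cases c.testBit 1 <;> simp [add_smul, b1]

/-- The code of a transvection. -/
noncomputable def tvc (m : ℕ) : ℕ :=
  frc m fun m => pack 12 12 fun i => Nat.mod (Nat.xor (p2 i) (scal (hc (p2 i) m) m)) 4096

theorem rep_tv {m : ℕ} (hm : m < 2 ^ 12) (h : UF.H (ev b6 12 m) (ev b6 12 m) = 0) :
    Rep b6 12 (act (tv _ h)) (tvc m) := fun i hi => by
  have h2 : 2 ^ i < 2 ^ 12 := Nat.pow_lt_pow_right (by norm_num) hi
  have e : col 12 (tvc m) i = 2 ^ i ^^^ scal (hc (2 ^ i) m) m := by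
    rw [tvc, frc_eq]
    refine (col_pack 12 12 _ (fun j => Nat.mod_lt _ (by norm_num)) i hi).trans ?_
    rw [p2_eq]
    exact Nat.mod_eq_of_lt (Nat.xor_lt_two_pow h2 (app_lt _ _ _ _))
  rw [e, ev_xor two6, ev_scal _ hm, ← H_ev h2 hm, ev_two_pow _ hi, act_apply, act_tv]

/-- A product of two commuting transvections. -/
structure Pr (f : G) (c d y y' : V6) : Prop where
  cc : UF.H c c = 0
  dd : UF.H d d = 0
  cd : UF.H c d = 0
  yc : UF.H y c = 1
  yd : UF.H y d = 0
  y'c : UF.H y' c = 0
  y'd : UF.H y' d = 1
  eq : f = tv c cc * tv d dd

namespace Pr

variable {f : G} {c d y y' : V6} (h : Pr f c d y y')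

include h

theorem act (v : V6) : suAct f v = v + (UF.H v c • c + UF.H v d • d) := by
  rw [h.eq, suAct_mul, act_tv, act_tv, UField.H_add_left, UField.H_smul_left, UF.H_eq_zero_comm h.cd,
    mul_zero, add_zero]
  abel

theorem symm : Pr f d c y' y := ⟨h.dd, h.cc, UF.H_eq_zero_comm h.cd, h.y'd, h.y'c, h.yd, h.yc,
  g_ext fun v => by
    rw [h.act, suAct_mul, act_tv, act_tv, UField.H_add_left, UField.H_smul_left, h.cd, mul_zero, add_zero]
    abel⟩

theorem conj (g : G) : Pr (g * f * g⁻¹) (suAct g c) (suAct g d) (suAct g y) (suAct g y') :=
  ⟨by rw [UField.H_act, h.cc], by rw [UField.H_act, h.dd], by rw [UField.H_act, h.cd],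
    by rw [UField.H_act, h.yc], by rw [UField.H_act, h.yd], by rw [UField.H_act, h.y'c],
    by rw [UField.H_act, h.y'd], (congrArg (fun x => g * x * g⁻¹) h.eq).trans (by
      rw [← tv_conj g c h.cc, ← tv_conj g d h.dd]; group)⟩

theorem indep {α β : F4} (e : α • c + β • d = 0) : α = 0 ∧ β = 0 := by
  have e1 := congrArg (UF.H y) e
  have e2 := congrArg (UF.H y') e
  simp only [UField.H_add_right, UField.H_smul_right, h.yc, h.yd, h.y'c, h.y'd, mul_one, mul_zero, add_zero,
    zero_add, map_zero] at e1 e2
  exact ⟨(by decide : ∀ x : F4, UF.σ x = 0 → x = 0) _ e1, (by decide : ∀ x : F4, UF.σ x = 0 → x = 0) _ e2⟩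

theorem aux {x : G} (hx : x * f = f * x) :
    ∃ β : F4, β ≠ 0 ∧ (suAct x c = β • c ∨ suAct x c = β • d) := by
  have e0 : suAct f y = y + c := by rw [h.act, h.yc, h.yd, one_smul, zero_smul, add_zero]
  have e1 := congrArg (fun g => suAct g y) hx
  simp only [suAct_mul, e0, map_add, h.act (suAct x y), add_right_inj] at e1
  have e2 := UF.H_act x c y
  rw [e1, UField.H_add_left, UField.H_smul_left, UField.H_smul_left, ← UF.H_swap (suAct x y) c,
    ← UF.H_swap (suAct x y) d, ← UF.H_swap y c, h.yc] at e2
  rcases (by decide : ∀ α β : F4, α * UF.σ α + β * UF.σ β = UF.σ 1 → (α ≠ 0 ∧ β = 0) ∨ (β ≠ 0 ∧ α = 0))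
    _ _ e2 with e | e
  · exact ⟨_, e.1, .inl (by rw [e1, e.2, zero_smul, add_zero])⟩
  · exact ⟨_, e.1, .inr (by rw [e1, e.2, zero_smul, zero_add])⟩

theorem fix_of {x : G} (h2 : x * x = 1) {β : F4} (e : suAct x c = β • c) : suAct x c = c := by
  have e1 : suAct x (suAct x c) = c := by rw [← suAct_mul, h2, suAct_one]
  rw [e, map_smul, e, smul_smul] at e1
  have := (h.indep (α := β * β + 1) (β := 0) (by rw [add_smul, e1, one_smul, two6, zero_smul, add_zero])).1
  rw [e, (by decide : ∀ x : F4, x * x + 1 = 0 → x = 1) _ this, one_smul]

theorem fix_or {x : G} (h2 : x * x = 1) (hx : x * f = f * x) :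
    (suAct x c = c ∧ suAct x d = d) ∨ ∃ β : F4, β ≠ 0 ∧ suAct x c = β • d := by
  obtain ⟨β, hβ, e | e⟩ := h.aux hx
  · have e1 := h.fix_of h2 e
    obtain ⟨β', hβ', e' | e'⟩ := h.symm.aux hx
    · exact .inl ⟨e1, h.symm.fix_of h2 e'⟩
    · have e2 : suAct x (suAct x d) = d := by rw [← suAct_mul, h2, suAct_one]
      rw [e', map_smul, e1] at e2
      exact absurd (h.indep (α := β') (β := 1) (by rw [e2, one_smul, two6])).1 hβ'
  · exact .inr ⟨β, hβ, e⟩

theorem perp {v : V6} (e : suAct f v = v) : UF.H v c = 0 ∧ UF.H v d = 0 := by
  rw [h.act, add_eq_left] at e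
  exact h.indep e

end Pr

/-- The standard involution of rank two. -/
def s2 : G := pm (sr 2)

theorem rep_s2 : Rep b6 12 (act s2) (nat_lit 11151733894906777826385573516536915026804740) := by
  simp only [Rep, s2, act_apply, act_pm]; decide +kernel

theorem pr_s2 : Pr s2 (ev b6 12 5) (ev b6 12 80) (e6 0) (e6 2) := by
  refine ⟨by decide +kernel, by decide +kernel, by decide +kernel, by decide +kernel, by decide +kernel,
    by decide +kernel, by decide +kernel, ?_⟩
  refine eq_of_rep rep_s2 (by
    rw [map_mul]; exact (rep_tv (by norm_num) _).mul two6 (rep_tv (by norm_num) _)) (by decide +kernel)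

theorem exists_pr {f : G} (h : IsConj s2 f) : ∃ c d y y', Pr f c d y y' := by
  obtain ⟨g, rfl⟩ := isConj_iff.mp h
  exact ⟨_, _, _, _, pr_s2.conj g⟩

/-- The bases of the spaces of Hermitian forms of the three planes. -/
def NB (j : ℕ) : ℕ := col (nat_lit 1296) (nat_lit 99182762514151316850583220250451044040115549466667307229422738460354719266204227522389296302515869384855851933042298492944564006946052294667424731125388107428046263339177250031991821721047018118229146133250436341474879179319545670628427127630264684742824913547189669284696170742254927178955825822918138471263193308780743464558111082307758220721347015733696126122531158116030550786692364818541931105213188509389179096977843831106930170009002377479771664907661245410498275075971625524722431173592767543467340730233805741173935528627483895047094331962752596398307318662286736963150826284194557736828311696322661465624781332997710566979993752681218530502719360737117147931309374169112516465650021082210772005721893597353617199155865865957285357732737563482195182382160553962223585092601905780325045450544802829759456354859007101772152614188063905079049308721715024222022660204243236670920630313346928925180052103715490461872315628710439632531627157614069451532735157875830608165852208022567207186369576998064202799822260061595063892506435476521614244883182428052361623597686100942200614404704502523087477211352752623528590193102835590280586329471437243018274873547570585605)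 j

/-- The matrices of the Hermitian forms. -/
noncomputable def NN (j n : ℕ) : ℕ := app 144 9 (NB j) n

/-- The matrices of the corresponding group elements. -/
noncomputable def QQ (j n : ℕ) : ℕ := Nat.xor (idm 12) (NN j n)

/-- The Hermitian forms as endomorphisms. -/
noncomputable def eta (j n : ℕ) : AddMonoid.End V6 := (exists_end bas6 (NN j n)).choose

theorem rep_eta (j n : ℕ) : Rep b6 12 (eta j n) (NN j n) := (exists_end bas6 (NN j n)).choose_spec

theorem eta_xor (j n m : ℕ) : eta j (n ^^^ m) = eta j n + eta j m :=
  (rep_eta _ _).ext bas6 (by rw [NN, isLin_app]; exact (rep_eta j n).add two6 (rep_eta j m))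

theorem eta_zero (j : ℕ) : eta j 0 = 0 :=
  (rep_eta _ _).ext bas6 (by rw [NN, (isLin_app _ _ _).zero]; exact rep_zero)

theorem eta_mul {j : ℕ} (hj : j < 3) : ∀ n < 2 ^ 9, ∀ m < 2 ^ 9, eta j n * eta j m = 0 := by
  have key : allN (fun j => allN (fun i => allN (fun k =>
    meq 12 (mul 12 (NN j (p2 i)) (NN j (p2 k))) 0) 9) 9) 3 = true := by decide +kernel
  simp only [allN_iff, p2_eq] at key
  refine xor_ind (fun m _ => by rw [eta_zero, zero_mul])
    (fun n n' h h' m hm => by rw [eta_xor, add_mul, h m hm, h' m hm, add_zero]) 9 fun i hi => ?_
  refine xor_ind (by rw [eta_zero, mul_zero])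
    (fun n n' h h' => by rw [eta_xor, mul_add, h, h', add_zero]) 9 fun k hk => ?_
  exact (((rep_eta _ _).mul two6 (rep_eta _ _)).of_meq (key j hj i hi k hk)).ext bas6 rep_zero

/-- The element `f` belongs to the plane `j` with coordinates `n`. -/
def Q (j n : ℕ) (f : G) : Prop := act f = 1 + eta j n

theorem Q.rep {j n : ℕ} {f : G} (h : Q j n f) : Rep b6 12 (act f) (QQ j n) := by
  rw [h]; exact rep_one.add two6 (rep_eta j n)

theorem q_of_rep {j n : ℕ} {f : G} (h : Rep b6 12 (act f) (QQ j n)) : Q j n f :=
  h.ext bas6 (rep_one.add two6 (rep_eta j n))

theorem Q.mul {j n m : ℕ} {f g : G} (hj : j < 3) (hn : n < 2 ^ 9) (hm : m < 2 ^ 9) (h : Q j n f)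
    (h' : Q j m g) : Q j (n ^^^ m) (f * g) := by
  rw [Q, map_mul, h, h', eta_xor, add_mul, mul_add, mul_add, eta_mul hj n hn m hm]
  simp only [one_mul, mul_one, add_zero]; abel

theorem Q.eq {j n : ℕ} {f g : G} (h : Q j n f) (h' : Q j n g) : f = g := act_injective (h.trans h'.symm)

theorem q_one (j : ℕ) : Q j 0 1 := by rw [Q, eta_zero, add_zero, map_one]

theorem Q.unique {j n m : ℕ} {f : G} (hj : j < 3) (hn : n < 2 ^ 9) (hm : m < 2 ^ 9) (h : Q j n f)
    (h' : Q j m f) : n = m := by
  have key : allN (fun j => allN (fun n => Bool.rec true (Nat.beq n 0) (meq 12 (NN j n) 0)) 512) 3 = true := by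
    decide +kernel
  simp only [allN_iff] at key
  have e : eta j (n ^^^ m) = 0 := by
    rw [eta_xor, add_left_cancel (h.symm.trans h')]
    exact AddMonoidHom.ext fun v => two6 _
  have := key j hj _ (Nat.xor_lt_two_pow hn hm)
  rw [(rep_eta j _).meq bas6 (e ▸ rep_zero)] at this
  exact Nat.eq_of_xor_eq_zero (Nat.eq_of_beq_eq_true this)

theorem Q.cross {i j n m : ℕ} {f : G} (hi : i < 3) (hj : j < 3) (hij : i ≠ j) (hn : n < 2 ^ 9)
    (hm : m < 2 ^ 9) (h : Q i n f) (h' : Q j m f) : n < 16 := by
  have key : allN (fun j => allN (fun n => Nat.beq (app 12 12 (QQ j n) (col 12 55844013312 j)) (col 12 55844013312 j) &&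
    allN (fun i => Nat.beq i j || Nat.blt n 16 ||
      !Nat.beq (app 12 12 (QQ i n) (col 12 55844013312 j)) (col 12 55844013312 j)) 3) 512) 3 = true := by
    decide +kernel
  simp only [allN_iff, Bool.and_eq_true, Bool.or_eq_true, Nat.beq_eq, Nat.blt_eq, Bool.not_eq_true',
    Bool.eq_false_iff, ne_eq] at key
  have e := bas6.eq (app_lt _ _ _ _) (app_lt _ _ _ _)
    ((h.rep.app two6 (col 12 55844013312 j)).symm.trans (h'.rep.app two6 _))
  rw [(key j hj m hm).1] at e
  rcases (key j hj n hn).2 i hi with (a | a) | a
  exacts [absurd a hij, a, absurd e a]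

theorem Q.small {i j n : ℕ} {f : G} (hi : i < 3) (hj : j < 3) (hn : n < 16) (h : Q i n f) : Q j n f := by
  have key : allN (fun j => allN (fun i => allN (fun n => meq 12 (QQ i n) (QQ j n)) 16) 3) 3 = true := by
    decide +kernel
  simp only [allN_iff] at key
  exact q_of_rep (h.rep.of_meq (key j hj i hi n hn))

theorem q_s2 {j : ℕ} (hj : j < 3) : Q j 3 s2 :=
  Q.small (i := 0) (by norm_num) hj (by norm_num) (q_of_rep (rep_s2.of_meq (by decide +kernel)))

/-- The forms of rank two. -/
def Rb : ℕ := nat_lit 910289169817482801642205969786000348621941021265771856329302335542518896750298208122633817622222090073102386304544408841906015611205865454779579891087224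

/-- The points orthogonal to the line. -/
def AL : List ℕ := [nat_lit 5, nat_lit 80, nat_lit 85, nat_lit 165, nat_lit 245, nat_lit 1280, nat_lit 1285, nat_lit 1360, nat_lit 1365, nat_lit 1445, nat_lit 1525, nat_lit 1541, nat_lit 1616, nat_lit 1621, nat_lit 1701, nat_lit 1781, nat_lit 1797, nat_lit 1872, nat_lit 1877, nat_lit 1957, nat_lit 2037, nat_lit 2304, nat_lit 2309, nat_lit 2384, nat_lit 2389, nat_lit 2469, nat_lit 2549, nat_lit 2565, nat_lit 2640, nat_lit 2645, nat_lit 2725, nat_lit 2805, nat_lit 2821, nat_lit 2896, nat_lit 2901, nat_lit 2981, nat_lit 3061, nat_lit 3328, nat_lit 3333, nat_lit 3408, nat_lit 3413, nat_lit 3493, nat_lit 3573, nat_lit 3589, nat_lit 3664, nat_lit 3669, nat_lit 3749, nat_lit 3829, nat_lit 3845, nat_lit 3920, nat_lit 3925, nat_lit 4005, nat_lit 4085]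

set_option maxRecDepth 100000 in
theorem norm_pt {c : V6} (h0 : UF.H c c = 0) (hc0 : c ≠ 0) (ha : UF.H (ev b6 12 5) c = 0)
    (hb : UF.H (ev b6 12 80) c = 0) : ∃ m ∈ AL, m < 2 ^ 12 ∧ ∃ l : F4, l ≠ 0 ∧ c = l • ev b6 12 m := by
  have key : allN (fun n => !(Nat.beq (hc 5 n) 0 && Nat.beq (hc 80 n) 0 && Nat.beq (hc n n) 0) ||
      Nat.beq n 0 || anyB (fun m => Nat.blt m 4096 && (Nat.beq n m || Nat.beq n (scal 2 m) ||
        Nat.beq n (scal 3 m))) AL) 4096 = true := by decide +kernel
  obtain ⟨n, hn, rfl⟩ := bas6.surj c
  have := (allN_iff _ _).mp key n hn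
  rw [(H_eq_zero hn hn).mp h0, (H_eq_zero (by norm_num) hn).mp ha, (H_eq_zero (by norm_num) hn).mp hb] at this
  simp only [Bool.or_eq_true, anyB_iff, Nat.beq_eq, Nat.blt_eq, Bool.and_eq_true] at this
  rcases this with (e | e) | ⟨m, hm, h1, (e | e) | e⟩
  · exact absurd e (by decide)
  · exact absurd (by rw [e, ev_zero]) hc0
  · exact ⟨m, hm, h1, 1, one_ne_zero, by rw [e, one_smul]⟩
  · exact ⟨m, hm, h1, ev b1 2 2, by decide, by rw [e, ev_scal _ h1]⟩
  · exact ⟨m, hm, h1, ev b1 2 3, by decide, by rw [e, ev_scal _ h1]⟩

/-- Extraction of coordinates. -/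
def EX (j : ℕ) : ℕ := col (nat_lit 1296) (nat_lit 17295960515931380899636572990176430460876638893218638908464708452871214675182488795213326516469925569908597996765382541937693389209062783941499445131424735995184840413348766933206136212677752511258888234813124803356362361546314491291552330045321293450880609535519462507254641733330294216168694043899897109995546638898250987832571354386166861310352060627925355260175312339580519545577357597161061394163908739048354123226831817469732840535713652058061648741490931201062456774425058952706260808991379848811603710307509531298723366049444678371226654361341789678685004635592791433590890370082381327363651509946048540128648689051580944269098497710448911737801369573922065504326800998769736484120601646385372301596473710426196004660534953094552382238086997034233355048581889579564729648296009399988344334529582534054063327369975460411620295503202465871957748907017779415367893225250759367431175165853970136073752743611427955343215113535004927751932595616300308183475592217357585866362232008292193176702028139904651774096346652319145862343311466326436803906169000727412737) j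

theorem exists_q {f : G} {c d y y' : V6} (h : Pr f c d y y') (ha : suAct f (ev b6 12 5) = ev b6 12 5)
    (hb : suAct f (ev b6 12 80) = ev b6 12 80) : ∃ j < 3, ∃ n < 2 ^ 9, Q j n f ∧ tb Rb n = true := by
  have key : allB (fun m => allB (fun m' => Nat.beq m m' || !Nat.beq (hc m m') 0 ||
      frc (mul 12 (tvc m) (tvc m')) fun M => anyB (fun j => frc (app 9 144 (EX j) (Nat.xor M (idm 12))) fun n =>
        Nat.beq M (QQ j n) && tb Rb n) [0, 1, 2]) AL) AL = true := by decide +kernel
  obtain ⟨m, hm, h1, l, hl, rfl⟩ := norm_pt h.cc (fun e => by simpa [e] using h.yc) (h.perp ha).1 (h.perp hb).1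
  obtain ⟨m', hm', h1', l', hl', rfl⟩ := norm_pt h.dd (fun e => by simpa [e] using h.y'd) (h.perp ha).2
    (h.perp hb).2
  have sm : ∀ {l l' : F4} {u v : V6}, l ≠ 0 → l' ≠ 0 → UF.H (l • u) (l' • v) = 0 → UF.H u v = 0 := by
    intro l l' u v a a' e
    rw [UField.H_smul_left, UField.H_smul_right] at e
    exact (by decide : ∀ l l' x : F4, l ≠ 0 → l' ≠ 0 → l * (UF.σ l' * x) = 0 → x = 0) _ _ _ a a' e
  have := (allB_iff _ _).mp ((allB_iff _ _).mp key m hm) m' hm'
  rw [(H_eq_zero h1 h1').mp (sm hl hl' h.cd)] at this
  simp only [Bool.or_eq_true, anyB_iff, Nat.beq_eq, Bool.and_eq_true, frc_eq] at this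
  rcases this with (e | e) | ⟨j, hj, e, e'⟩
  · subst e
    exact absurd (h.indep (α := l') (β := l) (by rw [smul_comm, two6])).1 hl'
  · exact absurd e (by decide)
  · refine ⟨j, by simp at hj; omega, _, app_lt _ _ _ _, q_of_rep ?_, e'⟩
    rw [← e, h.eq, tv_smul hl _ (sm hl hl h.cc), tv_smul hl' _ (sm hl' hl' h.dd), map_mul]
    exact (rep_tv h1 _).mul two6 (rep_tv h1' _)

/-- The involutions of rank two interchanging the two points. -/
def BL : List ℕ := [nat_lit 11151733894906777226696833246503430563561600, nat_lit 11151733894906777246030206236804876901810240, nat_lit 11151733894906777265377746329932632701534400, nat_lit 11151733894906777284767770425063566360117280, nat_lit 11151733894906777362101245100891031912710160, nat_lit 11151733894906777439491388175357361359224880, nat_lit 11151733894906780321924905268543111939530885, nat_lit 11151733894906780341258278258844558277779525, nat_lit 11151733894906780360605818351972314077503685, nat_lit 11151733894906780379995842447103247736086565, nat_lit 11151733894906780457329317122930713288679445, nat_lit 11151733894906780534719460197397042735194165, nat_lit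 11151733922511072442912286171173832608948965, nat_lit 11151733922511072558954990838038425470083765, nat_lit 11151733922511075538140358193212139427529440, nat_lit 11151733922511075654183062860076732288664240, nat_lit 11151733924132872910231737068568324990542181, nat_lit 11151733924132872968231838754094344204886421, nat_lit 11151733924132876005459809090606631809122656, nat_lit 11151733924132876063459910776132651023466896, nat_lit 11151733925755861916017456793109710568334293, nat_lit 11151733925755861974060059774448284215124853, nat_lit 11151733925755865011245528815148017386914768, nat_lit 11151733925755865069288131796486591033705328, nat_lit 11151733948459875353948238514540310613631701, nat_lit 11151733948459875411990841495878884260422261, nat_lit 11151733948459878449176310536578617432212176, nat_lit 11151733948459878507218913517917191079002736, nat_lit 11151733950081675763281754829235093242356197, nat_lit 11151733950081675879324459496099686103490997, nat_lit 11151733950081678858509826851273400060936672, nat_lit 11151733950081678974552531518137992922071472, nat_lit 11151733951704664653038919691693501668107109,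 nat_lit 11151733951704664711039021377219520882451349, nat_lit 11151733951704667748266991713731808486687584, nat_lit 11151733951704667806267093399257827701031824, nat_lit 11151733974427692853599902529163221899387493, nat_lit 11151733974427692911600004214689241113731733, nat_lit 11151733974427695948827974551201528717967968, nat_lit 11151733974427696006828076236727547932312208, nat_lit 11151733976049493436947908288640691433021909, nat_lit 11151733976049493494990511269979265079812469, nat_lit 11151733976049496532175980310678998251602384, nat_lit 11151733976049496590218583292017571898392944, nat_lit 11151733977672482268719138568399390105904101, nat_lit 11151733977672482384761843235263982967038901, nat_lit 11151733977672485363947210590437696924484576, nat_lit 11151733977672485479989915257302289785619376, nat_lit 11614856867058238237460282880454998681430245, nat_lit 11614856867058238353502987547319591542565045, nat_lit 11614856867058241332688354902493305500010720, nat_lit 11614856867058241448731059569357898361145520, nat_lit 11614856894662533240791438614747410735827520, nat_lit 11614856894662533356862477478833565746727440,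 nat_lit 11614856894662536336019510636787092111796805, nat_lit 11614856894662536452090549500873247122696725, nat_lit 11614856922233136561160907272808671369234752, nat_lit 11614856922233136677231946136894826380134672, nat_lit 11614856922233139656388979294848352745204037, nat_lit 11614856922233139772460018158934507756103957, nat_lit 11614856949823943066598291011972968232782656, nat_lit 11614856949823943182669329876059123243682576, nat_lit 11614856949823946161826363034012649608751941, nat_lit 11614856949823946277897401898098804619651861, nat_lit 11642066164131955446031083717780795606934629, nat_lit 11642066164131955504031185403306814821278869, nat_lit 11642066164131958541259155739819102425515104, nat_lit 11642066164131958599259257425345121639859344, nat_lit 11642066193358050974724310628850967442097600, nat_lit 11642066193358051148837952474275696099788080, nat_lit 11642066193358054069952382650890648818066885, nat_lit 11642066193358054244066024496315377475757365, nat_lit 11642066220929842717531493251976144119662528, nat_lit 11642066220929842891645135097400872777353008, nat_lit 11642066220929845812759565274015825495631813,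 nat_lit 11642066220929845986873207119440554153322293, nat_lit 11642066243652870918092476089445864350942912, nat_lit 11642066243652871092206117934870593008633392, nat_lit 11642066243652874013320548111485545726912197, nat_lit 11642066243652874187434189956910274384602677, nat_lit 11669295399625609544368532974295525429259477, nat_lit 11669295399625609602411135955634099076050037, nat_lit 11669295399625612639596604996333832247839952, nat_lit 11669295399625612697639207977672405894630512, nat_lit 11669295430474693846804536988567437999607680, nat_lit 11669295430474693904875474167127573796163360, nat_lit 11669295430474696942032609010607119375576965, nat_lit 11669295430474697000103546189167255172132645, nat_lit 11669295453178707284735318709998038044905088, nat_lit 11669295453178707342806255888558173841460768, nat_lit 11669295453178710379963390732037719420874373, nat_lit 11669295453178710438034327910597855217430053, nat_lit 11669295480768325367734988484098418864295296, nat_lit 11669295480768325425805925662658554660850976, nat_lit 11669295480768328462963060506138100240264581, nat_lit 11669295480768328521033997684698236036820261,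 nat_lit 12050205620237694149609699720271474041727189, nat_lit 12050205620237694207652302701610047688517749, nat_lit 12050205620237697244837771742309780860307664, nat_lit 12050205620237697302880374723648354507098224, nat_lit 12050205651086778452045703734543386612075392, nat_lit 12050205651086778510116640913103522408631072, nat_lit 12050205651086781547273775756583067988044677, nat_lit 12050205651086781605344712935143203784600357, nat_lit 12050205673790791889976485455973986657372800, nat_lit 12050205673790791948047422634534122453928480, nat_lit 12050205673790794985204557478013668033342085, nat_lit 12050205673790795043275494656573803829897765, nat_lit 12050205701380409972976155230074367476763008, nat_lit 12050205701380410031047092408634503273318688, nat_lit 12050205701380413068204227252114048852732293, nat_lit 12050205701380413126275164430674184649287973, nat_lit 12077414917311411300194565974897561214362853, nat_lit 12077414917311411416237270641762154075497653, nat_lit 12077414917311414395422637996935868032943328, nat_lit 12077414917311414511465342663800460894078128, nat_lit 12077414944915706303525721709189973268760128,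 nat_lit 12077414944915706419596760573276128279660048, nat_lit 12077414944915709398753793731229654644729413, nat_lit 12077414944915709514824832595315809655629333, nat_lit 12077414972486309623895190367251233902167360, nat_lit 12077414972486309739966229231337388913067280, nat_lit 12077414972486312719123262389290915278136645, nat_lit 12077414972486312835194301253377070289036565, nat_lit 12077415000077116129332574106415530765715264, nat_lit 12077415000077116245403612970501685776615184, nat_lit 12077415000077119224560646128455212141684549, nat_lit 12077415000077119340631684992541367152584469, nat_lit 12104644152805065282503460369329313884646501, nat_lit 12104644152805065340503562054855333098990741, nat_lit 12104644152805068377731532391367620703226976, nat_lit 12104644152805068435731634076893639917571216, nat_lit 12104644182031160811196687280399485719809472, nat_lit 12104644182031160985310329125824214377499952, nat_lit 12104644182031163906424759302439167095778757, nat_lit 12104644182031164080538401147863895753469237, nat_lit 12104644209602952554003869903524662397374400, nat_lit 12104644209602952728117511748949391055064880,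 nat_lit 12104644209602955649231941925564343773343685, nat_lit 12104644209602955823345583770989072431034165, nat_lit 12104644232325980754564852740994382628654784, nat_lit 12104644232325980928678494586419111286345264, nat_lit 12104644232325983849792924763034064004624069, nat_lit 12104644232325984023906566608458792662314549, nat_lit 12485873388136138282061234729066408331421797, nat_lit 12485873388136138340061336414592427545766037, nat_lit 12485873388136141377289306751104715150002272, nat_lit 12485873388136141435289408436630734364346512, nat_lit 12485873417362233810754461640136580166584768, nat_lit 12485873417362233984868103485561308824275248, nat_lit 12485873417362236905982533662176261542554053, nat_lit 12485873417362237080096175507600990200244533, nat_lit 12485873444934025553561644263261756844149696, nat_lit 12485873444934025727675286108686485501840176, nat_lit 12485873444934028648789716285301438220118981, nat_lit 12485873444934028822903358130726166877809461, nat_lit 12485873467657053754122627100731477075430080, nat_lit 12485873467657053928236268946156205733120560, nat_lit 12485873467657056849350699122771158451399365,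 nat_lit 12485873467657057023464340968195887109089845, nat_lit 12513082685209855606660590428475182408967381, nat_lit 12513082685209855664703193409813756055757941, nat_lit 12513082685209858701888662450513489227547856, nat_lit 12513082685209858759931265431852062874338416, nat_lit 12513082716058939909096594442747094979315584, nat_lit 12513082716058939967167531621307230775871264, nat_lit 12513082716058943004324666464786776355284869, nat_lit 12513082716058943062395603643346912151840549, nat_lit 12513082738762953347027376164177695024612992, nat_lit 12513082738762953405098313342737830821168672, nat_lit 12513082738762956442255448186217376400582277, nat_lit 12513082738762956500326385364777512197137957, nat_lit 12513082766352571430027045938278075844003200, nat_lit 12513082766352571488097983116838211640558880, nat_lit 12513082766352574525255117960317757219972485, nat_lit 12513082766352574583326055138877893016528165, nat_lit 12540311920703509530983550240207225326382309, nat_lit 12540311920703509647026254907071818187517109, nat_lit 12540311920703512626211622262245532144962784, nat_lit 12540311920703512742254326929110125006097584,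 nat_lit 12540311948307804534314705974499637380779584, nat_lit 12540311948307804650385744838585792391679504, nat_lit 12540311948307807629542777996539318756748869, nat_lit 12540311948307807745613816860625473767648789, nat_lit 12540311975878407854684174632560898014186816, nat_lit 12540311975878407970755213496647053025086736, nat_lit 12540311975878410949912246654600579390156101, nat_lit 12540311975878411065983285518686734401056021, nat_lit 12540312003469214360121558371725194877734720, nat_lit 12540312003469214476192597235811349888634640, nat_lit 12540312003469217455349630393764876253704005, nat_lit 12540312003469217571420669257851031264603925]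

set_option maxRecDepth 100000 in
theorem exists_bl {f : G} {c d y y' : V6} (h : Pr f c d y y') {β : F4} (hβ : β ≠ 0) (e : suAct s2 c = β • d) :
    ∃ M ∈ BL, Rep b6 12 (act f) M := by
  have key : allN (fun n => frc (app 12 12 11151733894906777826385573516536915026804740 n) fun n' => !(Nat.beq (hc n n) 0 && Nat.beq (hc n n') 0) ||
      Nat.beq n' n || memF (mul 12 (tvc n) (tvc n')) BL) 4096 = true := by decide +kernel
  obtain ⟨n, hn, rfl⟩ := bas6.surj c
  have e1 : ev b6 12 (app 12 12 11151733894906777826385573516536915026804740 n) = β • d := by rw [← e, ← act_apply, rep_s2.app two6]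
  have := (allN_iff _ _).mp key n hn
  rw [frc_eq, (H_eq_zero hn hn).mp h.cc, (H_eq_zero hn (app_lt _ _ _ _)).mp (by
    rw [e1, UField.H_smul_right, h.cd, mul_zero])] at this
  simp only [Bool.or_eq_true, Nat.beq_eq, memF_iff] at this
  rcases this with (a | a) | a
  · exact absurd a (by decide)
  · rw [a] at e1
    exact absurd (h.indep (α := 1) (β := β) (by rw [← e1, one_smul, two6])).2 hβ
  · have hd : UF.H (β • d) (β • d) = 0 := by rw [UField.H_smul_left, UField.H_smul_right, h.dd]; simp
    refine ⟨_, a, ?_⟩
    rw [h.eq, ← tv_smul hβ d h.dd hd, tv_congr e1.symm, map_mul]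
    exact (rep_tv hn _).mul two6 (rep_tv (app_lt _ _ _ _) _)

/-- The forms whose sum with the standard one has rank two. -/
def CL : List ℕ := [nat_lit 5, nat_lit 6, nat_lit 9, nat_lit 10, nat_lit 13, nat_lit 14, nat_lit 17, nat_lit 18, nat_lit 48, nat_lit 51, nat_lit 80, nat_lit 83, nat_lit 112, nat_lit 115, nat_lit 144, nat_lit 147, nat_lit 160, nat_lit 163, nat_lit 164, nat_lit 167, nat_lit 169, nat_lit 170, nat_lit 173, nat_lit 174, nat_lit 181, nat_lit 182, nat_lit 192, nat_lit 195, nat_lit 197, nat_lit 198, nat_lit 200, nat_lit 203, nat_lit 205, nat_lit 206, nat_lit 217, nat_lit 218, nat_lit 224, nat_lit 227, nat_lit 229, nat_lit 230, nat_lit 233, nat_lit 234, nat_lit 236, nat_lit 239, nat_lit 253, nat_lit 254, nat_lit 272, nat_lit 275, nat_lit 288, nat_lit 291, nat_lit 293, nat_lit 294, nat_lit 297, nat_lit 298, nat_lit 300, nat_lit 303, nat_lit 317, nat_lit 318, nat_lit 320, nat_lit 323, nat_lit 324, nat_lit 327, nat_lit 329, nat_lit 330, nat_lit 333, nat_lit 334, nat_lit 341, nat_lit 342, nat_lit 352, nat_lit 355, nat_lit 357, nat_lit 358, nat_lit 360, nat_lit 363, nat_lit 365, nat_lit 366, nat_lit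 377, nat_lit 378, nat_lit 400, nat_lit 403, nat_lit 416, nat_lit 419, nat_lit 421, nat_lit 422, nat_lit 424, nat_lit 427, nat_lit 429, nat_lit 430, nat_lit 441, nat_lit 442, nat_lit 448, nat_lit 451, nat_lit 453, nat_lit 454, nat_lit 457, nat_lit 458, nat_lit 460, nat_lit 463, nat_lit 477, nat_lit 478, nat_lit 480, nat_lit 483, nat_lit 484, nat_lit 487, nat_lit 489, nat_lit 490, nat_lit 493, nat_lit 494, nat_lit 501, nat_lit 502]

/-- The same as a bit set. -/
def Cb : ℕ := nat_lit 19722337543734594066652314224728560102818058145213524023992841060511853877191627935329819541646449191788741392884288314050718991517447702296536755365472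

theorem xe {a b c : ℕ} (h : a ^^^ b = c) : a = c ^^^ b := by
  rw [← h, Nat.xor_assoc, Nat.xor_self, Nat.xor_zero]

/-- A set of coordinates of a pure subgroup. -/
structure PS (S : Finset ℕ) : Prop where
  lt : ∀ n ∈ S, n < 2 ^ 9
  xor : ∀ n ∈ S, ∀ m ∈ S, n ^^^ m ∈ S
  three : 3 ∈ S
  rk : ∀ n ∈ S, n ≠ 0 → tb Rb n = true

theorem card_le_of {S T : Finset ℕ} {P : ℕ → Bool} {l : List ℕ} (h : ∀ n ∈ S, n ∉ T → n ∈ l ∧ P n = true) :
    S.card ≤ T.card + cntB P l := by
  rw [cntB_eq, List.countP_eq_length_filter]
  refine (Finset.card_le_card fun n hn => ?_).trans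
    ((Finset.card_union_le T (l.filter P).toFinset).trans (Nat.add_le_add_left (List.toFinset_card_le _) _))
  by_cases hT : n ∈ T
  · exact Finset.mem_union_left _ hT
  · exact Finset.mem_union_right _ (by simpa using h n hn hT)

namespace PS

variable {S : Finset ℕ} (h : PS S)

include h

theorem mem {n : ℕ} (hn : n ∈ S) (h0 : n ≠ 0) (h3 : n ≠ 3) : n ∈ CL ∧ tb Cb n = true := by
  have key : allN (fun n => !(tb Rb n && tb Rb (Nat.xor n 3)) || (memb n CL && tb Cb n)) 512 = true := by
    decide +kernel
  have := (allN_iff _ _).mp key n (h.lt n hn)
  rw [h.rk n hn h0, show Nat.xor n 3 = n ^^^ 3 from rfl,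
    h.rk _ (h.xor n hn 3 h.three) (fun e => h3 (Nat.eq_of_xor_eq_zero e))] at this
  simpa [memb_iff] using this

theorem memx {n f : ℕ} (hn : n ∈ S) (hf : f ∈ S) (h0 : n ≠ f) (h3 : n ≠ 3 ^^^ f) :
    tb Cb (Nat.xor n f) = true :=
  (h.mem (h.xor n hn f hf) (fun e => h0 (Nat.eq_of_xor_eq_zero e)) fun e => h3 (xe e)).2

theorem card_le : S.card ≤ 24 := by
  have key : allB (fun f => allB (fun g => !tb Cb (Nat.xor g f) || Nat.ble (cntB (fun n =>
      tb Cb (Nat.xor n f) && tb Cb (Nat.xor n g) && tb Cb (Nat.xor n (Nat.xor g f))) CL) 16) CL) CL = true := by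
    decide +kernel
  by_contra hc
  obtain ⟨f, hf, hf'⟩ := Finset.exists_mem_notMem_of_card_lt_card (s := {0, 3}) (t := S)
    (lt_of_le_of_lt Finset.card_le_two (by omega))
  obtain ⟨g, hg, hg'⟩ := Finset.exists_mem_notMem_of_card_lt_card (s := {0, 3, f, 3 ^^^ f}) (t := S)
    (lt_of_le_of_lt Finset.card_le_four (by omega))
  simp only [Finset.mem_insert, Finset.mem_singleton, not_or] at hf' hg'
  have := (allB_iff _ _).mp ((allB_iff _ _).mp key f (h.mem hf hf'.1 hf'.2).1) g (h.mem hg hg'.1 hg'.2.1).1
  rw [h.memx hg hf hg'.2.2.1 hg'.2.2.2] at this
  have h1 := card_le_of (S := S) (T := [0, 3, f, 3 ^^^ f, g, 3 ^^^ g, g ^^^ f, 3 ^^^ (g ^^^ f)].toFinset)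
    (P := fun n => tb Cb (Nat.xor n f) && tb Cb (Nat.xor n g) && tb Cb (Nat.xor n (Nat.xor g f))) (l := CL)
    fun n hn hT => by
      simp only [List.mem_toFinset, List.mem_cons, List.not_mem_nil, not_or] at hT
      obtain ⟨a1, a2, a3, a4, a5, a6, a7, a8, -⟩ := hT
      exact ⟨(h.mem hn a1 a2).1, by
        rw [h.memx hn hf a3 a4, h.memx hn hg a5 a6]; exact h.memx hn (h.xor g hg f hf) a7 a8⟩
  have h2 := List.toFinset_card_le [0, 3, f, 3 ^^^ f, g, 3 ^^^ g, g ^^^ f, 3 ^^^ (g ^^^ f)]
  have h3 := Nat.le_of_ble_eq_true this
  simp only [List.length_cons, List.length_nil] at h2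
  omega

theorem card_small (hs : ∀ n ∈ S, n < 16) : S.card ≤ 4 := by
  have key : allB (fun f => !Nat.blt f 16 || Nat.ble (cntB (fun n =>
      Nat.blt n 16 && tb Cb (Nat.xor n f)) CL) 0) CL = true := by
    decide +kernel
  by_contra hc
  obtain ⟨f, hf, hf'⟩ := Finset.exists_mem_notMem_of_card_lt_card (s := {0, 3}) (t := S)
    (lt_of_le_of_lt Finset.card_le_two (by omega))
  simp only [Finset.mem_insert, Finset.mem_singleton, not_or] at hf'
  have := (allB_iff _ _).mp key f (h.mem hf hf'.1 hf'.2).1
  rw [Nat.blt_eq.mpr (hs f hf)] at this
  have h1 := card_le_of (S := S) (T := {0, 3, f, 3 ^^^ f})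
    (P := fun n => Nat.blt n 16 && tb Cb (Nat.xor n f)) (l := CL) fun n hn hT => by
      simp only [Finset.mem_insert, Finset.mem_singleton, not_or] at hT
      obtain ⟨a1, a2, a3, a4⟩ := hT
      exact ⟨(h.mem hn a1 a2).1, by rw [h.memx hn hf a3 a4, Nat.blt_eq.mpr (hs n hn)]; rfl⟩
  have h2 : ({0, 3, f, 3 ^^^ f} : Finset ℕ).card ≤ 4 := Finset.card_le_four
  have h3 := Nat.le_of_ble_eq_true this
  omega

end PS

/-- A necessary condition for commuting. -/
noncomputable def cmB (M M' : ℕ) : Bool :=
  frc M' fun M' => Nat.beq (app 12 12 M (col 12 M' 0)) (app 12 12 M' (col 12 M 0))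

theorem cmB_of {f g : G} {M M' : ℕ} (h : Rep b6 12 (act f) M) (h' : Rep b6 12 (act g) M')
    (e : f * g = g * f) : cmB M M' = true := by
  rw [cmB, frc_eq, Nat.beq_eq]
  refine bas6.eq (app_lt _ _ _ _) (app_lt _ _ _ _) ?_
  rw [← h.app two6, ← h'.app two6, ← h 0 (by norm_num), ← h' 0 (by norm_num)]
  exact DFunLike.congr_fun ((map_mul act f g).symm.trans ((congrArg act e).trans (map_mul act g f))) _

theorem bl_count : ∀ M ∈ BL, ∀ j < 3, cntB (fun n => cmB M (QQ j n)) CL ≤ 12 ∧
    cntB (fun n => Nat.blt n 16 && cmB M (QQ j n)) CL = 0 := by
  have key : allB (fun M => allN (fun j => Nat.ble (cntB (fun n => cmB M (QQ j n)) CL) 12 &&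
    Nat.beq (cntB (fun n => Nat.blt n 16 && cmB M (QQ j n)) CL) 0) 3) BL = true := by decide +kernel
  simpa only [allB_iff, allN_iff, Bool.and_eq_true, Nat.ble_eq, Nat.beq_eq] using key

end Cfsg.Agent.H1.U6
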