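import Cfsg.Agent.H1.U6Def

/-!
Weights of the diagonal subgroup on a module of order `2 ^ 20`.
-/

set_option autoImplicit false

namespace Cfsg.Agent.H1.U6

open Cfsg.Agent.H6 (F4 card_F4)
open Equiv
open Matrix hiding swap_mul_self

theorem eq_of_rel {Y : Type*} [Group Y] {a b : Y} (ha : a * a = 1) (hb : b * b = 1) (h : a * b = b * a)
    (h3 : a * (b * (a * (b * (a * b)))) = 1) : a = b := by
  have e : a * (b * (a * (b * (a * b)))) = (a * a) * (b * b) * (a * b) := by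
    calc _ = a * (b * a) * b * (a * b) := by group
      _ = a * (a * b) * b * (a * b) := by rw [h]
      _ = _ := by group
  rw [e, ha, hb, one_mul, one_mul] at h3
  calc a = a * (b * b) := by rw [hb, mul_one]
    _ = b := by rw [← mul_assoc, h3, one_mul]

theorem map_evw {Y : Type*} [Monoid Y] (φ : G →* Y) (hz : φ zc = 1) {l : List ℕ} (h : inZ (e12 l) = true) :
    (l.map fun i => φ (gen i)).prod = 1 := by
  have e : φ (evw l) = 1 := by
    rcases mem_center_iff.mp (mem_center_of_inZ (rep12 l) h) with e | e | e <;> simp [e, hz]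
  rw [← e, evw, map_list_prod, List.map_map]; rfl

theorem triv_of_d {Y : Type*} [Group Y] (φ : G →* Y) (hz : φ zc = 1) (hd : φ (gen 5) = 1) (g : G) :
    φ g = 1 := by
  have k : ∀ l, inZ (e12 l) = true → (l.map fun i => φ (gen i)).prod = 1 := fun l => map_evw φ hz
  have sq : ∀ i, inZ (e12 [i, i]) = true → φ (gen i) * φ (gen i) = 1 := fun i h => by simpa using k _ h
  have cm : ∀ i j, meq 12 (e12 [i, j]) (e12 [j, i]) = true → φ (gen i) * φ (gen j) = φ (gen j) * φ (gen i) :=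
    fun i j h => by simpa [evw] using congrArg φ (evw_eq h)
  have s0 := sq 0 (by decide +kernel)
  have e6 : φ (gen 6) = φ (gen 0) := eq_of_rel (sq 6 (by decide +kernel)) s0 (cm 6 0 (by decide +kernel))
    (by simpa [hd] using k [6, 5, 0, 6, 5, 0, 6, 5, 0] (by decide +kernel))
  have st : ∀ i j, φ (gen i) = φ (gen 0) → inZ (e12 [j, j]) = true →
      meq 12 (e12 [j, 6]) (e12 [6, j]) = true ∨ meq 12 (e12 [j, 0]) (e12 [0, j]) = true →
      inZ (e12 [j, i, j, i, j, i]) = true → φ (gen j) = φ (gen 0) := fun i j hi h1 h2 h3 =>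
    eq_of_rel (sq j h1) s0 (by
      rcases h2 with h2 | h2
      · rw [← e6]; exact cm _ _ h2
      · exact cm _ _ h2) (by simpa [hi] using k _ h3)
  have e1 := st 0 1 rfl (by decide +kernel) (by decide +kernel) (by decide +kernel)
  have e2 := st 1 2 e1 (by decide +kernel) (by decide +kernel) (by decide +kernel)
  have e3 := st 2 3 e2 (by decide +kernel) (by decide +kernel) (by decide +kernel)
  have e4 := st 3 4 e3 (by decide +kernel) (by decide +kernel) (by decide +kernel)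
  have e7 := st 4 7 e4 (by decide +kernel) (by decide +kernel) (by decide +kernel)
  have e0 : φ (gen 0) = 1 := by
    have := k [0, 5, 5, 7, 6, 5, 1, 0, 5, 5, 7, 6, 5, 1, 5, 7, 6, 0, 5, 3, 1] (by decide +kernel)
    have s : ∀ y, φ (gen 0) * (φ (gen 0) * y) = y := fun y => by rw [← mul_assoc, s0, one_mul]
    simpa [hd, e1, e3, e6, e7, s] using this
  have : φ.ker = ⊤ := eq_top_of_gen fun i => by
    have h : i % 8 < 8 := Nat.mod_lt _ (by norm_num)
    have e : gen i = gen (i % 8) := by rw [gen, gen, Nat.mod_mod]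
    rw [MonoidHom.mem_ker, e]
    generalize i % 8 = m at h
    interval_cases m
    exacts [e0, e1.trans e0, e2.trans e0, e3.trans e0, e4.trans e0, hd, e6.trans e0, e7.trans e0]
  exact (MonoidHom.mem_ker).mp (this ▸ Subgroup.mem_top g)

/-- Exponent vectors. -/
abbrev A6 : Type := Fin 6 → ZMod 3

theorem dg_congr {a a' : A6} (e : a = a') (h : ∑ i, a i = 0) (h' : ∑ i, a' i = 0) : dg a h = dg a' h' := by
  subst e; rfl

theorem dg_comm (a c : A6) (ha : ∑ i, a i = 0) (hc : ∑ i, c i = 0) : dg a ha * dg c hc = dg c hc * dg a ha := by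
  rw [dg_mul, dg_mul]; exact dg_congr (add_comm _ _) _ _

theorem dg_cube (a : A6) (ha : ∑ i, a i = 0) : dg a ha * (dg a ha * dg a ha) = 1 := by
  rw [dg_mul, dg_mul, ← dg_zero (by simp)]
  exact dg_congr (funext fun i => (by decide : ∀ x : ZMod 3, x + (x + x) = 0) (a i)) _ _

variable {V : Type*} [AddCommGroup V] {ρ : G →* AddMonoid.End V}

theorem rho_mul (ρ : G →* AddMonoid.End V) (g g' : G) (v : V) : ρ (g * g') v = ρ g (ρ g' v) := by
  rw [map_mul]; rfl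

theorem rho_one (ρ : G →* AddMonoid.End V) (v : V) : ρ 1 v = v := by rw [map_one]; rfl

theorem rho_ne {g : G} {v : V} (h : v ≠ 0) : ρ g v ≠ 0 := fun e => h (by
  rw [← rho_one ρ v, ← inv_mul_cancel g, rho_mul, e, map_zero])

/-- The norm of an element of order three. -/
def nm (ρ : G →* AddMonoid.End V) (y : G) (v : V) : V := v + ρ y v + ρ y (ρ y v)

theorem nm_add (y : G) (u v : V) : nm ρ y (u + v) = nm ρ y u + nm ρ y v := by
  simp only [nm, map_add]; abel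

theorem nm_zero (y : G) : nm ρ y 0 = 0 := by simp [nm]

theorem nm_comm {x y : G} (h : x * y = y * x) (v : V) : nm ρ y (ρ x v) = ρ x (nm ρ y v) := by
  have : ∀ u, ρ y (ρ x u) = ρ x (ρ y u) := fun u => by rw [← rho_mul, ← h, rho_mul]
  simp only [nm, map_add, this]

theorem nm_fix (h2 : Two V) {y : G} {v : V} (h : ρ y v = v) : nm ρ y v = v := by
  rw [nm, h, h, h2, zero_add]

/-- Weight vectors. -/
def Wt (ρ : G →* AddMonoid.End V) (l : A6) (v : V) : Prop :=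
  ∀ a (h : ∑ i, a i = 0), (l ⬝ᵥ a = 0 → ρ (dg a h) v = v) ∧ (l ⬝ᵥ a ≠ 0 → nm ρ (dg a h) v = 0)

namespace Wt

variable {l l' : A6} {u v : V}

theorem zero : Wt ρ l 0 := fun _ _ => ⟨fun _ => map_zero _, fun _ => nm_zero _⟩

theorem add (hu : Wt ρ l u) (hv : Wt ρ l v) : Wt ρ l (u + v) := fun a h =>
  ⟨fun e => by rw [map_add, (hu a h).1 e, (hv a h).1 e], fun e => by
    rw [nm_add, (hu a h).2 e, (hv a h).2 e, add_zero]⟩

theorem act (hv : Wt ρ l v) (c : A6) (hc : ∑ i, c i = 0) : Wt ρ l (ρ (dg c hc) v) := fun a h =>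
  ⟨fun e => by rw [← rho_mul, dg_comm, rho_mul, (hv a h).1 e], fun e => by
    rw [nm_comm (dg_comm _ _ _ _), (hv a h).2 e, map_zero]⟩

theorem congr (hv : Wt ρ l v) (e : ∀ a, ∑ i, a i = 0 → (l ⬝ᵥ a = 0 ↔ l' ⬝ᵥ a = 0)) : Wt ρ l' v := fun a h =>
  ⟨fun e' => (hv a h).1 ((e a h).mpr e'), fun e' => (hv a h).2 fun e'' => e' ((e a h).mp e'')⟩

theorem perm (hv : Wt ρ l v) (σ : Perm (Fin 6)) : Wt ρ (l ∘ ⇑σ⁻¹) (ρ (pm σ) v) := fun a h => by
  have h' : ∑ i, (a ∘ σ) i = 0 := by rw [← h]; exact Equiv.sum_comp σ a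
  have e1 : (l ∘ ⇑σ⁻¹) ⬝ᵥ a = l ⬝ᵥ (a ∘ σ) := by
    rw [dotProduct, dotProduct, ← Equiv.sum_comp σ]; simp
  have e2 : ∀ w, ρ (dg a h) (ρ (pm σ) w) = ρ (pm σ) (ρ (dg (a ∘ σ) h') w) := fun w => by
    rw [← rho_mul, ← rho_mul, pm_dg]
    congr 3
    exact dg_congr (funext fun i => by simp) _ _
  rw [e1]
  refine ⟨fun e => by rw [e2, (hv _ h').1 e], fun e => ?_⟩
  have := congrArg (ρ (pm σ)) ((hv _ h').2 e)
  rw [nm, map_add, map_add, map_zero] at this
  rw [nm, e2, e2, this]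

end Wt

/-- Separated weights. -/
def Sep (μ : ℕ → A6) (n : ℕ) : Prop :=
  ∀ i < n, ∀ j < n, i ≠ j → ∃ a, ∑ k, a k = 0 ∧ μ i ⬝ᵥ a = 0 ∧ μ j ⬝ᵥ a ≠ 0

theorem indep (h2 : Two V) {μ : ℕ → A6} {n : ℕ} (hs : Sep μ n) : ∀ v : ℕ → V,
    (∀ i < n, Wt ρ (μ i) (v i)) → ∑ i ∈ Finset.range n, v i = 0 → ∀ i < n, v i = 0 := by
  induction n with
  | zero => intro v _ _ i hi; omega
  | succ n ih =>
    intro v hv h0
    have ih' := ih fun i hi j hj => hs i (by omega) j (by omega)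
    have k : ∀ i < n, v i = 0 := fun i hi => by
      obtain ⟨a, ha, e1, e2⟩ := hs i (by omega) n (by omega) (by omega)
      let N : V →+ V := AddMonoidHom.mk' (nm ρ (dg a ha)) (nm_add _)
      have e3 := congrArg N h0
      rw [Finset.sum_range_succ, map_add, map_zero, map_sum] at e3
      have e4 : N (v n) = 0 := (hv n (by omega) a ha).2 e2
      rw [e4, add_zero] at e3
      have := ih' (fun j => N (v j)) (fun j hj =>
        ((hv j (by omega)).add ((hv j (by omega)).act a ha)).add (((hv j (by omega)).act a ha).act a ha)) e3 i hi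
      rw [← this]
      exact (nm_fix h2 ((hv i (by omega) a ha).1 e1)).symm
    intro i hi
    rcases Nat.lt_succ_iff_lt_or_eq.mp hi with hi | rfl
    · exact k i hi
    · rwa [Finset.sum_range_succ, Finset.sum_eq_zero fun j hj => k j (Finset.mem_range.mp hj), zero_add] at h0

/-- The components of a vector. -/
def cp (b : ℕ → V) (m j : ℕ) : V :=
  (if m.testBit (2 * j) then b (2 * j) else 0) + (if m.testBit (2 * j + 1) then b (2 * j + 1) else 0)

theorem ev_cp (b : ℕ → V) (n m : ℕ) : ev b (2 * n) m = ∑ j ∈ Finset.range n, cp b m j := by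
  induction n with
  | zero => rfl
  | succ n ih => rw [Finset.sum_range_succ, ← ih, Nat.mul_succ, ev, ev, cp, add_assoc]

theorem wt_cp {b : ℕ → V} {l : A6} {j : ℕ} (h : Wt ρ l (b (2 * j))) (h' : Wt ρ l (b (2 * j + 1))) (m : ℕ) :
    Wt ρ l (cp b m j) := by
  refine Wt.add ?_ ?_ <;> split_ifs
  exacts [h, Wt.zero, h', Wt.zero]

/-- The translates of a pair of weight vectors. -/
def tb2 (ρ : G →* AddMonoid.End V) (σ : ℕ → Perm (Fin 6)) (v v' : V) (k : ℕ) : V :=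
  ρ (pm (σ (k / 2))) (if k % 2 = 0 then v else v')

theorem tb2_even (σ : ℕ → Perm (Fin 6)) (v v' : V) (j : ℕ) : tb2 ρ σ v v' (2 * j) = ρ (pm (σ j)) v := by
  simp [tb2]

theorem tb2_odd (σ : ℕ → Perm (Fin 6)) (v v' : V) (j : ℕ) : tb2 ρ σ v v' (2 * j + 1) = ρ (pm (σ j)) v' := by
  rw [tb2, show (2 * j + 1) / 2 = j by omega, if_neg (by omega)]

theorem tb2_inj (h2 : Two V) {l : A6} {σ : ℕ → Perm (Fin 6)} {n : ℕ} (hs : Sep (fun j => l ∘ ⇑(σ j)⁻¹) n)
    {v v' : V} (hv : Wt ρ l v) (hv' : Wt ρ l v') (h0 : v ≠ 0) (h0' : v' ≠ 0) (h1 : v + v' ≠ 0) :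
    ∀ m < 2 ^ (2 * n), ev (tb2 ρ σ v v') (2 * n) m = 0 → m = 0 := fun m hm e => by
  rw [ev_cp] at e
  have k := indep h2 hs _ (fun j _ => wt_cp (by rw [tb2_even]; exact hv.perm _)
    (by rw [tb2_odd]; exact hv'.perm _) m) e
  have k' : ∀ j < n, m.testBit (2 * j) = false ∧ m.testBit (2 * j + 1) = false := fun j hj => by
    have := k j hj
    rw [cp, tb2_even, tb2_odd] at this
    cases h3 : m.testBit (2 * j) <;> cases h4 : m.testBit (2 * j + 1) <;> simp only [h3, h4] at this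
    · exact ⟨rfl, rfl⟩
    · exact absurd (by simpa using this) (rho_ne h0')
    · exact absurd (by simpa using this) (rho_ne h0)
    · exact absurd (by simpa using this) (rho_ne (g := pm (σ j)) h1)
  apply Nat.eq_of_testBit_eq
  intro i
  rw [Nat.zero_testBit]
  by_cases hi : i < 2 * n
  · have := k' (i / 2) (by omega)
    rcases Nat.mod_two_eq_zero_or_one i with e | e
    · rw [← this.1]; congr 1; omega
    · rw [← this.2]; congr 1; omega
  · exact Nat.testBit_lt_two_pow (lt_of_lt_of_le hm (Nat.pow_le_pow_right (by norm_num) (by omega)))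

theorem ne_of_nm (h2 : Two V) {y : G} {v : V} (h0 : v ≠ 0) (h : nm ρ y v = 0) : v + ρ y v ≠ 0 := fun e =>
  h0 (by rw [← h, nm_fix h2 (h2.eq_of_add e).symm])

theorem card_ge [Finite V] (h2 : Two V) {b : ℕ → V} {w : ℕ} (h : ∀ n < 2 ^ w, ev b w n = 0 → n = 0) :
    2 ^ w ≤ Nat.card V := by
  let f : Fin (2 ^ w) → V := fun n => ev b w n
  have hf : Function.Injective f := fun n m e => Fin.ext
    (Nat.eq_of_xor_eq_zero (h _ (Nat.xor_lt_two_pow n.2 m.2) (by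
      rw [ev_xor h2]; change f n + f m = 0; rw [e, h2])))
  simpa using Nat.card_le_card_of_injective f hf

/-- Products of adjacent transpositions. -/
def pw (l : List ℕ) : Perm (Fin 6) := (l.map sw).prod

/-- Separating exponent vectors. -/
def sepL : List A6 := [![0, 1, 1, 1, 2, 1], ![0, 0, 0, 1, 0, 2], ![0, 1, 2, 0, 0, 0], ![0, 0, 0, 1, 2, 0],
  ![0, 1, 1, 1, 1, 2], ![0, 0, 1, 0, 1, 1], ![0, 1, 0, 0, 1, 1], ![0, 0, 1, 1, 2, 2], ![0, 1, 0, 1, 2, 2]]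

theorem sepL_sum : ∀ a ∈ sepL, ∑ k, a k = 0 := by decide +kernel

theorem sep_of {μ : ℕ → A6} {n : ℕ}
    (h : ∀ i < n, ∀ j < n, i ≠ j → ∃ a ∈ sepL, μ i ⬝ᵥ a = 0 ∧ μ j ⬝ᵥ a ≠ 0) : Sep μ n :=
  fun i hi j hj e => by
    obtain ⟨a, ha, e'⟩ := h i hi j hj e
    exact ⟨a, sepL_sum a ha, e'⟩

/-- Eleven permutations. -/
def badP (j : ℕ) : Perm (Fin 6) := pw ([[4, 2, 3], [3, 4, 1], [2, 1, 0], [2, 3, 0, 1], [1, 2, 3, 0, 1, 2],
  [3, 4, 2, 3, 0, 1], [4, 3, 1, 2, 0, 1], [0, 1, 2, 3, 4], [3, 4, 1, 2, 3, 0, 1], [1, 2, 3, 4, 1, 2, 3, 1, 0],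
  [0, 1, 2, 3, 4, 1, 2, 3, 2, 1, 0]].getD j [])

/-- The standard weight. -/
def mu0 : A6 := ![1, 1, 1, 0, 0, 0]

theorem wt_cases : ∀ l : A6, (l 0).val ≤ (l 1).val → (l 1).val ≤ (l 2).val → (l 2).val ≤ (l 3).val →
    (l 3).val ≤ (l 4).val → (l 4).val ≤ (l 5).val → l ⬝ᵥ 1 = 0 →
    (∃ c, l = fun _ => c) ∨ l ∈ [![0, 0, 0, 1, 1, 1], ![0, 0, 0, 2, 2, 2], ![1, 1, 1, 2, 2, 2]] ∨
    l ∈ [![0, 0, 0, 0, 1, 2], ![0, 1, 1, 1, 1, 2], ![0, 1, 2, 2, 2, 2], ![0, 0, 1, 1, 2, 2]] := by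
  decide +kernel

theorem wt_good : ∀ l ∈ ([![0, 0, 0, 1, 1, 1], ![0, 0, 0, 2, 2, 2], ![1, 1, 1, 2, 2, 2]] : List A6),
    ∀ a : A6, ∑ i, a i = 0 → (l ⬝ᵥ a = 0 ↔ mu0 ⬝ᵥ a = 0) := by
  decide +kernel

theorem wt_bad : ∀ l ∈ ([![0, 0, 0, 0, 1, 2], ![0, 1, 1, 1, 1, 2], ![0, 1, 2, 2, 2, 2], ![0, 0, 1, 1, 2, 2]] : List A6),
    (∃ a ∈ sepL, l ⬝ᵥ a ≠ 0) ∧ ∀ i < 11, ∀ j < 11, i ≠ j →
      ∃ a ∈ sepL, (l ∘ ⇑(badP i)⁻¹) ⬝ᵥ a = 0 ∧ (l ∘ ⇑(badP j)⁻¹) ⬝ᵥ a ≠ 0 := by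
  decide +kernel

theorem split3 (h2 : Two V) {x y : G} (hx : x * (x * x) = 1) (hy : y * (y * y) = 1) (h : x * y = y * x)
    {v : V} (h0 : v ≠ 0) (hv : nm ρ x v = 0) :
    ∃ k < 3, nm ρ (x ^ k * y) v ≠ 0 ∧ ρ y (nm ρ (x ^ k * y) v) = ρ (x ^ (2 * k)) (nm ρ (x ^ k * y) v) := by
  have c : ∀ u, ρ y (ρ x u) = ρ x (ρ y u) := fun u => by rw [← rho_mul, ← h, rho_mul]
  have x3 : ∀ u, ρ x (ρ x (ρ x u)) = u := fun u => by rw [← rho_mul, ← rho_mul, mul_assoc, hx, rho_one]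
  have y3 : ∀ u, ρ y (ρ y (ρ y u)) = u := fun u => by rw [← rho_mul, ← rho_mul, mul_assoc, hy, rho_one]
  have hs : nm ρ (x ^ 0 * y) v + nm ρ (x ^ 1 * y) v + nm ρ (x ^ 2 * y) v = v := by
    have e1 := nm_comm (ρ := ρ) h.symm v
    have e2 := nm_comm (ρ := ρ) h.symm (ρ y v)
    rw [e1] at e2
    rw [hv, map_zero] at e1 e2
    rw [map_zero] at e2
    simp only [nm, pow_zero, pow_one, pow_two, one_mul, rho_mul, c, x3] at e1 e2 ⊢
    calc _ = v + (v + v) + (ρ y v + ρ x (ρ y v) + ρ x (ρ x (ρ y v))) +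
      (ρ y (ρ y v) + ρ x (ρ y (ρ y v)) + ρ x (ρ x (ρ y (ρ y v)))) := by abel
      _ = v := by rw [e1, e2, h2, add_zero, add_zero, add_zero]
  have : ∃ k < 3, nm ρ (x ^ k * y) v ≠ 0 := by
    by_contra hc
    push Not at hc
    rw [hc 0 (by norm_num), hc 1 (by norm_num), hc 2 (by norm_num), add_zero, add_zero] at hs
    exact h0 hs.symm
  obtain ⟨k, hk, e⟩ := this
  refine ⟨k, hk, e, ?_⟩
  interval_cases k <;> simp only [nm, pow_succ, pow_zero, one_mul, rho_mul, map_add, c, x3, y3, rho_one, mul_zero] <;> abel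

/-- Basic exponent vectors. -/
def ax (i : Fin 4) : A6 := ![![0, 1, 2, 0, 0, 0], ![0, 0, 1, 2, 0, 0], ![0, 0, 0, 1, 2, 0], ![0, 0, 0, 0, 1, 2]] i

theorem ax_sum : ∀ i, ∑ k, ax i k = 0 := by decide

theorem dg_pow (a : A6) (h : ∑ i, a i = 0) (n : ℕ) :
    dg a h ^ n = dg (n • a) (by simp [← Finset.mul_sum, h]) := by
  induction n with
  | zero => rw [pow_zero, ← dg_zero (by simp)]; exact dg_congr (zero_smul _ _).symm _ _
  | succ n ih => rw [pow_succ, ih, dg_mul]; exact dg_congr (succ_nsmul _ _).symm _ _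

theorem a0_sum : ∑ k, a0 k = 0 := by decide

theorem comm5 (a : A6) (h : ∑ i, a i = 0) : Commute (dg a h) (gen 5) := dg_comm a a0 h a0_sum

theorem exists_eig (h2 : Two V) (hd : ρ (gen 5) ≠ 1) : ∃ v ≠ 0, nm ρ (gen 5) v = 0 ∧
    ∀ i, ∃ k : ℕ, ρ (dg (ax i) (ax_sum i)) v = ρ (gen 5 ^ k) v := by
  have x3 : gen 5 * (gen 5 * gen 5) = 1 := dg_cube a0 a0_sum
  have key : ∀ n : ℕ, ∃ v ≠ 0, nm ρ (gen 5) v = 0 ∧
      ∀ i : Fin 4, i.1 < n → ∃ k : ℕ, ρ (dg (ax i) (ax_sum i)) v = ρ (gen 5 ^ k) v := by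
    intro n
    induction n with
    | zero =>
      obtain ⟨w, hw⟩ : ∃ w, ρ (gen 5) w ≠ w := by
        by_contra hc
        push Not at hc
        exact hd (AddMonoidHom.ext hc)
      refine ⟨w + ρ (gen 5) w, fun e => hw (h2.eq_of_add e).symm, ?_, fun i hi => absurd hi (by omega)⟩
      have : ρ (gen 5) (ρ (gen 5) (ρ (gen 5) w)) = w := by rw [← rho_mul, ← rho_mul, mul_assoc, x3, rho_one]
      simp only [nm, map_add, this]
      calc _ = (w + w) + (ρ (gen 5) w + ρ (gen 5) w) +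
        (ρ (gen 5) (ρ (gen 5) w) + ρ (gen 5) (ρ (gen 5) w)) := by abel
        _ = 0 := by rw [h2 w, h2 (ρ _ w), h2 (ρ _ (ρ _ w)), add_zero, add_zero]
    | succ n ih =>
      obtain ⟨v, h0, hv, hi⟩ := ih
      by_cases hn : n < 4
      · have cm : ∀ i, Commute (gen 5) (dg (ax i) (ax_sum i)) := fun i => (comm5 _ _).symm
        obtain ⟨k, -, e1, e2⟩ := split3 h2 x3 (dg_cube (ax ⟨n, hn⟩) (ax_sum _)) (cm _) h0 hv
        set y := gen 5 ^ k * dg (ax ⟨n, hn⟩) (ax_sum _)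
        have c5 : Commute (gen 5) y := ((Commute.refl _).pow_right k).mul_right (cm _)
        refine ⟨_, e1, ?_, fun i hi' => ?_⟩
        · rw [show nm ρ y v = v + ρ y v + ρ y (ρ y v) from rfl, nm_add, nm_add, nm_comm c5.eq.symm (ρ y v),
            nm_comm c5.eq.symm v, hv]
          simp
        · rcases Nat.lt_succ_iff_lt_or_eq.mp hi' with h | h
          · obtain ⟨m, hm⟩ := hi i h
            have c1 : Commute (dg (ax i) (ax_sum i)) y := ((cm i).symm.pow_right k).mul_right (dg_comm _ _ _ _)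
            exact ⟨m, by rw [← nm_comm c1.eq, hm, nm_comm (c5.pow_left m).eq]⟩
          · obtain rfl : i = ⟨n, hn⟩ := Fin.ext h
            exact ⟨_, e2⟩
      · exact ⟨v, h0, hv, fun i _ => hi i (by omega)⟩
  obtain ⟨v, h0, hv, hi⟩ := key 4
  exact ⟨v, h0, hv, fun i => hi i i.2⟩

theorem exists_wt (h2 : Two V) (hd : ρ (gen 5) ≠ 1) : ∃ v ≠ 0, ∃ l : A6, l ⬝ᵥ a0 ≠ 0 ∧ Wt ρ l v := by
  obtain ⟨v, h0, hv, hi⟩ := exists_eig h2 hd
  choose k hk using hi
  have x3 : gen 5 ^ 3 = 1 := by rw [pow_three]; exact dg_cube a0 a0_sum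
  let l : A6 := ![0, -1, -1 - k 0, -1 - k 0 - k 1, -1 - k 0 - k 1 - k 2, -1 - k 0 - k 1 - k 2 - k 3]
  have P : ∀ a (h : ∑ i, a i = 0), ∃ n : ℕ, (n : ZMod 3) = l ⬝ᵥ a ∧ ρ (dg a h) v = ρ (gen 5 ^ n) v := by
    let S : AddSubgroup A6 :=
      { carrier := {a | ∃ h : ∑ i, a i = 0, ∃ n : ℕ, (n : ZMod 3) = l ⬝ᵥ a ∧ ρ (dg a h) v = ρ (gen 5 ^ n) v}
        zero_mem' := ⟨by simp, 0, by simp, by rw [dg_zero, pow_zero]⟩
        add_mem' := by
          rintro a c ⟨ha, n, e1, e2⟩ ⟨hc, m, e3, e4⟩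
          refine ⟨by simp [Finset.sum_add_distrib, ha, hc], n + m, by rw [Nat.cast_add, e1, e3, dotProduct_add], ?_⟩
          have : Commute (dg a ha) (gen 5) := comm5 _ _
          rw [← dg_mul a c ha hc, rho_mul, e4, ← rho_mul, (this.pow_right m).eq, rho_mul, e2, ← rho_mul,
            ← pow_add, add_comm]
        neg_mem' := by
          rintro a ⟨ha, n, e1, e2⟩
          have ha' : ∑ i, (-a) i = 0 := by simp [ha]
          refine ⟨ha', 2 * n, by
            rw [Nat.cast_mul, e1, dotProduct_neg]; exact (by decide : ∀ x : ZMod 3, (2 : ℕ) * x = -x) _, ?_⟩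
          have : Commute (dg a ha) (gen 5) := comm5 _ _
          have e : dg (-a) ha' = dg a ha * dg a ha := by
            rw [dg_mul]; exact dg_congr (funext fun i => (by decide : ∀ x : ZMod 3, -x = x + x) (a i)) _ _
          rw [e, rho_mul, e2, ← rho_mul, (this.pow_right n).eq, rho_mul, e2, ← rho_mul, ← pow_add, two_mul] }
    have m0 : a0 ∈ S := ⟨by decide, 1, by simp [l, a0, dotProduct, Fin.sum_univ_six]; decide, by rw [pow_one]; rfl⟩
    have m1 : ∀ i, ax i ∈ S := fun i => ⟨ax_sum i, k i, by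
      have t : (2 : ZMod 3) = -1 := by decide
      fin_cases i <;> simp [l, ax, dotProduct, Fin.sum_univ_six, t], hk i⟩
    intro a h
    have e : ∀ a : A6, ∑ i, a i = 0 → a = (a 0).val • a0 + (a 0 + a 1).val • ax 0 + (a 0 + a 1 + a 2).val • ax 1 +
      (a 0 + a 1 + a 2 + a 3).val • ax 2 + (a 0 + a 1 + a 2 + a 3 + a 4).val • ax 3 := by decide +kernel
    have : a ∈ S := by
      rw [e a h]
      exact add_mem (add_mem (add_mem (add_mem (S.nsmul_mem m0 _) (S.nsmul_mem (m1 _) _)) (S.nsmul_mem (m1 _) _))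
        (S.nsmul_mem (m1 _) _)) (S.nsmul_mem (m1 _) _)
    exact this.2
  refine ⟨v, h0, l, by simp [l, a0, dotProduct, Fin.sum_univ_six]; decide, fun a h => ?_⟩
  obtain ⟨n, e1, e2⟩ := P a h
  have c : Commute (dg a h) (gen 5) := comm5 _ _
  have e3 : ρ (dg a h) (ρ (dg a h) v) = ρ (gen 5 ^ n) (ρ (gen 5 ^ n) v) := by
    rw [e2, ← rho_mul, (c.pow_right n).eq, rho_mul, e2]
  rw [← e1, nm, e3, e2, ZMod.natCast_eq_zero_iff, ne_eq, ZMod.natCast_eq_zero_iff,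
    pow_eq_pow_mod n x3, Nat.dvd_iff_mod_eq_zero]
  have : n % 3 < 3 := Nat.mod_lt _ (by norm_num)
  generalize n % 3 = m at this
  interval_cases m
  · exact ⟨fun _ => by rw [pow_zero, rho_one], fun e => absurd rfl e⟩
  · exact ⟨fun e => by omega, fun _ => by rw [pow_one]; exact hv⟩
  · refine ⟨fun e => by omega, fun _ => ?_⟩
    rw [← rho_mul, ← pow_add, show 2 + 2 = 3 + 1 by rfl, pow_add, x3, one_mul, pow_one, pow_two, rho_mul,
      add_right_comm]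
    exact hv

theorem exists_mu0 [Finite V] (h2 : Two V) (hc : Nat.card V = 2 ^ 20) (hz : ρ zc = 1) (hd : ρ (gen 5) ≠ 1) :
    ∃ v ≠ 0, Wt ρ mu0 v := by
  obtain ⟨v, h0, l, hl, hv⟩ := exists_wt h2 hd
  let σ := Tuple.sort (fun i => (l i).val)
  have hm := Tuple.monotone_sort (fun i => (l i).val)
  have hv' := hv.perm σ⁻¹
  rw [inv_inv] at hv'
  have h0' : ρ (pm σ⁻¹) v ≠ 0 := rho_ne h0
  have hs : (l ∘ σ) ⬝ᵥ 1 = 0 := by
    by_contra e
    have := (hv' 1 (by decide)).2 e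
    rw [nm_fix h2 (by change ρ zc _ = _; rw [hz]; rfl)] at this
    exact h0' this
  rcases wt_cases (l ∘ σ) (hm (by decide)) (hm (by decide)) (hm (by decide)) (hm (by decide)) (hm (by decide)) hs
    with ⟨c, e⟩ | e | e
  · have : l = fun _ => c := funext fun i => by simpa using congrFun e (σ⁻¹ i)
    exact absurd (by rw [this]; exact (by decide : ∀ c : ZMod 3, (fun _ => c) ⬝ᵥ a0 = 0) c) hl
  · exact ⟨_, h0', hv'.congr (wt_good _ e)⟩
  · obtain ⟨⟨a, ha, e1⟩, e2⟩ := wt_bad _ e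
    have ha' := sepL_sum a ha
    have := card_ge h2 (tb2_inj h2 (sep_of e2) hv' (hv'.act a ha') h0' (rho_ne h0')
      (ne_of_nm h2 h0' ((hv' a ha').2 e1)))
    rw [hc] at this
    norm_num at this

end Cfsg.Agent.H1.U6
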