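import Cfsg.Agent.H1.UTwo

/-!
Automorphisms of `SU₃(q²)`, `q ≤ 3`, preserving the two standard blocks.
-/

set_option autoImplicit false
set_option linter.unusedSectionVars false
set_option linter.unusedSimpArgs false

namespace Cfsg.Agent.H1

open Matrix

theorem exists_lift_inj {A B C : Type*} [Group A] [Group B] [Group C] {ι : A →* B}
    (hι : Function.Injective ι) (ψ : C →* B) (h : ∀ c, ψ c ∈ ι.range) :
    ∃ α : C →* A, ∀ c, ι (α c) = ψ c :=
  ⟨(MonoidHom.ofInjective hι).symm.toMonoidHom.comp (ψ.codRestrict ι.range h),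
    fun _ => MonoidHom.apply_ofInjective_symm hι _⟩

variable {F : Type*} [Field F] [Fintype F] {q : ℕ}

namespace UField

variable (U : UField F q)

theorem fixed_small (hq : q = 2 ∨ q = 3) {s : F} (h : U.σ s = s) : s = 0 ∨ s = 1 ∨ s = -1 := by
  rcases hq with hq | hq
  · rw [U.pow, hq] at h
    have : s * (s - 1) = 0 := by linear_combination h
    rcases mul_eq_zero.mp this with h | h
    · exact Or.inl h
    · exact Or.inr (Or.inl (sub_eq_zero.mp h))
  · exact U.fixed_three hq h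

theorem hom_ext_small (hq : q = 2 ∨ q = 3) {τ τ' : F →+* F} {a : F} (ha : a * U.σ a = 1) (ha2 : a ^ 2 ≠ 1)
    (h : τ a = τ' a) : τ = τ' := by
  have hne : a - U.σ a ≠ 0 := fun e => ha2 (by rw [sq, ← ha, ← sub_eq_zero.mp e])
  have hne' : U.σ a - a ≠ 0 := fun e => hne (by linear_combination -e)
  have k : ∀ s, U.σ s = s → τ s = τ' s := fun s hs => by
    rcases U.fixed_small hq hs with e | e | e <;> simp [e]
  ext x
  have e1 : U.σ ((x - U.σ x) / (a - U.σ a)) = (x - U.σ x) / (a - U.σ a) := by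
    simp only [map_div₀, map_sub, U.σσ]; field_simp; ring
  have e2 : U.σ (x - (x - U.σ x) / (a - U.σ a) * a) = x - (x - U.σ x) / (a - U.σ a) * a := by
    rw [map_sub, map_mul, e1]; field_simp; ring
  have := k _ e2
  rw [map_sub, map_sub, map_mul, map_mul, k _ e1, h] at this
  linear_combination this

theorem su2_hom_diag' (α : SU 2 F q →* SU 2 F q) (hα : Function.Injective α) {a : F}
    (ha : a * U.σ a = 1) (ha2 : a ^ 2 ≠ 1) (hd : suMat (α (U.dg a ha)) 0 1 = 0) :
    ∃ (τ : F →+* F) (c : F), c * U.σ c = 1 ∧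
      ∀ B, suMat (α B) 0 0 = τ (suMat B 0 0) ∧ suMat (α B) 0 1 = c * τ (suMat B 0 1) := by
  obtain ⟨τ, c, hc, h⟩ := U.su2_hom_diag α hα ha ha2 hd
  refine ⟨τ, c, hc, fun B => ?_⟩
  have e00 := congrFun (congrFun (h B) 0) 0
  have e01 := congrFun (congrFun (h B) 0) 1
  simp only [mul_apply, Fin.sum_univ_two, map_apply] at e00 e01
  simp at e00 e01
  exact ⟨by linear_combination U.σ c * e00 - (suMat (α B) 0 0 - τ (suMat B 0 0)) * hc, e01⟩

theorem eq_id_small (hq : q = 2 ∨ q = 3) (γ : SU 3 F q →* SU 3 F q)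
    (h1 : ∀ b, γ (U.emb f01 b) = U.emb f01 b) (h2 : ∀ b, γ (U.emb f12 b) = U.emb f12 b) (A : SU 3 F q) :
    γ A = A := by
  rcases hq with hq | hq
  · exact U.eq_id_two hq γ h1 h2 A
  have := UPair.range_eq U (by omega) (φ := MonoidHom.id _) ⟨rfl, rfl⟩
  have hA : A ∈ (MonoidHom.id (SU 3 F q)).range := ⟨A, rfl⟩
  rw [this] at hA
  refine (sup_le (c := γ.eqLocus (MonoidHom.id _)) ?_ ?_) hA
  · rintro _ ⟨A, rfl⟩; exact h1 A
  · rintro _ ⟨A, rfl⟩; exact h2 A

theorem aut_su3 (hq : q = 2 ∨ q = 3) (β : SU 3 F q →* SU 3 F q) (hβ : Function.Injective β)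
    (h1 : (suFix F q {2}).map β = suFix F q {2}) (h2 : (suFix F q {0}).map β = suFix F q {0}) :
    ∃ (τ : F →+* F) (d : Fin 3 → F) (hd : ∀ i, d i * U.σ (d i) = 1), ∀ A, β A = U.semi τ d hd A := by
  have r1 : (U.emb f01).range = suFix F q {2} := by rw [range_emb, range_f01']
  have r2 : (U.emb f12).range = suFix F q {0} := by rw [range_emb, range_f12']
  obtain ⟨α1, e1⟩ := exists_lift_inj (U.emb_injective f01) (β.comp (U.emb f01)) fun c => by
    rw [r1, ← h1]; exact ⟨_, r1 ▸ ⟨c, rfl⟩, rfl⟩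
  obtain ⟨α2, e2⟩ := exists_lift_inj (U.emb_injective f12) (β.comp (U.emb f12)) fun c => by
    rw [r2, ← h2]; exact ⟨_, r2 ▸ ⟨c, rfl⟩, rfl⟩
  simp only [MonoidHom.comp_apply] at e1 e2
  have i1 : Function.Injective α1 := fun x y e => U.emb_injective f01 (hβ (by rw [← e1, ← e1, e]))
  have i2 : Function.Injective α2 := fun x y e => U.emb_injective f12 (hβ (by rw [← e2, ← e2, e]))
  obtain ⟨a, ha, ha2⟩ := U.exists_normOne
  have key : ∀ (k : Fin 3) (x : SU 3 F q) (l : F), (suFix F q {k}).map β = suFix F q {k} →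
      suAct x⁻¹ (ev F k) = l • ev F k → ∀ w ∈ suFix F q {k},
      suAct w (suAct (β x)⁻¹ (ev F k)) = suAct (β x)⁻¹ (ev F k) := by
    intro k x l hk hx w hw
    obtain ⟨w', hw', rfl⟩ := exists_of_map_eq hk hw
    have : β (x * w' * x⁻¹) ∈ suFix F q {k} := mem_of_map_eq hk fun j hj => by
      rw [Set.mem_singleton_iff.mp hj, suAct_mul, suAct_mul, hx, map_smul, hw' k rfl, ← hx, suAct_act_inv]
    have e := this k rfl
    rw [map_mul, map_mul, map_inv, suAct_mul, suAct_mul] at e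
    exact (suAct_inv_eq e).symm
  have d1 : suMat (α1 (U.dg a ha)) 0 1 = 0 := by
    have := congrFun (key 0 (U.emb f01 (U.dg a ha)) (U.σ a) h2 (by
      ext i
      rw [← map_inv, suAct_ev, suMat_emb, blk_f01]
      fin_cases i <;> simp [ev, U.su2_inv_00, U.su2_inv_01, U.su2_10, dg_00, dg_01])
      (U.emb f12 U.wg) (r2 ▸ ⟨_, rfl⟩)) 2
    rw [← e1, ← map_inv] at this
    simpa [suAct_def, suMat_emb, blk_f01, blk_f12, suMat_wg, ev, mulVec, dotProduct, Fin.sum_univ_three,
      U.su2_10, U.su2_inv_01, -map_inv] using this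
  have d2 : suMat (α2 (U.dg a ha)) 0 1 = 0 := by
    have := congrFun (key 2 (U.emb f12 (U.dg a ha)) a h1 (by
      ext i
      rw [← map_inv, suAct_ev, suMat_emb, blk_f12]
      fin_cases i <;> simp [ev, U.su2_inv_00, U.su2_inv_01, U.su2_11, dg_00, dg_01])
      (U.emb f01 U.wg) (r1 ▸ ⟨_, rfl⟩)) 0
    rw [← e2, ← map_inv] at this
    simpa [suAct_def, suMat_emb, blk_f01, blk_f12, suMat_wg, ev, mulVec, dotProduct, Fin.sum_univ_three,
      U.su2_10, U.su2_inv_01, -map_inv] using this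
  obtain ⟨τ1, c1, n1, k1⟩ := U.su2_hom_diag' α1 i1 ha ha2 d1
  obtain ⟨τ2, c2, n2, k2⟩ := U.su2_hom_diag' α2 i2 ha ha2 d2
  have hτ : τ1 = τ2 := by
    have na : τ2 a * U.σ (τ2 a) = 1 := by rw [← U.σ_comm, ← map_mul, ha, map_one]
    have e := congrArg β (U.conj_dg12 a ha U.wg)
    rw [map_mul, map_mul, map_inv, ← e1, ← e1, ← e2, U.su2_ext (b := α2 (U.dg a ha)) (c := U.dg _ na)
      (k2 _).1 (by rw [d2, dg_01]), conj_dg12] at e
    have e' := congrArg (fun B => suMat B 0 1) (U.emb_injective _ e)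
    simp only [tw_01, (k1 _).2, wg_01, map_one, one_mul, mul_one, U.σ_comm] at e'
    exact U.hom_ext_small hq ha ha2
      (U.σ.injective (mul_left_cancel₀ (left_ne_zero_of_mul_eq_one n1) e')).symm
  subst hτ
  have hd : ∀ i, ![c1 * c2, c2, 1] i * U.σ (![c1 * c2, c2, 1] i) = 1 := fun i => by
    fin_cases i <;> simp [n2]
    linear_combination (c2 * U.σ c2) * n1 + n2
  refine ⟨τ1, _, hd, fun A => ?_⟩
  let e := MulEquiv.ofBijective (U.semi τ1 _ hd)
    (Finite.injective_iff_bijective.mp (U.semi_injective τ1 _ hd))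
  have := U.eq_id_small hq (e.symm.toMonoidHom.comp β) (fun b => e.symm_apply_eq.mpr (by
    change β _ = U.semi τ1 _ hd _
    rw [← e1, semi_emb]
    congr 1
    refine U.su2_ext ?_ ?_
    · rw [(k1 b).1, semi_apply, mul_right_comm, Function.comp, hd, one_mul]
    · rw [(k1 b).2, semi_apply]
      simp [f01]
      linear_combination -(c1 * τ1 (suMat b 0 1)) * n2)) (fun b => e.symm_apply_eq.mpr (by
    change β _ = U.semi τ1 _ hd _
    rw [← e2, semi_emb]
    congr 1
    refine U.su2_ext ?_ ?_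
    · rw [(k2 b).1, semi_apply, mul_right_comm, Function.comp, hd, one_mul]
    · rw [(k2 b).2, semi_apply]
      simp [f12])) A
  exact e.symm_apply_eq.mp this

end UField

end Cfsg.Agent.H1
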