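import Cfsg.Agent.H1.UAut3

/-!
Homomorphisms from special unitary groups with scalar kernel: general tools.
-/

set_option autoImplicit false
set_option linter.unusedSectionVars false
set_option linter.unusedSimpArgs false

namespace Cfsg.Agent.H1

open Matrix
open scoped MatrixGroups

variable {F : Type*} [Field F] [Fintype F] {q : ℕ} {G : Type*} [Group G] {N m : ℕ}

/-- Homomorphisms whose kernel consists of scalars. -/
def KerScal (φ : SU N F q →* G) : Prop := ∀ A, φ A = 1 → IsScal A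

/-- Twisting a homomorphism by an inner automorphism. -/
def cj (φ : SU N F q →* G) (h : SU N F q) : SU N F q →* G := φ.comp (MulAut.conj h).toMonoidHom

theorem cj_apply (φ : SU N F q →* G) (h A : SU N F q) : cj φ h A = φ (h * A * h⁻¹) := rfl

theorem cj_conj (φ : SU N F q →* G) (h A : SU N F q) : cj φ h (h⁻¹ * A * h) = φ A := by
  rw [cj_apply]; congr 1; group

theorem range_cj (φ : SU N F q →* G) (h : SU N F q) : (cj φ h).range = φ.range :=
  le_antisymm (by rintro _ ⟨A, rfl⟩; exact ⟨_, rfl⟩) (by rintro _ ⟨A, rfl⟩; exact ⟨_, cj_conj φ h A⟩)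

theorem KerScal.cj {φ : SU N F q →* G} (k : KerScal φ) (h : SU N F q) : KerScal (cj φ h) := fun A hA => by
  have h1 : IsScal (h * A * h⁻¹) := k _ hA
  have h2 := h1.comm h
  rwa [show h * A * h⁻¹ = A from mul_left_cancel (a := h) (by rw [h2]; group)] at h1

theorem KerScal.eq {φ : SU N F q →* G} (k : KerScal φ) {a : Fin N} {A B : SU N F q}
    (hA : suAct A (ev F a) = ev F a) (hB : suAct B (ev F a) = ev F a) (h : φ A = φ B) : A = B :=
  inv_mul_eq_one.mp ((k _ (by simp [h])).eq_one (a := a) (by rw [suAct_mul, hB, suAct_inv_eq hA]))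

theorem range_eq_of_le {H : Type*} [Group H] [Finite H] {ρ ρ' : H →* G} (hρ : Function.Injective ρ)
    (h : ρ.range ≤ ρ'.range) : ρ.range = ρ'.range := by
  haveI : Finite ρ'.range := Finite.Set.finite_range _
  refine Subgroup.eq_of_le_of_card_ge h ?_
  rw [← Nat.card_congr (MonoidHom.ofInjective hρ).toEquiv]
  exact Nat.card_le_card_of_surjective _ ρ'.rangeRestrict_surjective

namespace UField

variable (U : UField F q)

theorem emb_fix (f : Fin m ↪ Fin N) (A : SU m F q) {a : Fin N} (ha : a ∉ Set.range f) :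
    suAct (U.emb f A) (ev F a) = ev F a :=
  (U.range_emb f).le ⟨A, rfl⟩ a ha

theorem exists_emb (f : Fin m ↪ Fin N) {A : SU N F q} (h : ∀ a ∉ Set.range f, suAct A (ev F a) = ev F a) :
    ∃ B, U.emb f B = A := by
  have : A ∈ (U.emb f).range := by rw [range_emb]; exact h
  exact this

theorem inj_emb {φ : SU N F q →* G} (k : KerScal φ) (f : Fin m ↪ Fin N) {a : Fin N}
    (ha : a ∉ Set.range f) : Function.Injective (φ.comp (U.emb f)) := fun A B h =>
  U.emb_injective f (k.eq (U.emb_fix f A ha) (U.emb_fix f B ha) h)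

theorem kerScal_of_inj {φ : SU N F q →* G} (h : Function.Injective φ) : KerScal φ := fun A hA => by
  rw [h (hA.trans (map_one φ).symm)]; exact ⟨1, fun v => by simp⟩

theorem wg_ne_one : U.wg ≠ 1 := fun e => by
  have := U.wg_00
  rw [e, su2_one_00] at this
  exact one_ne_zero this

include U in
theorem kerScal_four (hq : q = 2 ∨ q = 3) {g : SU 4 F q →* G} {φ : SU 3 F q →* G} (k : KerScal φ)
    (h : φ.range ≤ g.range) : KerScal g := fun A hA => by
  by_contra hc
  have e : g.ker = ⊤ := hq.elim (fun hq => U.normal_four_two hq inferInstance hA hc)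
    (fun hq => U.normal_four_three hq inferInstance hA hc)
  obtain ⟨B, hB⟩ := h ⟨U.emb f01 U.wg, rfl⟩
  have : B ∈ g.ker := by rw [e]; trivial
  exact U.wg_ne_one (U.inj_emb k f01 (a := 2) (by decide) (by
    rw [map_one, MonoidHom.comp_apply, ← hB]; exact this))

theorem scal_of_comm {φ : SU N F q →* G} (k : KerScal φ) {x y : SU N F q}
    (h : φ x * φ y = φ y * φ x) : ∃ l : F, suMat x * suMat y = l • (suMat y * suMat x) := by
  obtain ⟨l, hl⟩ := k (x * y * (y * x)⁻¹) (by simp [h])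
  refine ⟨l, ?_⟩
  ext i j
  have := congrFun (hl (suAct (y * x) (ev F j))) i
  rwa [suAct_mul, suAct_inv_act, Pi.smul_apply, suAct_ev, suAct_ev, map_mul, map_mul] at this

theorem blk_comm {φ : SU 3 F q →* G} (k : KerScal φ) {b : SU 2 F q}
    (h : ∀ c, φ (U.emb f01 b) * φ (U.emb f12 c) = φ (U.emb f12 c) * φ (U.emb f01 b)) : b = 1 := by
  obtain ⟨l, hl⟩ := scal_of_comm k (h U.wg)
  rw [suMat_emb, suMat_emb, blk_f01, blk_f12, suMat_wg] at hl
  have e0 := congrFun (congrFun hl 0) 2
  have e1 := congrFun (congrFun hl 0) 0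
  have e2 := congrFun (congrFun hl 1) 2
  have n := U.su2_norm b
  simp [mul_apply, Fin.sum_univ_three, vecMul, dotProduct, U.su2_11] at e0 e1 e2
  refine U.su2_ext ?_ (by rw [e0, su2_one_01])
  rw [su2_one_00, ← U.σσ (suMat b 0 0), e2, show l = 1 by grind, map_one]

theorem blk_comm' {φ : SU 3 F q →* G} (k : KerScal φ) {b : SU 2 F q}
    (h : ∀ c, φ (U.emb f12 b) * φ (U.emb f01 c) = φ (U.emb f01 c) * φ (U.emb f12 b)) : b = 1 := by
  obtain ⟨l, hl⟩ := scal_of_comm k (h U.wg)
  rw [suMat_emb, suMat_emb, blk_f01, blk_f12, suMat_wg] at hl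
  have e0 := congrFun (congrFun hl 2) 0
  have e1 := congrFun (congrFun hl 2) 2
  have e2 := congrFun (congrFun hl 1) 0
  have n := U.su2_norm b
  simp [mul_apply, Fin.sum_univ_three, vecMul, dotProduct, U.su2_11, U.su2_10] at e0 e1 e2
  refine U.su2_ext ?_ (by rw [e0, su2_one_01])
  rw [su2_one_00, e2]; grind

theorem su2_invol (h2 : (2 : F) ≠ 0) {b : SU 2 F q} (h : b * b = 1) :
    b = 1 ∨ b = U.dg (-1) U.neg_one_norm := by
  have n := U.su2_norm b
  have e0 := U.su2_mul_00 b b
  have e1 := U.su2_mul_01 b b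
  rw [h, su2_one_00] at e0
  rw [h, su2_one_01] at e1
  have y0 : suMat b 0 1 = 0 := by
    by_contra hy
    have : suMat b 0 0 + U.σ (suMat b 0 0) = 0 := mul_left_cancel₀ hy (by linear_combination -e1)
    exact h2 (by linear_combination e0 - n + suMat b 0 0 * this)
  have : (suMat b 0 0 - 1) * (suMat b 0 0 + 1) = 0 := by rw [y0] at e0; linear_combination -e0
  rcases mul_eq_zero.mp this with e | e
  · exact Or.inl (U.su2_ext (by rw [su2_one_00]; linear_combination e) (by rw [y0, su2_one_01]))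
  · exact Or.inr (U.su2_ext (by rw [dg_00]; linear_combination e) (by rw [y0, dg_01]))

theorem neg_comm (b : SU 2 F q) : U.dg (-1) U.neg_one_norm * b = b * U.dg (-1) U.neg_one_norm :=
  U.su2_ext (by simp [U.su2_mul_00, dg_00, dg_01, -map_mul]) (by simp [U.su2_mul_01, dg_00, dg_01, -map_mul])

theorem neg_sq : U.dg (-1) U.neg_one_norm * U.dg (-1) U.neg_one_norm = 1 :=
  U.su2_ext (by simp [U.su2_mul_00, dg_00, dg_01, -map_mul]) (by simp [U.su2_mul_01, dg_00, dg_01, -map_mul])

theorem neg_ne_one (h2 : (2 : F) ≠ 0) : U.dg (-1) U.neg_one_norm ≠ 1 := fun e => by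
  have := U.dg_00 (-1) U.neg_one_norm
  rw [e, su2_one_00] at this
  exact h2 (by linear_combination this)

theorem invol_fix (h2 : (2 : F) ≠ 0) {A : SU N F q} (hA : A * A = 1) {I : Set (Fin N)}
    (hI : ∀ v ∈ uPerp F I, suAct A v ∈ uPerp F I) {v : Fin N → F} (hv : v ∈ uPerp F I)
    (hne : suAct A v ≠ -v) : ∃ f ∈ uPerp F I, U.H f f = 1 ∧ suAct A f = f := by
  have fx : ∀ u, suAct A (u + suAct A u) = u + suAct A u := fun u => by
    rw [map_add, ← suAct_mul, hA, suAct_one, add_comm]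
  suffices ∃ y ∈ uPerp F I, U.H y y ≠ 0 ∧ suAct A y = y by
    obtain ⟨y, h1, h2, h3⟩ := this
    obtain ⟨s, w, -, n, e, -⟩ := U.exists_scale h2
    exact ⟨w, e ▸ Submodule.smul_mem _ _ h1, n, by rw [e, map_smul, h3]⟩
  have hp : v + suAct A v ∈ uPerp F I := add_mem hv (hI v hv)
  obtain ⟨k, hk⟩ : ∃ k, (v + suAct A v) k ≠ 0 := by
    by_contra hc
    push Not at hc
    exact hne (eq_neg_of_add_eq_zero_right (funext hc))
  have hkI : k ∉ I := fun e => hk (hp k e)
  have hp' : ev F k + suAct A (ev F k) ∈ uPerp F I := add_mem (ev_mem_uPerp hkI) (hI _ (ev_mem_uPerp hkI))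
  have hβ : U.H (v + suAct A v) (ev F k + suAct A (ev F k)) ≠ 0 := by
    rw [U.H_add_right, U.H_act_of_fix' (fx v), U.H_ev_right, ← two_mul]
    exact mul_ne_zero h2 hk
  have f1 := fx v
  have f2 := fx (ev F k)
  generalize v + suAct A v = p at *
  generalize ev F k + suAct A (ev F k) = p' at *
  by_cases z : U.H p p = 0
  swap
  · exact ⟨p, hp, z, f1⟩
  by_cases z' : U.H p' p' = 0
  swap
  · exact ⟨p', hp', z', f2⟩
  obtain ⟨t, ht⟩ := U.exists_trace_ne hβ
  refine ⟨t • p + p', add_mem (Submodule.smul_mem _ _ hp) hp', ?_, by rw [map_add, map_smul, f1, f2]⟩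
  simp only [U.H_add_left, U.H_add_right, U.H_smul_left, U.H_smul_right, z, z']
  rw [map_mul, U.H_swap] at ht
  intro e; apply ht; linear_combination e

end UField

theorem eq_one_of_comm_two (p : ℕ) [Fact p.Prime] [CharP F p] {M1 M2 M : Matrix (Fin 2) (Fin 2) F}
    (h1 : M1 ^ p = 1) (h2 : M2 ^ p = 1) (h : M ^ p = 1) (hne : M1 * M2 ≠ M2 * M1)
    (c1 : M * M1 = M1 * M) (c2 : M * M2 = M2 * M) : M = 1 := by
  have d : ∀ A : Matrix (Fin 2) (Fin 2) F, A ^ p = 1 → A.det = 1 := fun A hA =>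
    frobenius_inj F p (by rw [frobenius_def, ← det_pow, hA, det_one, map_one])
  have t : ∀ A : Matrix (Fin 2) (Fin 2) F, A ^ p = 1 → trace A = 2 := fun A hA => by
    simpa using trace_eq_of_pow_char p hA
  by_contra hM
  obtain ⟨v, h0, hv⟩ := exists_fix_of_trace (t M h) (d M h)
  exact hne (commute_of_fix (t _ h1) (t _ h2) h0
    (fix_of_commute (t M h) (d M h) hM (t _ h1) (d _ h1) c1 hv)
    (fix_of_commute (t M h) (d M h) hM (t _ h2) (d _ h2) c2 hv))

end Cfsg.Agent.H1
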