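import Cfsg.Agent.H1.UStd3b

/-!
Standard triples in quotients of `SU₄(4)`.
-/

set_option autoImplicit false
set_option linter.unusedSectionVars false
set_option linter.unusedSimpArgs false

namespace Cfsg.Agent.H1

open Matrix
open scoped MatrixGroups

variable {F : Type*} [Field F] [Fintype F] {q : ℕ} {G : Type*} [Group G] {N m : ℕ}

set_option synthInstance.maxSize 1024 in
theorem comb_four : ∀ k : Fin 4 → Fin 3, 3 ∣ (Finset.univ.filter fun i => k i = 1).card →
    3 ∣ 2 * (Finset.univ.filter fun i => k i = 2).card → (∃ i, k i ≠ 0) →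
    ∃ j, k j = 0 ∧ ∀ i, i ≠ j → k i ≠ 0 := by decide +kernel

namespace UField

variable (U : UField F q)

theorem dg_pow (a : F) (ha : a * U.σ a = 1) : U.dg a ha ^ (q + 1) = 1 := by
  have : ∀ n : ℕ, suMat (U.dg a ha ^ n) 0 0 = a ^ n ∧ suMat (U.dg a ha ^ n) 0 1 = 0 := fun n => by
    induction n with
    | zero => simp
    | succ n ih => simp [pow_succ, U.su2_mul_00, U.su2_mul_01, ih, dg_00, dg_01, -map_mul, -map_pow]
  exact U.su2_ext (by rw [(this _).1, su2_one_00, ← U.norm_eq, ha]) (by rw [(this _).2, su2_one_01])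

theorem pair3 (β : SU 3 F q →* SU 3 F q) (hβ : Function.Injective β) :
    ∃ h, ∀ b, h⁻¹ * β (U.emb f01 b) * h ∈ suFix F q {2} ∧ h⁻¹ * β (U.emb f12 b) * h ∈ suFix F q {0} := by
  have i1 := hβ.comp (U.emb_injective f01)
  have i2 := hβ.comp (U.emb_injective f12)
  obtain ⟨x, x1, hx⟩ := U.exists_fixed (β.comp (U.emb f01)) i1
  obtain ⟨y, y1, hy⟩ := U.exists_fixed (β.comp (U.emb f12)) i2
  simp only [MonoidHom.comp_apply] at hx hy
  have key : ∀ (d : SU 3 F q) (x : Fin 3 → F), U.H x x = 1 → d ≠ 1 → d ^ (q + 1) = 1 → suAct d x = x →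
      ∀ v, suAct d v = v → ∃ s : F, v = s • x := by
    intro d x x1 d1 od dx v hv
    obtain ⟨g, -, hg⟩ := U.exists_fix_map (I := ∅) (j := 2) (j' := 0) (by simp) (by simp) (by decide)
      (y := x) (fun a ha => absurd ha (by simp)) x1
    have := U.fixed_par (d := g⁻¹ * d * g) (fun e => d1 (by
        simpa [mul_eq_one_iff_eq_inv, inv_mul_eq_iff_eq_mul] using e))
      (by rw [conj_pow_inv, od]; simp)
      (by rw [suAct_mul, suAct_mul, hg, dx, suAct_inv_eq hg]) (v := suAct g⁻¹ v)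
      (by rw [suAct_mul, suAct_mul, suAct_act_inv, hv])
    exact ⟨_, by rw [← hg, ← map_smul, ← this, suAct_act_inv]⟩
  obtain ⟨a, ha, ha2⟩ := U.exists_normOne
  have d1 : U.dg a ha ≠ 1 := fun e => ha2 (by rw [← U.dg_00 a ha, e, su2_one_00, one_pow])
  obtain ⟨g1, -, hg1⟩ := U.exists_fix_map (I := ∅) (j := 2) (j' := 0) (by simp) (by simp) (by decide)
    (y := x) (fun a ha => absurd ha (by simp)) x1
  have hxy : U.H x y = 0 := by
    have hab : U.emb f01 (U.dg a ha) * U.emb f12 (U.dg a ha) =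
        U.emb f12 (U.dg a ha) * U.emb f01 (U.dg a ha) := by
      apply suMat_injective
      rw [map_mul, map_mul, suMat_dg01, suMat_dg12]
      ext i j
      fin_cases i <;> fin_cases j <;> simp [mul_apply, Fin.sum_univ_three, mul_comm]
    obtain ⟨s, hs⟩ := key (β (U.emb f01 (U.dg a ha))) x x1 (fun e => d1 (i1 (e.trans (by simp))))
      (by rw [← map_pow, ← map_pow, dg_pow, map_one, map_one]) (hx (U.dg a ha))
      (suAct (β (U.emb f12 (U.dg a ha))) x) (by rw [← suAct_mul, ← map_mul, hab, map_mul, suAct_mul, hx])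
    by_contra hne
    have h1 := U.H_act_of_fix (hy (U.dg a ha)) x
    rw [hs, U.H_smul_left] at h1
    have : s = 1 := mul_right_cancel₀ hne (by rw [h1, one_mul])
    rw [this, one_smul] at hs
    obtain ⟨t, ht⟩ := key (β (U.emb f12 (U.dg a ha))) y y1 (fun e => d1 (i2 (e.trans (by simp))))
      (by rw [← map_pow, ← map_pow, dg_pow, map_one, map_one]) (hy (U.dg a ha)) x hs
    have k : ∀ ρ : SU 2 F q →* SU 3 F q, Function.Injective ρ → (∀ b, suAct (ρ b) x = x) →
        ρ.range = ((cj (MonoidHom.id _) g1).comp (U.emb f01)).range := fun ρ i hρ => by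
      refine range_eq_of_le i ?_
      rintro _ ⟨b, rfl⟩
      obtain ⟨B, hB⟩ := U.exists_emb f01 (A := g1⁻¹ * ρ b * g1) fun a ha => by
        rw [show a = 2 from range_f01'.le ha, suAct_mul, suAct_mul, hg1, hρ, suAct_inv_eq hg1]
      exact ⟨B, by rw [MonoidHom.comp_apply, hB, cj_conj]; rfl⟩
    obtain ⟨b, hb⟩ := ((k (β.comp (U.emb f12)) i2 fun b => by
      rw [ht, map_smul]; exact congrArg _ (hy b)).trans (k (β.comp (U.emb f01)) i1 hx).symm).le
      ⟨U.wg, rfl⟩
    have e := U.emb_fix f01 b (a := 2) (by decide)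
    rw [hβ hb] at e
    have := congrFun e 2
    rw [suAct_ev, suMat_emb, blk_f12, suMat_wg] at this
    simp [ev] at this
  obtain ⟨g2, hg2, hg2'⟩ := U.exists_fix_map (I := {2}) (j := 0) (j' := 1) (by decide) (by decide)
    (by decide) (y := suAct g1⁻¹ y) (fun a ha => by
      rw [Set.mem_singleton_iff.mp ha, ← U.H_ev_right (suAct g1⁻¹ y), U.H_act_left, inv_inv, hg1,
        U.H_eq_zero_comm hxy]) (by rw [U.H_act, y1])
  have gx : suAct (g1 * g2) (ev F 2) = x := by rw [suAct_mul, hg2 2 rfl, hg1]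
  have gy : suAct (g1 * g2) (ev F 0) = y := by rw [suAct_mul, hg2', suAct_act_inv]
  refine ⟨g1 * g2, fun b => ⟨fun a ha => ?_, fun a ha => ?_⟩⟩
  · rw [Set.mem_singleton_iff.mp ha, suAct_mul, suAct_mul, gx, hx, suAct_inv_eq gx]
  · rw [Set.mem_singleton_iff.mp ha, suAct_mul, suAct_mul, gy, hy, suAct_inv_eq gy]

section Two

variable (hq : q = 2)

include hq U

theorem scal_four_two {A : SU 4 F q} (h : IsScal A) : A = 1 := by
  obtain ⟨l, hl⟩ := h
  have d := det_suMat A
  rw [show suMat A = l • 1 by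
    ext i j
    rw [← suAct_ev, hl]
    simp [ev, Pi.single_apply, one_apply], det_smul, det_one, Fintype.card_fin] at d
  have l0 : l ≠ 0 := by rintro rfl; simp at d
  have n := U.norm_two hq l0
  rw [U.pow] at n
  simp only [hq] at n
  refine su_ext fun a => ?_
  rw [hl, show l = 1 by linear_combination d - l * n, one_smul, suAct_one]

theorem cube_eig {A : SU N F q} (hA : A ^ 3 = 1) {I : Set (Fin N)}
    (hI : ∀ v ∈ uPerp F I, suAct A v ∈ uPerp F I) {j : Fin N} (hj : j ∉ I) :
    ∃ f ∈ uPerp F I, U.H f f = 1 ∧ ∃ l : F, suAct A f = l • f := by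
  obtain ⟨ω, h⟩ := U.exists_om hq
  suffices ∃ y ∈ uPerp F I, U.H y y ≠ 0 ∧ ∃ l : F, suAct A y = l • y by
    obtain ⟨y, h1, h2, l, h3⟩ := this
    obtain ⟨s, w, -, n, e, -⟩ := U.exists_scale h2
    exact ⟨w, e ▸ Submodule.smul_mem _ _ h1, n, l, by rw [e, map_smul, h3, smul_comm]⟩
  have he := h.eq
  have h2 := h.two
  have hσ := h.σ
  have m0 : ev F j ∈ uPerp F I := ev_mem_uPerp hj
  have n := U.H_ev_self (F := F) j
  generalize ev F j = v at m0 n
  have m1 := hI _ m0
  have m2 := hI _ m1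
  have e3 : suAct A (suAct A (suAct A v)) = v := by
    rw [← suAct_mul, ← suAct_mul, show A * A * A = A ^ 3 by simp [pow_succ], hA, suAct_one]
  have eig : ∀ l : F, l ^ 3 = 1 → suAct A (v + l ^ 2 • suAct A v + l • suAct A (suAct A v)) =
      l • (v + l ^ 2 • suAct A v + l • suAct A (suAct A v)) := fun l hl => by
    rw [map_add, map_add, map_smul, map_smul, e3]
    linear_combination (norm := module) (1 - l ^ 3) • suAct A v - (1 - l ^ 3) • suAct A v +
      (congrArg (· • suAct A v) hl).symm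
  have mem : ∀ l : F, v + l ^ 2 • suAct A v + l • suAct A (suAct A v) ∈ uPerp F I := fun l =>
    add_mem (add_mem m0 (Submodule.smul_mem _ _ m1)) (Submodule.smul_mem _ _ m2)
  have orth : ∀ {u w : Fin N → F} {l l' : F}, suAct A u = l • u → suAct A w = l' • w →
      l * U.σ l' ≠ 1 → U.H u w = 0 := fun {u w l l'} hu hw hne => by
    have := U.H_act A u w
    rw [hu, hw, U.H_smul_left, U.H_smul_right] at this
    apply mul_left_cancel₀ (sub_ne_zero.mpr hne)
    linear_combination this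
  have c1 : ω ^ 3 = 1 := by grind
  have c2 : (ω ^ 2) ^ 3 = 1 := by grind
  have e0 := eig 1 (by simp)
  have e1 := eig ω c1
  have e2 := eig (ω ^ 2) c2
  have sum : v = (v + (1 : F) ^ 2 • suAct A v + (1 : F) • suAct A (suAct A v)) +
      (v + ω ^ 2 • suAct A v + ω • suAct A (suAct A v)) +
      (v + (ω ^ 2) ^ 2 • suAct A v + (ω ^ 2) • suAct A (suAct A v)) := by
    ext i
    simp only [Pi.add_apply, Pi.smul_apply, smul_eq_mul]
    grind
  have q0 := mem 1
  have q1 := mem ω
  have q2 := mem (ω ^ 2)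
  generalize v + (1 : F) ^ 2 • suAct A v + (1 : F) • suAct A (suAct A v) = v0 at *
  generalize v + ω ^ 2 • suAct A v + ω • suAct A (suAct A v) = v1 at *
  generalize v + (ω ^ 2) ^ 2 • suAct A v + (ω ^ 2) • suAct A (suAct A v) = v2 at *
  have w1 := h.ne_one
  have o01 := orth e0 e1 (by rw [hσ]; grind)
  have o02 := orth e0 e2 (by rw [map_pow, hσ]; grind)
  have o12 := orth e1 e2 (by rw [map_pow, hσ]; grind)
  by_contra hc
  push Not at hc
  have z0 : U.H v0 v0 = 0 := by by_contra e; exact hc v0 q0 e _ e0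
  have z1 : U.H v1 v1 = 0 := by by_contra e; exact hc v1 q1 e _ e1
  have z2 : U.H v2 v2 = 0 := by by_contra e; exact hc v2 q2 e _ e2
  rw [sum] at n
  simp only [U.H_add_left, U.H_add_right, z0, z1, z2, o01, o02, o12, U.H_eq_zero_comm o01,
    U.H_eq_zero_comm o02, U.H_eq_zero_comm o12] at n
  simp at n

theorem cube_diag {A : SU N F q} (hA : A ^ 3 = 1) :
    ∃ (h : SU N F q) (d : Fin N → F), suMat (h⁻¹ * A * h) = diagonal d := by
  suffices ∀ k ≤ N, ∃ h : SU N F q, ∀ a : Fin N, a.val < k →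
      ∃ l : F, suAct (h⁻¹ * A * h) (ev F a) = l • ev F a by
    obtain ⟨h, hh⟩ := this N le_rfl
    choose d hd using fun a => hh a a.2
    refine ⟨h, d, ?_⟩
    ext i j
    rw [← suAct_ev, hd]
    by_cases e : i = j <;> simp [ev, Pi.single_apply, e]
  intro k
  induction k with
  | zero => exact fun _ => ⟨1, fun a ha => absurd ha (by simp)⟩
  | succ k ih =>
    intro hk
    obtain ⟨h, hh⟩ := ih (by omega)
    obtain ⟨f, hf, n, l, e⟩ := U.cube_eig hq (A := h⁻¹ * A * h) (by rw [conj_pow_inv, hA]; simp)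
      (I := {a | a.val < k}) (fun v hv a ha => by
        obtain ⟨l, hl⟩ := hh a ha
        have n := U.H_act (h⁻¹ * A * h) (ev F a) (ev F a)
        have e := U.H_act (h⁻¹ * A * h) v (ev F a)
        rw [hl, U.H_smul_left, U.H_smul_right, U.H_ev_self] at n
        rw [hl, U.H_smul_right, U.H_ev_right, U.H_ev_right, hv a ha] at e
        linear_combination l * e - suAct (h⁻¹ * A * h) v a * n) (j := ⟨k, hk⟩) (by simp)
    obtain ⟨B, hB, s, -, e'⟩ := U.exists_fix_map_scale (j := ⟨k, hk⟩) (by simp) hf n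
    refine ⟨h * B, fun a ha => ?_⟩
    rw [show (h * B)⁻¹ * A * (h * B) = B⁻¹ * (h⁻¹ * A * h) * B by group, suAct_mul, suAct_mul]
    by_cases hak : a.val < k
    · obtain ⟨l, hl⟩ := hh a hak
      exact ⟨l, by rw [hB a hak, hl, map_smul, suAct_inv_eq (hB a hak)]⟩
    · rw [show a = ⟨k, hk⟩ from Fin.ext (by simp only; omega)]
      exact ⟨l, by rw [e', map_smul, e, smul_comm, map_smul, suAct_inv_eq e']⟩

theorem scal_three_two {l : F} (hl : l * U.σ l = 1) (hl' : U.σ l * U.σ (U.σ l) = 1) :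
    suMat (U.emb f01 (U.dg l hl) * U.emb f12 (U.dg _ hl')) = l • 1 := by
  have h2 : U.σ l = l ^ 2 := by rw [U.pow, hq]
  rw [map_mul, suMat_dg01, suMat_dg12]
  ext i j
  fin_cases i <;> fin_cases j <;> simp [mul_apply, Fin.sum_univ_three]
  rw [h2] at hl ⊢
  linear_combination l * hl

theorem exists_fixed4 (ψ : SU 3 F q →* SU 4 F q) (hψ : Function.Injective ψ) :
    ∃ u, U.H u u = 1 ∧ ∀ A, suAct (ψ A) u = u := by
  classical
  obtain ⟨ω, h⟩ := U.exists_om hq
  have he := h.eq
  have c1 : ω ^ 3 = 1 := by grind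
  obtain ⟨c, hc⟩ : ∃ c : SU 3 F q, suMat c = ω • 1 := ⟨_, U.scal_three_two hq h.norm h.norm'⟩
  have cc : ∀ A, A * c = c * A := fun A => suMat_injective (by simp [hc])
  have c3 : c ^ 3 = 1 := suMat_injective (by rw [map_pow, hc, smul_pow, c1]; simp)
  have cne : c ≠ 1 := fun e => h.ne_one (by
    have := congrFun (congrFun hc 0) 0
    simpa [e] using this.symm)
  obtain ⟨g, d, hd⟩ := U.cube_diag hq (A := ψ c) (by rw [← map_pow, c3, map_one])
  let ρ : SU 3 F q →* Matrix (Fin 4) (Fin 4) F := suMat.comp ((MulAut.conj g⁻¹).toMonoidHom.comp ψ)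
  have hρ : ∀ A, ρ A = suMat (g⁻¹ * ψ A * g) := fun A => by simp [ρ]
  have cm : ∀ A i j, d i ≠ d j → ρ A i j = 0 := fun A i j hij => by
    have := congrFun (congrFun (congrArg ρ (cc A)) i) j
    rw [map_mul, map_mul, hρ c, hd, mul_diagonal, diagonal_mul] at this
    apply mul_left_cancel₀ (sub_ne_zero.mpr hij)
    linear_combination -this
  have chi : ∀ l : F, l ^ (Finset.univ.filter fun i => d i = l).card = 1 := fun l => by
    set π : Matrix (Fin 4) (Fin 4) F := diagonal fun i => if d i = l then 1 else 0 with hπ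
    have p1 : π * π = π := by
      rw [hπ, diagonal_mul_diagonal]; congr 1; ext i; split_ifs <;> simp
    have p2 : ∀ A, ρ A * π = π * ρ A := fun A => by
      ext i j
      rw [hπ, mul_diagonal, diagonal_mul]
      by_cases e : d i = d j
      · rw [e, mul_comm]
      · rw [cm A i j e]; simp
    let χ : SU 3 F q →* F :=
      { toFun := fun A => (π * ρ A + (1 - π)).det
        map_one' := by simp
        map_mul' := fun A B => by
          rw [← det_mul, map_mul]
          congr 1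
          have e1 : π * ρ A * π = π * ρ A := by rw [Matrix.mul_assoc, p2, ← Matrix.mul_assoc, p1]
          simp only [add_mul, mul_add, sub_mul, mul_sub, one_mul, mul_one, ← Matrix.mul_assoc, e1, p1]
          abel }
    have := U.hom_trivial_two hq χ c
    change (π * ρ c + (1 - π)).det = 1 at this
    rw [hρ, hd, hπ, diagonal_mul_diagonal, ← diagonal_one, diagonal_sub, diagonal_add, det_diagonal] at this
    rw [← this, ← Finset.prod_const, Finset.prod_filter]
    refine Finset.prod_congr rfl fun i _ => ?_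
    split_ifs with e <;> simp [e]
  have ho : orderOf ω = 3 := orderOf_eq_prime (hp := Fact.mk Nat.prime_three) c1 h.ne_one
  have d3 : ∀ i, ∃ k : Fin 3, d i = ω ^ k.val := fun i => by
    have := congrFun (congrFun (congrArg ρ c3) i) i
    rw [map_pow, hρ, hd, diagonal_pow, map_one] at this
    simp at this
    have e : (d i - 1) * ((d i - ω) * (d i - ω ^ 2)) = 0 := by
      have := h.two
      grind
    simp only [mul_eq_zero, sub_eq_zero] at e
    rcases e with e | e | e
    exacts [⟨0, by simpa using e⟩, ⟨1, by simpa using e⟩, ⟨2, e⟩]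
  choose k hk using d3
  have inj : ∀ i (a : Fin 3), d i = ω ^ a.val ↔ k i = a := fun i a => by
    rw [hk]
    exact ⟨fun e => Fin.ext (pow_injOn_Iio_orderOf (by simp [ho]) (by simp [ho]) e), fun e => by rw [e]⟩
  obtain ⟨j, -, hj⟩ : ∃ j, k j = 0 ∧ ∀ i, i ≠ j → d i ≠ d j := by
    obtain ⟨j, h1, h2⟩ := comb_four k (by
      have := chi (ω ^ (1 : Fin 3).val)
      simp only [inj] at this
      refine ho.symm.dvd.trans (orderOf_dvd_iff_pow_eq_one.mpr ?_)
      simpa using this) (by
      have := chi (ω ^ (2 : Fin 3).val)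
      simp only [inj] at this
      refine ho.symm.dvd.trans (orderOf_dvd_iff_pow_eq_one.mpr ?_)
      rw [pow_mul]
      exact this) (by
      by_contra hcon
      push Not at hcon
      apply cne (hψ _)
      have : g⁻¹ * ψ c * g = 1 := suMat_injective (by
        rw [hd, map_one, ← diagonal_one]; congr 1; ext i; simp [hk, hcon])
      simpa [mul_assoc] using congrArg (fun x => g * x * g⁻¹) this)
    exact ⟨j, h1, fun i hi e => h2 i hi (by rw [← inj, e, hk, h1])⟩
  let χ : SU 3 F q →* F :=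
    { toFun := fun A => ρ A j j
      map_one' := by simp
      map_mul' := fun A B => by
        rw [map_mul, mul_apply, Finset.sum_eq_single j (fun i _ hi => by rw [cm B i j (hj i hi), mul_zero])
          (by simp)] }
  refine ⟨suAct g (ev F j), by rw [U.H_act, U.H_ev_self], fun A => ?_⟩
  have : suAct (g⁻¹ * ψ A * g) (ev F j) = ev F j := by
    ext i
    rw [suAct_ev, ← hρ]
    by_cases e : i = j
    · rw [e, show ρ A j j = 1 from U.hom_trivial_two hq χ A]; simp [ev]
    · rw [cm A i j (hj i e)]; simp [ev, e]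
  rw [suAct_mul, suAct_mul] at this
  simpa using (suAct_inv_eq this).symm

theorem std2 {g : SU 4 F q →* G} {φ φ' : SU 3 F q →* G} (k : KerScal φ) (k' : KerScal φ')
    (hU : (φ.comp (U.emb f12)).range = (φ'.comp (U.emb f01)).range)
    (hc : ∀ b c, φ (U.emb f01 b) * φ' (U.emb f12 c) = φ' (U.emb f12 c) * φ (U.emb f01 b))
    (hg : g.range = φ.range ⊔ φ'.range) : ∃ g', U.UTriple g' φ φ' := by
  have l : φ.range ≤ g.range := hg ▸ le_sup_left
  have l' : φ'.range ≤ g.range := hg ▸ le_sup_right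
  have kg := U.kerScal_four (Or.inl hq) k l
  have ik : ∀ {g : SU 4 F q →* G}, KerScal g → Function.Injective g := fun kg =>
    (injective_iff_map_eq_one _).mpr fun A hA => U.scal_four_two hq (kg A hA)
  have sc : ∀ {A : SU 3 F q}, IsScal A → ∃ l hl hl', A = U.emb f01 (U.dg l hl) * U.emb f12 (U.dg (U.σ l) hl') := by
    rintro A ⟨l, hl⟩
    have n := U.H_act A (ev F 0) (ev F 0)
    rw [hl, U.H_smul_left, U.H_smul_right, U.H_ev_self, mul_one] at n
    refine ⟨l, n, by rw [U.σσ, mul_comm, n], suMat_injective ?_⟩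
    rw [U.scal_three_two hq]
    ext i j
    rw [← suAct_ev, hl]
    simp [ev, Pi.single_apply, one_apply]
  have iφ : Function.Injective φ := (injective_iff_map_eq_one _).mpr fun A hA => by
    obtain ⟨l, hl, hl', rfl⟩ := sc (k A hA)
    obtain ⟨b, hb⟩ := hU.le ⟨(U.dg _ hl')⁻¹, rfl⟩
    rw [map_mul, mul_eq_one_iff_eq_inv] at hA
    simp only [MonoidHom.comp_apply, map_inv, ← hA] at hb
    have := U.blk_comm k' (b := b) fun c => by rw [hb, hc]
    rw [this, map_one, map_one] at hb
    have e := U.inj_emb k f01 (a := 2) (by decide) (hb.symm.trans (map_one _).symm)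
    have e' := U.inj_emb k f12 (a := 0) (by decide) (a₁ := U.dg _ hl') (a₂ := 1) (by
      rw [map_one, MonoidHom.comp_apply, ← inv_eq_one, ← hA, hb])
    rw [e, e']; simp
  have iφ' : Function.Injective φ' := (injective_iff_map_eq_one _).mpr fun A hA => by
    obtain ⟨l, hl, hl', rfl⟩ := sc (k' A hA)
    obtain ⟨b, hb⟩ := hU.ge ⟨(U.dg _ hl)⁻¹, rfl⟩
    rw [map_mul, mul_eq_one_iff_inv_eq] at hA
    simp only [MonoidHom.comp_apply, map_inv, hA] at hb
    have := U.blk_comm' k (b := b) fun c => by rw [hb, hc]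
    rw [this, map_one, map_one] at hb
    have e := U.inj_emb k' f12 (a := 0) (by decide) (hb.symm.trans (map_one _).symm)
    have e' := U.inj_emb k' f01 (a := 2) (by decide) (a₁ := U.dg _ hl) (a₂ := 1) (by
      rw [map_one, MonoidHom.comp_apply, ← inv_eq_one, hA, hb])
    rw [e, e']; simp
  obtain ⟨h, hh⟩ : ∃ h, (∀ A, ∃ B, cj g h (U.emb i012 B) = φ A) ∧
      (∀ A, ∃ B, cj g h (U.emb j01 B) = φ (U.emb f01 A)) ∧
      ∀ A, ∃ B, cj g h (U.emb j12 B) = φ (U.emb f12 A) := by
    obtain ⟨ψ, hψ⟩ := exists_lift_inj (ik kg) φ fun A => l ⟨A, rfl⟩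
    have iψ : Function.Injective ψ := fun A B e => iφ (by rw [← hψ, ← hψ, e])
    obtain ⟨u, n, hu⟩ := U.exists_fixed4 hq ψ iψ
    obtain ⟨h1, -, e1⟩ := U.exists_fix_map (I := ∅) (j := 3) (j' := 0) (by simp) (by simp) (by decide)
      (y := u) (fun a ha => absurd ha (by simp)) n
    obtain ⟨β, hβ⟩ := exists_lift_inj (U.emb_injective i012) ((MulAut.conj h1⁻¹).toMonoidHom.comp ψ)
      fun A => U.exists_emb i012 fun a ha => by
        rw [show a = 3 from range_i012.le ha]
        change suAct (h1⁻¹ * ψ A * h1⁻¹⁻¹) _ = _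
        rw [inv_inv, suAct_mul, suAct_mul, e1, hu, suAct_inv_eq e1]
    obtain ⟨h2, hh⟩ := U.pair3 β fun A B e => iψ ((MulAut.conj h1⁻¹).injective
      ((hβ A).symm.trans ((congrArg _ e).trans (hβ B))))
    have key : ∀ A, cj g (h1 * U.emb i012 h2) (U.emb i012 (h2⁻¹ * β A * h2)) = φ A := fun A => by
      rw [cj_apply, map_mul (U.emb i012), map_mul (U.emb i012), map_inv (U.emb i012), hβ, ← hψ]
      congr 1
      simp [mul_assoc]
    refine ⟨h1 * U.emb i012 h2, fun A => ⟨_, key A⟩, fun A => ?_, fun A => ?_⟩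
    · obtain ⟨B, hB⟩ := U.exists_emb f01 (A := h2⁻¹ * β (U.emb f01 A) * h2) fun a ha =>
        (hh A).1 a (range_f01'.le ha)
      exact ⟨B, by rw [j01, emb_trans, hB, key]⟩
    · obtain ⟨B, hB⟩ := U.exists_emb f12 (A := h2⁻¹ * β (U.emb f12 A) * h2) fun a ha =>
        (hh A).2 a (range_f12'.le ha)
      exact ⟨B, by rw [j12, emb_trans, hB, key]⟩
  rw [← range_cj g h] at hg l'
  have kg' := kg.cj h
  generalize cj g h = g' at *
  have ig := ik kg'
  have v0 : φ.range = (g'.comp (U.emb i012)).range := range_eq_of_le iφ (by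
    rintro _ ⟨A, rfl⟩; exact hh.1 A)
  have u0 : (φ.comp (U.emb f01)).range = (g'.comp (U.emb j01)).range :=
    range_eq_of_le (iφ.comp (U.emb_injective _)) (by rintro _ ⟨A, rfl⟩; exact hh.2.1 A)
  have u1 : (φ.comp (U.emb f12)).range = (g'.comp (U.emb j12)).range :=
    range_eq_of_le (iφ.comp (U.emb_injective _)) (by rintro _ ⟨A, rfl⟩; exact hh.2.2 A)
  obtain ⟨ψ, hψ⟩ := exists_lift_inj ig φ' fun A => l' ⟨A, rfl⟩
  obtain ⟨u, n, hu⟩ := U.exists_fixed4 hq ψ fun A B e => iφ' (by rw [← hψ, ← hψ, e])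
  have fx : ∀ (j : Fin 4), u j ≠ 0 → (∀ i, i ≠ j → u i = 0) → ∀ A, suAct (ψ A) (ev F j) = ev F j := by
    intro j h0 h1 A
    have e : u = u j • ev F j := by
      ext i
      by_cases hi : i = j <;> simp [ev, Pi.single_apply, hi, h1]
    have := hu A
    rw [e, map_smul] at this
    exact smul_right_injective _ h0 this
  obtain ⟨ω, ho⟩ := U.exists_om hq
  obtain ⟨z1, z2⟩ : u 1 = 0 ∧ u 2 = 0 := by
    obtain ⟨c, e⟩ := (u1.symm.trans hU).le ⟨U.dg ω ho.norm, rfl⟩
    have := hu (U.emb f01 c)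
    rw [ig ((hψ _).trans e), suAct_def, suMat_emb, suMat_dg] at this
    have h0 : j12 0 = 1 := rfl
    have h1 : j12 1 = 2 := rfl
    have e1 := congrFun this 1
    have e2 := congrFun this 2
    simp [blk, embMat, h0, h1, mul_apply, Fin.sum_univ_two, mulVec, dotProduct, Fin.sum_univ_four,
      one_apply] at e1 e2
    have n2 : U.σ ω - 1 ≠ 0 := fun e => ho.ne_one (by simpa [sub_eq_zero.mp e] using ho.norm)
    exact ⟨mul_left_cancel₀ (sub_ne_zero.mpr ho.ne_one) (by linear_combination e1),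
      mul_left_cancel₀ n2 (by linear_combination e2)⟩
  rw [H_def, Fin.sum_univ_four, z1, z2] at n
  have z0 : u 0 ≠ 0 := fun z0 => by
    have := fx 3 (fun z3 => by simp [z0, z3] at n) (fun i hi => by fin_cases i <;> simp_all)
    have hle : g'.range ≤ (suFix F q {3}).map g' := by
      rw [hg, v0, MonoidHom.range_comp, range_emb, range_i012]
      refine sup_le le_rfl ?_
      rintro _ ⟨A, rfl⟩
      exact ⟨ψ A, fun a ha => by rw [Set.mem_singleton_iff.mp ha, this], hψ A⟩
    obtain ⟨B, hB, e⟩ := hle ⟨U.emb j23 U.wg, rfl⟩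
    have e3 := congrFun (hB 3 rfl) 3
    rw [ig e, suAct_ev, suMat_emb, show (3 : Fin 4) = j23 1 from rfl, blk_apply, suMat_wg] at e3
    simp [ev] at e3
  have z3 : u 3 = 0 := by
    by_contra z3
    rw [U.norm_two hq z0, U.norm_two hq z3] at n
    simp at n
  have f0 := fx 0 z0 fun i hi => by fin_cases i <;> simp_all
  refine ⟨g', kg', v0.symm, (range_eq_of_le iφ' ?_).symm, u0.symm, u1.symm,
    (range_eq_of_le (ρ := φ'.comp _) (iφ'.comp (U.emb_injective _)) ?_).symm⟩
  · rintro _ ⟨A, rfl⟩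
    obtain ⟨B, hB⟩ := U.exists_emb i123 (A := ψ A) fun a ha => by
      rw [show a = 0 from range_i123.le ha, f0]
    exact ⟨B, by rw [MonoidHom.comp_apply, hB, hψ]⟩
  · rintro _ ⟨c, rfl⟩
    obtain ⟨b, hb⟩ := u0.ge ⟨U.wg, rfl⟩
    have cm : U.emb j01 U.wg * ψ (U.emb f12 c) = ψ (U.emb f12 c) * U.emb j01 U.wg := ig (by
      rw [map_mul, map_mul, hψ, ← MonoidHom.comp_apply, ← hb]; exact hc _ _)
    have w0 : suAct (U.emb j01 U.wg) (ev F 0) = -ev F 1 := by
      ext i
      have h0 : j01 0 = 0 := rfl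
      have h1 : j01 1 = 1 := rfl
      rw [suAct_ev, suMat_emb, suMat_wg]
      fin_cases i <;> simp [blk, embMat, h0, h1, mul_apply, Fin.sum_univ_two, ev]
    obtain ⟨B, hB⟩ := U.exists_j23 (A := ψ (U.emb f12 c)) (by
      rintro a (rfl | rfl)
      · exact f0 _
      · have := congrArg (fun A => suAct A (ev F 0)) cm
        simp only [suAct_mul, f0, w0, map_neg] at this
        exact (neg_injective this).symm)
    exact ⟨B, by rw [MonoidHom.comp_apply, hB, hψ]; rfl⟩

end Two

end UField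

end Cfsg.Agent.H1
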