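import Cfsg.Agent.H1.UStd

/-!
Standard triples in quotients of `SU₄(9)`.
-/

set_option autoImplicit false
set_option linter.unusedSectionVars false
set_option linter.unusedSimpArgs false

namespace Cfsg.Agent.H1

open Matrix
open scoped MatrixGroups

variable {F : Type*} [Field F] [Fintype F] {q : ℕ} {G : Type*} [Group G] {N m : ℕ}

theorem braid_cube {H : Type*} [Group H] {X Y : H} (hX : X ^ 3 = 1) (hY : Y ^ 3 = 1)
    (h : X * Y * X = Y * X * Y) : (X * Y) ^ 3 * (X * Y) ^ 3 = 1 := by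
  have e1 : (X * Y) ^ 3 = X * X * Y * (X * X * Y) :=
    calc (X * Y) ^ 3 = X * (Y * X * Y) * X * Y := by simp only [pow_succ, pow_zero, one_mul, mul_assoc]
      _ = _ := by rw [← h]; simp only [mul_assoc]
  have e2 : (X * Y) ^ 3 = Y * Y * X * (Y * Y * X) :=
    calc (X * Y) ^ 3 = (X * Y * X) * (Y * X * Y) := by simp only [pow_succ, pow_zero, one_mul, mul_assoc]
      _ = Y * (X * Y * X) * Y * X := by rw [← h]; nth_rewrite 1 [h]; simp only [mul_assoc]
      _ = _ := by rw [h]; simp only [mul_assoc]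
  calc (X * Y) ^ 3 * (X * Y) ^ 3 = X * X * Y * (X * X * Y) * (Y * Y * X * (Y * Y * X)) := by
        rw [← e1, ← e2]
    _ = X * X * Y * (X * X * Y ^ 3 * X) * Y * Y * X := by
        simp only [pow_succ, pow_zero, one_mul, mul_assoc]
    _ = X * X * (Y * X ^ 3 * Y * Y) * X := by
        rw [hY]; simp only [pow_succ, pow_zero, one_mul, mul_one, mul_assoc]
    _ = X * X * Y ^ 3 * X := by rw [hX]; simp only [pow_succ, pow_zero, one_mul, mul_one, mul_assoc]
    _ = X ^ 3 := by rw [hY]; simp only [pow_succ, pow_zero, one_mul, mul_one, mul_assoc]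
    _ = 1 := hX

theorem conj_pow_inv {H : Type*} [Group H] (h X : H) (n : ℕ) : (h⁻¹ * X * h) ^ n = h⁻¹ * X ^ n * h := by
  simpa using conj_pow (a := h⁻¹) (b := X) (i := n)

namespace UField

variable (U : UField F q)

/-- The coordinates `0, 1`. -/
def j01 : Fin 2 ↪ Fin 4 := f01.trans i012

/-- The coordinates `1, 2`. -/
def j12 : Fin 2 ↪ Fin 4 := f12.trans i012

/-- The coordinates `2, 3`. -/
def j23 : Fin 2 ↪ Fin 4 := f12.trans i123

theorem j12_eq : f01.trans i123 = j12 := by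
  ext a; fin_cases a <;> rfl

theorem range_j01 : (Set.range j01)ᶜ = {2, 3} := by
  ext i; fin_cases i <;> simp [Fin.exists_fin_two] <;> decide

theorem range_j12 : (Set.range j12)ᶜ = {0, 3} := by
  ext i; fin_cases i <;> simp [Fin.exists_fin_two] <;> decide

theorem range_j23 : (Set.range j23)ᶜ = {0, 1} := by
  ext i; fin_cases i <;> simp [Fin.exists_fin_two] <;> decide

theorem emb_j01_mem (B : SU 2 F q) : U.emb j01 B ∈ suFix F q {2, 3} := by
  rw [← range_j01, ← U.range_emb]; exact ⟨B, rfl⟩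

theorem emb_j23_mem (B : SU 2 F q) : U.emb j23 B ∈ suFix F q {0, 1} := by
  rw [← range_j23, ← U.range_emb]; exact ⟨B, rfl⟩

theorem exists_j01 {A : SU 4 F q} (h : A ∈ suFix F q {2, 3}) : ∃ B, U.emb j01 B = A := by
  rwa [← range_j01, ← U.range_emb] at h

theorem exists_j12 {A : SU 4 F q} (h : A ∈ suFix F q {0, 3}) : ∃ B, U.emb j12 B = A := by
  rwa [← range_j12, ← U.range_emb] at h

theorem exists_j23 {A : SU 4 F q} (h : A ∈ suFix F q {0, 1}) : ∃ B, U.emb j23 B = A := by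
  rwa [← range_j23, ← U.range_emb] at h

include U in
theorem comm_01_23 {A B : SU 4 F q} (hA : A ∈ suFix F q {2, 3}) (hB : B ∈ suFix F q {0, 1}) :
    A * B = B * A :=
  U.suFix_commute (fun c => by fin_cases c <;> simp) hA hB

/-- The involution `diag (-1, -1, 1, 1)`. -/
def z0 : SU 4 F q := U.emb j01 (U.dg (-1) U.neg_one_norm)

/-- The involution `diag (1, 1, -1, -1)`. -/
def z2 : SU 4 F q := U.emb j23 (U.dg (-1) U.neg_one_norm)

theorem suMat_z0 : suMat U.z0 = diagonal ![-1, -1, 1, 1] := by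
  rw [z0, suMat_emb, suMat_dg]
  ext i j
  have h0 : j01 0 = 0 := rfl
  have h1 : j01 1 = 1 := rfl
  fin_cases i <;> fin_cases j <;> simp [blk, embMat, h0, h1, mul_apply, Fin.sum_univ_two]

theorem suMat_z2 : suMat U.z2 = diagonal ![1, 1, -1, -1] := by
  rw [z2, suMat_emb, suMat_dg]
  ext i j
  have h0 : j23 0 = 2 := rfl
  have h1 : j23 1 = 3 := rfl
  fin_cases i <;> fin_cases j <;> simp [blk, embMat, h0, h1, mul_apply, Fin.sum_univ_two]

theorem blk_zero (h2 : (2 : F) ≠ 0) {A : SU 4 F q} (h : A ∈ Subgroup.centralizer {U.z0}) :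
    (suMat A 0 2 = 0 ∧ suMat A 0 3 = 0 ∧ suMat A 1 2 = 0 ∧ suMat A 1 3 = 0) ∧
      suMat A 2 0 = 0 ∧ suMat A 3 0 = 0 ∧ suMat A 2 1 = 0 ∧ suMat A 3 1 = 0 := by
  have e := congrArg suMat (Subgroup.mem_centralizer_singleton_iff.mp h)
  rw [map_mul, map_mul, suMat_z0] at e
  have k : ∀ i j, suMat A i j * ![-1, -1, 1, 1] j = ![-1, -1, 1, 1] i * suMat A i j := fun i j => by
    simpa only [mul_diagonal, diagonal_mul] using congrFun (congrFun e i) j
  have k1 : ∀ x : F, x * 1 = -1 * x → x = 0 := fun x hx =>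
    mul_left_cancel₀ h2 (by linear_combination hx)
  have k2 : ∀ x : F, x * -1 = 1 * x → x = 0 := fun x hx =>
    mul_left_cancel₀ h2 (by linear_combination -hx)
  exact ⟨⟨k1 _ (k 0 2), k1 _ (k 0 3), k1 _ (k 1 2), k1 _ (k 1 3)⟩, k2 _ (k 2 0), k2 _ (k 3 0),
    k2 _ (k 2 1), k2 _ (k 3 1)⟩

/-- The upper block. -/
def r0 (h2 : (2 : F) ≠ 0) : Subgroup.centralizer {U.z0} →* Matrix (Fin 2) (Fin 2) F where
  toFun A := !![suMat A.1 0 0, suMat A.1 0 1; suMat A.1 1 0, suMat A.1 1 1]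
  map_one' := by ext i j; fin_cases i <;> fin_cases j <;> simp
  map_mul' A B := by
    obtain ⟨⟨h02, h03, h12, h13⟩, -⟩ := U.blk_zero h2 A.2
    ext i j
    fin_cases i <;> fin_cases j <;>
      simp [mul_apply, Fin.sum_univ_two, Fin.sum_univ_four, h02, h03, h12, h13]

/-- The lower block. -/
def r1 (h2 : (2 : F) ≠ 0) : Subgroup.centralizer {U.z0} →* Matrix (Fin 2) (Fin 2) F where
  toFun A := !![suMat A.1 2 2, suMat A.1 2 3; suMat A.1 3 2, suMat A.1 3 3]
  map_one' := by ext i j; fin_cases i <;> fin_cases j <;> simp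
  map_mul' A B := by
    obtain ⟨-, h20, h30, h21, h31⟩ := U.blk_zero h2 A.2
    ext i j
    fin_cases i <;> fin_cases j <;>
      simp [mul_apply, Fin.sum_univ_two, Fin.sum_univ_four, h20, h30, h21, h31]

theorem fix_of_r0 (h2 : (2 : F) ≠ 0) {A : Subgroup.centralizer {U.z0}} (h : U.r0 h2 A = 1) :
    A.1 ∈ suFix F q {0, 1} := by
  obtain ⟨-, h20, h30, h21, h31⟩ := U.blk_zero h2 A.2
  have e00 : suMat A.1 0 0 = 1 := congrFun (congrFun h 0) 0
  have e01 : suMat A.1 0 1 = 0 := congrFun (congrFun h 0) 1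
  have e10 : suMat A.1 1 0 = 0 := congrFun (congrFun h 1) 0
  have e11 : suMat A.1 1 1 = 1 := congrFun (congrFun h 1) 1
  rintro a (rfl | rfl) <;> ext i <;> rw [suAct_ev] <;> fin_cases i <;> simp [ev, *]

theorem fix_of_r1 (h2 : (2 : F) ≠ 0) {A : Subgroup.centralizer {U.z0}} (h : U.r1 h2 A = 1) :
    A.1 ∈ suFix F q {2, 3} := by
  obtain ⟨⟨h02, h03, h12, h13⟩, -⟩ := U.blk_zero h2 A.2
  have e00 : suMat A.1 2 2 = 1 := congrFun (congrFun h 0) 0
  have e01 : suMat A.1 2 3 = 0 := congrFun (congrFun h 0) 1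
  have e10 : suMat A.1 3 2 = 0 := congrFun (congrFun h 1) 0
  have e11 : suMat A.1 3 3 = 1 := congrFun (congrFun h 1) 1
  rintro a (rfl | rfl) <;> ext i <;> rw [suAct_ev] <;> fin_cases i <;> simp [ev, *]

theorem exists_conj_z0 (h2 : (2 : F) ≠ 0) {z : SU 4 F q} (hz : z * z = 1) (hs : ¬IsScal z) :
    ∃ h, h⁻¹ * z * h = U.z0 := by
  obtain ⟨v, hv⟩ : ∃ v, suAct z v ≠ -v := by
    by_contra hc
    push Not at hc
    exact hs ⟨-1, fun v => by rw [hc, neg_one_smul]⟩
  obtain ⟨f, -, n, e⟩ := U.invol_fix h2 hz (I := ∅) (fun v _ a ha => absurd ha (by simp))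
    (fun a ha => absurd ha (by simp)) hv
  obtain ⟨h1, -, e1⟩ := U.exists_fix_map (I := ∅) (j := 3) (j' := 0) (by simp) (by simp) (by decide)
    (y := f) (fun a ha => absurd ha (by simp)) n
  have m1 : h1⁻¹ * z * h1 ∈ suFix F q {3} := fun a ha => by
    rw [Set.mem_singleton_iff.mp ha, suAct_mul, suAct_mul, e1, e, suAct_inv_eq e1]
  have hz1 : h1⁻¹ * z * h1 * (h1⁻¹ * z * h1) = 1 := by
    rw [show h1⁻¹ * z * h1 * (h1⁻¹ * z * h1) = h1⁻¹ * (z * z) * h1 by group, hz]; group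
  obtain ⟨v, hv, hv'⟩ : ∃ v ∈ uPerp F ({3} : Set (Fin 4)), suAct (h1⁻¹ * z * h1) v ≠ -v := by
    by_contra hc
    push Not at hc
    have := det_suMat (h1⁻¹ * z * h1)
    rw [show suMat (h1⁻¹ * z * h1) = diagonal ![-1, -1, -1, 1] by
      ext i j
      rw [← suAct_ev]
      by_cases hj : j = 3
      · rw [hj, m1 3 rfl]
        fin_cases i <;> simp [ev]
      · rw [hc _ (ev_mem_uPerp hj)]
        fin_cases i <;> fin_cases j <;> simp [ev] at hj ⊢] at this
    simp [Fin.prod_univ_four] at this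
    exact h2 (by linear_combination -this)
  obtain ⟨f', hf', n', e'⟩ := U.invol_fix h2 hz1 (fun v hv => U.act_mem_uPerp m1 hv) hv hv'
  obtain ⟨h2', m2, e2⟩ := U.exists_fix_map (I := {3}) (j := 2) (j' := 0) (by decide) (by decide)
    (by decide) hf' n'
  obtain ⟨b, hb⟩ := U.exists_j01 (A := (h1 * h2')⁻¹ * z * (h1 * h2')) (by
    rw [show (h1 * h2')⁻¹ * z * (h1 * h2') = h2'⁻¹ * (h1⁻¹ * z * h1) * h2' by group]
    rintro a (rfl | rfl)
    · rw [suAct_mul, suAct_mul, e2, e', suAct_inv_eq e2]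
    · exact mul_mem (mul_mem (inv_mem m2) m1) m2 _ rfl)
  refine ⟨h1 * h2', ?_⟩
  generalize h1 * h2' = h at hb
  rcases U.su2_invol h2 (b := b) (U.emb_injective j01 (by
    rw [map_mul, hb, map_one, show h⁻¹ * z * h * (h⁻¹ * z * h) = h⁻¹ * (z * z) * h by group, hz]
    group)) with e | e
  · rw [e, map_one] at hb
    have : z = 1 := by simpa [mul_assoc] using congrArg (fun x => h * x * h⁻¹) hb.symm
    exact absurd ⟨1, fun v => by simp [this]⟩ hs
  · rw [← hb, e]; rfl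

section Three

variable (hq : q = 3)

include hq

include U in
theorem two_ne_three : (2 : F) ≠ 0 := fun e =>
  one_ne_zero (by linear_combination U.three_eq_zero hq - e : (1 : F) = 0)

theorem exists_gens : ∃ a b : SU 2 F q, a ^ 3 = 1 ∧ b ^ 3 = 1 ∧ a * b * a = b * a * b ∧
    (a * b) ^ 3 = U.dg (-1) U.neg_one_norm ∧ ∀ S : Subgroup (SU 2 F q), a ∈ S → b ∈ S → S = ⊤ := by
  obtain ⟨Θ, P, hP, hΘ, hΘP⟩ := U.exists_theta
  have h3 := U.three_eq_zero hq
  have h3' : (3 : U.K) = 0 := Subtype.ext h3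
  haveI : CharP U.K 3 := (CharP.charP_iff_prime_eq_zero Nat.prime_three).mpr (by exact_mod_cast h3')
  have ad : ∀ s t : U.K, tU (s + t) = tU s * tU t := fun s t =>
    SpecialLinearGroup.transvection_add _ s t
  have ad' : ∀ s t : U.K, tL (s + t) = tL s * tL t := fun s t =>
    SpecialLinearGroup.transvection_add _ s t
  have cases : ∀ t : U.K, t = 1 + -1 ∧ t = -1 + 1 ∨ t = 1 ∧ t = -1 + -1 ∨ t = -1 ∧ t = 1 + 1 := fun t => by
    rcases U.fixed_three hq t.2 with e | e | e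
    · exact Or.inl (by simp [show t = 0 from Subtype.ext e])
    · have : t = 1 := Subtype.ext e
      exact Or.inr (Or.inl ⟨this, by linear_combination this + h3'⟩)
    · have : t = -1 := Subtype.ext e
      exact Or.inr (Or.inr ⟨this, by linear_combination this - h3'⟩)
  refine ⟨Θ (tU 1), Θ (tL (-1)), by rw [← map_pow, tU_pow_char, map_one],
    by rw [← map_pow, tL_pow_char, map_one], ?_, ?_, fun S ha hb => ?_⟩
  · simp only [← map_mul]
    congr 1
    apply Subtype.ext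
    simp only [Matrix.SpecialLinearGroup.coe_mul, tU_coe, tL_coe]
    ext i j
    fin_cases i <;> fin_cases j <;> simp [mul_apply, Fin.sum_univ_two]
  · rw [← map_mul, ← map_pow, show (tU (1 : U.K) * tL (-1)) ^ 3 = -1 by
      apply Subtype.ext
      simp only [pow_succ, pow_zero, one_mul, Matrix.SpecialLinearGroup.coe_mul, tU_coe, tL_coe]
      ext i j
      fin_cases i <;> fin_cases j <;> simp [mul_apply, Fin.sum_univ_two]]
    apply suMat_injective
    have hu : IsUnit P.det := isUnit_iff_ne_zero.mpr hP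
    have := congrArg (fun X => X * P⁻¹) (hΘP (-1))
    simp only [mul_nonsing_inv_cancel_right _ _ hu] at this
    rw [this, show ((-1 : SL(2, U.K)).1.map U.K.subtype) = -1 by
      ext i j; fin_cases i <;> fin_cases j <;> simp]
    rw [mul_neg, mul_one, neg_mul, mul_nonsing_inv _ hu, suMat_dg]
    ext i j; fin_cases i <;> fin_cases j <;> simp
  · have a2 : Θ (tU (-1)) ∈ S := by
      rw [show (-1 : U.K) = 1 + 1 by linear_combination -h3', ad, map_mul]; exact mul_mem ha ha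
    have b2 : Θ (tL 1) ∈ S := by
      rw [show (1 : U.K) = -1 + -1 by linear_combination h3', ad', map_mul]; exact mul_mem hb hb
    rw [eq_top_iff]
    intro B _
    obtain ⟨A, rfl⟩ := hΘ.2 B
    refine SL2.transvection_induction (fun A => Θ A ∈ S) ?_ (fun A B hA hB => ?_) A
    · intro i j hij t
      fin_cases i <;> fin_cases j
      · exact absurd rfl hij
      · change Θ (tU t) ∈ S
        rcases cases t with e | e | e
        · rw [e.1, ad, map_mul]; exact mul_mem ha a2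
        · rw [e.1]; exact ha
        · rw [e.1]; exact a2
      · change Θ (tL t) ∈ S
        rcases cases t with e | e | e
        · rw [e.1, ad', map_mul]; exact mul_mem b2 hb
        · rw [e.1]; exact b2
        · rw [e.1]; exact hb
      · exact absurd rfl hij
    · rw [map_mul]; exact mul_mem hA hB

variable {g : SU 4 F q →* G} (kg : KerScal g)

include kg U

theorem ker_four {z : SU 4 F q} (hz : g z = 1) : z ^ 4 = 1 := by
  obtain ⟨l, hl⟩ := kg z hz
  have n := U.H_act z (ev F 0) (ev F 0)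
  rw [hl, U.H_smul_left, U.H_smul_right, U.H_ev_self, U.pow_three hq] at n
  refine su_ext fun a => ?_
  simp only [pow_succ, pow_zero, one_mul, suAct_mul, hl, map_smul, smul_smul, suAct_one]
  rw [show l * (l * (l * l)) = 1 by linear_combination n, one_smul]

theorem exists_lift3 {x : G} (hx : x ∈ g.range) (h3 : x ^ 3 = 1) : ∃ s, g s = x ∧ s ^ 3 = 1 := by
  obtain ⟨s, rfl⟩ := hx
  refine ⟨s ^ 4, by rw [map_pow, pow_succ, h3, one_mul], ?_⟩
  rw [← pow_mul, mul_comm, pow_mul]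
  exact U.ker_four hq kg (by rw [map_pow, h3])

theorem uniq_lift3 {s s' : SU 4 F q} (h : g s = g s') (h1 : s ^ 3 = 1) (h2 : s' ^ 3 = 1) : s = s' := by
  have hz : g (s⁻¹ * s') = 1 := by simp [h]
  have c : Commute s (s⁻¹ * s') := (kg _ hz).comm s
  have e := c.mul_pow 3
  rw [mul_inv_cancel_left, h1, h2, one_mul] at e
  have e4 := U.ker_four hq kg hz
  rw [pow_succ, ← e, one_mul] at e4
  exact inv_mul_eq_one.mp e4

theorem comm_lift3 {s t : SU 4 F q} (h : g s * g t = g t * g s) (h1 : s ^ 3 = 1) : s * t = t * s := by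
  have := U.uniq_lift3 hq kg (s := s) (s' := t * s * t⁻¹) (by simp [← h]) h1 (by simp [conj_pow, h1])
  exact eq_mul_inv_iff_mul_eq.mp this

theorem stageA3 {ρ0 ρ2 : SU 2 F q →* G} (i0 : Function.Injective ρ0) (i2 : Function.Injective ρ2)
    (l0 : ρ0.range ≤ g.range) (l2 : ρ2.range ≤ g.range) (hc : ∀ b c, ρ0 b * ρ2 c = ρ2 c * ρ0 b)
    (hn : ∃ x ∈ g.range, x * ρ0 (U.dg (-1) U.neg_one_norm) ≠ ρ0 (U.dg (-1) U.neg_one_norm) * x) :
    ∃ h, ρ0.range = ((cj g h).comp (U.emb j01)).range ∧ ρ2.range = ((cj g h).comp (U.emb j23)).range ∧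
      cj g h U.z0 = ρ0 (U.dg (-1) U.neg_one_norm) := by
  have h2 := U.two_ne_three hq
  haveI : CharP F 3 :=
    (CharP.charP_iff_prime_eq_zero Nat.prime_three).mpr (by exact_mod_cast U.three_eq_zero hq)
  haveI := Fact.mk Nat.prime_three
  obtain ⟨a, b, ha, hb, hab, hz, hgen⟩ := U.exists_gens hq
  obtain ⟨h, X, Y, hX, hY, eX, eY, eZ⟩ : ∃ h X Y, X ^ 3 = 1 ∧ Y ^ 3 = 1 ∧ cj g h X = ρ0 a ∧
      cj g h Y = ρ0 b ∧ (X * Y) ^ 3 = U.z0 := by
    obtain ⟨X, eX, hX⟩ := U.exists_lift3 hq kg (l0 ⟨a, rfl⟩) (by rw [← map_pow, ha, map_one])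
    obtain ⟨Y, eY, hY⟩ := U.exists_lift3 hq kg (l0 ⟨b, rfl⟩) (by rw [← map_pow, hb, map_one])
    have br : X * Y * X = Y * X * Y := by
      have := U.uniq_lift3 hq kg (s := X * Y * X * (X * Y)⁻¹) (s' := Y) (by
        simp only [map_mul, map_inv, eX, eY]
        simp only [← map_mul, ← map_inv, hab]
        congr 1; group) (by rw [conj_pow, hX]; group) hY
      rw [mul_inv_eq_iff_eq_mul.mp this, mul_assoc]
    obtain ⟨h, e⟩ := U.exists_conj_z0 h2 (braid_cube hX hY br) fun hs => by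
      obtain ⟨_, ⟨s, rfl⟩, hx⟩ := hn
      apply hx
      rw [← hz, map_pow, map_mul, ← eX, ← eY, ← map_mul, ← map_pow, ← map_mul, ← map_mul, hs.comm]
    refine ⟨h, h⁻¹ * X * h, h⁻¹ * Y * h, by simp [conj_pow_inv, hX], by simp [conj_pow_inv, hY],
      by rw [cj_conj, eX], by rw [cj_conj, eY], ?_⟩
    rw [← e, ← conj_pow_inv]; congr 1; group
  refine ⟨h, ?_⟩
  rw [← range_cj g h] at l2
  have kg' := kg.cj h
  generalize cj g h = g' at *
  have ez : g' U.z0 = ρ0 (U.dg (-1) U.neg_one_norm) := by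
    rw [← eZ, ← hz, map_pow, map_pow, map_mul, map_mul, eX, eY]
  obtain ⟨X', eX', hX'⟩ := U.exists_lift3 hq kg' (l2 ⟨a, rfl⟩) (by rw [← map_pow, ha, map_one])
  obtain ⟨Y', eY', hY'⟩ := U.exists_lift3 hq kg' (l2 ⟨b, rfl⟩) (by rw [← map_pow, hb, map_one])
  have c0 : ∀ (s : SU 4 F q) c, s ^ 3 = 1 → g' s = ρ0 c → s ∈ Subgroup.centralizer {U.z0} :=
    fun s c h3 e => Subgroup.mem_centralizer_singleton_iff.mpr (U.comm_lift3 hq kg' (by
      rw [e, ez, ← map_mul, ← map_mul, U.neg_comm]) h3)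
  have c2 : ∀ (s : SU 4 F q) c, s ^ 3 = 1 → g' s = ρ2 c → s ∈ Subgroup.centralizer {U.z0} :=
    fun s c h3 e => Subgroup.mem_centralizer_singleton_iff.mpr (U.comm_lift3 hq kg' (by
      rw [e, ez, hc]) h3)
  let x : Subgroup.centralizer {U.z0} := ⟨X, c0 X a hX eX⟩
  let y : Subgroup.centralizer {U.z0} := ⟨Y, c0 Y b hY eY⟩
  let x' : Subgroup.centralizer {U.z0} := ⟨X', c2 X' a hX' eX'⟩
  let y' : Subgroup.centralizer {U.z0} := ⟨Y', c2 Y' b hY' eY'⟩
  have hx : x ^ 3 = 1 := Subtype.ext hX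
  have hy : y ^ 3 = 1 := Subtype.ext hY
  have hx' : x' ^ 3 = 1 := Subtype.ext hX'
  have hy' : y' ^ 3 = 1 := Subtype.ext hY'
  have cxx : x * x' = x' * x := Subtype.ext (U.comm_lift3 hq kg' (by rw [eX, eX', hc]) hX)
  have cxy : x * y' = y' * x := Subtype.ext (U.comm_lift3 hq kg' (by rw [eX, eY', hc]) hX)
  have cyx : y * x' = x' * y := Subtype.ext (U.comm_lift3 hq kg' (by rw [eY, eX', hc]) hY)
  have cyy : y * y' = y' * y := Subtype.ext (U.comm_lift3 hq kg' (by rw [eY, eY', hc]) hY)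
  have key : ∀ (r : Subgroup.centralizer {U.z0} →* Matrix (Fin 2) (Fin 2) F) x y w, x ^ 3 = 1 →
      y ^ 3 = 1 → w ^ 3 = 1 → r ((x * y) ^ 3) ≠ 1 → w * x = x * w → w * y = y * w → r w = 1 := by
    intro r x y w hx hy hw hne c1 c2
    refine eq_one_of_comm_two 3 (M1 := r x) (M2 := r y) (by rw [← map_pow, hx, map_one])
      (by rw [← map_pow, hy, map_one]) (by rw [← map_pow, hw, map_one]) (fun e => hne ?_)
      (by rw [← map_mul, c1, map_mul]) (by rw [← map_mul, c2, map_mul])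
    rw [map_pow, map_mul, Commute.mul_pow e, ← map_pow, ← map_pow, hx, hy, map_one, mul_one]
  have n0 : U.r0 h2 ((x * y) ^ 3) ≠ 1 := fun e => by
    have e0 : suMat ((X * Y) ^ 3) 0 0 = 1 := congrFun (congrFun e 0) 0
    rw [eZ, suMat_z0] at e0
    simp at e0
    exact h2 (by linear_combination -e0)
  have m1 := U.fix_of_r0 h2 (key _ x y x' hx hy hx' n0 cxx.symm cyx.symm)
  have m2 := U.fix_of_r0 h2 (key _ x y y' hx hy hy' n0 cxy.symm cyy.symm)
  have n1 : U.r1 h2 ((x' * y') ^ 3) ≠ 1 := fun e => by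
    have e1 : (X' * Y') ^ 3 ∈ suFix F q {2, 3} := U.fix_of_r1 h2 e
    have e2 : (X' * Y') ^ 3 ∈ suFix F q {0, 1} := pow_mem (mul_mem m1 m2) 3
    have e3 : (X' * Y') ^ 3 = 1 := su_ext fun a => by
      rw [suAct_one]
      fin_cases a
      exacts [e2 _ (by simp), e2 _ (by simp), e1 _ (by simp), e1 _ (by simp)]
    apply U.neg_ne_one h2 (i2 _)
    rw [← hz, map_pow, map_mul, ← eX', ← eY', ← map_mul, ← map_pow, e3, map_one, map_one]
  have m3 := U.fix_of_r1 h2 (key _ x' y' x hx' hy' hx n1 cxx cxy)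
  have m4 := U.fix_of_r1 h2 (key _ x' y' y hx' hy' hy n1 cyx cyy)
  refine ⟨range_eq_of_le i0 ?_, range_eq_of_le i2 ?_, ez⟩
  · rintro _ ⟨c, rfl⟩
    change c ∈ (g'.comp (U.emb j01)).range.comap ρ0
    obtain ⟨B, hB⟩ := U.exists_j01 m3
    obtain ⟨B', hB'⟩ := U.exists_j01 m4
    rw [hgen ((g'.comp (U.emb j01)).range.comap ρ0) ⟨B, by rw [MonoidHom.comp_apply, hB, eX]⟩
      ⟨B', by rw [MonoidHom.comp_apply, hB', eY]⟩]
    trivial
  · rintro _ ⟨c, rfl⟩
    change c ∈ (g'.comp (U.emb j23)).range.comap ρ2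
    obtain ⟨B, hB⟩ := U.exists_j23 m1
    obtain ⟨B', hB'⟩ := U.exists_j23 m2
    rw [hgen ((g'.comp (U.emb j23)).range.comap ρ2) ⟨B, by rw [MonoidHom.comp_apply, hB, eX']⟩
      ⟨B', by rw [MonoidHom.comp_apply, hB', eY']⟩]
    trivial

end Three

end UField

end Cfsg.Agent.H1
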