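import Cfsg.Agent.H1.UStd3

/-!
Standard triples in quotients of `SU₄(9)`: the middle subgroup.
-/

set_option autoImplicit false
set_option linter.unusedSectionVars false
set_option linter.unusedSimpArgs false

namespace Cfsg.Agent.H1

open Matrix
open scoped MatrixGroups

variable {F : Type*} [Field F] [Fintype F] {q : ℕ} {G : Type*} [Group G] {N m : ℕ}

namespace UField

variable (U : UField F q)

/-- A homomorphism from `SU₄` in standard position with respect to two homomorphisms from `SU₃`. -/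
structure UTriple (g : SU 4 F q →* G) (φ φ' : SU 3 F q →* G) : Prop where
  ker : KerScal g
  v0 : (g.comp (U.emb i012)).range = φ.range
  v1 : (g.comp (U.emb i123)).range = φ'.range
  u0 : (g.comp (U.emb j01)).range = (φ.comp (U.emb f01)).range
  u1 : (g.comp (U.emb j12)).range = (φ.comp (U.emb f12)).range
  u2 : (g.comp (U.emb j23)).range = (φ'.comp (U.emb f12)).range

theorem comp_emb_trans {k : ℕ} (g : SU N F q →* G) (f' : Fin k ↪ Fin m) (f : Fin m ↪ Fin N) :
    (g.comp (U.emb f)).comp (U.emb f') = g.comp (U.emb (f'.trans f)) := by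
  ext A
  simp [emb_trans]

section Three

variable (hq : q = 3) {g : SU 4 F q →* G} (kg : KerScal g)

include hq kg U

theorem stageB3 {φ : SU 3 F q →* G} (k : KerScal φ) (l : φ.range ≤ g.range)
    (e0 : (φ.comp (U.emb f01)).range = (g.comp (U.emb j01)).range)
    (ez : g U.z0 = φ (U.emb f01 (U.dg (-1) U.neg_one_norm))) :
    ∃ h, ((cj g h).comp (U.emb j01)).range = (g.comp (U.emb j01)).range ∧
      ((cj g h).comp (U.emb j23)).range = (g.comp (U.emb j23)).range ∧
      (φ.comp (U.emb f12)).range = ((cj g h).comp (U.emb j12)).range := by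
  have h2 := U.two_ne_three hq
  obtain ⟨a, b, ha, hb, hab, hz, -⟩ := U.exists_gens hq
  obtain ⟨P, hP⟩ := U.exists_conj_emb f01 f12 (d := 2) (by decide)
  obtain ⟨s, hs⟩ := l ⟨P, rfl⟩
  have ig : Function.Injective (g.comp (U.emb j01)) := U.inj_emb kg j01 (a := 3) (by decide)
  have tw0 : ∀ B, ∃ c, φ (U.emb f01 c) = g (U.emb j01 B) := fun B => e0.ge ⟨B, rfl⟩
  have fr : ∀ c, ∃ B, g (U.emb j01 B) = φ (U.emb f01 c) := fun c => e0.le ⟨c, rfl⟩
  obtain ⟨z1, hz1⟩ : ∃ z1, z1 = s * U.z0 * s⁻¹ := ⟨_, rfl⟩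
  have z00 : U.z0 * U.z0 = 1 := by rw [z0, ← map_mul, U.neg_sq, map_one]
  have z11 : z1 * z1 = 1 := by
    rw [show z1 * z1 = s * (U.z0 * U.z0) * s⁻¹ by rw [hz1]; group, z00]; group
  have gz : g z1 = φ (U.emb f12 (U.dg (-1) U.neg_one_norm)) := by
    rw [hz1, map_mul, map_mul, map_inv, hs, ez, ← map_inv, ← map_mul, ← map_mul, hP]
  have gc : ∀ B c, φ (U.emb f01 c) = g (U.emb j01 B) →
      g (z1 * U.emb j01 B * z1⁻¹) = φ (U.emb f01 (U.tw (-1) U.neg_one_norm c)) := fun B c e => by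
    rw [map_mul, map_mul, map_inv, gz, ← e, ← conj_dg12, map_mul, map_mul, map_inv]
  have nm : ∀ B, B ^ 3 = 1 → ∃ B', z1 * U.emb j01 B * z1⁻¹ = U.emb j01 B' := fun B hB => by
    obtain ⟨c, e⟩ := tw0 B
    obtain ⟨B', e'⟩ := fr (U.tw (-1) U.neg_one_norm c)
    have e3 : (z1 * U.emb j01 B * z1⁻¹) ^ 3 = 1 := by rw [conj_pow, ← map_pow, hB]; simp
    refine ⟨B', U.uniq_lift3 hq kg (by rw [gc B c e, e']) e3 ?_⟩
    rw [← map_pow, ig (a₁ := B' ^ 3) (a₂ := 1) (by
      rw [map_one, map_pow, MonoidHom.comp_apply, e', ← gc B c e, ← map_pow, e3, map_one]), map_one]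
  have cz : z1 ∈ Subgroup.centralizer {U.z0} := by
    obtain ⟨a', ea⟩ := nm a ha
    obtain ⟨b', eb⟩ := nm b hb
    have e1 : z1 * U.z0 * z1⁻¹ = U.emb j01 ((a' * b') ^ 3) := by
      rw [map_pow, map_mul, ← ea, ← eb, z0, ← hz, map_pow, map_mul, ← conj_pow]; congr 1; group
    have e2 : (a' * b') ^ 3 = U.dg (-1) U.neg_one_norm := ig (by
      rw [MonoidHom.comp_apply, ← e1, z0, gc _ _ ez.symm, U.su2_ext (b := U.tw _ _ _)
        (c := U.dg (-1) U.neg_one_norm) (by rw [tw_00]) (by rw [tw_01, dg_01, zero_mul])]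
      exact ez.symm)
    rw [e2] at e1
    exact Subgroup.mem_centralizer_singleton_iff.mpr (mul_inv_eq_iff_eq_mul.mp e1)
  obtain ⟨⟨h02, h03, h12, h13⟩, h20, h30, h21, h31⟩ := U.blk_zero h2 cz
  have nc : ¬∀ B, z1 * U.emb j01 B = U.emb j01 B * z1 := fun hc => U.neg_ne_one h2 (U.blk_comm' k
    fun c => by
      obtain ⟨B, e⟩ := fr c
      rw [← gz, ← e, ← map_mul, ← map_mul, hc])
  obtain ⟨v0, hv0, hv0'⟩ : ∃ v ∈ uPerp F ({2, 3} : Set (Fin 4)), suAct z1 v ≠ -v := by
    by_contra hc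
    push Not at hc
    refine nc fun B => ?_
    have m : z1 * U.z0 ∈ suFix F q {0, 1} := fun a ha => by
      have : suAct U.z0 (ev F a) = -ev F a := by
        ext i
        rw [suAct_ev, suMat_z0]
        rcases ha with rfl | rfl <;> fin_cases i <;> simp [ev]
      rw [suAct_mul, this, map_neg, hc _ (ev_mem_uPerp (by rcases ha with rfl | rfl <;> decide)), neg_neg]
    have c1 := U.comm_01_23 (U.emb_j01_mem B) m
    have c2 : U.z0 * U.emb j01 B = U.emb j01 B * U.z0 := by rw [z0, ← map_mul, ← map_mul, U.neg_comm]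
    apply mul_right_cancel (b := U.z0)
    rw [mul_assoc, ← c2, ← mul_assoc, ← c1, mul_assoc]
  obtain ⟨v3, hv3, hv3'⟩ : ∃ v ∈ uPerp F ({0, 1} : Set (Fin 4)), suAct z1 v ≠ -v := by
    by_contra hc
    push Not at hc
    refine nc fun B => ?_
    have m : z1 * U.z2 ∈ suFix F q {2, 3} := fun a ha => by
      have : suAct U.z2 (ev F a) = -ev F a := by
        ext i
        rw [suAct_ev, suMat_z2]
        rcases ha with rfl | rfl <;> fin_cases i <;> simp [ev]
      rw [suAct_mul, this, map_neg, hc _ (ev_mem_uPerp (by rcases ha with rfl | rfl <;> decide)), neg_neg]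
    have m2 : U.z2 ∈ suFix F q {0, 1} := U.emb_j23_mem _
    have z22 : U.z2 * U.z2 = 1 := by rw [z2, ← map_mul, U.neg_sq, map_one]
    have c1 := U.comm_01_23 m m2
    obtain ⟨w, hw⟩ := U.exists_j01 m
    have c2 : w * B = B * w := by
      rcases U.su2_invol h2 (b := w) (U.emb_injective j01 (by
        rw [map_mul, hw, map_one, mul_assoc, ← c1, mul_assoc, z22, mul_one, z11])) with e | e
      · simp [e]
      · rw [e, U.neg_comm]
    apply mul_right_cancel (b := U.z2)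
    rw [mul_assoc, U.comm_01_23 (U.emb_j01_mem B) m2, ← mul_assoc, ← hw, mul_assoc, ← hw, ← map_mul,
      ← map_mul, c2]
  obtain ⟨f0, hf0, n0, x0⟩ := U.invol_fix h2 z11 (I := {2, 3}) (fun v hv => by
    have v2 := hv 2 (by simp)
    have v3 := hv 3 (by simp)
    rintro a (rfl | rfl) <;>
      simp [suAct_def, mulVec, dotProduct, Fin.sum_univ_four, v2, v3, h20, h21, h30, h31]) hv0 hv0'
  obtain ⟨f3, hf3, n3, x3⟩ := U.invol_fix h2 z11 (I := {0, 1}) (fun v hv => by
    have v0 := hv 0 (by simp)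
    have v1 := hv 1 (by simp)
    rintro a (rfl | rfl) <;>
      simp [suAct_def, mulVec, dotProduct, Fin.sum_univ_four, v0, v1, h02, h03, h12, h13]) hv3 hv3'
  obtain ⟨h0, m0, y0⟩ := U.exists_fix_map (I := {2, 3}) (j := 0) (j' := 1) (by decide) (by decide)
    (by decide) hf0 n0
  obtain ⟨h3, m3, y3⟩ := U.exists_fix_map (I := {0, 1}) (j := 3) (j' := 2) (by decide) (by decide)
    (by decide) hf3 n3
  refine ⟨h0 * h3, range_eq_of_le (U.inj_emb (kg.cj _) j01 (a := 3) (by decide)) ?_,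
    range_eq_of_le (U.inj_emb (kg.cj _) j23 (a := 0) (by decide)) ?_,
    range_eq_of_le (U.inj_emb k f12 (a := 0) (by decide)) ?_⟩
  · rintro _ ⟨B, rfl⟩
    obtain ⟨B', e⟩ := U.exists_j01 (mul_mem (mul_mem m0 (U.emb_j01_mem B)) (inv_mem m0))
    refine ⟨B', ?_⟩
    rw [MonoidHom.comp_apply, MonoidHom.comp_apply, cj_apply, e, mul_assoc h0 h3,
      ← U.comm_01_23 (U.emb_j01_mem B) m3]
    congr 1; group
  · rintro _ ⟨B, rfl⟩
    obtain ⟨B', e⟩ := U.exists_j23 (mul_mem (mul_mem m3 (U.emb_j23_mem B)) (inv_mem m3))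
    refine ⟨B', ?_⟩
    rw [MonoidHom.comp_apply, MonoidHom.comp_apply, cj_apply, show h0 * h3 * U.emb j23 B * (h0 * h3)⁻¹ =
      h0 * (h3 * U.emb j23 B * h3⁻¹) * h0⁻¹ by group, ← e, U.comm_01_23 m0 (U.emb_j23_mem B'),
      mul_inv_cancel_right]
  · rintro _ ⟨c, rfl⟩
    obtain ⟨B, e⟩ := fr c
    have fx : ∀ f, suAct z1 f = f → suAct (s * U.emb j01 B * s⁻¹) f = f := fun f hf => by
      have e1 : suAct U.z0 (suAct s⁻¹ f) = suAct s⁻¹ f := by
        rw [hz1, suAct_mul, suAct_mul] at hf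
        exact (suAct_inv_eq hf).symm
      have e2 : suAct s⁻¹ f ∈ uPerp F ({0, 1} : Set (Fin 4)) := by
        rintro a (rfl | rfl)
        · have := congrFun e1 0
          simp [suAct_def U.z0, suMat_z0, mulVec_diagonal] at this
          exact mul_left_cancel₀ h2 (by linear_combination -this)
        · have := congrFun e1 1
          simp [suAct_def U.z0, suMat_z0, mulVec_diagonal] at this
          exact mul_left_cancel₀ h2 (by linear_combination -this)
      rw [suAct_mul, suAct_mul, act_eq_of_uPerp (fun c => by fin_cases c <;> simp) (U.emb_j01_mem B) e2,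
        suAct_act_inv]
    have y0' : suAct (h0 * h3) (ev F 0) = f0 := by rw [suAct_mul, m3 0 (by simp), y0]
    have y3' : suAct (h0 * h3) (ev F 3) = f3 := by
      rw [suAct_mul, y3, act_eq_of_uPerp (fun c => by fin_cases c <;> simp) m0 hf3]
    obtain ⟨B', e'⟩ := U.exists_j12 (A := (h0 * h3)⁻¹ * (s * U.emb j01 B * s⁻¹) * (h0 * h3)) (by
      rintro a (rfl | rfl)
      · rw [suAct_mul, suAct_mul, y0', fx _ x0, suAct_inv_eq y0']
      · rw [suAct_mul, suAct_mul, y3', fx _ x3, suAct_inv_eq y3'])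
    refine ⟨B', ?_⟩
    rw [MonoidHom.comp_apply, MonoidHom.comp_apply, e', cj_conj, map_mul, map_mul, map_inv, hs, e, ← hP,
      map_mul, map_mul, map_inv]

omit kg in
theorem std3 {φ φ' : SU 3 F q →* G} (k : KerScal φ) (k' : KerScal φ')
    (hU : (φ.comp (U.emb f12)).range = (φ'.comp (U.emb f01)).range)
    (hc : ∀ b c, φ (U.emb f01 b) * φ' (U.emb f12 c) = φ' (U.emb f12 c) * φ (U.emb f01 b))
    (hg : g.range = φ.range ⊔ φ'.range) : ∃ g', U.UTriple g' φ φ' := by
  have l : φ.range ≤ g.range := hg ▸ le_sup_left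
  have l' : φ'.range ≤ g.range := hg ▸ le_sup_right
  have kg := U.kerScal_four (Or.inr hq) k l
  obtain ⟨h, a0, a2, az⟩ := U.stageA3 hq kg (U.inj_emb k f01 (a := 2) (by decide))
    (U.inj_emb k' f12 (a := 0) (by decide)) (by rintro _ ⟨b, rfl⟩; exact l ⟨_, rfl⟩)
    (by rintro _ ⟨b, rfl⟩; exact l' ⟨_, rfl⟩) hc (by
      by_contra hcon
      push Not at hcon
      exact U.neg_ne_one (U.two_ne_three hq) (U.blk_comm k fun c => (hcon _ (l ⟨_, rfl⟩)).symm))
  obtain ⟨h', b0, b2, b1⟩ := U.stageB3 hq (kg.cj h) k (by rwa [range_cj]) a0 az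
  rw [← a0] at b0
  rw [← a2] at b2
  refine ⟨_, (kg.cj h).cj h', ?_, ?_, b0, b1.symm, b2⟩
  · rw [UPair.range_eq U (by omega) (φ := φ) ⟨rfl, rfl⟩, ← b0, b1]
    exact UPair.range_eq U (by omega) ⟨by rw [comp_emb_trans]; rfl, by rw [comp_emb_trans]; rfl⟩
  · rw [UPair.range_eq U (by omega) (φ := φ') ⟨rfl, rfl⟩, ← hU, ← b2, b1]
    exact UPair.range_eq U (by omega) ⟨by rw [comp_emb_trans, j12_eq], by rw [comp_emb_trans]; rfl⟩

end Three

end UField

end Cfsg.Agent.H1
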