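import Cfsg.Agent.H1.UNorm

/-!
Normal subgroups of `SU₄(9)`.
-/

set_option autoImplicit false
set_option linter.unusedSectionVars false
set_option linter.unusedSimpArgs false

namespace Cfsg.Agent.H1

open Matrix

variable {F : Type*} [Field F] [Fintype F] {q : ℕ}

namespace UField

variable (U : UField F q)

/-- The first three coordinates. -/
def i012 : Fin 3 ↪ Fin 4 := fAt 3 0 (by omega)

/-- The last three coordinates. -/
def i123 : Fin 3 ↪ Fin 4 := fAt 3 1 (by omega)

theorem range_i012 : (Set.range i012)ᶜ = {3} := by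
  ext i; fin_cases i <;> simp [i012, fAt, Fin.exists_fin_succ] <;> decide

theorem range_i123 : (Set.range i123)ᶜ = {0} := by
  ext i; fin_cases i <;> simp [i123, fAt, Fin.exists_fin_succ] <;> decide

theorem range_f01' : (Set.range f01)ᶜ = {2} := by
  rw [range_f01]; ext i; fin_cases i <;> simp

theorem range_f12' : (Set.range f12)ᶜ = {0} := by
  rw [range_f12]; ext i; fin_cases i <;> simp

theorem top_of_blocks4 {M : Subgroup (SU 4 F q)} (hM : M.Normal) (h : ∀ A, U.emb i012 A ∈ M) :
    M = ⊤ := by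
  have := U.suFix_sup_four (N := 4) (I := ∅) (r := 3) (a := 2) (b := 1) (c := 0) (by simp) (by simp)
    (by simp) (by simp) (by decide) (by decide) (by decide) (by decide) (by decide) (by decide)
  have e2 : suFix F q (∅ : Set (Fin 4)) = ⊤ := eq_top_iff.mpr fun A _ a ha => absurd ha (by simp)
  rw [eq_top_iff, ← e2, ← this, Set.empty_union,
    show ({2, 3} : Set (Fin 4)) = Set.range (fAt 2 2 (by omega) : Fin 2 ↪ Fin 4) from
      (range_fAt_two (n := 3) 2).symm, ← U.range_emb, ← range_i012, ← U.range_emb]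
  refine sup_le ?_ ?_
  · rintro _ ⟨A, rfl⟩; exact h A
  · rintro _ ⟨A, rfl⟩
    refine U.emb_mem_of_normal hM (f01.trans i012) _ (d := 3) (by decide) ?_
    rw [emb_trans]; exact h _

theorem dg_00 (a : F) (ha : a * U.σ a = 1) : suMat (U.dg a ha) 0 0 = a := rfl

theorem dg_01 (a : F) (ha : a * U.σ a = 1) : suMat (U.dg a ha) 0 1 = 0 := rfl

theorem wg_00 : suMat U.wg 0 0 = 0 := rfl

theorem wg_01 : suMat U.wg 0 1 = 1 := rfl

theorem su2_one_00 : suMat (1 : SU 2 F q) 0 0 = 1 := by simp

theorem su2_one_01 : suMat (1 : SU 2 F q) 0 1 = 0 := by simp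

section Normal

variable {M : Subgroup (SU 3 F q)} (hM : M.Normal)

include hM

theorem tw_mem {b : SU 2 F q} (hb : U.emb f01 b ∈ M) (μ : F) (h : μ * U.σ μ = 1) :
    U.emb f01 (U.tw μ h b) ∈ M := by
  rw [← conj_dg12]; exact hM.conj_mem _ hb _

theorem tw_mul_inv_mem {μ : F} {h : μ * U.σ μ = 1} (hd : U.emb f01 (U.dg μ h) ∈ M) (b : SU 2 F q) :
    U.emb f01 (U.tw μ h b * b⁻¹) ∈ M := by
  have := U.emb_mem_of_normal hM f01 f12 (d := 2) (by decide) hd
  rw [map_mul, map_inv, ← conj_dg12, mul_assoc, mul_assoc, ← mul_assoc (U.emb f01 b)]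
  exact mul_mem this (hM.conj_mem _ (inv_mem this) _)

theorem anti_mem {c : SU 2 F q} (hc : U.emb f01 c ∈ M) (c0 : suMat c 0 0 = 0) {b : SU 2 F q}
    (b0 : suMat b 0 0 = 0 ∨ suMat b 0 1 = 0) : U.emb f01 b ∈ M := by
  have key : ∀ b : SU 2 F q, suMat b 0 0 = 0 → U.emb f01 b ∈ M := fun b b0 => by
    have n1 := U.su2_norm b
    have n2 := U.su2_norm c
    rw [b0, zero_mul, zero_add] at n1
    rw [c0, zero_mul, zero_add] at n2
    have := U.tw_mem hM hc (U.σ (suMat b 0 1) * suMat c 0 1) (by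
      rw [map_mul, U.σσ]; linear_combination (suMat c 0 1 * U.σ (suMat c 0 1)) * n1 + n2)
    rwa [U.su2_ext (b := U.tw _ _ c) (c := b) (by rw [tw_00, c0, b0]) (by
      rw [tw_01, map_mul, U.σσ]; linear_combination suMat b 0 1 * n2)] at this
  rcases b0 with b0 | b0
  · exact key b b0
  · have := mul_mem (key (b * U.wg) (by rw [U.su2_mul_00, b0, wg_00]; ring)) (inv_mem (key U.wg rfl))
    rwa [map_mul, mul_inv_cancel_right] at this

theorem sq_mem (h : ∀ b : SU 2 F q, suMat b 0 0 = 0 ∨ suMat b 0 1 = 0 → U.emb f01 b ∈ M)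
    (b : SU 2 F q) : U.emb f01 (b * b) ∈ M := by
  by_cases hy : suMat b 0 1 = 0
  · rw [map_mul]; exact mul_mem (h b (Or.inr hy)) (h b (Or.inr hy))
  have hy' : U.σ (suMat b 0 1) ≠ 0 := U.σ_eq_zero.not.mpr hy
  have n : -U.σ (suMat b 0 1) / suMat b 0 1 * U.σ (-U.σ (suMat b 0 1) / suMat b 0 1) = 1 := by
    simp only [map_div₀, map_neg, U.σσ]; field_simp
  have h1 := U.tw_mul_inv_mem hM (h (U.dg _ n) (Or.inr rfl)) (U.wg * b * U.wg⁻¹)
  rw [U.su2_ext (b := U.tw _ n _) (c := b⁻¹) (by
    simp [tw_00, U.su2_mul_00, U.su2_mul_01, U.su2_inv_00, U.su2_inv_01, wg_00, wg_01, -map_mul]) (by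
    simp [tw_01, U.su2_mul_00, U.su2_mul_01, U.su2_inv_00, U.su2_inv_01, wg_00, wg_01, -map_mul]
    field_simp)] at h1
  have hw := h U.wg (Or.inl rfl)
  have := mul_mem (mul_mem (inv_mem hw) (inv_mem h1)) (hM.conj_mem' _ hw (U.emb f01 b))
  simp only [map_mul, map_inv] at this ⊢
  convert hM.conj_mem _ this (U.emb f01 b) using 1
  group

end Normal

section Three

variable (hq : q = 3)

include hq

include U in
theorem three_eq_zero : (3 : F) = 0 := by
  have := FiniteField.cast_card_eq_zero F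
  rw [U.card, hq] at this
  have h : (3 : F) ^ 2 = 0 := by exact_mod_cast this
  exact pow_eq_zero_iff two_ne_zero |>.mp h

theorem pow_three (s : F) : U.σ s = s ^ 3 := by rw [U.pow, hq]

theorem fixed_three {s : F} (h : U.σ s = s) : s = 0 ∨ s = 1 ∨ s = -1 := by
  rw [U.pow, hq] at h
  have : s * ((s - 1) * (s + 1)) = 0 := by linear_combination h
  rcases mul_eq_zero.mp this with h | h
  · exact Or.inl h
  · rcases mul_eq_zero.mp h with h | h
    · exact Or.inr (Or.inl (sub_eq_zero.mp h))
    · exact Or.inr (Or.inr (eq_neg_of_add_eq_zero_left h))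

omit hq in
theorem neg_one_norm : (-1 : F) * U.σ (-1) = 1 := by simp

omit hq in
theorem cube_eq_neg {b : SU 2 F q} (h : suMat b 0 0 + U.σ (suMat b 0 0) = 1) :
    b * b * b = U.dg (-1) U.neg_one_norm := by
  have n := U.su2_norm b
  refine U.su2_ext ?_ ?_
  · simp only [U.su2_mul_00, U.su2_mul_01, dg_00]
    grind
  · simp only [U.su2_mul_00, U.su2_mul_01, dg_01]
    linear_combination suMat b 0 1 * (suMat b 0 0 + U.σ (suMat b 0 0) + 1) * h - suMat b 0 1 * n

theorem top_of_three {M : Subgroup (SU 3 F q)} (hM : M.Normal) {b : SU 2 F q} (hb1 : b ≠ 1)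
    (hb : U.emb f01 b ∈ M) : M = ⊤ := by
  have h3 := U.three_eq_zero hq
  have s1 : U.emb f01 (U.dg (-1) U.neg_one_norm) ∈ M := by
    have n := U.su2_norm b
    have k : ∀ c : SU 2 F q, U.emb f01 c ∈ M → suMat c 0 0 + U.σ (suMat c 0 0) = 1 →
        U.emb f01 (U.dg (-1) U.neg_one_norm) ∈ M := fun c hc e => by
      rw [← U.cube_eq_neg e, map_mul, map_mul]; exact mul_mem (mul_mem hc hc) hc
    rcases U.fixed_three hq (s := suMat b 0 0 + U.σ (suMat b 0 0)) (by simp [add_comm]) with e | e | e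
    · rw [← U.su2_ext (b := b * b) (c := U.dg (-1) U.neg_one_norm) (by
        rw [U.su2_mul_00, dg_00]; linear_combination suMat b 0 0 * e - n) (by
        rw [U.su2_mul_01, dg_01]; linear_combination suMat b 0 1 * e), map_mul]
      exact mul_mem hb hb
    · exact k b hb e
    · refine k (b * U.tw (-1) U.neg_one_norm b) (by rw [map_mul]; exact mul_mem hb (U.tw_mem hM hb _ _)) ?_
      rcases U.fixed_three hq (s := suMat b 0 1 * U.σ (suMat b 0 1)) (by simp [mul_comm]) with
        e' | e' | e'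
      · have y0 : suMat b 0 1 = 0 := by simpa using e'
        refine absurd (U.su2_ext ?_ (by rw [y0, su2_one_01])) hb1
        rw [su2_one_00, ← sub_eq_zero]
        refine pow_eq_zero_iff two_ne_zero |>.mp ?_
        linear_combination suMat b 0 0 * e - n + e' - suMat b 0 0 * h3
      · have x0 : suMat b 0 0 = 0 := by
          have : suMat b 0 0 * U.σ (suMat b 0 0) = 0 := by linear_combination n - e'
          simpa using this
        simp [x0] at e
      · simp only [U.su2_mul_00, tw_00, tw_01, map_mul, map_sub, map_neg, map_one, U.σσ]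
        linear_combination (suMat b 0 0 + U.σ (suMat b 0 0) - 1) * e - 2 * n + 4 * e' - 2 * h3
  obtain ⟨e, he⟩ := U.exists_norm (s := -1) (by simp) (by simp)
  obtain ⟨b0, x0, y0⟩ := U.exists_su2 (x := e) (y := e) (by linear_combination 2 * he - h3)
  have s2 := fun b => U.anti_mem hM (b := b) (U.tw_mul_inv_mem hM s1 b0) (by
    simp [U.su2_mul_00, tw_00, tw_01, U.su2_inv_00, U.su2_inv_01, x0, y0, -map_mul])
  have s3 := U.sq_mem hM s2
  have s4 : ∀ b, U.emb f01 b ∈ M := fun b => by
    have n := U.su2_norm b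
    rcases U.fixed_three hq (s := suMat b 0 0 + U.σ (suMat b 0 0)) (by simp [add_comm]) with e | e | e
    · refine s2 b ?_
      by_contra hc
      push Not at hc
      have e1 : suMat b 0 0 ^ 2 + 1 = 0 := by
        rw [U.pow_three hq] at e
        apply mul_left_cancel₀ hc.1
        linear_combination e
      have : suMat b 0 1 * U.σ (suMat b 0 1) = 0 := by linear_combination n - suMat b 0 0 * e + e1
      simp [hc.2] at this
    · have := mul_mem (inv_mem (s3 b)) s1
      rwa [← U.cube_eq_neg e, map_mul _ (b * b), inv_mul_cancel_left] at this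
    · have e3 : b * b * (b * b) = b := by
        refine U.su2_ext ?_ ?_
        · simp only [U.su2_mul_00, U.su2_mul_01, map_add, map_mul, U.σσ]
          grind
        · simp only [U.su2_mul_00, U.su2_mul_01, map_add, map_sub, map_mul, U.σσ]
          grind
      rw [← e3, map_mul]; exact mul_mem (s3 b) (s3 b)
  have := UPair.range_eq U (by omega) (φ := MonoidHom.id _) ⟨rfl, rfl⟩
  rw [eq_top_iff, ← (MonoidHom.range_eq_top (f := MonoidHom.id _)).mpr Function.surjective_id, this]
  refine sup_le ?_ ?_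
  · rintro _ ⟨A, rfl⟩; exact s4 A
  · rintro _ ⟨A, rfl⟩; exact U.emb_mem_of_normal hM f01 f12 (d := 2) (by decide) (s4 A)

include U in
theorem normal_four_three {M : Subgroup (SU 4 F q)} (hM : M.Normal) {A : SU 4 F q} (hA : A ∈ M)
    (h : ¬IsScal A) : M = ⊤ := by
  obtain ⟨b, hb1, hb⟩ := U.exists_blk_mem hM hA h (f01.trans i012) (d := 3) (by decide)
  rw [emb_trans] at hb
  have := U.top_of_three hq (hM.comap (U.emb i012)) hb1 hb
  exact U.top_of_blocks4 hM fun A => by
    change A ∈ M.comap (U.emb i012)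
    rw [this]; trivial

end Three

end UField

end Cfsg.Agent.H1
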