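import Cfsg.Agent.H1.UThree

/-!
The groups `SU₃(4)` and `SU₄(4)`.
-/

set_option autoImplicit false
set_option linter.unusedSectionVars false
set_option linter.unusedSimpArgs false

namespace Cfsg.Agent.H1

open Matrix

variable {F : Type*} [Field F] [Fintype F] {q : ℕ}

namespace UField

variable (U : UField F q)

theorem exists_diag3 {d : Fin 3 → F} (hd : ∀ i, d i * U.σ (d i) = 1) (h : d 0 * d 1 * d 2 = 1) :
    ∃ a b, suMat (U.emb f01 a * U.emb f12 b) = diagonal d := by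
  refine ⟨U.dg (d 0) (hd 0), U.dg (U.σ (d 2)) (by rw [U.σσ, mul_comm, hd]), ?_⟩
  have h0 := hd 0
  have h2 := hd 2
  rw [map_mul, suMat_emb, suMat_emb, blk_f01, blk_f12, suMat_dg, suMat_dg]
  ext i j
  fin_cases i <;> fin_cases j <;> simp [mul_apply, Fin.sum_univ_three]
  grind

theorem hd_two {μ : F} (h : μ * U.σ μ = 1) (i : Fin 3) : ![1, 1, μ] i * U.σ (![1, 1, μ] i) = 1 := by
  fin_cases i <;> simp [h]

/-- Conjugation by `diag (1, 1, μ)`. -/
def tw3 (μ : F) (h : μ * U.σ μ = 1) : SU 3 F q →* SU 3 F q :=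
  U.semi (RingHom.id F) ![1, 1, μ] (U.hd_two h)

theorem tw3_tw3 (μ : F) (h : μ * U.σ μ = 1) (h' : U.σ μ * U.σ (U.σ μ) = 1) (A : SU 3 F q) :
    U.tw3 μ h (U.tw3 (U.σ μ) h' A) = A := by
  apply suMat_injective
  ext i j
  simp only [tw3, semi_apply, RingHom.id_apply]
  fin_cases i <;> fin_cases j <;> simp <;> grind

theorem tw3_one (h : 1 * U.σ 1 = 1) (A : SU 3 F q) : U.tw3 1 h A = A := by
  apply suMat_injective
  ext i j
  simp only [tw3, semi_apply, RingHom.id_apply]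
  fin_cases i <;> fin_cases j <;> simp

theorem conj_dg23 (μ : F) (h : μ * U.σ μ = 1) (A : SU 3 F q) :
    U.emb (fAt 2 2 (by omega)) (U.dg μ h) * U.emb i012 A * (U.emb (fAt 2 2 (by omega)) (U.dg μ h))⁻¹ =
      U.emb i012 (U.tw3 μ h A) := by
  rw [U.conj_diag (d := ![1, 1, μ, U.σ μ]) (by
    rw [suMat_emb, suMat_dg]
    ext i j
    have h0 : (fAt 2 2 (by omega) : Fin 2 ↪ Fin 4) 0 = 2 := rfl
    have h1 : (fAt 2 2 (by omega) : Fin 2 ↪ Fin 4) 1 = 3 := rfl
    fin_cases i <;> fin_cases j <;> simp [blk, embMat, h0, h1, mul_apply, Fin.sum_univ_two])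
    (fun i => by fin_cases i <;> simp [h, mul_comm]), semi_emb]
  congr 1
  apply suMat_injective
  ext i j
  simp only [tw3, semi_apply]
  fin_cases i <;> fin_cases j <;> rfl

/-- A cyclic permutation matrix. -/
def cyc : SU 3 F q := U.emb f12 U.wg * U.emb f01 U.wg

theorem suMat_cyc : suMat U.cyc = !![0, 1, 0; 0, 0, 1; 1, 0, 0] := by
  rw [cyc, map_mul, suMat_emb, suMat_emb, blk_f01, blk_f12, suMat_wg]
  ext i j
  fin_cases i <;> fin_cases j <;> simp [mul_apply, Fin.sum_univ_three]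

theorem suMat_dg12 (μ : F) (h : μ * U.σ μ = 1) :
    suMat (U.emb f12 (U.dg μ h)) = !![1, 0, 0; 0, μ, 0; 0, 0, U.σ μ] := by
  rw [suMat_emb, blk_f12, suMat_dg]; rfl

theorem suMat_dg01 (μ : F) (h : μ * U.σ μ = 1) :
    suMat (U.emb f01 (U.dg μ h)) = !![μ, 0, 0; 0, U.σ μ, 0; 0, 0, 1] := by
  rw [suMat_emb, blk_f01, suMat_dg]; rfl

/-- A primitive cube root of unity in the field with four elements. -/
structure Om (ω : F) : Prop where
  two : (2 : F) = 0
  eq : ω ^ 2 + ω + 1 = 0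
  σ : U.σ ω = ω ^ 2

theorem exists_om (hq : q = 2) : ∃ ω, U.Om ω := by
  obtain ⟨ω, h1, h2⟩ := U.exists_omega hq
  exact ⟨ω, U.two_eq_zero hq, h1, h2⟩

namespace Om

variable {U} {ω : F} (h : U.Om ω)

include h

theorem norm : ω * U.σ ω = 1 := by
  have := h.eq
  rw [h.σ]; grind

theorem norm' : U.σ ω * U.σ (U.σ ω) = 1 := by rw [U.σσ, mul_comm, h.norm]

theorem ne_one : ω ≠ 1 := by
  rintro rfl
  exact one_ne_zero (by linear_combination h.eq - h.two : (1 : F) = 0)

/-- The Fourier matrix. -/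
def fo : SU 3 F q := U.mkSU !![1, 1, 1; 1, ω, ω ^ 2; 1, ω ^ 2, ω] (by
    have := h.eq
    have := h.two
    rw [isU_iff]
    ext i j
    fin_cases i <;> fin_cases j <;> simp [mul_apply, Fin.sum_univ_three, h.σ] <;> grind) (by
    have := h.eq
    have := h.two
    simp [det_fin_three]; grind)

theorem suMat_fo : suMat h.fo = !![1, 1, 1; 1, ω, ω ^ 2; 1, ω ^ 2, ω] := rfl

theorem suMat_tw3_fo (μ : F) (hμ : μ * U.σ μ = 1) : suMat (U.tw3 μ hμ h.fo) =
    !![1, 1, U.σ μ; 1, ω, ω ^ 2 * U.σ μ; μ, μ * ω ^ 2, ω] := by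
  ext i j
  simp only [tw3, semi_apply, RingHom.id_apply, suMat_fo]
  fin_cases i <;> fin_cases j <;> simp
  grind

theorem fo_sq : h.fo * h.fo = U.emb f12 U.wg := by
  have := h.eq
  have := h.two
  apply suMat_injective
  rw [map_mul, suMat_fo, suMat_emb, blk_f12, suMat_wg]
  ext i j
  fin_cases i <;> fin_cases j <;> simp [mul_apply, Fin.sum_univ_three] <;> grind

theorem fo_dg : h.fo * U.emb f12 (U.dg ω h.norm) = U.cyc * h.fo := by
  have := h.eq
  have := h.two
  apply suMat_injective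
  rw [map_mul, map_mul, suMat_fo, suMat_dg12, suMat_cyc, h.σ]
  ext i j
  fin_cases i <;> fin_cases j <;> simp [mul_apply, Fin.sum_univ_three] <;> grind

theorem fo_cyc : U.emb f12 (U.dg ω h.norm) * h.fo * U.cyc = h.fo := by
  have := h.eq
  have := h.two
  apply suMat_injective
  rw [map_mul, map_mul, suMat_fo, suMat_dg12, suMat_cyc, h.σ]
  ext i j
  fin_cases i <;> fin_cases j <;> simp [mul_apply, Fin.sum_univ_three] <;> grind

theorem fo_fo : U.tw3 ω h.norm h.fo * h.fo =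
    U.emb f01 (U.dg _ h.norm') * U.cyc * U.tw3 _ h.norm' h.fo := by
  have := h.eq
  have := h.two
  apply suMat_injective
  rw [map_mul, map_mul, map_mul, suMat_tw3_fo, suMat_tw3_fo, suMat_fo, suMat_dg01, suMat_cyc, U.σσ, h.σ]
  ext i j
  fin_cases i <;> fin_cases j <;> simp [mul_apply, Fin.sum_univ_three] <;> grind

theorem anti_sq {b : SU 2 F q} (hb : suMat b 0 0 = 0) : b * b = 1 := by
  have := h.two
  have n := U.su2_norm b
  refine U.su2_ext ?_ ?_
  · rw [U.su2_mul_00, su2_one_00]; grind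
  · rw [U.su2_mul_01, su2_one_01, hb]; simp

theorem fo_four (μ : F) (hμ : μ * U.σ μ = 1) : U.tw3 μ hμ h.fo ^ 4 = 1 := by
  rw [← map_pow, show h.fo ^ 4 = h.fo * h.fo * (h.fo * h.fo) by
    simp only [pow_succ, pow_zero, one_mul, mul_assoc], fo_sq, ← map_mul, h.anti_sq rfl, map_one, map_one]

theorem isScal_of_comm {z : SU 3 F q} (c1 : z * U.emb f12 (U.dg ω h.norm) = U.emb f12 (U.dg ω h.norm) * z)
    (c2 : z * U.cyc = U.cyc * z) : IsScal z := by
  have e1 := congrArg suMat c1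
  have e2 := congrArg suMat c2
  rw [map_mul, map_mul, suMat_dg12] at e1
  rw [map_mul, map_mul, suMat_cyc] at e2
  have a01 := congrFun (congrFun e1 0) 1
  have a02 := congrFun (congrFun e1 0) 2
  have b00 := congrFun (congrFun e2 0) 0
  have b01 := congrFun (congrFun e2 0) 1
  have b02 := congrFun (congrFun e2 0) 2
  have b10 := congrFun (congrFun e2 1) 0
  have b11 := congrFun (congrFun e2 1) 1
  have b12 := congrFun (congrFun e2 1) 2
  simp [mul_apply, Fin.sum_univ_three, vecMul, dotProduct] at a01 a02 b00 b01 b02 b10 b11 b12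
  have z1 : suMat z 0 1 = 0 := by
    apply mul_left_cancel₀ (sub_ne_zero.mpr h.ne_one); linear_combination a01
  have z2 : suMat z 0 2 = 0 := by
    have : U.σ ω - 1 ≠ 0 := fun e => h.ne_one (by simpa [sub_eq_zero.mp e] using h.norm)
    apply mul_left_cancel₀ this; linear_combination a02
  refine ⟨suMat z 0 0, fun v => ?_⟩
  ext i
  fin_cases i <;>
    simp [suAct_def, mulVec, dotProduct, Fin.sum_univ_three, ← b12, ← b11, ← b10, ← b02, ← b01, ← b00,
      z1, z2]

theorem fix_fo (γ : SU 3 F q →* SU 3 F q) (h1 : ∀ b, γ (U.emb f01 b) = U.emb f01 b)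
    (h2 : ∀ b, γ (U.emb f12 b) = U.emb f12 b) : γ h.fo = h.fo := by
  have hc : γ U.cyc = U.cyc := by rw [cyc, map_mul, h1, h2]
  set z := h.fo⁻¹ * γ h.fo with hz
  have c1 : z * U.emb f12 (U.dg ω h.norm) = U.emb f12 (U.dg ω h.norm) * z := by
    have := congrArg γ h.fo_dg
    rw [map_mul, map_mul, h2, hc] at this
    rw [hz, mul_assoc, this, ← mul_assoc, ← mul_assoc, eq_mul_inv_of_mul_eq h.fo_dg.symm]; group
  have c2 : z * U.cyc = U.cyc * z := by
    have := congrArg γ h.fo_cyc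
    rw [map_mul, map_mul, h2, hc, mul_assoc] at this
    have e := h.fo_cyc
    rw [mul_assoc] at e
    rw [hz, mul_assoc, eq_inv_mul_of_mul_eq this, eq_mul_inv_of_mul_eq e]; group
  have s : IsScal z := h.isScal_of_comm c1 c2
  have e : γ h.fo = h.fo * z := by rw [hz, mul_inv_cancel_left]
  have e2 := congrArg γ h.fo_sq
  rw [map_mul, h2, ← h.fo_sq, e, mul_assoc, mul_right_inj, ← mul_assoc, ← s.comm, mul_assoc,
    mul_eq_left] at e2
  obtain ⟨l, hl⟩ := s
  have e3 := congrFun (congrArg (fun A => suAct A (ev F 0)) e2) 0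
  simp only [suAct_mul, hl, map_smul, suAct_one] at e3
  simp [ev] at e3
  have l1 : l = 1 := by
    rw [← sub_eq_zero]
    exact pow_eq_zero_iff two_ne_zero |>.mp (by linear_combination e3 + (1 - l) * h.two)
  rw [e, show z = 1 from su_ext fun a => by rw [hl, l1, one_smul, suAct_one], mul_one]

end Om

section Two

variable (hq : q = 2)

include hq

include U in
theorem su2_two (b : SU 2 F q) : suMat b 0 0 = 0 ∨ suMat b 0 1 = 0 := by
  by_contra hc
  push Not at hc
  have := U.su2_norm b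
  rw [U.norm_two hq hc.1, U.norm_two hq hc.2] at this
  simp at this

theorem gen3_two {ω : F} (h : U.Om ω) {L : Subgroup (SU 3 F q)} (h1 : ∀ b, U.emb f01 b ∈ L)
    (h2 : ∀ b, U.emb f12 b ∈ L) (h3 : ∀ μ hμ, U.tw3 μ hμ h.fo ∈ L) : L = ⊤ := by
  have l1 : suFix F q {2} ≤ L := by
    rw [← range_f01', ← U.range_emb]; rintro _ ⟨b, rfl⟩; exact h1 b
  have l2 : suFix F q {0} ≤ L := by
    rw [← range_f12', ← U.range_emb]; rintro _ ⟨b, rfl⟩; exact h2 b
  rw [eq_top_iff]
  intro A _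
  set v := suAct A (ev F 2) with hv
  have n : U.H v v = 1 := by rw [hv, U.H_act, U.H_ev_self]
  suffices ∃ l ∈ L, suAct l (ev F 2) = v by
    obtain ⟨l, hl, e⟩ := this
    have : l⁻¹ * A ∈ L := l1 fun a ha => by
      rw [Set.mem_singleton_iff.mp ha, suAct_mul, ← hv, suAct_inv_eq e]
    simpa using mul_mem hl this
  by_cases z0 : v 0 = 0
  · obtain ⟨B, hB, e⟩ := U.exists_fix_map (I := {0}) (j := 2) (j' := 1) (by decide) (by decide)
      (by decide) (y := v) (fun a ha => by rw [Set.mem_singleton_iff.mp ha, z0]) n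
    exact ⟨B, l2 hB, e⟩
  by_cases z2 : v 2 = 0
  · obtain ⟨B, hB, e⟩ := U.exists_fix_map (I := {2}) (j := 1) (j' := 0) (by decide) (by decide)
      (by decide) (y := v) (fun a ha => by rw [Set.mem_singleton_iff.mp ha, z2]) n
    obtain ⟨B', hB', e'⟩ := U.exists_fix_map (N := 3) (I := {0}) (j := 2) (j' := 1) (by decide)
      (by decide) (by decide) (y := ev F 1) (ev_mem_uPerp (by decide)) (U.H_ev_self _)
    exact ⟨B * B', mul_mem (l1 hB) (l2 hB'), by rw [suAct_mul, e', e]⟩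
  have n0 := U.norm_two hq z0
  have n2 := U.norm_two hq z2
  have n1 : v 1 * U.σ (v 1) = 1 := by
    have := h.two
    rw [H_def, Fin.sum_univ_three] at n; grind
  have hμ : v 0 * v 1 * v 2 * U.σ (v 0 * v 1 * v 2) = 1 := by
    rw [map_mul, map_mul]; grind
  set μ := v 0 * v 1 * v 2 with hμ'
  have hn := h.norm
  have hσ := h.σ
  have he := h.eq
  have hμ2 : U.σ μ = μ ^ 2 := by rw [U.pow, hq]
  obtain ⟨a, b, e⟩ := U.exists_diag3 (d := ![v 0 * μ, v 1 * ω * μ, v 2 * ω ^ 2]) (fun i => by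
    fin_cases i <;> simp <;> grind) (by simp; grind)
  refine ⟨U.emb f01 a * U.emb f12 b * U.tw3 μ hμ h.fo, mul_mem (mul_mem (h1 a) (h2 b)) (h3 _ _), ?_⟩
  ext i
  rw [suAct_ev, map_mul, e, diagonal_mul, h.suMat_tw3_fo]
  fin_cases i <;> simp <;> grind

include U in
theorem hom_trivial_two (χ : SU 3 F q →* F) (A : SU 3 F q) : χ A = 1 := by
  obtain ⟨ω, h⟩ := U.exists_om hq
  have k : ∀ A, A ^ 4 = 1 → A ∈ χ.toHomUnits.ker := fun A hA => by
    have e := congrArg χ hA
    rw [map_pow, map_one] at e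
    have e0 : χ A ≠ 0 := fun e0 => by simp [e0] at e
    have := U.norm_two hq e0
    rw [U.pow] at this
    simp only [hq] at this
    ext
    simp only [MonoidHom.coe_toHomUnits, Units.val_one]
    grind
  have k2 : ∀ (f : Fin 2 ↪ Fin 3) (b : SU 2 F q), U.emb f b ∈ χ.toHomUnits.ker := fun f b => by
    have k1 : ∀ b : SU 2 F q, suMat b 0 0 = 0 → U.emb f b ∈ χ.toHomUnits.ker := fun b hb => k _ (by
      rw [← map_pow, show b ^ 4 = b * b * (b * b) by simp only [pow_succ, pow_zero, one_mul, mul_assoc],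
        h.anti_sq hb, mul_one, map_one])
    rcases U.su2_two hq b with b0 | b0
    · exact k1 b b0
    · have := mul_mem (k1 (b * U.wg) (by rw [U.su2_mul_00, b0, wg_00]; ring)) (inv_mem (k1 U.wg rfl))
      rwa [map_mul, mul_inv_cancel_right] at this
  have : A ∈ χ.toHomUnits.ker := by
    rw [U.gen3_two hq h (k2 _) (k2 _) fun μ hμ => k _ (h.fo_four μ hμ)]; trivial
  simpa using congrArg Units.val this

theorem eq_id_two (γ : SU 3 F q →* SU 3 F q) (h1 : ∀ b, γ (U.emb f01 b) = U.emb f01 b)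
    (h2 : ∀ b, γ (U.emb f12 b) = U.emb f12 b) (A : SU 3 F q) : γ A = A := by
  obtain ⟨ω, h⟩ := U.exists_om hq
  have : A ∈ γ.eqLocus (MonoidHom.id _) := by
    rw [U.gen3_two hq h (L := γ.eqLocus (MonoidHom.id _)) h1 h2 fun μ hμ => ?_]
    · trivial
    have hμ' : U.σ μ * U.σ (U.σ μ) = 1 := by rw [U.σσ, mul_comm, hμ]
    have k : ∀ (f : Fin 2 ↪ Fin 3), (∀ b, γ (U.emb f b) = U.emb f b) → ∀ b,
        ((U.tw3 _ hμ').comp (γ.comp (U.tw3 μ hμ))) (U.emb f b) = U.emb f b := fun f hf b => by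
      apply U.semi_injective (RingHom.id F) _ (U.hd_two hμ)
      change U.tw3 μ hμ (U.tw3 _ hμ' (γ (U.tw3 μ hμ _))) = U.tw3 μ hμ _
      rw [tw3_tw3, tw3, semi_emb, hf]
    have := congrArg (U.tw3 μ hμ) (h.fix_fo _ (k _ h1) (k _ h2))
    rwa [MonoidHom.comp_apply, tw3_tw3] at this
  exact this

include U in
theorem normal_four_two {M : Subgroup (SU 4 F q)} (hM : M.Normal) {A : SU 4 F q} (hA : A ∈ M)
    (hs : ¬IsScal A) : M = ⊤ := by
  obtain ⟨ω, h⟩ := U.exists_om hq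
  obtain ⟨b, hb1, hb⟩ := U.exists_blk_mem hM hA hs (f01.trans i012) (d := 3) (by decide)
  rw [emb_trans] at hb
  have hM3 := hM.comap (U.emb i012)
  set M3 := M.comap (U.emb i012) with hM3'
  have he := h.eq
  have h2 := h.two
  have s0 : ∀ b : SU 2 F q, U.emb f01 b ∈ M3 → suMat b 0 1 = 0 → suMat b 0 0 ≠ 1 →
      ∀ μ hμ, U.emb f01 (U.dg μ hμ) ∈ M3 := fun b hb b0 b1 μ hμ => by
    have n := U.su2_norm b
    have hμ2 : U.σ μ = μ ^ 2 := by rw [U.pow, hq]
    have hb2 : U.σ (suMat b 0 0) = suMat b 0 0 ^ 2 := by rw [U.pow]; simp only [hq]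
    have : μ = 1 ∨ μ = suMat b 0 0 ∨ μ = U.σ (suMat b 0 0) := by
      have : (μ - 1) * ((μ - suMat b 0 0) * (μ - U.σ (suMat b 0 0))) = 0 := by
        apply mul_left_cancel₀ (sub_ne_zero.mpr b1); grind
      simpa [sub_eq_zero] using this
    rcases this with e | e | e
    · rw [U.su2_ext (b := U.dg μ hμ) (c := 1) (by rw [dg_00, e, su2_one_00]) (by rw [dg_01, su2_one_01]),
        map_one]
      exact one_mem _
    · rwa [U.su2_ext (b := U.dg μ hμ) (c := b) (by rw [dg_00, e]) (by rw [dg_01, b0])]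
    · rw [U.su2_ext (b := U.dg μ hμ) (c := b⁻¹) (by rw [dg_00, e, U.su2_inv_00])
        (by rw [dg_01, U.su2_inv_01, b0, neg_zero]), map_inv]
      exact inv_mem hb
  have s1 : ∀ μ hμ, U.emb f01 (U.dg μ hμ) ∈ M3 := by
    rcases U.su2_two hq b with b0 | b0
    · have n := U.su2_norm b
      have hn := h.norm
      refine s0 (U.tw ω h.norm b * b⁻¹) (by
        rw [map_mul, map_inv]; exact mul_mem (U.tw_mem hM3 hb _ _) (inv_mem hb)) ?_ ?_
      · simp [U.su2_mul_01, tw_00, tw_01, U.su2_inv_00, U.su2_inv_01, b0, -map_mul]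
      · simp only [U.su2_mul_00, tw_00, tw_01, U.su2_inv_00, U.su2_inv_01, b0, map_neg]
        intro e
        apply h.ne_one
        grind
    · exact s0 b hb b0 fun e => hb1 (U.su2_ext (by rw [e, su2_one_00]) (by rw [b0, su2_one_01]))
  have s2 : U.cyc ∈ M3 := by
    rw [← mul_inv_eq_iff_eq_mul.mpr h.fo_dg]
    exact hM3.conj_mem _ (U.emb_mem_of_normal hM3 f01 f12 (d := 2) (by decide) (s1 _ _)) _
  have s3 : ∀ μ hμ A, U.tw3 μ hμ A * A⁻¹ ∈ M3 := fun μ hμ A => by
    have := U.emb_mem_of_normal hM (f01.trans i012) (fAt 2 2 (by omega)) (d := 3) (by decide)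
      (b := U.dg μ hμ) (by rw [emb_trans]; exact s1 μ hμ)
    rw [hM3', Subgroup.mem_comap, map_mul, map_inv, ← U.conj_dg23 μ hμ A, mul_assoc, mul_assoc,
      ← mul_assoc (U.emb i012 A)]
    exact mul_mem this (hM.conj_mem _ (inv_mem this) _)
  have s4 : h.fo ∈ M3 := by
    have := mul_mem (inv_mem (s3 ω h.norm h.fo)) (mul_mem (mul_mem (s1 _ h.norm') s2) (s3 _ h.norm' h.fo))
    rw [← mul_assoc _ _ h.fo⁻¹, ← h.fo_fo] at this
    simpa using this
  have s5 : ∀ b, U.emb f01 b ∈ M3 := fun b => U.anti_mem hM3 (c := U.wg)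
    (U.emb_mem_of_normal hM3 f12 f01 (d := 0) (by decide) (h.fo_sq ▸ mul_mem s4 s4)) rfl (U.su2_two hq b)
  have := U.gen3_two hq h s5 (fun b => U.emb_mem_of_normal hM3 f01 f12 (d := 2) (by decide) (s5 b))
    (fun μ hμ => by simpa using mul_mem (s3 μ hμ h.fo) s4)
  exact U.top_of_blocks4 hM fun A => by
    change A ∈ M3
    rw [this]; trivial

end Two

end UField

end Cfsg.Agent.H1
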